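import Cfsg.Prelude.Def_Local
import Cfsg.Agent.Lib.Solv.PLength
import Cfsg.Agent.Lib.Fusion.Cores

/-!
`p`-length at most one passes to subgroups and to normal overgroups of index prime to `p`.
-/

set_option autoImplicit false

namespace Cfsg.Agent.OddLocal.Sig

open Cfsg
open Cfsg.Agent.Solv.PLen (HasPSeries OkIndex okIndex_upper upper_mono upper_succ_even upper_succ_odd upper_zero)

universe u

variable {X : Type u} [Group X] [Finite X] {p : ℕ} [hp : Fact p.Prime]

omit [Finite X] hp in
theorem comap_characteristic (U : Subgroup X) [U.Normal] [hU : U.Characteristic] (K : Subgroup (X ⧸ U))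
    [hK : K.Characteristic] : (K.comap (QuotientGroup.mk' U)).Characteristic := by
  refine Subgroup.characteristic_iff_comap_eq.2 fun φ => ?_
  obtain ⟨ψ, hψ⟩ : ∃ ψ : (X ⧸ U) ≃* (X ⧸ U), ∀ x : X, ψ (QuotientGroup.mk' U x) = QuotientGroup.mk' U (φ x) :=
    ⟨QuotientGroup.congr U U φ (Subgroup.characteristic_iff_map_eq.1 hU φ), fun x => rfl⟩
  rw [Subgroup.comap_comap, show (QuotientGroup.mk' U).comp φ.toMonoidHom =
    ψ.toMonoidHom.comp (QuotientGroup.mk' U) from MonoidHom.ext fun x => (hψ x).symm, ← Subgroup.comap_comap,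
    Subgroup.characteristic_iff_comap_eq.1 hK ψ]

theorem upper_characteristic : ∀ n : ℕ, (upperPSeries p X n).1.Characteristic := by
  intro n
  induction n with
  | zero => rw [upper_zero]; infer_instance
  | succ n ih =>
    haveI := ih
    by_cases hn : Even n
    · rw [upper_succ_even hn]; exact comap_characteristic _ _
    · rw [upper_succ_odd hn]; exact comap_characteristic _ _

/-- `p`-length passes to subgroups. -/
theorem pLengthLE_subgroup {H : Subgroup X} {k : ℕ} (h : PLengthLE p k X) : PLengthLE p k ↥H := by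
  obtain ⟨f, f0, ftop, fn, fle, fok⟩ := (Solv.PLen.pLengthLE_iff k).1 h
  refine (Solv.PLen.pLengthLE_iff k).2 ⟨fun n => (f n).subgroupOf H, ?_, fun n hn => ?_,
    fun n => (fn n).comap _, fun n => Subgroup.comap_mono (fle n), fun n => ?_⟩
  · dsimp only; rw [f0, Subgroup.bot_subgroupOf]
  · dsimp only; rw [ftop n hn, Subgroup.top_subgroupOf]
  · haveI := fn n
    refine (fok n).of_dvd ?_
    show ((f n).comap H.subtype).relIndex ((f (n + 1)).comap H.subtype) ∣ _
    rw [Subgroup.relIndex_comap]
    exact Solv.PLen.relIndex_dvd_of_le_right (Subgroup.map_comap_le _ _)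

/-- `p`-length one lifts from a normal subgroup of index prime to `p`. -/
theorem pLengthLE_lift (O : Subgroup X) [O.Normal] (hO : ¬ p ∣ O.index) (h : PLengthLE p 1 ↥O) :
    PLengthLE p 1 X := by
  have h3 : (upperPSeries p ↥O 3).1 = ⊤ := h
  refine (Solv.PLen.pLengthLE_iff 1).2 ⟨fun n => if n ≤ 2 then (upperPSeries p ↥O n).1.map O.subtype else ⊤, ?_,
    fun n hn => if_neg (by omega), fun n => ?_, fun n => ?_, fun n => ?_⟩
  · dsimp only
    rw [if_pos (by omega), upper_zero, Subgroup.map_bot]
  · dsimp only
    split_ifs with hn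
    · haveI := upper_characteristic (p := p) (X := ↥O) n
      infer_instance
    · infer_instance
  · dsimp only
    split_ifs with hn hn1
    · exact Subgroup.map_mono (upper_mono n)
    · exact le_top
    · omega
    · exact le_rfl
  · dsimp only
    rcases le_or_gt n 2 with hn | hn
    swap
    · rw [if_neg (by omega), if_neg (by omega), Subgroup.relIndex_self]; exact OkIndex.one
    rw [if_pos hn]
    rcases Nat.lt_or_ge n 2 with hn' | hn'
    · rw [if_pos (by omega), Subgroup.relIndex_map_map_of_injective _ _ O.subtype_injective]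
      exact okIndex_upper n
    · obtain rfl : n = 2 := by omega
      rw [if_neg (by omega), Subgroup.relIndex_top_right, Subgroup.index_map_subtype]
      have h1 := okIndex_upper (p := p) (G := ↥O) 2
      rw [show (2 : ℕ) + 1 = 3 from rfl, h3, Subgroup.relIndex_top_right] at h1
      refine OkIndex.mul h1 ?_
      unfold OkIndex
      rw [if_pos even_two]
      exact ((Nat.Prime.coprime_iff_not_dvd hp.out).2 hO).symm

/-- Transport along an isomorphism. -/
theorem pLengthLE_congr {Y : Type u} [Group Y] [Finite Y] (e : X ≃* Y) {k : ℕ} (h : PLengthLE p k X) :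
    PLengthLE p k Y := by
  obtain ⟨f, f0, ftop, fn, fle, fok⟩ := (Solv.PLen.pLengthLE_iff k).1 h
  refine (Solv.PLen.pLengthLE_iff k).2 ⟨fun n => (f n).map e.toMonoidHom, ?_, fun n hn => ?_,
    fun n => (fn n).map _ e.surjective, fun n => Subgroup.map_mono (fle n), fun n => ?_⟩
  · dsimp only; rw [f0, Subgroup.map_bot]
  · dsimp only; rw [ftop n hn, Subgroup.map_top_of_surjective _ e.surjective]
  · dsimp only
    rw [Subgroup.relIndex_map_map_of_injective _ _ (f := e.toMonoidHom) e.injective]
    exact fok n

end Cfsg.Agent.OddLocal.Sig
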