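import Cfsg.Agent.Lib.OddLocal.SigmaStructure
import Cfsg.Agent.Lib.OddLocal.PLengthClosure
import Cfsg.Agent.Lib.Solv.Coprime
import Cfsg.Agent.S1443
import Cfsg.Agent.S1444
import Cfsg.Agent.S1450
import Cfsg.Agent.S1459

/-!
Centralizers in `M_α`, primes outside `σ(M)`, and `p`-length one for proper subgroups.
-/

set_option autoImplicit false

namespace Cfsg.Agent.OddLocal.Sig

open Cfsg
open Cfsg.Agent.Fusion (SylIn cj cj_cj cj_eq_self cj_mono card_cj isPGroup_cj sylIn_map sylIn_top exists_sylIn_ge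
  mem_normalizer_of_cj_le)
open Cfsg.Agent.OddLocal.Uniq

universe u

variable {G : Type u} [Group G] [Finite G] {p : ℕ} [hp : Fact p.Prime] {M : Subgroup G}

theorem piNum_of_pgroup {π : Set ℕ} {P : Subgroup G} (hP : IsPGroup p P) (h : p ∈ π) :
    PiNum π (Nat.card P) := fun q hq hd => by
  obtain ⟨j, hj⟩ := IsPGroup.iff_card.1 hP
  rw [hj] at hd
  exact (Nat.prime_dvd_prime_iff_eq hq hp.out).1 (hq.dvd_of_dvd_pow hd) ▸ h

omit hp in
/-- A `π`-subgroup of `M` lies in a normal Hall `π`-subgroup. -/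
theorem le_of_hall {π : Set ℕ} {N Y : Subgroup G} (hH : IsPiHallOf π N M)
    (hN : M ≤ Subgroup.normalizer (N : Set G)) (hYM : Y ≤ M) (hY : PiNum π (Nat.card Y)) : Y ≤ N := by
  haveI : (N.subgroupOf M).Normal := Subgroup.normal_subgroupOf_of_le_normalizer hN
  intro y hy
  have h1 : orderOf (QuotientGroup.mk' (N.subgroupOf M) (⟨y, hYM hy⟩ : M)) = 1 := by
    by_contra hne
    obtain ⟨q, hq, hd⟩ := Nat.exists_prime_and_dvd hne
    refine hH.2.2 q hq (hY q hq ((hd.trans (orderOf_map_dvd _ _)).trans ?_))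
      ((hd.trans (orderOf_dvd_natCard _)).trans (Subgroup.index_eq_card _).symm.dvd)
    rw [Subgroup.orderOf_mk]
    exact Subgroup.orderOf_dvd_natCard _ hy
  have h2 : (⟨y, hYM hy⟩ : M) ∈ N.subgroupOf M := (QuotientGroup.eq_one_iff _).1 (orderOf_eq_one_iff.1 h1)
  exact h2

theorem sylIn_of_isSylIn {P K : Subgroup G} (h : Solv.IsSylIn p P K) : SylIn p P K := by
  refine ⟨h.1, IsPGroup.of_card h.2, fun hd => ?_⟩
  refine Nat.pow_succ_factorization_not_dvd (Nat.card_pos (α := K)).ne' hp.out ?_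
  have h1 := Subgroup.relIndex_mul_relIndex ⊥ P K bot_le h.1
  rw [Subgroup.relIndex_bot_left, Subgroup.relIndex_bot_left, h.2] at h1
  rw [pow_succ]
  exact (Nat.mul_dvd_mul_left _ hd).trans h1.dvd

/-- Adjoining a commuting element of order `p`. -/
theorem elab_sup {A : Subgroup G} (hA : IsElementaryAbelian p A) {x : G}
    (hxC : x ∈ Subgroup.centralizer (A : Set G)) (hxp : x ^ p = 1) :
    IsElementaryAbelian p (A ⊔ Subgroup.zpowers x : Subgroup G) := by
  have hc : ∀ a ∈ A, ∀ b ∈ Subgroup.zpowers x, Commute a b := fun a ha b hb => by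
    obtain ⟨k, rfl⟩ := Subgroup.mem_zpowers_iff.1 hb
    exact (show Commute a x from Subgroup.mem_centralizer_iff.1 hxC a ha).zpow_right k
  have hmem : ∀ y ∈ A ⊔ Subgroup.zpowers x, ∃ a ∈ A, ∃ b ∈ Subgroup.zpowers x, y = a * b := fun y hy => by
    have hn : Subgroup.zpowers x ≤ Subgroup.normalizer (A : Set G) :=
      Subgroup.zpowers_le.2 (Subgroup.centralizer_le_normalizer _ hxC)
    rw [← SetLike.mem_coe, Subgroup.coe_mul_of_right_le_normalizer_left _ _ hn] at hy
    obtain ⟨a, ha, b, hb, rfl⟩ := hy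
    exact ⟨a, ha, b, hb, rfl⟩
  refine ⟨⟨⟨fun u v => ?_⟩⟩, fun y hy => ?_⟩
  · obtain ⟨a, ha, b, hb, hu⟩ := hmem u u.2
    obtain ⟨a', ha', b', hb', hv⟩ := hmem v v.2
    refine Subtype.ext (show (u : G) * v = v * u from ?_)
    have h1 : Commute a a' := congrArg Subtype.val (hA.1.is_comm.comm (⟨a, ha⟩ : A) ⟨a', ha'⟩)
    obtain ⟨k, rfl⟩ := Subgroup.mem_zpowers_iff.1 hb
    obtain ⟨k', rfl⟩ := Subgroup.mem_zpowers_iff.1 hb'
    rw [hu, hv]
    exact ((h1.mul_right (hc a ha _ hb')).mul_left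
      (((hc a' ha' _ hb).symm).mul_right ((Commute.refl x).zpow_zpow k k'))).eq
  · obtain ⟨a, ha, b, hb, rfl⟩ := hmem y hy
    rw [(hc a ha b hb).mul_pow, hA.2 a ha, one_mul]
    obtain ⟨k, rfl⟩ := Subgroup.mem_zpowers_iff.1 hb
    rw [← zpow_natCast, ← zpow_mul, mul_comm, zpow_mul, zpow_natCast, hxp, one_zpow]

/-- Elements of order `p` centralizing an elementary subgroup of maximal rank. -/
theorem mem_of_rank {A C : Subgroup G} {k : ℕ} (hr : PRankLE p k ↥C) (hA : IsElementaryAbelian p A)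
    (hcard : p ^ k ≤ Nat.card A) (hAC : A ≤ C) {x : G} (hxC : x ∈ C)
    (hxA : x ∈ Subgroup.centralizer (A : Set G)) (hxp : x ^ p = 1) : x ∈ A := by
  by_contra hx
  have hB := elab_sup hA hxA hxp
  refine not_prankLE_of_elab (k := k) (sup_le hAC (Subgroup.zpowers_le.2 hxC)) hB ?_ hr
  obtain ⟨j, hj⟩ := IsPGroup.iff_card.1 (Fusion.elab_isPGroup hB)
  have hlt : Nat.card A < Nat.card (A ⊔ Subgroup.zpowers x : Subgroup G) :=
    Set.Finite.card_lt_card (Set.toFinite _) (SetLike.coe_ssubset_coe.2 (lt_of_le_of_ne le_sup_left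
      fun e : A = A ⊔ Subgroup.zpowers x => hx (e.symm ▸ Subgroup.mem_sup_right (Subgroup.mem_zpowers x))))
  rw [hj] at hlt ⊢
  exact Nat.pow_le_pow_right hp.out.pos ((Nat.pow_lt_pow_iff_right hp.out.one_lt).1 (lt_of_le_of_lt hcard hlt))

omit hp in
theorem inf_centralizer_ne_top (hM : IsCoatom M) (X : Subgroup G) :
    M ⊓ Subgroup.centralizer (X : Set G) ≠ ⊤ := fun h => hM.1 (eq_top_iff.2 (h ▸ inf_le_left))

omit hp in
/-- A noncyclic centralizer in `M_α` makes `C_M(X)` a uniqueness subgroup. -/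
theorem centralizer_unique (hG : IsMinSimpleOddOrder G) (hM : IsCoatom M) {X : Subgroup G} (hXM : X ≤ M)
    (hXα : ∀ q : ℕ, q.Prime → q ∣ Nat.card X → q ∉ alpha M)
    (hr : ¬ RankLE 1 ↥(alphaCore M ⊓ Subgroup.centralizer (X : Set G))) :
    InUniqueMaximal (M ⊓ Subgroup.centralizer (X : Set G)) := by
  obtain ⟨q, hq, A, hAle, hAe, hA⟩ := Transit.exists_elab hr
  haveI := Fact.mk hq
  have hAα : A ≤ alphaCore M := hAle.trans inf_le_left
  have hAX : A ≤ Subgroup.centralizer (X : Set G) := hAle.trans inf_le_right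
  have hαM : alphaCore M ≤ M := Subgroup.map_subtype_le _
  by_cases hC : PRankLE q 2 ↥(Subgroup.centralizer (A : Set G))
  swap
  · obtain ⟨F, hFC, hFe, hF⟩ := exists_elab_of_prank hC
    exact iu_mono (iu_of_commute' hG (rank_three_iu hG hFe hF) (Subgroup.le_centralizer_iff.1 hFC) hAe hA)
      (le_inf (hAα.trans hαM) hAX) (inf_centralizer_ne_top hM X)
  have hqA : q ∣ Nat.card A := by
    obtain ⟨j, hj⟩ := IsPGroup.iff_card.1 (Fusion.elab_isPGroup hAe)
    rw [hj] at hA ⊢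
    exact dvd_pow_self q (by
      have := (Nat.pow_le_pow_iff_right hq.one_lt).1 hA
      omega)
  have hqα : q ∈ alpha M := by
    refine (alphaCore_hall hG hM).1.2.1 q hq (hqA.trans (Subgroup.card_dvd_of_le hAα))
  have hq2 : q ≠ 2 := by
    rintro rfl
    exact Nat.not_even_iff_odd.2 hG.1
      (even_iff_two_dvd.2 (hqA.trans (Subgroup.card_subgroup_dvd_card A)))
  have hco : (Nat.card X).Coprime (Nat.card (alphaCore M)) := Nat.coprime_of_dvd fun r hr h1 h2 =>
    hXα r hr h1 ((alphaCore_hall hG hM).1.2.1 r hr h2)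
  obtain ⟨P, hP, hAP, hXP⟩ := Solv.exists_invariant_sylow_ge (hXM.trans le_normalizer_piCoreOf) hco
    (Or.inl (hG.2.2.2 X fun h => hM.1 (eq_top_iff.2 (h ▸ hXM)))) A hAα (Fusion.elab_isPGroup hAe)
    ((Subgroup.le_centralizer_iff.1 hAX).trans (Subgroup.centralizer_le_normalizer _))
  have hP' := sylIn_of_isSylIn hP
  have hXC : X ≤ Subgroup.centralizer (P : Set G) := by
    refine Cfsg.Agent.S1443.result q hq2 P A X hP'.isPGroup hAP hAe hXP ?_ ?_
    · exact ((Nat.Prime.coprime_iff_not_dvd hq).2 fun h => hXα q hq h hqα).symm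
    · intro x hx hxo y hy
      obtain ⟨-, hxA⟩ := Subgroup.mem_inf.1 hx
      have hx' : x ∈ A := mem_of_rank hC hAe hA (Subgroup.le_centralizer_iff.2 ?_) hxA hxA
        (hxo ▸ pow_orderOf_eq_one x)
      · exact Subgroup.mem_centralizer_singleton_iff.2 (Subgroup.mem_centralizer_iff.1 (hAX hx') y hy)
      · intro a ha
        exact Subgroup.mem_centralizer_iff.2 fun b hb =>
          congrArg Subtype.val (hAe.1.is_comm.comm (⟨b, hb⟩ : A) ⟨a, ha⟩)
  obtain ⟨F, hFM, hFe, hF⟩ := exists_elab_of_prank hqα.2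
  have hFα : F ≤ alphaCore M := le_of_hall (alphaCore_hall hG hM).1 le_normalizer_piCoreOf hFM
    (piNum_of_pgroup (Fusion.elab_isPGroup hFe) hqα)
  obtain ⟨z, -, hzP⟩ := hP'.conj_le (Fusion.elab_isPGroup hFe) hFα
  have hF'e : IsElementaryAbelian q (cj F z) := ⟨haveI := hFe.1; Subgroup.map_isMulCommutative F _, by
    rintro _ ⟨f, hf, rfl⟩
    rw [← map_pow, hFe.2 f hf, map_one]⟩
  have hU : InUniqueMaximal (cj F z) := rank_three_iu hG hF'e (by rw [card_cj]; exact hF)
  exact iu_mono hU (le_inf (hzP.trans (hP'.le.trans hαM)) (hzP.trans (Subgroup.le_centralizer_iff.1 hXC)))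
    (inf_centralizer_ne_top hM X)

omit hp in
theorem centralizer_zpowers (x : G) :
    Subgroup.centralizer (Subgroup.zpowers x : Set G) = Subgroup.centralizer ({x} : Set G) := by
  refine le_antisymm (Subgroup.centralizer_le (Set.singleton_subset_iff.2 (Subgroup.mem_zpowers x)))
    fun y hy => Subgroup.mem_centralizer_iff.2 fun z hz => ?_
  obtain ⟨k, rfl⟩ := Subgroup.mem_zpowers_iff.1 hz
  exact ((show Commute x y from (Subgroup.mem_centralizer_singleton_iff.1 hy).symm).zpow_left k).eq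

theorem not_alpha_of_not_sigma (hG : IsMinSimpleOddOrder G) (hM : IsCoatom M) (h : p ∉ sigma M) : p ∉ alpha M :=
  fun h' => h (alpha_subset_sigma hG hM h')

/-- A cyclic group has one subgroup of order `p`. -/
theorem cyclic_eq {P X Y : Subgroup G} (hc : IsCyclic ↥P) (hX : X ≤ P) (hY : Y ≤ P) (hXc : Nat.card X = p)
    (hYc : Nat.card Y = p) : X = Y := by
  haveI := hc
  letI : CommGroup ↥P := IsCyclic.commGroup
  have key : ∀ Z : Subgroup G, Z ≤ P → Nat.card Z = p → Z.subgroupOf P = (powMonoidHom p : ↥P →* ↥P).ker := by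
    intro Z hZ hZc
    refine Subgroup.eq_of_le_of_card_ge (fun z hz => ?_) ?_
    · refine MonoidHom.mem_ker.2 (Subtype.ext ?_)
      have h1 := pow_card_eq_one' (x := (⟨_, hz⟩ : Z))
      rw [hZc] at h1
      exact (SubmonoidClass.coe_pow z p).trans ((SubmonoidClass.coe_pow (⟨_, hz⟩ : Z) p).symm.trans (congrArg Subtype.val h1))
    · rw [IsCyclic.card_powMonoidHom_ker, Solv.card_subgroupOf hZ, hZc]
      exact Nat.le_of_dvd hp.out.pos (Nat.gcd_dvd_right _ _)
  rw [← Subgroup.map_subgroupOf_eq_of_le hX, ← Subgroup.map_subgroupOf_eq_of_le hY, key X hX hXc, key Y hY hYc]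

/-- A central element of order `p` of a Sylow subgroup whose centralizer is not uniquely in `M`. -/
theorem exists_central_bad (hG : IsMinSimpleOddOrder G) (hM : IsCoatom M) (hpM : p ∣ Nat.card M)
    (hσ : p ∉ sigma M) (P : Sylow p M) :
    ∃ x : G, x ∈ ((Subgroup.center ↥(P : Subgroup M)).map (P : Subgroup M).subtype).map M.subtype ∧
      orderOf x = p ∧ IsZGroup ↥(alphaCore M ⊓ Subgroup.centralizer ({x} : Set G)) ∧
      ¬ (Subgroup.centralizer ({x} : Set G) ≤ M ∧
        ∀ L : Subgroup G, IsCoatom L → Subgroup.centralizer ({x} : Set G) ≤ L → L = M) := by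
  have hP := sylIn_map M P
  set P' := (P : Subgroup M).map M.subtype with hP'
  obtain ⟨g, hgN, hgM⟩ : ∃ g, g ∈ Subgroup.normalizer (P' : Set G) ∧ g ∉ M := by
    by_contra h
    push Not at h
    exact hσ ⟨hp.out, hpM, P, fun g hg => h g hg⟩
  let Z : Subgroup G :=
    { carrier := {x | x ∈ P' ∧ (∀ y ∈ P', y * x = x * y) ∧ x ^ p = 1}
      one_mem' := ⟨one_mem _, fun y _ => by rw [mul_one, one_mul], one_pow _⟩
      mul_mem' := fun {a b} ha hb => ⟨mul_mem ha.1 hb.1, fun y hy => by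
        rw [← mul_assoc, ha.2.1 y hy, mul_assoc, hb.2.1 y hy, mul_assoc],
        by rw [(show Commute a b from hb.2.1 a ha.1).mul_pow, ha.2.2, hb.2.2, one_mul]⟩
      inv_mem' := fun {a} ha => ⟨inv_mem ha.1,
        fun y hy => ((show Commute y a from ha.2.1 y hy).inv_right).eq,
        by rw [inv_pow, ha.2.2, inv_one]⟩ }
  have hZe : IsElementaryAbelian p Z :=
    ⟨⟨⟨fun a b => Subtype.ext (b.2.2.1 _ a.2.1)⟩⟩, fun a ha => ha.2.2⟩
  have hZM : Z ≤ M := fun a ha => hP.le ha.1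
  have hgZ : cj Z g ≤ Z := by
    rintro _ ⟨a, ha, rfl⟩
    refine ⟨(Subgroup.mem_normalizer_iff.1 hgN a).1 ha.1, fun y hy => ?_, ?_⟩
    · have h1 : g⁻¹ * y * g ∈ P' := by simpa using (Subgroup.mem_normalizer_iff.1 (inv_mem hgN) y).1 hy
      have h2 := congrArg (fun z => g * z * g⁻¹) (ha.2.1 _ h1)
      show y * (g * a * g⁻¹) = g * a * g⁻¹ * y
      simpa [mul_assoc] using h2
    · show (g * a * g⁻¹) ^ p = 1
      rw [conj_pow, ha.2.2, mul_one, mul_inv_cancel]
  have hMg : cj M g ≠ M := fun h =>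
    hgM (normalizer_coatom hG hM ▸ mem_normalizer_of_cj_le h.le)
  have hMgc : IsCoatom (cj M g) := (OrderIso.isCoatom_iff (MulEquiv.mapSubgroup (MulAut.conj g)) M).2 hM
  have hp2 : p ≠ 2 := by
    rintro rfl
    exact Nat.not_even_iff_odd.2 hG.1
      (even_iff_two_dvd.2 (hpM.trans (Subgroup.card_subgroup_dvd_card M)))
  have hne : P' ≠ ⊥ := fun h => by
    rw [hP', Subgroup.map_eq_bot_iff_of_injective _ M.subtype_injective] at h
    exact P.not_dvd_index (by rw [h, Subgroup.index_bot]; exact hpM)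
  haveI : Nontrivial ↥P' := (Subgroup.nontrivial_iff_ne_bot _).2 hne
  haveI : Nontrivial (Subgroup.center ↥P') := hP.isPGroup.center_nontrivial
  obtain ⟨k, hk⟩ := IsPGroup.iff_card.1 ((hP.isPGroup.to_subgroup (Subgroup.center ↥P')))
  have hk0 : k ≠ 0 := fun h => by
    have := Finite.one_lt_card (α := ↥(Subgroup.center ↥P'))
    rw [hk, h, pow_zero] at this
    omega
  obtain ⟨z, hz⟩ := exists_prime_orderOf_dvd_card' (G := ↥(Subgroup.center ↥P')) p (hk ▸ dvd_pow_self p hk0)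
  have hzZ : ((z : ↥P') : G) ∈ Z := ⟨(z : ↥P').2,
    fun y hy => congrArg Subtype.val (Subgroup.mem_center_iff.1 z.2 ⟨y, hy⟩), by
      rw [← SubgroupClass.coe_pow, ← SubgroupClass.coe_pow, ← hz, pow_orderOf_eq_one]; rfl⟩
  have hzo : orderOf ((z : ↥P') : G) = p := by rw [Subgroup.orderOf_coe, Subgroup.orderOf_coe, hz]
  have hex : ∃ x ∈ Z, x ≠ 1 ∧ ¬ (Subgroup.centralizer ({x} : Set G) ≤ M ∧
      ∀ L : Subgroup G, IsCoatom L → Subgroup.centralizer ({x} : Set G) ≤ L → L = M) := by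
    by_contra hall
    push Not at hall
    have hall' : ∀ x ∈ Z, x ≠ 1 → Subgroup.centralizer ({x} : Set G) ≤ M ∧
        ∀ L : Subgroup G, IsCoatom L → Subgroup.centralizer ({x} : Set G) ≤ L → L = M := fun x hx h1 => by
      have := hall x hx h1
      tauto
    by_cases hc : IsCyclic Z
    · have hz1 : ((z : ↥P') : G) ≠ 1 := fun h => hp.out.ne_one (by rw [← hzo, h, orderOf_one])
      have hle : Z ≤ Subgroup.zpowers ((z : ↥P') : G) := by
        haveI := hc
        obtain ⟨w, hw⟩ := IsCyclic.exists_generator (α := ↥Z)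
        refine (Subgroup.eq_of_le_of_card_ge (Subgroup.zpowers_le.2 hzZ) ?_).ge
        rw [Nat.card_zpowers, hzo, ← orderOf_eq_card_of_forall_mem_zpowers hw]
        exact Nat.le_of_dvd hp.out.pos (orderOf_dvd_of_pow_eq_one (Subtype.ext w.2.2.2))
      obtain ⟨hC, hu⟩ := hall' _ hzZ hz1
      refine hMg (hu _ hMgc fun y hy => ?_)
      have hzg : g * ((z : ↥P') : G) * g⁻¹ ∈ Subgroup.zpowers ((z : ↥P') : G) := hle (hgZ ⟨_, hzZ, rfl⟩)
      rw [← centralizer_zpowers] at hy
      refine ⟨g⁻¹ * y * g, hC (Subgroup.mem_centralizer_singleton_iff.2 ?_), by simp [mul_assoc]⟩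
      have h2 := Subgroup.mem_centralizer_iff.1 hy _ hzg
      have h3 := congrArg (fun w => g⁻¹ * w * g) h2
      simpa [mul_assoc] using h3.symm
    · obtain ⟨M', -, hu⟩ := elementary_criterion hG hM hZM hZe hc
        (Or.inl fun b hb hb1 => (hall' b hb hb1).1)
      refine hMg ((hu _ ⟨hMgc, ?_⟩).trans (hu M ⟨hM, hZM⟩).symm)
      rw [← Fusion.cj_eq_of_cj_le hgZ]
      exact cj_mono hZM g
  obtain ⟨x, hxZ, hx1, hbad⟩ := hex
  have hxo : orderOf x = p := orderOf_eq_prime hxZ.2.2 hx1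
  refine ⟨x, ?_, hxo, ?_, hbad⟩
  · obtain ⟨⟨w, hwM⟩, hwP, rfl⟩ := hxZ.1
    refine ⟨⟨w, hwM⟩, ⟨⟨⟨w, hwM⟩, hwP⟩, ?_, rfl⟩, rfl⟩
    refine Subgroup.mem_center_iff.2 fun y => Subtype.ext (Subtype.ext ?_)
    exact hxZ.2.1 _ (Subgroup.mem_map_of_mem M.subtype y.2)
  · set K := alphaCore M ⊓ Subgroup.centralizer ({x} : Set G) with hK
    rw [isZGroup_iff]
    intro q hq S
    haveI := Fact.mk hq
    by_contra hnc
    have hne' : (S : Subgroup ↥K) ≠ ⊥ := fun h => hnc (by rw [h]; infer_instance)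
    have hq2 : q ≠ 2 := by
      rintro rfl
      obtain ⟨j, hj⟩ := IsPGroup.iff_card.1 S.isPGroup'
      refine Nat.not_even_iff_odd.2 hG.1 (even_iff_two_dvd.2 (dvd_trans ?_ ((Subgroup.card_subgroup_dvd_card
        (S : Subgroup ↥K)).trans (Subgroup.card_subgroup_dvd_card K))))
      rw [hj]
      exact dvd_pow_self 2 fun h => hne' (Subgroup.card_eq_one.1 (by rw [hj, h, pow_zero]))
    obtain ⟨E, hES, hEe, hE⟩ := exists_elab_noncyclic hq2 (S.isPGroup'.map K.subtype) (fun h => hnc (by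
      haveI := h
      exact isCyclic_of_surjective ((S : Subgroup ↥K).equivMapOfInjective K.subtype K.subtype_injective).symm
        (MulEquiv.surjective _)))
    have hxM : Subgroup.zpowers x ≤ M := Subgroup.zpowers_le.2 (hZM hxZ)
    obtain ⟨L, hL, hu⟩ := centralizer_unique hG hM hxM (fun r hr hd => by
        rw [Nat.card_zpowers, hxo] at hd
        exact (Nat.prime_dvd_prime_iff_eq hr hp.out).1 hd ▸ not_alpha_of_not_sigma hG hM hσ)
      (by
        rw [centralizer_zpowers, ← hK]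
        exact fun h => not_prankLE_of_elab (hES.trans (Subgroup.map_subtype_le _)) hEe hE (h q hq))
    rw [centralizer_zpowers] at hu
    have huniq : ∀ L' : Subgroup G, IsCoatom L' → Subgroup.centralizer ({x} : Set G) ≤ L' → L' = M :=
      fun L' h1 h2 => (hu L' ⟨h1, inf_le_right.trans h2⟩).trans (hu M ⟨hM, inf_le_left⟩).symm
    exact hbad ⟨iu_le huniq le_rfl (Transit.centralizer_ne_top hG.2 hx1), huniq⟩

/-- Maximal elementary subgroups of order `p²` for `p` outside `σ(M)` of rank two. -/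
theorem not_ideal (hG : IsMinSimpleOddOrder G) (hM : IsCoatom M) (hr2 : PRankLE p 2 ↥M)
    (hr1 : ¬ PRankLE p 1 ↥M) :
    ¬ IsIdealPrime p G ∧ ∀ A : Subgroup G, A ≤ M → IsElementaryAbelian p A → Nat.card A = p ^ 2 →
        ∀ B : Subgroup G, IsElementaryAbelian p B → A ≤ B → B = A := by
  have key : ∀ A : Subgroup G, A ≤ M → IsElementaryAbelian p A → Nat.card A = p ^ 2 →
      ∀ B : Subgroup G, IsElementaryAbelian p B → A ≤ B → B = A := by
    intro A hAM hAe hA B hBe hAB
    by_contra hne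
    obtain ⟨j, hj⟩ := IsPGroup.iff_card.1 (Fusion.elab_isPGroup hBe)
    have hlt : Nat.card A < Nat.card B :=
      Set.Finite.card_lt_card (Set.toFinite _) (SetLike.coe_ssubset_coe.2 (lt_of_le_of_ne hAB (Ne.symm hne)))
    rw [hA, hj, Nat.pow_lt_pow_iff_right hp.out.one_lt] at hlt
    have hB3 : p ^ 3 ≤ Nat.card B := hj ▸ Nat.pow_le_pow_right hp.out.pos hlt
    have hBC : B ≤ Subgroup.centralizer (A : Set G) := fun b hb => Subgroup.mem_centralizer_iff.2 fun a ha =>
      congrArg Subtype.val (hBe.1.is_comm.comm (⟨a, hAB ha⟩ : B) ⟨b, hb⟩)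
    obtain ⟨M', -, hu⟩ := iu_of_commute' hG (rank_three_iu hG hBe hB3)
      (Subgroup.le_centralizer_iff.1 hBC) hAe hA.ge
    have hBM : B ≤ M := iu_le (fun L h1 h2 => (hu L ⟨h1, h2⟩).trans (hu M ⟨hM, hAM⟩).symm) hAB
      (pgroup_ne_top hG (Fusion.elab_isPGroup hBe))
    exact not_prankLE_of_elab (k := 2) hBM hBe hB3 hr2
  refine ⟨fun hid => ?_, key⟩
  obtain ⟨E, hEM, hEe, hE⟩ := exists_elab_of_prank hr1
  obtain ⟨j, hj⟩ := IsPGroup.iff_card.1 (Fusion.elab_isPGroup hEe)
  have hEc : Nat.card E = p ^ 2 := by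
    refine le_antisymm ?_ hE
    rw [hj]
    refine Nat.pow_le_pow_right hp.out.pos (not_lt.1 fun h => not_prankLE_of_elab (k := 2) hEM hEe ?_ hr2)
    exact hj ▸ Nat.pow_le_pow_right hp.out.pos h
  obtain ⟨S, hS⟩ := (Fusion.elab_isPGroup hEe).exists_le_sylow
  obtain ⟨B, -, hBe, hlt⟩ := hid.2.2 S E hS hEe hEc
  exact hlt.ne (key E hEM hEe hEc B hBe hlt.le).symm

/-- A subgroup of order `p` whose normaliser lies in `M`, for `p` outside `σ(M)`. -/
theorem order_p_normalizer (hG : IsMinSimpleOddOrder G) (hM : IsCoatom M) (hσ : p ∉ sigma M)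
    {X : Subgroup G} (hX : Nat.card X = p) (hNX : Subgroup.normalizer (X : Set G) ≤ M) :
    (PRankLE p 2 ↥M ∧ ¬ PRankLE p 1 ↥M) ∧ ¬ IsIdealPrime p G ∧
      ∃ A : Subgroup G, IsElementaryAbelian p A ∧ Nat.card A = p ^ 2 ∧ X ≤ A := by
  have hXM : X ≤ M := Subgroup.le_normalizer.trans hNX
  have hr2 : PRankLE p 2 ↥M := prankLE_of_not_alpha hp.out (not_alpha_of_not_sigma hG hM hσ)
  have hXp : IsPGroup p X := IsPGroup.of_card (n := 1) (by rw [pow_one, hX])
  obtain ⟨x, hx⟩ := exists_prime_orderOf_dvd_card' (G := ↥X) p (by rw [hX])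
  have hxX : Subgroup.zpowers (x : G) = X := Subgroup.eq_of_le_of_card_ge (Subgroup.zpowers_le.2 x.2)
    (by rw [Nat.card_zpowers, Subgroup.orderOf_coe, hx, hX])
  have hXe : IsElementaryAbelian p X := ⟨haveI := isCyclic_of_prime_card hX; inferInstance,
    fun a ha => by
      have h1 := pow_card_eq_one' (x := (⟨a, ha⟩ : X))
      rw [hX] at h1
      exact congrArg Subtype.val h1⟩
  obtain ⟨P, hP, hXP⟩ := exists_sylIn_ge hXp hXM
  obtain ⟨z, hzP, hzo, hzc⟩ : ∃ z ∈ P, orderOf z = p ∧ ∀ y ∈ P, Commute y z := by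
    have hPne : P ≠ ⊥ := fun h => by
      rw [h, le_bot_iff] at hXP
      rw [hXP, Subgroup.card_bot] at hX
      exact hp.out.ne_one hX.symm
    haveI : Nontrivial ↥P := (Subgroup.nontrivial_iff_ne_bot _).2 hPne
    haveI : Nontrivial (Subgroup.center ↥P) := hP.isPGroup.center_nontrivial
    obtain ⟨k, hk⟩ := IsPGroup.iff_card.1 ((hP.isPGroup.to_subgroup (Subgroup.center ↥P)))
    have hk0 : k ≠ 0 := fun h => by
      have := Finite.one_lt_card (α := ↥(Subgroup.center ↥P))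
      rw [hk, h, pow_zero] at this
      omega
    obtain ⟨z, hz⟩ := exists_prime_orderOf_dvd_card' (G := ↥(Subgroup.center ↥P)) p (hk ▸ dvd_pow_self p hk0)
    exact ⟨_, (z : ↥P).2, by rw [Subgroup.orderOf_coe, Subgroup.orderOf_coe, hz],
      fun y hy => congrArg Subtype.val (Subgroup.mem_center_iff.1 z.2 ⟨y, hy⟩)⟩
  have hA : ∃ A : Subgroup G, A ≤ P ∧ IsElementaryAbelian p A ∧ p ^ 2 ≤ Nat.card A ∧ X ≤ A := by
    by_cases hzX : z ∈ X
    swap
    · have hB := elab_sup hXe (Subgroup.mem_centralizer_iff.2 fun y hy => (hzc y (hXP hy)).eq)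
        (hzo ▸ pow_orderOf_eq_one z)
      refine ⟨_, sup_le hXP (Subgroup.zpowers_le.2 hzP), hB, ?_, le_sup_left⟩
      obtain ⟨j, hj⟩ := IsPGroup.iff_card.1 (Fusion.elab_isPGroup hB)
      have hlt : Nat.card X < Nat.card (X ⊔ Subgroup.zpowers z : Subgroup G) :=
        Set.Finite.card_lt_card (Set.toFinite _) (SetLike.coe_ssubset_coe.2 (lt_of_le_of_ne le_sup_left
          fun e : X = X ⊔ Subgroup.zpowers z => hzX (e.symm ▸ Subgroup.mem_sup_right (Subgroup.mem_zpowers z))))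
      rw [hX, hj] at hlt
      rw [hj]
      exact Nat.pow_le_pow_right hp.out.pos ((Nat.pow_lt_pow_iff_right hp.out.one_lt).1
        (by rw [pow_one]; exact hlt))
    · by_cases hcyc : IsCyclic P
      · exfalso
        obtain ⟨hp', hd, -⟩ : p.Prime ∧ p ∣ Nat.card M ∧ True :=
          ⟨hp.out, hX ▸ Subgroup.card_dvd_of_le hXM, trivial⟩
        obtain ⟨P₀, hP₀⟩ := hP.exists_sylow_subgroupOf
        refine hσ ⟨hp', hd, P₀, ?_⟩
        rw [hP₀, Subgroup.map_subgroupOf_eq_of_le hP.le]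
        refine le_trans (fun g hg => mem_normalizer_of_cj_le ?_) hNX
        haveI := hcyc
        haveI : IsCyclic ↥P := hcyc
        have hXg : cj X g ≤ P := (cj_mono hXP g).trans (cj_eq_self hg).le
        exact (cyclic_eq hcyc hXg hXP (by rw [card_cj, hX]) hX).le
      · have hp2 : p ≠ 2 := by
          rintro rfl
          exact Nat.not_even_iff_odd.2 hG.1 (even_iff_two_dvd.2 (hX ▸ Subgroup.card_subgroup_dvd_card X))
        obtain ⟨E, hEP, hEe, hE⟩ := exists_elab_noncyclic hp2 hP.isPGroup hcyc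
        have hzXeq : Subgroup.zpowers z = X := Subgroup.eq_of_le_of_card_ge (Subgroup.zpowers_le.2 hzX)
          (by rw [Nat.card_zpowers, hzo, hX])
        refine ⟨_, sup_le hEP (Subgroup.zpowers_le.2 hzP),
          elab_sup hEe (Subgroup.mem_centralizer_iff.2 fun y hy => (hzc y (hEP hy)).eq)
            (hzo ▸ pow_orderOf_eq_one z),
          hE.trans (Subgroup.card_le_of_le le_sup_left), hzXeq ▸ le_sup_right⟩
  obtain ⟨A, hAP, hAe, hA2, hXA⟩ := hA
  have hr1 : ¬ PRankLE p 1 ↥M := not_prankLE_of_elab (hAP.trans hP.le) hAe hA2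
  refine ⟨⟨hr2, hr1⟩, (not_ideal hG hM hr2 hr1).1, A, hAe, le_antisymm ?_ hA2, hXA⟩
  obtain ⟨j, hj⟩ := IsPGroup.iff_card.1 (Fusion.elab_isPGroup hAe)
  rw [hj]
  exact Nat.pow_le_pow_right hp.out.pos
    (not_lt.1 fun h => not_prankLE_of_elab (k := 2) (hAP.trans hP.le) hAe (hj ▸ Nat.pow_le_pow_right hp.out.pos h) hr2)

/-- Solvable groups of odd order and `p`-rank at most two have `p`-length one. -/
theorem pLengthLE_rank_two {X : Type u} [Group X] [Finite X] [Group.IsSolvable X] (hodd : Odd (Nat.card X))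
    (hr : PRankLE p 2 X) : PLengthLE p 1 X := by
  rw [Solv.PLen.pLengthLE_iff]
  by_cases hd : p ∣ Nat.card X
  swap
  · exact Solv.PLen.hasPSeries_of_coprime 1 ((Nat.Prime.coprime_iff_not_dvd hp.out).2 hd).symm
  obtain ⟨-, -, -, -, -, hidx⟩ := Cfsg.Agent.S1450.result hodd p hd hr
  haveI := Cfsg.pPrimeCore_normal p X
  haveI : (pCore p (X ⧸ pPrimeCore p X)).Normal := Cfsg.pCore_normal p _
  haveI : (pPrimePCore p X).Normal := by unfold pPrimePCore; infer_instance
  refine ⟨fun n => if n = 0 then ⊥ else if n = 1 then pPrimeCore p X else if n = 2 then pPrimePCore p X else ⊤,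
    rfl, fun n hn => ?_, fun n => ?_, fun n => ?_, fun n => ?_⟩
  · dsimp only; rw [if_neg (by omega), if_neg (by omega), if_neg (by omega)]
  · dsimp only; split_ifs <;> infer_instance
  · rcases n with _ | _ | _ | n
    · exact bot_le
    · exact fun x hx => by
        show x ∈ pPrimePCore p X
        rw [pPrimePCore, Subgroup.mem_comap, show QuotientGroup.mk' (pPrimeCore p X) x = 1 from
          (QuotientGroup.eq_one_iff x).2 hx]
        exact one_mem _
    · exact le_top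
    · exact le_top
  · rcases n with _ | _ | _ | n
    · show Solv.PLen.OkIndex p 0 ((⊥ : Subgroup X).relIndex (pPrimeCore p X))
      unfold Solv.PLen.OkIndex
      rw [if_pos Even.zero, Subgroup.relIndex_bot_left]
      exact Fusion.card_pPrimeCore_coprime p X
    · show Solv.PLen.OkIndex p 1 ((pPrimeCore p X).relIndex (pPrimePCore p X))
      unfold Solv.PLen.OkIndex
      rw [if_neg (by decide)]
      have h := Subgroup.relIndex_ker (pPrimePCore p X) (QuotientGroup.mk' (pPrimeCore p X))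
      rw [QuotientGroup.ker_mk'] at h
      rw [h, pPrimePCore, Subgroup.map_comap_eq_self_of_surjective (QuotientGroup.mk'_surjective _)]
      exact (Fusion.isPGroup_pCore p _).exists_card_eq
    · show Solv.PLen.OkIndex p 2 ((pPrimePCore p X).relIndex ⊤)
      unfold Solv.PLen.OkIndex
      rw [if_pos even_two, Subgroup.relIndex_top_right]
      exact hidx
    · show Solv.PLen.OkIndex p _ ((⊤ : Subgroup X).relIndex ⊤)
      rw [Subgroup.relIndex_self]
      exact Solv.PLen.OkIndex.one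

omit hp in
/-- Some prime of `M` lies outside `σ(M)`. -/
theorem exists_not_sigma (hG : IsMinSimpleOddOrder G) (hM : IsCoatom M) (hne : M ≠ ⊥) :
    ∃ r : ℕ, r.Prime ∧ r ∣ Nat.card M ∧ r ∉ sigma M := by
  haveI := hG.2.2.2 M hM.1
  haveI : Nontrivial ↥M := (Subgroup.nontrivial_iff_ne_bot _).2 hne
  have hlt : piCore (sigma M) M < ⊤ :=
    lt_of_le_of_lt (sigmaCore_le_derived hG hM) (Group.IsSolvable.commutator_lt_top_of_nontrivial ↥M)
  obtain ⟨r, hr, hd⟩ := Nat.exists_prime_and_dvd (fun h => hlt.ne (Subgroup.index_eq_one.1 h))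
  refine ⟨r, hr, hd.trans (Subgroup.index_dvd_card _), fun hσ => ?_⟩
  haveI := Fact.mk hr
  obtain ⟨S⟩ : Nonempty (Sylow r M) := inferInstance
  exact not_dvd_index_piCore S (sylow_le_sigmaCore hG hM hσ S) hd

/-- Proper subgroups have `p`-length at most one. -/
theorem pLengthLE_one (hG : IsMinSimpleOddOrder G) {H : Subgroup G} (hH : H ≠ ⊤) : PLengthLE p 1 ↥H := by
  obtain ⟨M, hM, hHM⟩ := exists_coatom H hH
  haveI := hG.2.2.2 M hM.1
  suffices h : PLengthLE p 1 ↥M by
    have h1 := pLengthLE_subgroup (H := H.subgroupOf M) h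
    exact pLengthLE_congr (Subgroup.subgroupOfEquivOfLe hHM) h1
  by_cases hr : PRankLE p 2 ↥M
  · exact pLengthLE_rank_two (odd_subgroup hG M) hr
  have hα : p ∈ alpha M := ⟨hp.out, hr⟩
  have hne : M ≠ ⊥ := fun h => by
    obtain ⟨F, hFM, -, hF⟩ := exists_elab_of_prank hr
    rw [h, le_bot_iff] at hFM
    rw [hFM, Subgroup.card_bot] at hF
    exact absurd hF (not_le.2 (Nat.one_lt_pow (by omega) hp.out.one_lt))
  obtain ⟨r, hr', hrM, hrσ⟩ := exists_not_sigma hG hM hne
  haveI := Fact.mk hr'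
  obtain ⟨R⟩ : Nonempty (Sylow r M) := inferInstance
  obtain ⟨x, hxR, hxo, hZ, -⟩ := exists_central_bad hG hM hrM hrσ R
  obtain ⟨⟨w, hwM⟩, -, rfl⟩ := hxR
  set O := piCore (alpha M) M with hO
  have hOidx : ∀ q : ℕ, q.Prime → q ∣ Nat.card O → ¬ q ∣ O.index := fun q hq h1 h2 => by
    haveI := Fact.mk hq
    obtain ⟨S⟩ : Nonempty (Sylow q M) := inferInstance
    exact not_dvd_index_piCore S (sylow_le_alphaCore hG hM (piCore_pi q hq h1) S) h2
  obtain ⟨K, hK⟩ := Subgroup.exists_right_complement'_of_coprime (N := O) (Nat.coprime_of_dvd hOidx)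
  have hxo' : orderOf (⟨w, hwM⟩ : M) = r := by rw [← hxo]; exact (Subgroup.orderOf_coe _).symm
  have hco : (Nat.card O).Coprime (Nat.card (Subgroup.zpowers (⟨w, hwM⟩ : M))) := by
    rw [Nat.card_zpowers, hxo']
    exact ((Nat.Prime.coprime_iff_not_dvd hr').2
      fun h => not_alpha_of_not_sigma hG hM hrσ (piCore_pi r hr' h)).symm
  obtain ⟨m, -, hmK⟩ := Solv.sz_contain O K (Subgroup.zpowers (⟨w, hwM⟩ : M))
    (by rw [Subgroup.normalizer_eq_top]; exact le_top) (by rw [hK.sup_eq_top]; exact le_top) hco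
    (by rw [← hK.symm.index_eq_card]; exact Nat.coprime_of_dvd hOidx) (Or.inl inferInstance)
  have hK' : Subgroup.IsComplement' O (K.map (MulAut.conj m).toMonoidHom) := by
    refine Subgroup.isComplement'_of_coprime ?_ ?_
    · rw [Subgroup.card_map_of_injective (MulAut.conj m).injective, ← hK.symm.index_eq_card]
      exact O.card_mul_index
    · rw [Subgroup.card_map_of_injective (MulAut.conj m).injective, ← hK.symm.index_eq_card]
      exact Nat.coprime_of_dvd hOidx
  have hle : O ≤ commutator M := (piCore_mono (alpha_subset_sigma hG hM)).trans (sigmaCore_le_derived hG hM)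
  have heq := ((Cfsg.Agent.S1459.result).1 O _ inferInstance (Nat.coprime_of_dvd hOidx) hK' hle).1
  have hZ' : IsZGroup ↥(O ⊓ Subgroup.centralizer (Subgroup.zpowers (⟨w, hwM⟩ : M) : Set M)) := by
    haveI : IsZGroup ↥(alphaCore M ⊓ Subgroup.centralizer ({w} : Set G)) := hZ
    refine IsZGroup.of_injective (f := ((M.subtype).comp (O ⊓ Subgroup.centralizer
      (Subgroup.zpowers (⟨w, hwM⟩ : M) : Set M)).subtype).codRestrict
        (alphaCore M ⊓ Subgroup.centralizer ({w} : Set G)) fun y => ?_) ?_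
    · refine ⟨⟨(y : M), y.2.1, rfl⟩, Subgroup.mem_centralizer_singleton_iff.2 ?_⟩
      exact congrArg Subtype.val (Subgroup.mem_centralizer_iff.1 y.2.2 _ (Subgroup.mem_zpowers _)).symm
    · intro a b hab
      exact Subtype.ext (Subtype.ext (congrArg Subtype.val hab :))
  have h1 := Cfsg.Agent.S1444.result (odd_subgroup hG M) O _ (Subgroup.zpowers (⟨w, hwM⟩ : M))
    (Nat.coprime_of_dvd hOidx) hK' hmK (by rw [Nat.card_zpowers, hxo']; exact hr') hZ' p
  rw [← heq] at h1
  obtain ⟨S⟩ : Nonempty (Sylow p M) := inferInstance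
  exact pLengthLE_lift O (not_dvd_index_piCore S (sylow_le_alphaCore hG hM hα S)) h1

end Cfsg.Agent.OddLocal.Sig
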