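import Cfsg.Agent.Lib.OddLocal.BenderUniqueness
import Cfsg.Agent.Lib.OddLocal.SigmaPLength
import Cfsg.Agent.Lib.Solv.Zipper

/-!
Maximal invariant `q`-subgroups under a large subgroup of a non-primary Fitting subgroup.
-/

set_option autoImplicit false
set_option linter.style.haveILetI false

namespace Cfsg.Agent.OddLocal.Bender.MaxInv

open Cfsg
open scoped commutatorElement
open Cfsg.Agent.Fusion (SylIn cj cj_eq_self cj_mono mem_normalizer_of_cj_le injOn_mk_of_coprime
  exists_lift_normalizer mem_centralizer_of_AB)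

universe u

section Cores

variable {X : Type u} [Group X] [Finite X]

/-- A normal nilpotent subgroup lies in the Fitting subgroup. -/
theorem le_fittingOf {N Y : Subgroup X} (hN : N ≤ Y) (hn : Y ≤ Subgroup.normalizer (N : Set X))
    (hnil : Group.IsNilpotent ↥N) : N ≤ fittingOf Y := by
  haveI := hnil
  haveI : (N.subgroupOf Y).Normal := Subgroup.normal_subgroupOf_of_le_normalizer hn
  rw [← Subgroup.map_subgroupOf_eq_of_le hN]
  exact Subgroup.map_mono (le_sSup ⟨inferInstance,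
    Group.nilpotent_of_mulEquiv (Subgroup.subgroupOfEquivOfLe hN).symm⟩)

theorem le_normalizer_fittingOf (Y : Subgroup X) : Y ≤ Subgroup.normalizer (fittingOf Y : Set X) :=
  haveI := Solv.fittingSubgroup_normal (G := ↥Y)
  le_normalizer_map _

/-- The Fitting subgroup is invariant under the normaliser. -/
theorem normalizer_le_fitting (Y : Subgroup X) :
    Subgroup.normalizer (Y : Set X) ≤ Subgroup.normalizer (fittingOf Y : Set X) := fun g hg => by
  refine mem_normalizer_of_cj_le (le_fittingOf ((cj_mono (Subgroup.map_subtype_le _) g).trans (cj_eq_self hg).le)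
    ?_ ?_)
  · rw [← Fusion.cj_normalizer]
    exact (cj_eq_self hg).ge.trans (cj_mono (le_normalizer_fittingOf Y) g)
  · haveI := TypePBasic.fittingOf_nilpotent Y
    exact Group.nilpotent_of_mulEquiv ((fittingOf Y).equivMapOfInjective _ (MulAut.conj g).injective)

/-- A normal subgroup with primes in `π` lies in the `π`-core. -/
theorem le_piCoreOf {π : Set ℕ} {N Y : Subgroup X} (hN : N ≤ Y) (hn : Y ≤ Subgroup.normalizer (N : Set X))
    (h : ∀ p : ℕ, p.Prime → p ∣ Nat.card N → p ∈ π) : N ≤ piCoreOf π Y := by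
  haveI : (N.subgroupOf Y).Normal := Subgroup.normal_subgroupOf_of_le_normalizer hn
  rw [← Subgroup.map_subgroupOf_eq_of_le hN]
  refine Subgroup.map_mono (Sig.le_piCore _ fun p hp hd => h p hp ?_)
  rwa [Solv.card_subgroupOf hN] at hd

theorem piCoreOf_pi {π : Set ℕ} {Y : Subgroup X} {p : ℕ} (hp : p.Prime) (hd : p ∣ Nat.card ↥(piCoreOf π Y)) :
    p ∈ π := by
  rw [piCoreOf, Subgroup.card_map_of_injective Y.subtype_injective] at hd
  exact Sig.piCore_pi p hp hd

theorem normalizer_le_piCore {π : Set ℕ} (Y : Subgroup X) :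
    Subgroup.normalizer (Y : Set X) ≤ Subgroup.normalizer (piCoreOf π Y : Set X) := fun g hg => by
  refine mem_normalizer_of_cj_le (le_piCoreOf ((cj_mono (Subgroup.map_subtype_le _) g).trans (cj_eq_self hg).le)
    ?_ fun p hp hd => piCoreOf_pi hp (by rwa [Fusion.card_cj] at hd))
  rw [← Fusion.cj_normalizer]
  exact (cj_eq_self hg).ge.trans (cj_mono Sig.le_normalizer_piCoreOf g)

theorem le_pCoreOf_of_le_fitting {p : ℕ} [Fact p.Prime] {S Y : Subgroup X} (hS : IsPGroup p S)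
    (hle : S ≤ fittingOf Y) : S ≤ pCoreOf p Y := by
  have hSY : S ≤ Y := hle.trans (Subgroup.map_subtype_le _)
  rw [← Subgroup.map_subgroupOf_eq_of_le hSY]
  refine Subgroup.map_mono (Solv.pgroup_le_pCore_of_le_fitting (hS.comap_subtype) fun s hs => ?_)
  obtain ⟨t, ht, hts⟩ := hle hs
  exact (Y.subtype_injective hts) ▸ ht

theorem normalizer_le_pCore {p : ℕ} [Fact p.Prime] (Y : Subgroup X) :
    Subgroup.normalizer (Y : Set X) ≤ Subgroup.normalizer (pCoreOf p Y : Set X) := fun g hg => by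
  refine mem_normalizer_of_cj_le (le_pCoreOf_of_le_fitting (Fusion.isPGroup_cj (isPGroup_pCoreOf Y) g) ?_)
  exact (cj_mono (pCoreOf_le_fittingOf Y) g).trans (cj_eq_self (normalizer_le_fitting Y hg)).le

end Cores

variable {G : Type u} [Group G] [Finite G]

/-- The hypotheses on `H` and the subgroup `M` of its Fitting subgroup. -/
structure Data (H M : Subgroup G) : Prop where
  loc : ∀ L : Subgroup G, IsLocalSubgroup L → H ≤ L → L = H
  two : 2 ≤ (Nat.card (fittingOf H)).primeFactors.card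
  le : M ≤ fittingOf H
  self : fittingOf H ⊓ Subgroup.centralizer (M : Set G) ≤ M

variable {H M R : Subgroup G}

theorem Data.ctr_le (d : Data H M) {p : ℕ} [Fact p.Prime] : ctr p H ≤ M :=
  le_trans (le_inf ((ctr_central H).trans inf_le_left)
    ((ctr_central H).trans (inf_le_right.trans (Subgroup.centralizer_le d.le)))) d.self

theorem Data.centralizer_le (d : Data H M) {p : ℕ} [Fact p.Prime] (hp : p ∣ Nat.card (fittingOf H)) :
    Subgroup.centralizer (ctr p H : Set G) ≤ H :=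
  (Subgroup.centralizer_le_normalizer _).trans
    (d.loc _ ⟨p, ctr p H, Fact.out, isPGroup_ctr H, ctr_ne_bot hp, rfl⟩ (le_normalizer_ctr H)).le

/-- Elements commuting with each primary part of `M` centralise `M`. -/
theorem Data.mem_centralizer (d : Data H M) {y : G}
    (h : ∀ s : ℕ, s.Prime → s ∣ Nat.card (fittingOf H) → ∀ m ∈ M ⊓ pCoreOf s H, y * m = m * y) :
    y ∈ Subgroup.centralizer (M : Set G) := by
  suffices hle : M ≤ Subgroup.centralizer ({y} : Set G) from
    Subgroup.mem_centralizer_iff.2 fun m hm => Subgroup.mem_centralizer_singleton_iff.1 (hle hm)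
  rw [← Subgroup.relIndex_eq_one]
  by_contra hne
  obtain ⟨s, hs, hd⟩ := Nat.exists_prime_and_dvd hne
  haveI := Fact.mk hs
  obtain ⟨S, hS⟩ := Fusion.exists_sylIn (p := s) M
  refine hS.not_dvd (hd.trans (Subgroup.relIndex_dvd_of_le_left M fun m hm => ?_))
  refine Subgroup.mem_centralizer_singleton_iff.2 (h s hs ?_ m
    ⟨hS.le hm, le_pCoreOf_of_le_fitting hS.isPGroup (hS.le.trans d.le) hm⟩).symm
  exact (hd.trans (Subgroup.relIndex_dvd_card _ _)).trans (Subgroup.card_dvd_of_le d.le)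

/-- Elements of `R` centralising `M` of order prime to `|F(H)|` are trivial. -/
theorem Data.fixed_trivial (d : Data H M) (hR : Group.IsSolvable ↥R)
    (hXR : H ⊓ Subgroup.centralizer (fittingOf H : Set G) ≤ Subgroup.normalizer (R : Set G)) {c : G} (hcR : c ∈ R)
    (hcM : c ∈ Subgroup.centralizer (M : Set G)) (hco : (orderOf c).Coprime (Nat.card (fittingOf H))) : c = 1 := by
  set F := fittingOf H with hF
  have hFH : F ≤ H := Subgroup.map_subtype_le _
  haveI := TypePBasic.fittingOf_nilpotent H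
  obtain ⟨p₀, hp₀⟩ : (Nat.card F).primeFactors.Nonempty := Finset.card_pos.1 (lt_of_lt_of_le two_pos d.two)
  rw [Nat.mem_primeFactors] at hp₀
  haveI := Fact.mk hp₀.1
  have hcH : c ∈ H := d.centralizer_le hp₀.2.1 (Subgroup.centralizer_le d.ctr_le hcM)
  set X := H ⊓ Subgroup.centralizer (F : Set G) with hX
  have hcX : c ∈ X := by
    refine ⟨hcH, ?_⟩
    rw [hF, fittingOf_eq]
    suffices hle : (⨆ q : Nat.Primes, pCoreOf (q : ℕ) H) ≤ Subgroup.centralizer ({c} : Set G) from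
      Subgroup.mem_centralizer_iff.2 fun m hm => Subgroup.mem_centralizer_singleton_iff.1 (hle hm)
    refine iSup_le fun p => ?_
    haveI := Fact.mk p.2
    by_cases hpF : (p : ℕ) ∣ Nat.card F
    swap
    · rw [pCoreOf_eq_bot hpF]; exact bot_le
    have h := mem_centralizer_of_AB (Q := pCoreOf (p : ℕ) H) (T := M ⊓ pCoreOf (p : ℕ) H)
      (isPGroup_pCoreOf H) ((isPGroup_pCoreOf H).to_le inf_le_right)
      (inf_le_right.trans Subgroup.le_normalizer) (x := c) (le_normalizer_pCoreOf H hcH)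
      (fun t ht => (Subgroup.mem_centralizer_iff.1 hcM t ht.1).symm)
      (hco.coprime_dvd_right hpF) fun q hq hqT => by
        refine (Subgroup.mem_centralizer_iff.1 hcM q (d.self ⟨pCoreOf_le_fittingOf H hq, ?_⟩)).symm
        refine d.mem_centralizer fun s hs hsF m hm => ?_
        by_cases hsp : s = p
        · subst hsp; exact hqT m hm
        haveI := Fact.mk hs
        exact (Subgroup.mem_centralizer_iff.1 (TypePBasic.nilpotent_coprime_commute (F := F)
          (pCoreOf_le_fittingOf (p := s) H) (pCoreOf_le_fittingOf (p := (p : ℕ)) H) (by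
            obtain ⟨i, hi⟩ := IsPGroup.iff_card.1 (isPGroup_pCoreOf (p := s) H)
            obtain ⟨j, hj⟩ := IsPGroup.iff_card.1 (isPGroup_pCoreOf (p := (p : ℕ)) H)
            rw [hi, hj]
            exact Nat.Coprime.pow i j ((Nat.coprime_primes hs p.2).2 hsp)) hq) m hm.2).symm
    exact fun q hq => Subgroup.mem_centralizer_singleton_iff.2 (Subgroup.mem_centralizer_iff.1 h q hq)
  -- `X ⊓ R` is contained in the Fitting subgroup
  set Y := X ⊓ R with hY
  have hXH : X ≤ H := inf_le_left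
  have hHX : H ≤ Subgroup.normalizer (X : Set G) := fun h hh => mem_normalizer_of_cj_le (le_of_eq (by
    rw [hX, Fusion.cj_inf, Fusion.cj_centralizer, cj_eq_self (Subgroup.le_normalizer hh),
      cj_eq_self (le_normalizer_fittingOf H hh)]))
  have hXY : X ≤ Subgroup.normalizer (Y : Set G) := fun x hx => mem_normalizer_of_cj_le (le_of_eq (by
    rw [hY, Fusion.cj_inf, cj_eq_self (Subgroup.le_normalizer hx), cj_eq_self (hXR hx)]))
  have hFY : fittingOf Y ≤ F := by
    refine (le_fittingOf ((Subgroup.map_subtype_le _).trans inf_le_left)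
      (hXY.trans (normalizer_le_fitting Y)) (TypePBasic.fittingOf_nilpotent Y)).trans ?_
    exact le_fittingOf ((Subgroup.map_subtype_le _).trans hXH) (hHX.trans (normalizer_le_fitting X))
      (TypePBasic.fittingOf_nilpotent X)
  haveI := hR
  haveI hYs : Group.IsSolvable ↥Y := Solv.isSolvable_of_le inf_le_right hR
  have hcF : c ∈ F := hFY (by
    refine ⟨⟨c, hcX, hcR⟩, Solv.centralizer_fitting_le hYs (Subgroup.mem_centralizer_iff.2 fun y hy =>
      Subtype.ext ?_), rfl⟩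
    exact (Subgroup.mem_centralizer_iff.1 hcX.2 (y : G) (hFY ⟨y, hy, rfl⟩) :))
  exact orderOf_eq_one_iff.1 (Nat.eq_one_of_dvd_coprimes hco dvd_rfl (Subgroup.orderOf_dvd_natCard _ hcF))

/-- Invariant `q`-subgroups, `q` prime to `|F(H)|`, lie in the core. -/
theorem Data.inv_le_core (d : Data H M) (hR : Group.IsSolvable ↥R) (hMR : M ≤ Subgroup.normalizer (R : Set G))
    (hXR : H ⊓ Subgroup.centralizer (fittingOf H : Set G) ≤ Subgroup.normalizer (R : Set G)) {q : ℕ} [hq : Fact q.Prime]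
    (hqF : ¬ q ∣ Nat.card (fittingOf H)) {Q : Subgroup G} (hQ : IsPGroup q Q) (hQR : Q ≤ R)
    (hMQ : M ≤ Subgroup.normalizer (Q : Set G)) :
    Q ≤ piCoreOf (primesNotDvd (Nat.card (fittingOf H))) R := by
  classical
  set F := fittingOf H with hF
  haveI := TypePBasic.fittingOf_nilpotent H
  set W := piCoreOf (primesNotDvd (Nat.card F)) R with hW
  have hWR : W ≤ R := Subgroup.map_subtype_le _
  set Γ := Subgroup.normalizer (W : Set G) with hΓ
  have hNΓ : Subgroup.normalizer (R : Set G) ≤ Γ := normalizer_le_piCore R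
  have hRΓ : R ≤ Γ := Subgroup.le_normalizer.trans hNΓ
  have hWΓ : W ≤ Γ := hWR.trans hRΓ
  set O := W.subgroupOf Γ with hO
  haveI : O.Normal := Subgroup.normal_subgroupOf_of_le_normalizer le_rfl
  set f := QuotientGroup.mk' O with hf
  set Rb : Subgroup (↥Γ ⧸ O) := (R.subgroupOf Γ).map f with hRb
  have hmemR : ∀ z : ↥Γ, f z ∈ Rb → (z : G) ∈ R := by
    rintro z ⟨r, hr, hrz⟩
    have h1 : ((r⁻¹ * z : ↥Γ) : G) ∈ W := Subgroup.mem_subgroupOf.1 (QuotientGroup.eq.1 hrz)
    simpa using Subgroup.mul_mem _ (Subgroup.mem_subgroupOf.1 hr) (hWR h1)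
  have hfN : ∀ g : ↥Γ, (g : G) ∈ Subgroup.normalizer (R : Set G) → f g ∈ Subgroup.normalizer (Rb : Set (↥Γ ⧸ O)) := by
    intro g hg
    refine mem_normalizer_of_cj_le ?_
    rintro _ ⟨_, ⟨r, hr, rfl⟩, rfl⟩
    exact ⟨g * r * g⁻¹, (Subgroup.mem_normalizer_iff.1 hg _).1 hr, by simp⟩
  haveI : Group.IsSolvable ↥Rb := by
    haveI := hR
    haveI : Group.IsSolvable ↥(R.subgroupOf Γ) :=
      Group.isSolvable_of_surjective (f := (Subgroup.subgroupOfEquivOfLe hRΓ).symm.toMonoidHom)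
        (Subgroup.subgroupOfEquivOfLe hRΓ).symm.surjective
    exact Solv.isSolvable_map f inferInstance
  -- primes prime to `|F|` do not occur
  have hbot : ∀ p : ℕ, p.Prime → ¬ p ∣ Nat.card F → pCoreOf p Rb = ⊥ := by
    intro p hp hpF
    haveI := Fact.mk hp
    set P := pCoreOf p Rb with hP
    set K := (P.comap f).map Γ.subtype with hK
    have hKR : K ≤ R := by
      rintro _ ⟨z, hz, rfl⟩
      exact hmemR z (Subgroup.map_subtype_le _ hz)
    have hKW : K ≤ W := by
      refine le_piCoreOf hKR (fun r hr => mem_normalizer_of_cj_le ?_) fun t ht hd => ?_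
      · rintro _ ⟨_, ⟨z, hz, rfl⟩, rfl⟩
        refine ⟨⟨r, hRΓ hr⟩ * z * ⟨r, hRΓ hr⟩⁻¹, ?_, rfl⟩
        rw [SetLike.mem_coe, Subgroup.mem_comap, map_mul, map_mul, map_inv]
        exact (Subgroup.mem_normalizer_iff.1 (le_normalizer_pCoreOf Rb
          (Subgroup.mem_map_of_mem f (show (⟨r, hRΓ hr⟩ : ↥Γ) ∈ R.subgroupOf Γ from hr))) _).1 hz
      · haveI := Fact.mk ht
        rw [hK, Subgroup.card_map_of_injective Γ.subtype_injective] at hd
        obtain ⟨⟨z, hz⟩, hzo⟩ := exists_prime_orderOf_dvd_card' t hd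
        rw [Subgroup.orderOf_mk] at hzo
        by_cases hz1 : f z = 1
        · refine piCoreOf_pi (π := primesNotDvd (Nat.card F)) (Y := R) ht ?_
          rw [← hzo, ← Subgroup.orderOf_coe]
          exact Subgroup.orderOf_dvd_natCard _ (Subgroup.mem_subgroupOf.1 ((QuotientGroup.eq_one_iff z).1 hz1))
        · have h1 : orderOf (f z) = t :=
            (ht.eq_one_or_self_of_dvd _ (hzo ▸ orderOf_map_dvd f z)).resolve_left fun h => hz1 (orderOf_eq_one_iff.1 h)
          obtain ⟨j, hj⟩ := IsPGroup.iff_card.1 (isPGroup_pCoreOf (p := p) Rb)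
          have h2 : t ∣ p ^ j := h1 ▸ hj ▸ Subgroup.orderOf_dvd_natCard _ hz
          rw [(Nat.prime_dvd_prime_iff_eq ht hp).1 (ht.dvd_of_dvd_pow h2)]
          exact ⟨hp, hpF⟩
    refine eq_bot_iff.2 fun y hy => ?_
    obtain ⟨z, rfl⟩ := QuotientGroup.mk'_surjective O y
    exact Subgroup.mem_bot.2 ((QuotientGroup.eq_one_iff z).2 (Subgroup.mem_subgroupOf.2
      (hKW ⟨z, hy, rfl⟩)))
  -- the image of `Q` centralizes every `O_p`
  have hQΓ : Q ≤ Γ := hQR.trans hRΓ
  set Qb : Subgroup (↥Γ ⧸ O) := (Q.subgroupOf Γ).map f with hQb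
  have hQbR : Qb ≤ Rb := Subgroup.map_mono fun z hz => hQR hz
  have hcen : ∀ p : ℕ, p.Prime → Qb ≤ Subgroup.centralizer (pCoreOf p Rb : Set (↥Γ ⧸ O)) := by
    intro p hp
    haveI := Fact.mk hp
    by_cases hpF : p ∣ Nat.card F
    swap
    · rw [hbot p hp hpF]
      exact fun y _ => Subgroup.mem_centralizer_iff.2 fun z hz => by
        rw [Subgroup.mem_bot.1 hz, one_mul, mul_one]
    set P := pCoreOf p Rb with hP
    obtain ⟨r, hr, hrp⟩ : ∃ r, r ∈ (Nat.card F).primeFactors ∧ r ≠ p :=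
      Finset.exists_mem_ne (lt_of_lt_of_le one_lt_two d.two) p
    rw [Nat.mem_primeFactors] at hr
    haveI := Fact.mk hr.1
    set Mp := M ⊓ pCoreOf p H with hMp
    set Mr := M ⊓ pCoreOf r H with hMr
    have hMΓ : M ≤ Γ := hMR.trans hNΓ
    have hMpp : IsPGroup p ↥(Mp.subgroupOf Γ) :=
      ((isPGroup_pCoreOf H).to_le inf_le_right).comap_subtype
    have hcomm : ∀ a ∈ Mr, ∀ b ∈ Mp, a * b = b * a := fun a ha b hb => by
      refine (Subgroup.mem_centralizer_iff.1 (TypePBasic.nilpotent_coprime_commute (F := F)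
        (pCoreOf_le_fittingOf (p := r) H) (pCoreOf_le_fittingOf (p := p) H) ?_ hb.2) a ha.2)
      obtain ⟨i, hi⟩ := IsPGroup.iff_card.1 (isPGroup_pCoreOf (p := r) H)
      obtain ⟨j, hj⟩ := IsPGroup.iff_card.1 (isPGroup_pCoreOf (p := p) H)
      rw [hi, hj]
      exact Nat.Coprime.pow i j ((Nat.coprime_primes hr.1 hp).2 hrp)
    have hWco : (Nat.card O).Coprime p := by
      rw [hO, Solv.card_subgroupOf hWΓ]
      exact ((Nat.Prime.coprime_iff_not_dvd hp).2 fun h => (piCoreOf_pi hp h).2 hpF).symm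
    -- `Mr` centralizes the core
    have hMrP : ∀ b : ↥Γ, (b : G) ∈ Mr → f b ∈ Subgroup.centralizer (P : Set (↥Γ ⧸ O)) := by
      intro b hb
      have hbo : ∃ i, orderOf b = r ^ i := by
        obtain ⟨i, hi⟩ := IsPGroup.iff_orderOf.1 ((isPGroup_pCoreOf (p := r) H).to_le
          (inf_le_right : Mr ≤ _)) ⟨(b : G), hb⟩
        exact ⟨i, by rwa [Subgroup.orderOf_mk, Subgroup.orderOf_coe] at hi⟩
      obtain ⟨i, hi⟩ := hbo
      refine mem_centralizer_of_AB (Q := P) (T := (Mp.subgroupOf Γ).map f) (isPGroup_pCoreOf Rb)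
        (hMpp.map f) ?_ (normalizer_le_pCore Rb (hfN b (hMR hb.1))) ?_ ?_ ?_
      · rintro _ ⟨t, ht, rfl⟩
        exact normalizer_le_pCore Rb (hfN t (hMR (Subgroup.mem_subgroupOf.1 ht).1))
      · rintro _ ⟨t, ht, rfl⟩
        rw [← map_mul, ← map_mul]
        exact congrArg f (Subtype.ext (hcomm _ hb _ (Subgroup.mem_subgroupOf.1 ht)))
      · refine Nat.Coprime.coprime_dvd_left (orderOf_map_dvd f b) ?_
        rw [hi]
        exact ((Nat.coprime_primes hr.1 hp).2 hrp).pow_left i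
      · intro y hy hyT
        obtain ⟨x, hx, hxy⟩ := exists_lift_normalizer hWco hMpp (y := y)
          (Subgroup.centralizer_le_normalizer _ (Subgroup.mem_centralizer_iff.2 fun t ht => (hyT t ht).symm))
        have hxM : ∀ m ∈ Mp, (x : G) * m = m * (x : G) := fun m hm => by
          have hmΓ : m ∈ Γ := hMΓ hm.1
          have hxm : x * ⟨m, hmΓ⟩ * x⁻¹ = ⟨m, hmΓ⟩ := by
            refine injOn_mk_of_coprime hWco hMpp ((Subgroup.mem_normalizer_iff.1 hx _).1 hm) hm ?_
            show f (x * ⟨m, hmΓ⟩ * x⁻¹) = f ⟨m, hmΓ⟩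
            rw [map_mul, map_mul, map_inv, show f x = y from hxy,
              hyT (f ⟨m, hmΓ⟩) (Subgroup.mem_map_of_mem f hm), mul_inv_cancel_right]
          exact congrArg Subtype.val (mul_inv_eq_iff_eq_mul.1 hxm)
        have hxH : (x : G) ∈ H := d.centralizer_le hpF (Subgroup.mem_centralizer_iff.2 fun m hm =>
          (hxM m ⟨d.ctr_le hm, hm.1⟩).symm)
        set e : ↥Γ := x * b * x⁻¹ * b⁻¹ with he
        have heH : (e : G) ∈ pCoreOf r H :=
          Subgroup.mul_mem _ ((Subgroup.mem_normalizer_iff.1 (le_normalizer_pCoreOf H hxH) _).1 hb.2)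
            (Subgroup.inv_mem _ hb.2)
        have hfe : f e ∈ P := by
          rw [he, map_mul, map_mul, map_mul, map_inv, map_inv, show f x = y from hxy,
            show y * f b * y⁻¹ * (f b)⁻¹ = y * (f b * y⁻¹ * (f b)⁻¹) by group]
          exact mul_mem hy ((Subgroup.mem_normalizer_iff.1
            (normalizer_le_pCore Rb (hfN b (hMR hb.1))) _).1 (inv_mem hy))
        have he1 : f e = 1 := by
          obtain ⟨u, hu⟩ := IsPGroup.iff_orderOf.1 (isPGroup_pCoreOf (p := p) Rb) ⟨f e, hfe⟩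
          obtain ⟨v, hv⟩ := IsPGroup.iff_orderOf.1 (isPGroup_pCoreOf (p := r) H) ⟨(e : G), heH⟩
          rw [Subgroup.orderOf_mk] at hu hv
          rw [Subgroup.orderOf_coe] at hv
          exact orderOf_eq_one_iff.1 (Nat.eq_one_of_dvd_coprimes
            (Nat.Coprime.pow u v ((Nat.coprime_primes hp hr.1).2 (Ne.symm hrp))) (hu ▸ dvd_rfl)
            (hv ▸ orderOf_map_dvd f e))
        rw [he, map_mul, map_mul, map_mul, map_inv, map_inv, show f x = y from hxy, mul_inv_eq_one,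
          mul_inv_eq_iff_eq_mul] at he1
        exact he1.symm
    -- `Q` is generated by commutators with `Mr`
    have hMrQ : Mr ≤ Subgroup.normalizer (Q : Set G) := inf_le_left.trans hMQ
    have hco : (Nat.card Mr).Coprime (Nat.card Q) := by
      obtain ⟨i, hi⟩ := IsPGroup.iff_card.1 ((isPGroup_pCoreOf (p := r) H).to_le (inf_le_right : Mr ≤ _))
      obtain ⟨j, hj⟩ := IsPGroup.iff_card.1 hQ
      rw [hi, hj]
      exact Nat.Coprime.pow i j ((Nat.coprime_primes hr.1 hq.out).2 fun h => hqF (h ▸ hr.2.1))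
    have hQ0 : Q ⊓ Subgroup.centralizer (Mr : Set G) = ⊥ := by
      refine eq_bot_iff.2 fun c hc => Subgroup.mem_bot.2 ?_
      obtain ⟨hcQ, hcMr⟩ := hc
      have hcH : c ∈ H := d.centralizer_le hr.2.1 (Subgroup.mem_centralizer_iff.2 fun m hm =>
        Subgroup.mem_centralizer_iff.1 hcMr m ⟨d.ctr_le hm, hm.1⟩)
      refine d.fixed_trivial hR hXR (hQR hcQ) (d.mem_centralizer fun s hs _ m hm => ?_) ?_
      · by_cases hsq : s = q
        · subst hsq
          have hm1 : m = 1 := by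
            have h := hm.2
            rw [pCoreOf_eq_bot hqF] at h
            exact Subgroup.mem_bot.1 h
          rw [hm1, mul_one, one_mul]
        haveI := Fact.mk hs
        have h1 : c * m * c⁻¹ * m⁻¹ ∈ Q ⊓ pCoreOf s H := by
          refine ⟨?_, Subgroup.mul_mem _ ((Subgroup.mem_normalizer_iff.1 (le_normalizer_pCoreOf H hcH) m).1 hm.2)
            (Subgroup.inv_mem _ hm.2)⟩
          rw [show c * m * c⁻¹ * m⁻¹ = c * (m * c⁻¹ * m⁻¹) by group]
          exact Subgroup.mul_mem _ hcQ ((Subgroup.mem_normalizer_iff.1 (hMQ hm.1) _).1 (Subgroup.inv_mem _ hcQ))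
        rw [Solv.coprime_inf (by
          obtain ⟨i, hi⟩ := IsPGroup.iff_card.1 hQ
          obtain ⟨j, hj⟩ := IsPGroup.iff_card.1 (isPGroup_pCoreOf (p := s) H)
          rw [hi, hj]
          exact Nat.Coprime.pow i j ((Nat.coprime_primes hq.out hs).2 (Ne.symm hsq))), Subgroup.mem_bot,
          mul_inv_eq_one, mul_inv_eq_iff_eq_mul] at h1
        exact h1
      · obtain ⟨i, hi⟩ := IsPGroup.iff_orderOf.1 hQ ⟨c, hcQ⟩
        rw [Subgroup.orderOf_mk] at hi
        rw [hi]
        exact ((Nat.Prime.coprime_iff_not_dvd hq.out).2 hqF).pow_left i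
    have hgen := Solv.commutator_sup_fixed hMrQ hco
      (Or.inl (by
        haveI := ((isPGroup_pCoreOf (p := r) H).to_le (inf_le_right : Mr ≤ _)).isNilpotent
        infer_instance))
    rw [hQ0, sup_bot_eq] at hgen
    rintro _ ⟨z, hz, rfl⟩
    set C := (Subgroup.centralizer (P : Set (↥Γ ⧸ O))).comap f with hC
    have hzC : (z : G) ∈ C.map Γ.subtype := by
      have hz' : (z : G) ∈ ⁅Q, Mr⁆ := hgen.ge hz
      refine (Subgroup.commutator_le.2 fun u hu b hb => ?_) hz'
      refine ⟨⁅(⟨u, hQΓ hu⟩ : ↥Γ), ⟨b, hMΓ hb.1⟩⁆, ?_, rfl⟩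
      rw [SetLike.mem_coe, hC, Subgroup.mem_comap, map_commutatorElement, commutatorElement_def,
        mul_assoc, mul_assoc]
      have hb' := hMrP ⟨b, hMΓ hb.1⟩ hb
      set ub := f ⟨u, hQΓ hu⟩
      set bb := f ⟨b, hMΓ hb.1⟩
      refine Subgroup.mem_centralizer_iff.2 fun w hw => ?_
      have huP : ub ∈ Subgroup.normalizer (P : Set (↥Γ ⧸ O)) :=
        le_normalizer_pCoreOf Rb (Subgroup.mem_map_of_mem f (show (⟨u, hQΓ hu⟩ : ↥Γ) ∈ R.subgroupOf Γ from hQR hu))
      have e1 : w * bb⁻¹ = bb⁻¹ * w := ((show Commute w bb from Subgroup.mem_centralizer_iff.1 hb' w hw).inv_right).eq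
      have hw' : ub⁻¹ * w * ub ∈ P := by
        simpa using (Subgroup.mem_normalizer_iff.1 (inv_mem huP) w).1 hw
      have e2 : ub⁻¹ * w * ub * bb = bb * (ub⁻¹ * w * ub) := Subgroup.mem_centralizer_iff.1 hb' _ hw'
      calc w * (ub * (bb * (ub⁻¹ * bb⁻¹))) = ub * (ub⁻¹ * w * ub * bb) * ub⁻¹ * bb⁻¹ := by group
        _ = ub * (bb * (ub⁻¹ * w * ub)) * ub⁻¹ * bb⁻¹ := by rw [e2]
        _ = ub * bb * ub⁻¹ * (w * bb⁻¹) := by group
        _ = ub * (bb * (ub⁻¹ * bb⁻¹)) * w := by rw [e1]; group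
    obtain ⟨z', hz', hzz⟩ := hzC
    rw [← Γ.subtype_injective hzz]
    exact hz'
  have hQF : Qb ≤ fittingOf Rb := by
    intro y hy
    refine ⟨⟨y, hQbR hy⟩, Solv.centralizer_fitting_le inferInstance
      (Subgroup.mem_centralizer_iff.2 fun z hz => Subtype.ext ?_), rfl⟩
    have hle : fittingOf Rb ≤ Subgroup.centralizer ({y} : Set (↥Γ ⧸ O)) := by
      rw [fittingOf_eq]
      exact iSup_le fun t w hw => Subgroup.mem_centralizer_singleton_iff.2
        (Subgroup.mem_centralizer_iff.1 (hcen t t.2 hy) w hw)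
    exact (Subgroup.mem_centralizer_singleton_iff.1 (hle ⟨z, hz, rfl⟩) :)
  have hQb1 : Qb = ⊥ := le_bot_iff.1 ((le_pCoreOf_of_le_fitting ((hQ.comap_subtype).map f) hQF).trans
    (hbot q hq.out hqF).le)
  intro x hx
  have h1 : f ⟨x, hQΓ hx⟩ ∈ (⊥ : Subgroup (↥Γ ⧸ O)) :=
    hQb1.le (Subgroup.mem_map_of_mem f (show (⟨x, hQΓ hx⟩ : ↥Γ) ∈ Q.subgroupOf Γ from hx))
  exact Subgroup.mem_subgroupOf.1 ((QuotientGroup.eq_one_iff _).1 (Subgroup.mem_bot.1 h1))

/-- The unique maximal invariant `q`-subgroup. -/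
theorem Data.exists_unique (d : Data H M) (hR : Group.IsSolvable ↥R) (hMR : M ≤ Subgroup.normalizer (R : Set G))
    (hXR : H ⊓ Subgroup.centralizer (fittingOf H : Set G) ≤ Subgroup.normalizer (R : Set G)) {q : ℕ} [hq : Fact q.Prime]
    (hqF : ¬ q ∣ Nat.card (fittingOf H)) :
    ∃! Q : Subgroup G, Q ∈ maxInvSubgroups R M {q} ∧
      (∀ Q' : Subgroup G, Q' ∈ maxInvSubgroups R M {q} →
        Q' ≤ piCoreOf (primesNotDvd (Nat.card (fittingOf H))) R ∧
        ¬ q ∣ Q'.relIndex (piCoreOf (primesNotDvd (Nat.card (fittingOf H))) R)) := by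
  set W := piCoreOf (primesNotDvd (Nat.card (fittingOf H))) R with hW
  have hWR : W ≤ R := Subgroup.map_subtype_le _
  have hMW : M ≤ Subgroup.normalizer (W : Set G) := hMR.trans (normalizer_le_piCore R)
  have hco : (Nat.card M).Coprime (Nat.card W) := Nat.coprime_of_dvd fun t ht h1 h2 =>
    (piCoreOf_pi ht h2).2 (h1.trans (Subgroup.card_dvd_of_le d.le))
  have hsol : Group.IsSolvable ↥M ∨ Group.IsSolvable ↥W := Or.inr (Solv.isSolvable_of_le hWR hR)
  have hfix : W ⊓ Subgroup.centralizer (M : Set G) = ⊥ := eq_bot_iff.2 fun c hc =>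
    Subgroup.mem_bot.2 (d.fixed_trivial hR hXR (hWR hc.1) hc.2 (Nat.coprime_of_dvd fun t ht h1 h2 =>
      (piCoreOf_pi ht (h1.trans (Subgroup.orderOf_dvd_natCard _ hc.1))).2 h2))
  have hpi : ∀ Y : Subgroup G, IsPGroup q Y → ∀ t : ℕ, t.Prime → t ∣ Nat.card Y → t ∈ ({q} : Set ℕ) := by
    intro Y hY t ht hd
    obtain ⟨j, hj⟩ := IsPGroup.iff_card.1 hY
    rw [hj] at hd
    exact (Nat.prime_dvd_prime_iff_eq ht hq.out).1 (ht.dvd_of_dvd_pow hd)
  have hmax : ∀ Q ∈ maxInvSubgroups R M {q}, Solv.IsSylIn q Q W ∧ M ≤ Subgroup.normalizer (Q : Set G) := by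
    rintro Q ⟨⟨hQR, hQπ, hMQ⟩, hmax⟩
    have hQq : IsPGroup q Q := IsPGroup.of_card (n := (Nat.card Q).primeFactorsList.length)
      (Nat.eq_prime_pow_of_unique_prime_dvd Nat.card_pos.ne' fun ht hd => hQπ _ ht hd)
    obtain ⟨P, hP, hQP, hMP⟩ := Solv.exists_invariant_sylow_ge hMW hco hsol Q
      (d.inv_le_core hR hMR hXR hqF hQq hQR hMQ) hQq hMQ
    obtain rfl := hmax P ⟨hP.1.trans hWR, hpi P hP.isPGroup, hMP⟩ hQP
    exact ⟨hP, hMQ⟩
  obtain ⟨P, hP, hMP⟩ := Solv.exists_invariant_sylow hMW hco hsol q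
  have huniq : ∀ Q : Subgroup G, Solv.IsSylIn q Q W → M ≤ Subgroup.normalizer (Q : Set G) → Q = P := by
    intro Q hQ hMQ
    obtain ⟨c, hc, hcP⟩ := Solv.invariant_sylow_conj hMW hco hsol hP hQ hMP hMQ
    rw [hfix, Subgroup.mem_bot] at hc
    rw [← hcP, hc, map_one, one_smul]
  have hPmax : P ∈ maxInvSubgroups R M {q} := by
    refine ⟨⟨hP.1.trans hWR, hpi P hP.isPGroup, hMP⟩, fun Q ⟨hQR, hQπ, hMQ⟩ hPQ => ?_⟩
    have hQq : IsPGroup q Q := IsPGroup.of_card (n := (Nat.card Q).primeFactorsList.length)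
      (Nat.eq_prime_pow_of_unique_prime_dvd Nat.card_pos.ne' fun ht hd => hQπ _ ht hd)
    exact (hP.eq_of_le hQq (d.inv_le_core hR hMR hXR hqF hQq hQR hMQ) hPQ).symm
  refine ⟨P, ⟨hPmax, fun Q hQ => ?_⟩, fun Q hQ => ?_⟩
  · obtain ⟨hQW, -⟩ := hmax Q hQ
    exact ⟨hQW.1, (Sig.sylIn_of_isSylIn hQW).not_dvd⟩
  · obtain ⟨h1, h2⟩ := hmax Q hQ.1
    exact huniq Q h1 h2

end Cfsg.Agent.OddLocal.Bender.MaxInv
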