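import Cfsg.Agent.Lib.OddLocal.Decomposition
import Cfsg.Agent.Lib.OddLocal.BenderMaxInv

/-!
`F(M)` as `F(M_σ)` times a cyclic `τ₂(M)`-group.
-/

set_option autoImplicit false
set_option linter.style.haveILetI false

namespace Cfsg.Agent.OddLocal.FitParts

open Cfsg
open Cfsg.Agent.Fusion (SylIn cj cj_eq_self cj_mono card_cj)
open Cfsg.Agent.OddLocal.Uniq
open Cfsg.Agent.OddLocal.Sig
open Cfsg.Agent.OddLocal.RankTwo
open Cfsg.Agent.OddLocal.TauTwo

universe u

variable {G : Type u} [Group G] [Finite G] {M : Subgroup G}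

/-- `M_σ` is nontrivial. -/
theorem sigmaCore_ne_bot (hG : IsMinSimpleOddOrder G) (hM : IsCoatom M) : sigmaCore M ≠ ⊥ := by
  intro h
  have hall := (sigmaCore_hall hG hM).1
  have hσ : ∀ r : ℕ, r.Prime → r ∣ Nat.card M → r ∉ sigma M := fun r hr hd hσ => by
    have h1 := hall.2.2 r hr hσ
    rw [h, Subgroup.relIndex_bot_left] at h1
    exact h1 hd
  have hr : RankLE 2 ↥M := fun r hr => by
    haveI := Fact.mk hr
    by_cases hd : r ∣ Nat.card M
    · exact prankLE_of_not_alpha hr (not_alpha_of_not_sigma hG hM (hσ r hr hd))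
    · intro B hBc hBe
      obtain ⟨j, hj⟩ := IsPGroup.iff_card.1 (show IsPGroup r ↥B from
        fun b => ⟨1, Subtype.ext (by rw [pow_one]; exact hBe b b.2)⟩)
      rcases Nat.eq_zero_or_pos j with h0 | h0
      · rw [hj, h0, pow_zero]; exact Nat.one_le_pow _ _ hr.pos
      · exact absurd (((dvd_pow_self r h0.ne').trans hj.symm.dvd).trans (Subgroup.card_subgroup_dvd_card B)) hd
  have hM1 : M ≠ ⊥ := Uniq.coatom_ne_bot hG hM
  obtain ⟨q, hq, hqσ⟩ := exists_sigma_of_alpha_trivial hG hM hM1 hr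
  exact hσ q hq hqσ.2.1 hqσ

theorem fitting_parts (hG : IsMinSimpleOddOrder G) (hM : IsCoatom M) :
    IsCyclic ↥(piCoreOf {q | q.Prime ∧ q ∉ sigma M} (fittingOf M)) ∧
      (∀ p : ℕ, p.Prime → p ∣ Nat.card ↥(piCoreOf {q | q.Prime ∧ q ∉ sigma M} (fittingOf M)) → p ∈ tau2 M) ∧
      fittingOf M = fittingOf (sigmaCore M) ⊔ piCoreOf {q | q.Prime ∧ q ∉ sigma M} (fittingOf M) := by
  set F := fittingOf M with hF
  set Y := piCoreOf {q | q.Prime ∧ q ∉ sigma M} F with hY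
  haveI hFn : Group.IsNilpotent ↥F := TypePBasic.fittingOf_nilpotent M
  have hFM : F ≤ M := Subgroup.map_subtype_le _
  have hYF : Y ≤ F := Subgroup.map_subtype_le _
  have hYM : Y ≤ M := hYF.trans hFM
  haveI hYn : Group.IsNilpotent ↥Y := Group.nilpotent_of_mulEquiv (Subgroup.subgroupOfEquivOfLe hYF)
  have hYσ : ∀ q : ℕ, q.Prime → q ∣ Nat.card Y → q ∉ sigma M := fun q hq hd => (Bender.MaxInv.piCoreOf_pi hq hd).2
  have hMY : M ≤ Subgroup.normalizer (Y : Set G) :=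
    (Bender.MaxInv.le_normalizer_fittingOf M).trans (Bender.MaxInv.normalizer_le_piCore F)
  have hab : IsMulCommutative ↥Y := nilpotent_abelian hG hM hYM hYn hYσ
  have hMσ : M ≤ Subgroup.normalizer (sigmaCore M : Set G) := le_normalizer_piCoreOf
  have hσM : sigmaCore M ≤ M := Subgroup.map_subtype_le _
  -- `Y` centralizes `M_σ`
  have hYC : Y ≤ Subgroup.centralizer (sigmaCore M : Set G) := fun y hy => Subgroup.mem_centralizer_iff.2 fun x hx => by
    have hinf : Y ⊓ sigmaCore M = ⊥ := Solv.coprime_inf (Nat.coprime_of_dvd fun q hq h1 h2 =>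
      hYσ q hq h1 ((sigmaCore_hall hG hM).1.2.1 q hq h2))
    have h1 : x * y * x⁻¹ * y⁻¹ ∈ Y ⊓ sigmaCore M := by
      refine ⟨Subgroup.mul_mem _ ((Subgroup.mem_normalizer_iff.1 (hMY (hσM hx)) y).1 hy) (Subgroup.inv_mem _ hy), ?_⟩
      rw [show x * y * x⁻¹ * y⁻¹ = x * (y * x⁻¹ * y⁻¹) by group]
      exact Subgroup.mul_mem _ hx ((Subgroup.mem_normalizer_iff.1 (hMσ (hYM hy)) _).1 (Subgroup.inv_mem _ hx))
    rw [hinf, Subgroup.mem_bot, mul_inv_eq_one, mul_inv_eq_iff_eq_mul] at h1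
    exact h1
  have hrank : ∀ q : ℕ, q.Prime → q ∣ Nat.card Y → PRankLE q 1 ↥Y := fun q hq hd => by
    haveI := Fact.mk hq
    by_contra hr
    obtain ⟨B, hBY, hBe, hBc⟩ := exists_elab_of_prank hr
    obtain ⟨j, hj⟩ := IsPGroup.iff_card.1 (Fusion.elab_isPGroup hBe)
    have hj2 : 2 ≤ j := (Nat.pow_le_pow_iff_right hq.one_lt).1 (hj ▸ hBc)
    obtain ⟨C₀, hC₀⟩ := Sylow.exists_subgroup_card_pow_prime q (hj ▸ pow_dvd_pow q hj2 : q ^ 2 ∣ Nat.card ↥B)
    set C := C₀.map B.subtype with hCdef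
    have hCB : C ≤ B := Subgroup.map_subtype_le _
    have hCc : Nat.card C = q ^ 2 := by rw [hCdef, Subgroup.card_map_of_injective B.subtype_injective, hC₀]
    have hCe : IsElementaryAbelian q C := ⟨⟨⟨fun u v => Subtype.ext (congrArg Subtype.val
      (hBe.1.is_comm.comm (⟨u, hCB u.2⟩ : B) ⟨v, hCB v.2⟩) :)⟩⟩, fun u hu => hBe.2 u (hCB hu)⟩
    have s : Setup q M C := ⟨hG, hM, hYσ q hq hd, hCB.trans (hBY.trans hYM), hCe, hCc⟩
    have h1 := TauTwo.sigmaCore_inf_centralizer s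
    rw [inf_eq_left.2 (Subgroup.le_centralizer_iff.1 ((hCB.trans hBY).trans hYC))] at h1
    exact TauTwo.sigmaCore_ne_bot s h1
  have hcyc := cyclic_of_rank_one hG hab hrank
  refine ⟨hcyc, fun q hq hd => ?_, le_antisymm ?_ (sup_le ?_ hYF)⟩
  · haveI := Fact.mk hq
    have hσ := hYσ q hq hd
    refine (classify hG hM hq hσ (hd.trans (Subgroup.card_dvd_of_le hYM))).resolve_right fun h13 => ?_
    obtain ⟨⟨w, hwY⟩, hwo⟩ := exists_prime_orderOf_dvd_card' q hd
    rw [Subgroup.orderOf_mk] at hwo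
    have hwc : Nat.card (Subgroup.zpowers w) = q := by rw [Nat.card_zpowers, hwo]
    have hWY : Subgroup.zpowers w ≤ Y := Subgroup.zpowers_le.2 hwY
    have hMW : M ≤ Subgroup.normalizer (Subgroup.zpowers w : Set G) := fun m hm =>
      Fusion.mem_normalizer_of_cj_le (le_of_eq (cyclic_eq hcyc ((cj_mono hWY m).trans (cj_eq_self (hMY hm)).le) hWY
        (by rw [card_cj, hwc]) hwc))
    have hN : Subgroup.normalizer (Subgroup.zpowers w : Set G) ≤ M :=
      le_of_eq (((hM.le_iff).1 hMW).resolve_left (normalizer_pgroup_ne_top hG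
        (IsPGroup.of_card (n := 1) (by rw [pow_one, hwc])) (ne_bot_of_card hwc)))
    exact (order_p_normalizer hG hM hσ hwc hN).1.2 (h13.elim (fun h => h.2.2.2.2) fun h => h.2.2.2)
  · rw [hF, Bender.fittingOf_eq]
    refine iSup_le fun q => ?_
    haveI := Fact.mk q.2
    have hle : pCoreOf (q : ℕ) M ≤ M := Subgroup.map_subtype_le _
    have hn : M ≤ Subgroup.normalizer (pCoreOf (q : ℕ) M : Set G) := Bender.le_normalizer_pCoreOf M
    by_cases hσ : (q : ℕ) ∈ sigma M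
    · have h1 : pCoreOf (q : ℕ) M ≤ sigmaCore M :=
        le_of_hall (sigmaCore_hall hG hM).1 le_normalizer_piCoreOf hle (piNum_of_pgroup (Bender.isPGroup_pCoreOf M) hσ)
      exact le_sup_of_le_left (Bender.MaxInv.le_fittingOf h1 (hσM.trans hn) (Bender.isPGroup_pCoreOf M).isNilpotent)
    · refine le_sup_of_le_right (Bender.MaxInv.le_piCoreOf (Bender.pCoreOf_le_fittingOf M) (hFM.trans hn) fun r hr hd => ?_)
      obtain ⟨i, hi⟩ := IsPGroup.iff_card.1 (Bender.isPGroup_pCoreOf (p := (q : ℕ)) M)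
      rw [hi] at hd
      obtain rfl := (Nat.prime_dvd_prime_iff_eq hr q.2).1 (hr.dvd_of_dvd_pow hd)
      exact ⟨hr, hσ⟩
  · exact Bender.MaxInv.le_fittingOf ((Subgroup.map_subtype_le _).trans hσM)
      (hMσ.trans (Bender.MaxInv.normalizer_le_fitting _)) (TypePBasic.fittingOf_nilpotent _)

end Cfsg.Agent.OddLocal.FitParts
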