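import Cfsg.Agent.Lib.OddLocal.KappaFitting
import Cfsg.Agent.Lib.OddLocal.FittingParts
import Cfsg.Agent.Lib.Solv.AbelianConj
import Cfsg.Agent.Lib.Solv.FrobeniusCyclicFix

/-!
The derived series of a maximal subgroup against `M_F` and `F(M)`.
-/

set_option autoImplicit false
set_option linter.style.haveILetI false

namespace Cfsg.Agent.OddLocal.Kappa

open scoped Pointwise commutatorElement
open Cfsg
open Cfsg.Agent.Fusion (SylIn cj cj_cj cj_eq_self cj_mono card_cj exists_sylIn)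
open Cfsg.Agent.OddLocal.Uniq
open Cfsg.Agent.OddLocal.Sig
open Cfsg.Agent.OddLocal.RankTwo
open Cfsg.Agent.OddLocal.TauTwo
open Cfsg.Agent.OddLocal.Prime

universe u

variable {G : Type u} [Group G] [Finite G] {M E K U : Subgroup G}

omit [Finite G] in
theorem isNilpotent_of_le {X Y : Subgroup G} (h : X ≤ Y) [Group.IsNilpotent ↥Y] : Group.IsNilpotent ↥X :=
  Subgroup.isNilpotent_of_ker_le_center (Subgroup.inclusion h) (by
    rw [(MonoidHom.ker_eq_bot_iff _).2 (Subgroup.inclusion_injective h)]; exact bot_le)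

/-- Every maximal subgroup has a factorisation. -/
theorem exists_full_decomp (hG : IsMinSimpleOddOrder G) (hM : IsCoatom M) :
    ∃ K U : Subgroup G, IsSigmaDecomposition M K U := by
  obtain ⟨K, hK, -⟩ := exists_hall_ge hG hM.1 (kappa M) (bot_le : (⊥ : Subgroup G) ≤ M)
    fun p hp hd => absurd (Nat.le_of_dvd one_pos (by rwa [Subgroup.card_bot] at hd)) (not_le.2 hp.one_lt)
  obtain ⟨U, hU⟩ := exists_decomp hG hM hK (hall_cyclic hG hM hK)
  exact ⟨K, U, hU⟩

theorem derived_lt (hG : IsMinSimpleOddOrder G) (hM : IsCoatom M) : ⁅M, M⁆ < M := by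
  refine lt_of_le_of_ne (Subgroup.commutator_le_self M) fun h => ?_
  haveI := hG.2.2.2 M hM.1
  have hσ := FitParts.sigmaCore_ne_bot hG hM
  haveI : Nontrivial ↥M := (Subgroup.nontrivial_iff_ne_bot M).2 fun h => hσ
    (le_bot_iff.1 ((Subgroup.map_subtype_le _).trans h.le))
  refine (Group.IsSolvable.commutator_lt_top_of_nontrivial ↥M).ne (Subgroup.map_injective M.subtype_injective ?_)
  rw [Subgroup.map_subtype_commutator, h, ← MonoidHom.range_eq_map, Subgroup.range_subtype]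

theorem U_ne_bot_of_K (hG : IsMinSimpleOddOrder G) (hM : IsCoatom M) (hKU : IsSigmaDecomposition M K U)
    (hU : U = ⊥) : K ≠ ⊥ := by
  intro hK
  have hle : M ≤ sigmaCore M := fun m hm => by
    obtain ⟨u, hu, s, hs, rfl⟩ := hKU.compl.2.2.2 m hm
    rw [hU, Subgroup.mem_bot] at hu
    rw [hK, bot_sup_eq] at hs
    rwa [hu, one_mul]
  exact (derived_lt hG hM).not_ge (hle.trans (core_le_derived hG hM))

/-- `M'` is inside `E' M_σ`. -/
theorem derived_le_compl (hE : IsComplIn E (sigmaCore M) M) : ⁅M, M⁆ ≤ ⁅E, E⁆ ⊔ sigmaCore M := by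
  have hσM : sigmaCore M ≤ M := Subgroup.map_subtype_le _
  have hR : ⁅E, E⁆ ⊔ sigmaCore M ≤ M := sup_le ((Subgroup.commutator_le_self E).trans hE.1) hσM
  have hmul : ∀ m ∈ M, ∃ d ∈ sigmaCore M, ∃ e ∈ E, m = d * e := by
    intro m hm
    obtain ⟨e, he, s, hs, rfl⟩ := hE.2.2.2 m hm
    exact ⟨e * s * e⁻¹, (Subgroup.mem_normalizer_iff.1 (le_normalizer_piCoreOf (hE.1 he)) s).1 hs, e, he, by group⟩
  have hσ : ∀ m ∈ M, ∀ s ∈ sigmaCore M, m * s * m⁻¹ ∈ sigmaCore M := fun m hm s hs =>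
    (Subgroup.mem_normalizer_iff.1 (le_normalizer_piCoreOf hm) s).1 hs
  refine derived_le_of_mul (fun m hm => Fusion.mem_normalizer_of_cj_le ?_) hR hσM hE.1 hmul
    (fun a ha b hb => Subgroup.mem_sup_right (Subgroup.commutator_le_self _ (Subgroup.commutator_mem_commutator ha hb)))
    (fun a ha b hb => Subgroup.mem_sup_left (Subgroup.commutator_mem_commutator ha hb))
    (fun a ha b hb => Subgroup.mem_sup_right (by
      rw [commutatorElement_def, show a * b * a⁻¹ * b⁻¹ = a * (b * a⁻¹ * b⁻¹) by group]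
      exact Subgroup.mul_mem _ ha (hσ b (hE.1 hb) _ (Subgroup.inv_mem _ ha))))
  obtain ⟨d, hd, e, he, rfl⟩ := hmul m hm
  show cj (⁅E, E⁆ ⊔ sigmaCore M) (d * e) ≤ _
  rw [← cj_cj]
  have h1 : cj (⁅E, E⁆ ⊔ sigmaCore M) e ≤ ⁅E, E⁆ ⊔ sigmaCore M := by
    show Subgroup.map _ (⁅E, E⁆ ⊔ sigmaCore M) ≤ _
    rw [Subgroup.map_sup, Subgroup.map_commutator]
    exact sup_le ((Subgroup.commutator_mono (cj_eq_self (Subgroup.le_normalizer he)).le
      (cj_eq_self (Subgroup.le_normalizer he)).le).trans le_sup_left)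
      ((cj_eq_self (le_normalizer_piCoreOf (hE.1 he))).le.trans le_sup_right)
  exact (cj_mono h1 d).trans (cj_eq_self (Subgroup.le_normalizer (Subgroup.mem_sup_right hd))).le

/-- The derived group of a complement of `M_σ` is abelian. -/
theorem compl_derived_abelian (hG : IsMinSimpleOddOrder G) (hM : IsCoatom M) (hE : IsComplIn E (sigmaCore M) M) :
    IsMulCommutative ↥⁅E, E⁆ := by
  haveI := (complement_structure hG hM hE).1
  refine Solv.AbelianConj.comm_of_nilpotent fun p hp X hX => ?_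
  haveI := Fact.mk hp
  have hle : X.map (⁅E, E⁆).subtype ≤ E := (Subgroup.map_subtype_le X).trans (Subgroup.commutator_le_self E)
  by_cases hd : p ∣ Nat.card E
  · have h := pgroup_abelian hG hM (compl_pi hG hM hE hp hd) (hX.map _) (hle.trans hE.1)
    refine ⟨⟨fun a b => Subtype.ext (Subtype.ext ?_)⟩⟩
    have h' := congrArg Subtype.val (h.is_comm.comm (⟨_, Subgroup.mem_map_of_mem _ a.2⟩ : X.map (⁅E, E⁆).subtype)
      ⟨_, Subgroup.mem_map_of_mem _ b.2⟩)
    exact h'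
  · have h1 : Nat.card X = 1 := by
      obtain ⟨j, hj⟩ := IsPGroup.iff_card.1 hX
      rcases Nat.eq_zero_or_pos j with h0 | h0
      · rw [hj, h0, pow_zero]
      · exact absurd ((dvd_pow_self p h0.ne').trans (hj ▸
          (Subgroup.card_map_of_injective (⁅E, E⁆).subtype_injective).symm.dvd.trans (Subgroup.card_dvd_of_le hle))) hd
    rw [Subgroup.card_eq_one] at h1
    subst h1
    exact ⟨⟨fun a b => Subsingleton.elim _ _⟩⟩

/-- `M''` lies in `M_σ`. -/
theorem second_le_core (hG : IsMinSimpleOddOrder G) (hM : IsCoatom M) : ⁅⁅M, M⁆, ⁅M, M⁆⁆ ≤ sigmaCore M := by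
  obtain ⟨E, hE⟩ := exists_compl hG hM
  have hσM : sigmaCore M ≤ M := Subgroup.map_subtype_le _
  have hEM : ⁅E, E⁆ ≤ M := (Subgroup.commutator_le_self E).trans hE.1
  have hn : ⁅E, E⁆ ⊔ sigmaCore M ≤ Subgroup.normalizer (sigmaCore M : Set G) :=
    (sup_le hEM hσM).trans le_normalizer_piCoreOf
  have hab := compl_derived_abelian hG hM hE
  refine (Subgroup.commutator_mono (derived_le_compl hE) (derived_le_compl hE)).trans
    (derived_le_of_mul (D := sigmaCore M) (K := ⁅E, E⁆) hn le_sup_right le_sup_right le_sup_left (fun m hm => ?_)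
      (fun a ha b hb => Subgroup.commutator_le_self _ (Subgroup.commutator_mem_commutator ha hb))
      (fun a ha b hb => ?_) fun a ha b hb => ?_)
  · rw [← SetLike.mem_coe, Subgroup.coe_mul_of_left_le_normalizer_right ⁅E, E⁆ (sigmaCore M)
      (hEM.trans (le_normalizer_piCoreOf : M ≤ Subgroup.normalizer (sigmaCore M : Set G)))] at hm
    obtain ⟨e, he, s, hs, rfl⟩ := hm
    exact ⟨e * s * e⁻¹, (Subgroup.mem_normalizer_iff.1 (le_normalizer_piCoreOf (hEM he)) s).1 hs, e, he, by group⟩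
  · rw [commutatorElement_eq_one_iff_commute.2 (congrArg Subtype.val (hab.is_comm.comm (⟨a, ha⟩ : ↥⁅E, E⁆) ⟨b, hb⟩))]
    exact one_mem _
  · rw [commutatorElement_def, show a * b * a⁻¹ * b⁻¹ = a * (b * a⁻¹ * b⁻¹) by group]
    exact Subgroup.mul_mem _ ha ((Subgroup.mem_normalizer_iff.1 (le_normalizer_piCoreOf (hEM hb)) _).1
      (Subgroup.inv_mem _ ha))

/-- With `U = 1`: an invariant complement of the normal Sylow subgroup. -/
theorem exists_Q_compl (hG : IsMinSimpleOddOrder G) (hM : IsCoatom M) (hKU : IsSigmaDecomposition M K U)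
    (hK1 : K ≠ ⊥) (hU : U = ⊥) :
    ∃ Q D H₁ : Subgroup G, SylIn (Nat.card ↥(sigmaCore M ⊓ Subgroup.centralizer (K : Set G))) Q M ∧
      M ≤ Subgroup.normalizer (Q : Set G) ∧ Q ≤ fittingHallOf M ∧
      sigmaCore M ⊓ Subgroup.centralizer (K : Set G) ≤ Q ∧ IsComplIn Q D (sigmaCore M) ∧
      Group.IsNilpotent ↥D ∧ K ≤ Subgroup.normalizer (D : Set G) ∧ K ≤ H₁ ∧ D ≤ H₁ ∧ H₁ ≤ M ∧
      ¬ Nat.card ↥(sigmaCore M ⊓ Subgroup.centralizer (K : Set G)) ∣ Nat.card H₁ := by
  obtain ⟨Q, hQ, hQn, hQF, hCQ, hD⟩ := star_le_fittingHall_of_bot hG hM hKU hK1 hU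
  have hprime := star_prime hG hM hKU hK1 hU
  set q := Nat.card ↥(sigmaCore M ⊓ Subgroup.centralizer (K : Set G)) with hq
  haveI := Fact.mk hprime
  have hqσ : q ∈ sigma M := (sigmaCore_hall hG hM).1.2.1 q hprime (Subgroup.card_dvd_of_le inf_le_left)
  obtain ⟨H₁, hH, hKH⟩ := exists_hall_ge hG hM.1 ({q}ᶜ) (Decomp.K_le hKU) fun p hp hd (hpq : p = q) =>
    (hKU.hall.2.1 p hp hd).2.2.1 (hpq ▸ hqσ)
  have hqH : ¬ q ∣ Nat.card H₁ := fun hd => hH.2.1 q hprime hd rfl
  have hσn : M ≤ Subgroup.normalizer (sigmaCore M : Set G) := le_normalizer_piCoreOf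
  have hQσ : Q ≤ sigmaCore M := hQF.trans (Support.fittingHallOf_le hG hM)
  have hsup : M ≤ Q ⊔ H₁ := by
    have hle : Q ⊔ H₁ ≤ M := sup_le hQ.le hH.1
    have h1 : (Q ⊔ H₁).relIndex M = 1 := by
      by_contra hne
      obtain ⟨p, hp, hpd⟩ := Nat.exists_prime_and_dvd hne
      by_cases hpq : p = q
      · exact hQ.not_dvd (hpq ▸ hpd.trans (Subgroup.relIndex_dvd_of_le_left M le_sup_left))
      · exact hH.2.2 p hp hpq (hpd.trans (Subgroup.relIndex_dvd_of_le_left M le_sup_right))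
    exact Subgroup.relIndex_eq_one.1 h1
  have hC : IsComplIn Q (H₁ ⊓ sigmaCore M) (sigmaCore M) := by
    refine ⟨hQσ, inf_le_right, ?_, fun m hm => ?_⟩
    · refine Solv.coprime_inf (Nat.Coprime.coprime_dvd_right (Subgroup.card_dvd_of_le inf_le_left) ?_)
      obtain ⟨j, hj⟩ := IsPGroup.iff_card.1 hQ.isPGroup
      rw [hj]
      exact (hprime.coprime_iff_not_dvd.2 hqH).pow_left j
    · have h := hsup ((Subgroup.map_subtype_le _ : sigmaCore M ≤ M) hm)
      rw [← SetLike.mem_coe, Subgroup.coe_mul_of_right_le_normalizer_left _ _ (hH.1.trans hQn)] at h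
      obtain ⟨x, hx, y, hy, rfl⟩ := h
      refine ⟨x, hx, y, ⟨hy, ?_⟩, rfl⟩
      simpa using Subgroup.mul_mem _ (Subgroup.inv_mem _ (hQσ hx)) hm
  refine ⟨Q, H₁ ⊓ sigmaCore M, H₁, hQ, hQn, hQF, hCQ, hC, hD _ hC, fun k hk => ?_, hKH, inf_le_left, hH.1, hqH⟩
  refine Subgroup.mem_normalizer_iff.2 fun y => ?_
  have h1 := Subgroup.mem_normalizer_iff.1 (Subgroup.le_normalizer (hKH hk)) y
  have h2 := Subgroup.mem_normalizer_iff.1 (hσn (Decomp.K_le hKU hk)) y
  exact ⟨fun h => ⟨h1.1 h.1, h2.1 h.2⟩, fun h => ⟨h1.2 h.1, h2.2 h.2⟩⟩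

/-- The derived group of the invariant complement centralizes `Q`. -/
theorem Q_compl_derived (hG : IsMinSimpleOddOrder G) (hM : IsCoatom M) (hKU : IsSigmaDecomposition M K U)
    (hK1 : K ≠ ⊥) (hU : U = ⊥) {Q D H₁ : Subgroup G}
    (hQ : SylIn (Nat.card ↥(sigmaCore M ⊓ Subgroup.centralizer (K : Set G))) Q M)
    (hQn : M ≤ Subgroup.normalizer (Q : Set G))
    (hCQ : sigmaCore M ⊓ Subgroup.centralizer (K : Set G) ≤ Q) (hC : IsComplIn Q D (sigmaCore M))
    (hD : Group.IsNilpotent ↥D) (hKD : K ≤ Subgroup.normalizer (D : Set G)) (hKH : K ≤ H₁) (hDH : D ≤ H₁)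
    (hHM : H₁ ≤ M) (hqH : ¬ Nat.card ↥(sigmaCore M ⊓ Subgroup.centralizer (K : Set G)) ∣ Nat.card H₁) :
    ⁅D, D⁆ ≤ Subgroup.centralizer (Q : Set G) := by
  have hprime := star_prime hG hM hKU hK1 hU
  set q := Nat.card ↥(sigmaCore M ⊓ Subgroup.centralizer (K : Set G)) with hq
  haveI := Fact.mk hprime
  haveI : (Q.subgroupOf M).Normal := (Subgroup.normal_subgroupOf_iff_le_normalizer hQ.le).2 hQn
  have hDM : D ≤ M := hDH.trans hHM
  have key := Solv.FrobFix.commutator_pgroup (q := q) (Q.subgroupOf M) (D.subgroupOf M) (K.subgroupOf M)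
    (hQ.isPGroup.of_injective (Subgroup.subgroupOfEquivOfLe hQ.le).toMonoidHom (MulEquiv.injective _))
    (fun e he => Subgroup.mem_normalizer_iff.2 fun d => by
      simpa [Subgroup.mem_subgroupOf] using Subgroup.mem_normalizer_iff.1 (hKD (Subgroup.mem_subgroupOf.1 he)) (d : G))
    (fun e he he1 u hu heu => ?_)
    (@Group.nilpotent_of_mulEquiv _ _ _ _ hD (Subgroup.subgroupOfEquivOfLe hDM).symm)
    (Nat.Coprime.coprime_dvd_left (Subgroup.card_dvd_of_le (sup_le (Subgroup.comap_mono hDH) (Subgroup.comap_mono hKH)))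
      (by rw [show Subgroup.comap M.subtype H₁ = H₁.subgroupOf M from rfl, Solv.card_subgroupOf hHM]; exact (hprime.coprime_iff_not_dvd.2 hqH).symm)) ?_
  · intro x hx
    have hxM : x ∈ M := hDM (Subgroup.commutator_le_self D hx)
    have h1 : (⟨x, hxM⟩ : ↥M) ∈ ⁅D.subgroupOf M, D.subgroupOf M⁆ := by
      have h2 : ⁅D, D⁆ = (⁅D.subgroupOf M, D.subgroupOf M⁆).map M.subtype := by
        rw [Subgroup.map_commutator, Subgroup.map_subgroupOf_eq_of_le hDM]
      rw [h2] at hx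
      obtain ⟨y, hy, rfl⟩ := hx
      exact hy
    exact Subgroup.mem_centralizer_iff.2 fun z hz => congrArg Subtype.val
      (Subgroup.mem_centralizer_iff.1 (key h1) (⟨z, hQ.le hz⟩ : ↥M) (Subgroup.mem_subgroupOf.2 hz))
  · have h1 : (u : G) ∈ sigmaCore M ⊓ Subgroup.centralizer (K : Set G) := by
      rw [← prime_action hG hM hKU.hall (Subgroup.mem_subgroupOf.1 he) (fun h => he1 (Subtype.ext h))]
      exact ⟨hC.2.1 hu, Subgroup.mem_centralizer_singleton_iff.2 (congrArg Subtype.val heu.symm)⟩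
    have h2 : (u : G) ∈ Q ⊓ D := ⟨hCQ h1, hu⟩
    rw [hC.2.2.1, Subgroup.mem_bot] at h2
    exact Subtype.ext h2
  · let f : ↥(Q.subgroupOf M ⊓ Subgroup.centralizer (K.subgroupOf M : Set ↥M)) →*
        ↥(sigmaCore M ⊓ Subgroup.centralizer (K : Set G)) :=
      (M.subtype.comp (Subgroup.subtype _)).codRestrict _ fun x => ⟨hC.1 x.2.1,
        Subgroup.mem_centralizer_iff.2 fun k hk => congrArg Subtype.val
          (Subgroup.mem_centralizer_iff.1 x.2.2 (⟨k, hKU.hall.1 hk⟩ : ↥M) (Subgroup.mem_subgroupOf.2 hk))⟩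
    haveI : IsCyclic ↥(sigmaCore M ⊓ Subgroup.centralizer (K : Set G)) := isCyclic_of_prime_card (p := q) rfl
    refine isCyclic_of_injective f fun a b h => Subtype.ext (Subtype.ext ?_)
    exact (show ((f a : ↥(sigmaCore M ⊓ Subgroup.centralizer (K : Set G))) : G) = f b by rw [h])

/-- `M''` lies in `F(M)`. -/
theorem second_le_fitting (hG : IsMinSimpleOddOrder G) (hM : IsCoatom M) :
    ⁅⁅M, M⁆, ⁅M, M⁆⁆ ≤ fittingOf M := by
  obtain ⟨K, U, hKU⟩ := exists_full_decomp hG hM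
  by_cases hU : U = ⊥
  swap
  · exact (second_le_core hG hM).trans (core_le_fitting (core_nilpotent_of_U hG hM hKU hU))
  have hK1 := U_ne_bot_of_K hG hM hKU hU
  obtain ⟨Q, D, H₁, hQ, hQn, -, hCQ, hC, hD, hKD, hKH, hDH, hHM, hqH⟩ := exists_Q_compl hG hM hKU hK1 hU
  haveI : Fact (Nat.card ↥(sigmaCore M ⊓ Subgroup.centralizer (K : Set G))).Prime := ⟨star_prime hG hM hKU hK1 hU⟩
  have hcD := Q_compl_derived hG hM hKU hK1 hU hQ hQn hCQ hC hD hKD hKH hDH hHM hqH
  have hσM : sigmaCore M ≤ M := Subgroup.map_subtype_le _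
  have hMd : ⁅M, M⁆ = sigmaCore M := by rw [derived_eq hG hM hKU hK1, hU, bot_sup_eq]
  rw [hMd]
  set R := Q ⊔ ⁅D, D⁆ with hR
  have hDσ : ⁅D, D⁆ ≤ sigmaCore M := (Subgroup.commutator_le_self D).trans hC.2.1
  have hDQ : D ≤ Subgroup.normalizer (Q : Set G) := (hDH.trans hHM).trans hQn
  have hle : ⁅sigmaCore M, sigmaCore M⁆ ≤ R := by
    refine derived_le_of_mul (D := Q) (K := D) ?_ (sup_le hC.1 hDσ) hC.1 hC.2.1 hC.2.2.2
      (fun a ha b hb => Subgroup.mem_sup_left (Subgroup.commutator_le_self _ (Subgroup.commutator_mem_commutator ha hb)))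
      (fun a ha b hb => Subgroup.mem_sup_right (Subgroup.commutator_mem_commutator ha hb))
      (fun a ha b hb => Subgroup.mem_sup_left (by
        rw [commutatorElement_def, show a * b * a⁻¹ * b⁻¹ = a * (b * a⁻¹ * b⁻¹) by group]
        exact Subgroup.mul_mem _ ha ((Subgroup.mem_normalizer_iff.1 (hDQ hb) _).1 (Subgroup.inv_mem _ ha))))
    intro m hm
    obtain ⟨x, hx, d, hd, rfl⟩ := hC.2.2.2 m hm
    refine Subgroup.mul_mem _ (Subgroup.le_normalizer (Subgroup.mem_sup_left hx)) (Fusion.mem_normalizer_of_cj_le ?_)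
    show Subgroup.map _ (Q ⊔ ⁅D, D⁆) ≤ _
    rw [Subgroup.map_sup, Subgroup.map_commutator]
    exact sup_le ((cj_eq_self (hDQ hd)).le.trans le_sup_left) ((Subgroup.commutator_mono
      (cj_eq_self (Subgroup.le_normalizer hd)).le (cj_eq_self (Subgroup.le_normalizer hd)).le).trans le_sup_right)
  haveI := hQ.isPGroup.isNilpotent
  haveI := hD
  haveI : Group.IsNilpotent ↥⁅D, D⁆ := isNilpotent_of_le (Subgroup.commutator_le_self D)
  let f : ↥Q × ↥⁅D, D⁆ →* G := MonoidHom.noncommCoprod Q.subtype (⁅D, D⁆).subtype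
    fun x y => Subgroup.mem_centralizer_iff.1 (hcD y.2) x x.2
  have hRf : R ≤ f.range := sup_le (fun x hx => ⟨(⟨x, hx⟩, 1), mul_one x⟩) fun y hy => ⟨(1, ⟨y, hy⟩), one_mul y⟩
  haveI : Group.IsNilpotent ↥f.range := Group.nilpotent_of_surjective f.rangeRestrict f.rangeRestrict_surjective
  set W := ⁅sigmaCore M, sigmaCore M⁆ with hW
  haveI hWnil : Group.IsNilpotent ↥W := isNilpotent_of_le (hle.trans hRf)
  have hWM : W ≤ M := (Subgroup.commutator_le_self _).trans hσM
  have hn : (W.subgroupOf M).Normal := by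
    refine (Subgroup.normal_subgroupOf_iff_le_normalizer hWM).2 fun m hm => Fusion.mem_normalizer_of_cj_le ?_
    show Subgroup.map _ ⁅sigmaCore M, sigmaCore M⁆ ≤ _
    rw [Subgroup.map_commutator]
    exact Subgroup.commutator_mono (cj_eq_self (le_normalizer_piCoreOf hm)).le (cj_eq_self (le_normalizer_piCoreOf hm)).le
  have h := le_sSup (s := {N : Subgroup ↥M | N.Normal ∧ Group.IsNilpotent N})
    ⟨hn, Group.nilpotent_of_mulEquiv (Subgroup.subgroupOfEquivOfLe hWM).symm⟩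
  calc W = (W.subgroupOf M).map M.subtype := (Subgroup.map_subgroupOf_eq_of_le hWM).symm
    _ ≤ _ := Subgroup.map_mono h

/-- `M'` is nilpotent modulo `M_F`. -/
theorem derived_quot_nilpotent (hG : IsMinSimpleOddOrder G) (hM : IsCoatom M) :
    Group.IsNilpotent ↥((commutator ↥M).map (QuotientGroup.mk' (fittingHall ↥M))) := by
  obtain ⟨K, U, hKU⟩ := exists_full_decomp hG hM
  by_cases hU : U = ⊥
  · have hK1 := U_ne_bot_of_K hG hM hKU hU
    obtain ⟨Q, D, H₁, -, -, hQF, -, hC, hD, -, -, hDH, hHM, -⟩ := exists_Q_compl hG hM hKU hK1 hU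
    haveI := hD
    set π := QuotientGroup.mk' (fittingHall ↥M)
    have hDM : D ≤ M := hDH.trans hHM
    let ψ : ↥D →* ↥M ⧸ fittingHall ↥M := π.comp (Subgroup.inclusion hDM)
    haveI : Group.IsNilpotent ↥ψ.range := Group.nilpotent_of_surjective ψ.rangeRestrict ψ.rangeRestrict_surjective
    refine isNilpotent_of_le (Y := ψ.range) ?_
    rintro _ ⟨m, hm, rfl⟩
    have h1 : (m : G) ∈ sigmaCore M := by
      have h2 : (m : G) ∈ ⁅M, M⁆ := Subgroup.map_subtype_commutator M ▸ Subgroup.mem_map_of_mem _ hm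
      rwa [derived_eq hG hM hKU hK1, hU, bot_sup_eq] at h2
    obtain ⟨x, hx, d, hd, he⟩ := hC.2.2.2 _ h1
    refine ⟨⟨d, hd⟩, ?_⟩
    obtain ⟨x', hx', hxe⟩ := hQF hx
    show π ⟨d, hDM hd⟩ = π m
    rw [show m = x' * ⟨d, hDM hd⟩ from Subtype.ext (by
      show (m : G) = (x' : G) * d
      rw [he, show (x' : G) = x from hxe]), map_mul, show π x' = 1 from (QuotientGroup.eq_one_iff x').2 hx', one_mul]
  · have hnil := core_nilpotent_of_U hG hM hKU hU
    obtain ⟨-, -, hαle, -, hN⟩ := alphaCore_structure hG hM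
    have hle : piCore (alpha M) ↥M ≤ fittingHall ↥M := by
      have h1 : piCore (alpha M) ↥M ≤ piCore (sigma M) ↥M := (Subgroup.map_le_map_iff_of_injective M.subtype_injective).1 hαle
      refine h1.trans (le_of_eq (Subgroup.map_injective M.subtype_injective ?_))
      exact Support.fittingHallOf_eq hG hM hnil
    haveI := hN
    let f : ↥M ⧸ piCore (alpha M) ↥M →* ↥M ⧸ fittingHall ↥M :=
      QuotientGroup.map _ _ (MonoidHom.id _) hle
    have he : (commutator ↥M).map (QuotientGroup.mk' (fittingHall ↥M)) =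
        ((commutator ↥M).map (QuotientGroup.mk' (piCore (alpha M) ↥M))).map f := by
      rw [Subgroup.map_map]
      rfl
    rw [he]
    exact Group.nilpotent_of_surjective (f.subgroupMap _) (f.subgroupMap_surjective _)

/-- `M_F` is nontrivial. -/
theorem fittingHall_ne_bot (hG : IsMinSimpleOddOrder G) (hM : IsCoatom M) : fittingHallOf M ≠ ⊥ := by
  obtain ⟨K, U, hKU⟩ := exists_full_decomp hG hM
  by_cases hU : U = ⊥
  · exact fun h => star_ne_bot hG hM hKU.hall (U_ne_bot_of_K hG hM hKU hU)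
      (le_bot_iff.1 ((star_le_fittingHall hG hM hKU (U_ne_bot_of_K hG hM hKU hU)).trans h.le))
  · rw [← Support.fittingHallOf_eq hG hM (core_nilpotent_of_U hG hM hKU hU)]
    exact FitParts.sigmaCore_ne_bot hG hM

end Cfsg.Agent.OddLocal.Kappa
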