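import Cfsg.Agent.Lib.OddLocal.KappaSignalizer

/-!
The maximal subgroups over the centralizers of the elements of `M_σ`.
-/

set_option autoImplicit false
set_option linter.style.haveILetI false

namespace Cfsg.Agent.OddLocal.Kappa

open scoped Pointwise commutatorElement
open Cfsg
open Cfsg.Agent.Fusion (SylIn cj cj_eq_self cj_mono card_cj exists_sylIn exists_sylIn_ge)
open Cfsg.Agent.OddLocal.Uniq
open Cfsg.Agent.OddLocal.Sig
open Cfsg.Agent.OddLocal.RankTwo
open Cfsg.Agent.OddLocal.TauTwo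
open Cfsg.Agent.OddLocal.Prime
open Cfsg.Agent.OddLocal.Disjoint (mem_centralizer_zpowers zpowers_card conjugate_of_sigma mem_zpowers_of_order)

universe u

variable {G : Type u} [Group G] [Finite G] {M N E K U P : Subgroup G}

/-- `κ` does not change under conjugation. -/
theorem kappa_cj (hG : IsMinSimpleOddOrder G) (hM : IsCoatom M) {g : G} {q : ℕ} (h : q ∈ kappa M) :
    q ∈ kappa (cj M g) := by
  haveI := Fact.mk h.1
  refine ⟨h.1, (card_cj M g).symm ▸ h.2.1, fun hσ => h.2.2.1 (sigma_of_cj hσ), fun Q => ?_⟩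
  set S := (Q : Subgroup ↥(cj M g)).map (cj M g).subtype with hS
  have hS' : SylIn q (cj S g⁻¹) M := by
    have h1 := (Fusion.sylIn_map (cj M g) Q).cj g⁻¹
    rwa [Fusion.cj_cj_inv] at h1
  obtain ⟨T, hT⟩ := exists_sylow hS'
  obtain ⟨hc, x, hxT, hx1, y, hy, hy1, hxy⟩ := h.2.2.2 T
  have hSeq : cj (cj S g⁻¹) g = S := Fusion.cj_inv_cj S g
  have hxS : g * (x : G) * g⁻¹ ∈ S := hSeq ▸ Fusion.conj_mem_cj (hT ▸ Subgroup.mem_map_of_mem M.subtype hxT)
  obtain ⟨x', hx'Q, hx'⟩ := hxS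
  refine ⟨?_, x', hx'Q, fun h0 => hx1 (Subtype.ext ?_), g * y * g⁻¹, ?_, fun h0 => hy1 ?_, ?_⟩
  · haveI := hc
    haveI h1 : IsCyclic ↥(cj S g⁻¹) := hT ▸ isCyclic_of_surjective
      ((T : Subgroup ↥M).equivMapOfInjective M.subtype M.subtype_injective) (MulEquiv.surjective _)
    haveI h2 : IsCyclic ↥S := isCyclic_of_surjective
      (S.equivMapOfInjective (MulAut.conj g⁻¹).toMonoidHom (MulAut.conj g⁻¹).injective).symm (MulEquiv.surjective _)
    exact isCyclic_of_surjective ((Q : Subgroup ↥(cj M g)).equivMapOfInjective (cj M g).subtype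
      (cj M g).subtype_injective).symm (MulEquiv.surjective _)
  · rw [h0, map_one] at hx'
    exact conj_eq_one_iff.1 hx'.symm
  · rw [Support.sigmaCore_cj hG hM]
    exact Fusion.conj_mem_cj hy
  · exact conj_eq_one_iff.1 h0
  · rw [show (x' : G) = g * (x : G) * g⁻¹ from hx']
    calc g * (x : G) * g⁻¹ * (g * y * g⁻¹) = g * ((x : G) * y) * g⁻¹ := by group
      _ = g * (y * (x : G)) * g⁻¹ := by rw [hxy]
      _ = _ := by group

/-- `τ₂` does not change under conjugation. -/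
theorem tau2_cj (hG : IsMinSimpleOddOrder G) (hM : IsCoatom M) {g : G} {q : ℕ} (h : q ∈ tau2 M) :
    q ∈ tau2 (cj M g) := by
  haveI := Fact.mk h.1
  obtain ⟨E, hE⟩ := exists_compl hG hM
  obtain ⟨A, -, sA⟩ := exists_setup_in_compl hG hM hE h
  have s := Setup.cj sA g
  exact ⟨h.1, s.not_sigma, s.rank, s.rank_one⟩

/-- The data of the maximal subgroup over the centralizer of an element of `M_σ`. -/
theorem over_data (hG : IsMinSimpleOddOrder G) (hM : IsCoatom M) {x : G} (hx : x ∈ sigmaCore M) (hx1 : x ≠ 1)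
    (hxM : ¬ Subgroup.centralizer ({x} : Set G) ≤ M) (hN : IsCoatom N)
    (hxN : Subgroup.centralizer ({x} : Set G) ≤ N) :
    ∃ r : ℕ, r.Prime ∧ r ∈ sigma M ∧ r ∈ tau2 N ∧ IsComplIn (M ⊓ N) (sigmaCore N) N := by
  obtain ⟨H, -, -, hu, hc, -, -, -, hτ⟩ := Support.over_centralizer hG hM hx hx1 hxM
  obtain rfl := hu N hN hxN
  obtain ⟨r, hr, hrd⟩ := Nat.exists_prime_and_dvd fun h => hx1 (orderOf_eq_one_iff.1 h)
  exact ⟨r, hr, (sigmaCore_hall hG hM).1.2.1 r hr (hrd.trans (Subgroup.orderOf_dvd_natCard _ hx)), hτ r hr hrd, hc⟩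

/-- A `σ(N)`-prime dividing the order of `M` excludes `κ` and `τ₂`. -/
theorem kappa_tau_empty (hG : IsMinSimpleOddOrder G) (hM : IsCoatom M) (hN : IsCoatom N) {r p : ℕ} [hr' : Fact r.Prime]
    [hp : Fact p.Prime] (hrσ : r ∈ sigma M) (hr : r ∈ tau2 N) (hc : IsComplIn (M ⊓ N) (sigmaCore N) N)
    (hpσ : p ∈ sigma N) (hpM : p ∣ Nat.card M) : kappa M = ∅ ∧ tau2 M = ∅ := by
  rcases Set.eq_empty_or_nonempty (kappa N) with hκN | hκN
  swap
  · exact ⟨(signalizer_P2 hG hM hN hrσ hr hc hκN).1, (signalizer_P2 hG hM hN hrσ hr hc hκN).2.1⟩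
  have hpnM : p ∉ sigma M := fun h => by
    obtain ⟨g, hg⟩ := conjugate_of_sigma hG hM hN h hpσ
    exact hr.2.1 (hg ▸ sigma_cj hrσ)
  have hκ : kappa M = ∅ := by
    by_contra h
    obtain ⟨q, hq⟩ := Set.nonempty_iff_ne_empty.2 h
    obtain ⟨K, U, hKU⟩ := exists_full_decomp hG hM
    have hK1 : K ≠ ⊥ := fun h => by
      refine hKU.hall.2.2 q hq.1 hq ?_
      rw [h, Subgroup.relIndex_bot_left]
      exact hq.2.1
    have hU : U = ⊥ := by
      by_contra hU
      exact not_ideal_of_tau2 hG hN hr (sigma_subset_beta hG hM hKU hK1 hU r hrσ).2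
    obtain ⟨P, hP, h1, h2, -⟩ := exists_star hG hM hKU.hall hK1
    have hpK : p ∣ Nat.card K := by
      have h3 := (compl_card (Decomp.compl hG hM hKU)).2
      rw [hU, bot_sup_eq] at h3
      exact (hp.out.dvd_mul.1 (h3.symm ▸ hpM)).resolve_right fun h4 =>
        hpnM ((sigmaCore_hall hG hM).1.2.1 p hp.out h4)
    have hpP : p ∈ sigma P := (sigmaCore_hall hG hP).1.2.1 p hp.out
      (hpK.trans (Subgroup.card_dvd_of_le (h1.le.trans inf_le_left)))
    obtain ⟨g, hg⟩ := conjugate_of_sigma hG hP hN hpP hpσ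
    obtain ⟨t, ht, htd⟩ := Nat.exists_prime_and_dvd fun h =>
      star_ne_bot hG hM hKU.hall hK1 (Subgroup.card_eq_one.1 h)
    exact Set.eq_empty_iff_forall_notMem.1 hκN t (hg ▸ kappa_cj hG hP (h2.2.1 t ht htd))
  refine ⟨hκ, Set.eq_empty_iff_forall_notMem.2 fun t ht => ?_⟩
  haveI := Fact.mk ht.1
  have hlt : t < r := tau2_lt hG hM hN hrσ hr ht
  have pair_false : ∀ {q : ℕ}, q ∈ sigma N → q ∉ tau2 M := fun {q} hq hq2 =>
    lt_asymm (tau2_lt hG hM hN hrσ hr hq2) (tau2_lt hG hN hM hq hq2 hr)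
  obtain ⟨B, hBE, sB⟩ := exists_setup_in_compl hG hN hc hr
  have hτM : ∀ q : ℕ, q ∈ tau2 N → q ∈ sigma M := fun q hq => tau2_common sB hc hBE hM
    (normalizer_le_of_noncyclic hG hM hrσ (Fusion.elab_isPGroup sB.elem) (hBE.trans inf_le_left)
      (noncyclic_of_card sB.elem sB.card.ge)) hq
  obtain ⟨E, hE⟩ := exists_compl hG hM
  obtain ⟨A, hAE, sA⟩ := exists_setup_in_compl hG hM hE ht
  have hpE : p ∣ Nat.card E := (hp.out.dvd_mul.1 ((compl_card hE).2.symm ▸ hpM)).resolve_right fun h =>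
    hpnM ((sigmaCore_hall hG hM).1.2.1 p hp.out h)
  obtain ⟨⟨w, hwE⟩, hwo⟩ := exists_prime_orderOf_dvd_card' p hpE
  rw [Subgroup.orderOf_mk] at hwo
  have hw1 : w ≠ 1 := ne_one_of_order hwo
  have hwfix : ∀ y ∈ sigmaCore M, w * y = y * w → y = 1 := fun y hy hwy => by_contra fun hy1 => by
    rcases fixed_class hG hM (hE.1 hwE) hy hy1 hwy hp.out hwo.symm.dvd hpnM with h | h
    · exact Set.eq_empty_iff_forall_notMem.1 hκ p h.1
    · exact pair_false hpσ h
  have hEA : E ≤ Subgroup.normalizer (A : Set G) := (complement_tau2 sA hE hAE).1.1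
  obtain ⟨a, haA, ha1, haw⟩ : ∃ a ∈ A, a ≠ 1 ∧ w * a = a * w := by
    by_contra hno
    push Not at hno
    have hsup : A ⊔ Subgroup.zpowers w ≤ E := sup_le hAE (Subgroup.zpowers_le.2 hwE)
    have key := Solv.FrobFix.formula (sigmaCore M) A (Subgroup.zpowers w)
      (Solv.isSolvable_of_le (Subgroup.map_subtype_le _) (hG.2.2.2 M hM.1))
      ((hsup.trans hE.1).trans le_normalizer_piCoreOf) ((Subgroup.zpowers_le.2 hwE).trans hEA)
      (fun e he he1 a ha hea => by_contra fun ha1 => hno a ha ha1 (by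
        obtain ⟨i, hi⟩ := Subgroup.mem_zpowers_iff.1 (mem_zpowers_of_order hp.out hwo he he1)
        rw [← hi]
        exact ((show Commute e a from hea).zpow_left i).eq))
      (Nat.coprime_of_dvd fun q hq h1 h2 => compl_pi hG hM hE hq (h2.trans (Subgroup.card_dvd_of_le hsup))
        ((sigmaCore_hall hG hM).1.2.1 q hq h1))
    have h0 : sigmaCore M ⊓ Subgroup.centralizer (Subgroup.zpowers w : Set G) = ⊥ :=
      eq_bot_iff.2 fun y hy => Subgroup.mem_bot.2 (hwfix y hy.1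
        (Subgroup.mem_centralizer_iff.1 hy.2 w (Subgroup.mem_zpowers w)))
    have h1 : sigmaCore M ⊓ Subgroup.centralizer ((A ⊔ Subgroup.zpowers w : Subgroup G) : Set G) = ⊥ :=
      le_bot_iff.1 ((inf_le_inf_left _ (centralizer_le_of_le le_sup_right)).trans h0.le)
    rw [h0, h1, sigmaCore_inf_centralizer sA, Subgroup.card_bot, one_pow, one_mul, one_mul] at key
    exact TauTwo.sigmaCore_ne_bot sA (Subgroup.card_eq_one.1 key)
  have hao : orderOf a = t := orderOf_eq_prime (sA.elem.2 a haA) ha1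
  obtain ⟨g, hg⟩ := SigmaSubgroups.exists_conj_le hG hN (Y := Subgroup.zpowers w)
    (fun h => hw1 (Subgroup.zpowers_eq_bot.1 h)) fun q hq hd => by
      rw [Nat.card_zpowers, hwo] at hd
      exact (Nat.prime_dvd_prime_iff_eq hq hp.out).1 hd ▸ hpσ
  set N' := cj N g⁻¹ with hN'
  have hcN' : IsCoatom N' := isCoatom_cj hN _
  have hback : cj N' g = N := Fusion.cj_inv_cj N g
  have hwN : w ∈ sigmaCore N' := by
    rw [hN', Support.sigmaCore_cj hG hN]
    have h1 := Fusion.conj_mem_cj (g := g⁻¹) (hg (Fusion.conj_mem_cj (Subgroup.mem_zpowers w)))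
    rwa [show g⁻¹ * (g * w * g⁻¹) * g⁻¹⁻¹ = w by group] at h1
  have htN : t ∉ sigma N' := fun h => pair_false (sigma_of_cj (g := g⁻¹) h) ht
  -- an element of order `t` of `C(w)` inside `N'` is impossible
  have hno : ∀ z ∈ N', orderOf z = t → z * w = w * z → False := fun z hz hzo hzw => by
    rcases fixed_class hG hcN' hz hwN hw1 hzw ht.1 hzo.symm.dvd htN with h | h
    · exact Set.eq_empty_iff_forall_notMem.1 hκN t (hback ▸ kappa_cj hG hcN' h.1)
    · exact ht.2.1 (hτM t (hback ▸ tau2_cj hG hcN' h))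
  by_cases hCw : Subgroup.centralizer ({w} : Set G) ≤ N'
  · exact hno a (hCw (Subgroup.mem_centralizer_singleton_iff.2 haw.symm)) hao haw.symm
  obtain ⟨H, hH, hCH, -, hcH, hinf, -, -, hτH⟩ := Support.over_centralizer hG hcN' hwN hw1 hCw
  have hpH : p ∈ tau2 H := hτH p hp.out hwo.symm.dvd
  obtain ⟨hn, hcC, -⟩ := Support.centralizer_compl hG hcN' hwN hH hCH hcH hinf
  set C := Subgroup.centralizer ({w} : Set G)
  have hCsup : C ≤ (sigmaCore H ⊓ C) ⊔ (N' ⊓ C) := fun z hz => by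
    obtain ⟨u, hu, v, hv, rfl⟩ := hcC.2.2.2 z hz
    exact Subgroup.mul_mem _ (Subgroup.mem_sup_right hu) (Subgroup.mem_sup_left hv)
  have htC : t ∣ Nat.card (sigmaCore H ⊓ C : Subgroup G) * Nat.card (N' ⊓ C : Subgroup G) := by
    rw [← Solv.card_sup_mul_card_inf' _ _ (inf_le_right.trans hn)]
    exact dvd_mul_of_dvd_left (hao ▸ (Subgroup.orderOf_dvd_natCard C
      (Subgroup.mem_centralizer_singleton_iff.2 haw.symm)).trans (Subgroup.card_dvd_of_le hCsup)) _
  rcases ht.1.dvd_mul.1 htC with h | h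
  · have htH : t ∈ sigma H := (sigmaCore_hall hG hH).1.2.1 t ht.1 (h.trans (Subgroup.card_dvd_of_le inf_le_left))
    have h1 := tau2_lt hG hN hH hpσ hpH hr
    have h2 := tau2_lt hG hH hM htH ht hpH
    omega
  · obtain ⟨⟨z, hz⟩, hzo⟩ := exists_prime_orderOf_dvd_card' t h
    rw [Subgroup.orderOf_mk] at hzo
    exact hno z hz.1 hzo (Subgroup.mem_centralizer_singleton_iff.1 hz.2)

/-- The members over two centralizers are conjugate under `M` when conjugate. -/
theorem over_conj (hG : IsMinSimpleOddOrder G) (hM : IsCoatom M) {x y g : G} {N' : Subgroup G}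
    (hx : x ∈ sigmaCore M) (hx1 : x ≠ 1) (hxM : ¬ Subgroup.centralizer ({x} : Set G) ≤ M) (hN : IsCoatom N)
    (hxN : Subgroup.centralizer ({x} : Set G) ≤ N) (hy : y ∈ sigmaCore M) (hy1 : y ≠ 1)
    (hyM : ¬ Subgroup.centralizer ({y} : Set G) ≤ M) (hN' : IsCoatom N')
    (hyN : Subgroup.centralizer ({y} : Set G) ≤ N') (hg : cj N' g = N) : ∃ m ∈ M, cj N' m = N := by
  obtain ⟨r, hr, -, -, hc⟩ := over_data hG hM hx hx1 hxM hN hxN
  obtain ⟨r', hr', hr'σ, hr'τ, hc'⟩ := over_data hG hM hy hy1 hyM hN' hyN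
  haveI := Fact.mk hr'
  obtain ⟨B, hBE, sB⟩ := exists_setup_in_compl hG hN' hc' hr'τ
  have hr'N : r' ∉ sigma N := fun h => hr'τ.2.1 (sigma_of_cj (g := g) (hg.symm ▸ h))
  have hall : IsPiHallOf (sigma N)ᶜ (M ⊓ N) N := by
    refine ⟨inf_le_right, fun q hq hd => compl_pi hG hN hc hq hd, fun q hq hσ hd => hσ ?_⟩
    have h1 := Subgroup.relIndex_mul_relIndex ⊥ (M ⊓ N) N bot_le inf_le_right
    rw [Subgroup.relIndex_bot_left, Subgroup.relIndex_bot_left, ← (compl_card hc).2] at h1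
    exact (sigmaCore_hall hG hN).1.2.1 q hq (Nat.eq_of_mul_eq_mul_left Nat.card_pos h1 ▸ hd)
  obtain ⟨n, hn, hnB⟩ := hall_conj_le hG hN hall (Y := cj B g) ((cj_mono sB.le g).trans hg.le)
    (piNum_of_pgroup (Fusion.isPGroup_cj (Fusion.elab_isPGroup sB.elem) g) (show r' ∈ (sigma N)ᶜ from hr'N))
  have hle : cj B (n⁻¹ * g) ≤ M := by
    rw [← Fusion.cj_cj]
    rintro _ ⟨z, hz, rfl⟩
    show n⁻¹ * z * n⁻¹⁻¹ ∈ M
    rw [inv_inv]
    exact (hnB z hz).1
  obtain ⟨m, hm, c, hc0, he⟩ := conj_factor hG hr'σ hM B (Fusion.elab_isPGroup sB.elem) sB.ne_bot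
    (hBE.trans inf_le_left) _ hle
  refine ⟨m, hm, ?_⟩
  rw [show m = (n⁻¹ * g) * c⁻¹ by rw [he, mul_inv_cancel_right], ← Fusion.cj_cj, ← Fusion.cj_cj,
    cj_eq_self (Subgroup.le_normalizer (N'.inv_mem (sB.centralizer_le hc0))), hg,
    cj_eq_self (Subgroup.le_normalizer (N.inv_mem hn))]

/-- A maximal subgroup with `κ` and `τ₂` empty and nilpotent core is a Frobenius group. -/
theorem frobenius_of_empty (hG : IsMinSimpleOddOrder G) (hM : IsCoatom M) (hκ : kappa M = ∅) (hτ : tau2 M = ∅)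
    (hE : IsComplIn E (sigmaCore M) M) (hE1 : E ≠ ⊥) : IsFrobeniusComplement (E.subgroupOf M) := by
  have hfpf : ∀ e ∈ E, e ≠ 1 → ∀ s ∈ sigmaCore M, e * s = s * e → s = 1 := by
    intro e he he1 s hs hes
    by_contra hs1
    obtain ⟨t, ht, htd⟩ := Nat.exists_prime_and_dvd fun h => he1 (orderOf_eq_one_iff.1 h)
    rcases fixed_class hG hM (hE.1 he) hs hs1 hes ht htd
      (compl_pi hG hM hE ht (htd.trans (Subgroup.orderOf_dvd_natCard E he))) with h | h
    · exact Set.eq_empty_iff_forall_notMem.1 hκ t h.1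
    · exact Set.eq_empty_iff_forall_notMem.1 hτ t h
  have hEσ : ∀ z ∈ E, z ∈ sigmaCore M → z = 1 := fun z hz hzσ =>
    Subgroup.mem_bot.1 (hE.2.2.1 ▸ Subgroup.mem_inf.2 ⟨hz, hzσ⟩)
  refine ⟨fun h => hE1 ?_, fun h => ?_, fun g hg => eq_bot_iff.2 fun z hz => ?_⟩
  · rw [← Subgroup.map_subgroupOf_eq_of_le hE.1, h, Subgroup.map_bot]
  · refine FitParts.sigmaCore_ne_bot hG hM (eq_bot_iff.2 fun s hs => Subgroup.mem_bot.2 (hEσ s ?_ hs))
    exact Subgroup.mem_subgroupOf.1 (h.symm ▸ Subgroup.mem_top (⟨s, (Subgroup.map_subtype_le _) hs⟩ : M) :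
      (⟨s, (Subgroup.map_subtype_le _) hs⟩ : M) ∈ E.subgroupOf M)
  · rw [Subgroup.mem_bot]
    obtain ⟨h1, h2⟩ := Subgroup.mem_inf.1 hz
    rw [Solv.conj_smul_eq_map] at h2
    obtain ⟨y, hy, rfl⟩ := h2
    by_contra hne
    obtain ⟨e, he, s, hs, hes⟩ := hE.2.2.2 g g.2
    have hy1 : (y : G) ≠ 1 := fun h => hne (by rw [show y = 1 from Subtype.ext h, map_one])
    have h3 : (g : G) * y * (g : G)⁻¹ ∈ E := h1
    have h4 : s * (y : G) * s⁻¹ ∈ E := by
      have h5 := E.mul_mem (E.mul_mem (E.inv_mem he) h3) he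
      rwa [hes, show e⁻¹ * (e * s * (y : G) * (e * s)⁻¹) * e = s * (y : G) * s⁻¹ by group] at h5
    have h6 : s * (y : G) * s⁻¹ * (y : G)⁻¹ = 1 := by
      refine hEσ _ (E.mul_mem h4 (E.inv_mem hy)) ?_
      rw [mul_assoc, mul_assoc, ← mul_assoc (y : G)]
      exact Subgroup.mul_mem _ hs ((Subgroup.mem_normalizer_iff.1 (le_normalizer_piCoreOf y.2) _).1
        ((sigmaCore M).inv_mem hs))
    have hs1 : s = 1 := hfpf y hy hy1 s hs (mul_inv_eq_iff_eq_mul.1 (mul_inv_eq_one.1 h6)).symm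
    exact hg (Subgroup.mem_subgroupOf.2 (by rw [hes, hs1, mul_one]; exact he))

end Cfsg.Agent.OddLocal.Kappa
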