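import Cfsg.Agent.Lib.OddLocal.NonabelianUniqueness
import Cfsg.Agent.S1452

/-!
Centralizers of subgroups of order `p` for `p ∈ σ(M)`.
-/

set_option autoImplicit false
set_option linter.style.haveILetI false

namespace Cfsg.Agent.OddLocal.SigmaCentralizer

open Cfsg
open scoped commutatorElement
open Cfsg.Agent.Fusion (SylIn cj cj_cj cj_eq_self cj_mono card_cj isPGroup_cj sylIn_map sylIn_top exists_sylIn_ge
  mem_normalizer_of_cj_le)
open Cfsg.Agent.OddLocal.Uniq
open Cfsg.Agent.OddLocal.Sig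
open Cfsg.Agent.OddLocal.RankTwo

universe u

variable {G : Type u} [Group G] [Finite G] {p : ℕ} [hp : Fact p.Prime] {M : Subgroup G}

/-- A uniqueness subgroup of `M` centralizing `X` makes `C(X)` uniquely contained in `M`. -/
theorem of_iu (hG : IsMinSimpleOddOrder G) (hM : IsCoatom M) {U X : Subgroup G} (hX : IsPGroup p X)
    (hX1 : X ≠ ⊥) (hU : InUniqueMaximal U) (hUM : U ≤ M) (hUX : U ≤ Subgroup.centralizer (X : Set G)) :
    Subgroup.centralizer (X : Set G) ≤ M ∧
      ∀ L : Subgroup G, IsCoatom L → Subgroup.centralizer (X : Set G) ≤ L → L = M := by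
  obtain ⟨M', -, hu⟩ := hU
  have hu' : ∀ L : Subgroup G, IsCoatom L → Subgroup.centralizer (X : Set G) ≤ L → L = M := fun L hL hCL =>
    (hu L ⟨hL, hUX.trans hCL⟩).trans (hu M ⟨hM, hUM⟩).symm
  obtain ⟨L, hL, hNL⟩ := exists_coatom _ (normalizer_pgroup_ne_top hG hX hX1)
  exact ⟨hu' L hL ((Subgroup.centralizer_le_normalizer _).trans hNL) ▸
    (Subgroup.centralizer_le_normalizer _).trans hNL, hu'⟩

omit [Finite G] in
theorem card_line_sup {X : Subgroup G} {z : G} (hX : Nat.card X = p) (hz : orderOf z = p) (hzX : z ∉ X)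
    (hzC : z ∈ Subgroup.centralizer (X : Set G)) [Finite G] :
    Nat.card (X ⊔ Subgroup.zpowers z : Subgroup G) = p ^ 2 := by
  have h := Solv.card_sup_mul_card_inf' X (Subgroup.zpowers z)
    ((Subgroup.zpowers_le.2 hzC).trans (Subgroup.centralizer_le_normalizer _))
  have hinf : X ⊓ Subgroup.zpowers z = ⊥ := by
    by_contra hne
    obtain ⟨x, hx, hx1⟩ := exists_ne_one hne
    have e : Subgroup.zpowers x = Subgroup.zpowers z := Subgroup.eq_of_le_of_card_ge (Subgroup.zpowers_le.2 hx.2) (by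
      rw [Nat.card_zpowers, Nat.card_zpowers, hz]
      exact (orderOf_eq_prime (by
        have h1 := pow_card_eq_one' (x := (⟨x, hx.1⟩ : X))
        rw [hX] at h1
        exact congrArg Subtype.val h1) hx1).ge)
    exact hzX (Subgroup.zpowers_le.2 hx.1 (e.symm ▸ Subgroup.mem_zpowers z))
  rw [hinf, Subgroup.card_bot, mul_one, hX, Nat.card_zpowers, hz] at h
  rw [h, pow_two]

/-- The ideal case. -/
theorem centralizer_beta (hG : IsMinSimpleOddOrder G) (hM : IsCoatom M) (hσ : p ∈ sigma M) (hβ : p ∈ beta M)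
    {X : Subgroup G} (hXM : X ≤ M) (hX : Nat.card X = p) :
    Subgroup.centralizer (X : Set G) ≤ M ∧
      ∀ L : Subgroup G, IsCoatom L → Subgroup.centralizer (X : Set G) ≤ L → L = M := by
  obtain ⟨S, hS, hXS⟩ := exists_sylIn_ge (isPGroup_of_card hX) hXM
  have hXp := isPGroup_of_card hX
  have hX1 := ne_bot_of_card hX
  by_cases hcen : S ≤ Subgroup.centralizer (X : Set G)
  · obtain ⟨F, hFM, hFe, hF⟩ := exists_elab_of_prank hβ.1.2
    obtain ⟨g, -, hgS⟩ := hS.conj_le (Fusion.elab_isPGroup hFe) hFM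
    exact of_iu hG hM hXp hX1 (iu_mono (iu_conj (rank_three_iu hG hFe hF) g) hgS
      fun h => hM.1 (eq_top_iff.2 (h ▸ hS.le))) hS.le hcen
  obtain ⟨z, hz, hz1⟩ := exists_ne_one (omz_ne_bot hS.isPGroup fun h => hX1 (le_bot_iff.1 (h ▸ hXS)))
  have hzo : orderOf z = p := orderOf_eq_prime hz.2.2 hz1
  have hzX : z ∉ X := fun h => hcen (by
    have e : X = Subgroup.zpowers z := (Subgroup.eq_of_le_of_card_ge (Subgroup.zpowers_le.2 h)
      (by rw [hX, Nat.card_zpowers, hzo])).symm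
    rw [e]
    exact Subgroup.le_centralizer_iff.1 (Subgroup.zpowers_le.2 hz.2.1))
  have hzC : z ∈ Subgroup.centralizer (X : Set G) := centralizer_le_of_le hXS hz.2.1
  have hXe : IsElementaryAbelian p X := ⟨haveI := isCyclic_of_prime_card hX; inferInstance, fun a ha => by
    have h1 := pow_card_eq_one' (x := (⟨a, ha⟩ : X))
    rw [hX] at h1
    exact congrArg Subtype.val h1⟩
  have hAe := elab_sup hXe hzC hz.2.2
  obtain ⟨T, hT⟩ := (sigma_sylow hσ hS).1.exists_sylow
  obtain ⟨B, hBT, hBe, hlt⟩ := hβ.2.2.2 T (X ⊔ Subgroup.zpowers z)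
    (hT.symm ▸ sup_le hXS (Subgroup.zpowers_le.2 hz.1)) hAe (card_line_sup hX hzo hzX hzC)
  have hBX : B ≤ Subgroup.centralizer (X : Set G) := fun b hb => Subgroup.mem_centralizer_iff.2 fun x hx =>
    congrArg Subtype.val (hBe.1.is_comm.comm (⟨x, hlt.le (Subgroup.mem_sup_left hx)⟩ : B) ⟨b, hb⟩)
  refine of_iu hG hM hXp hX1 (rank_three_iu hG hBe ?_) ((hBT.trans hT.le).trans hS.le) hBX
  have h1 := Solv.card_lt_of_lt hlt
  rw [card_line_sup hX hzo hzX hzC] at h1
  obtain ⟨j, hj⟩ := IsPGroup.iff_card.1 (Fusion.elab_isPGroup hBe)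
  rw [hj] at h1 ⊢
  exact Nat.pow_le_pow_right hp.out.pos ((Nat.pow_lt_pow_iff_right hp.out.one_lt).1 h1)

/-- A normal subgroup of order `p²` is centralized by the derived subgroup. -/
theorem derived_centralizes {S W : Subgroup G} (hS : IsPGroup p S) (hWS : W ≤ S)
    (hSW : S ≤ Subgroup.normalizer (W : Set G)) (hWc : Nat.card W = p ^ 2) :
    ⁅S, S⁆ ≤ Subgroup.centralizer (W : Set G) := by
  set W' := W.subgroupOf S with hW'
  haveI : W'.Normal := Subgroup.normal_subgroupOf_of_le_normalizer hSW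
  have hne : W' ≠ ⊥ := fun h0 => by
    have h1 := Solv.card_subgroupOf hWS
    rw [← hW', h0, Subgroup.card_bot, hWc] at h1
    exact absurd h1 (Nat.one_lt_pow two_ne_zero hp.out.one_lt).ne
  obtain ⟨z, hzW, hzc, hzo⟩ := Solv.exists_central_order (p := p) hS W' hne
  set π := QuotientGroup.mk' (Subgroup.center ↥S) with hπ
  haveI : (W'.map π).Normal := Subgroup.Normal.map inferInstance π (QuotientGroup.mk'_surjective _)
  have hcard : Nat.card (W'.map π) ≤ p := by
    have h1 : Nat.card (W'.map π) * Nat.card (W' ⊓ Subgroup.center ↥S : Subgroup ↥S) = p ^ 2 := by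
      rw [← Subgroup.relIndex_ker (K := W') π, QuotientGroup.ker_mk', ← hWc, ← Solv.card_subgroupOf hWS, ← hW']
      have h := Subgroup.relIndex_mul_relIndex ⊥ (Subgroup.center ↥S ⊓ W') W' bot_le inf_le_right
      rw [Subgroup.relIndex_bot_left, Subgroup.relIndex_bot_left, Subgroup.inf_relIndex_right, mul_comm] at h
      rwa [inf_comm]
    have h2 : p ≤ Nat.card (W' ⊓ Subgroup.center ↥S : Subgroup ↥S) := by
      rw [← hzo, ← Nat.card_zpowers]
      exact Subgroup.card_le_of_le (Subgroup.zpowers_le.2 ⟨hzW, hzc⟩)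
    refine Nat.le_of_mul_le_mul_right ?_ hp.out.pos
    rw [← pow_two, ← h1]
    exact Nat.mul_le_mul_left _ h2
  have hc := Fusion.le_center_of_card_prime (hS.to_quotient _) (W'.map π) hcard
  rw [Subgroup.commutator_le]
  intro a ha b hb
  refine Subgroup.mem_centralizer_iff.2 fun w hw => ?_
  have hz : ∀ s : ↥S, ⁅(⟨w, hWS hw⟩ : ↥S), s⁆ ∈ Subgroup.center ↥S := fun s => by
    refine (QuotientGroup.eq_one_iff _).1 ?_
    show π ⁅(⟨w, hWS hw⟩ : ↥S), s⁆ = 1
    rw [map_commutatorElement]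
    exact commutatorElement_eq_one_iff_mul_comm.2
      (Subgroup.mem_center_iff.1 (hc (Subgroup.mem_map_of_mem π (show (⟨w, hWS hw⟩ : ↥S) ∈ W' from hw))) (π s)).symm
  suffices h : (⟨w, hWS hw⟩ : ↥S) * ⁅(⟨a, ha⟩ : ↥S), ⟨b, hb⟩⁆ = ⁅(⟨a, ha⟩ : ↥S), ⟨b, hb⟩⁆ * ⟨w, hWS hw⟩ by
    exact congrArg Subtype.val h
  set w' : ↥S := ⟨w, hWS hw⟩
  set a' : ↥S := ⟨a, ha⟩
  set b' : ↥S := ⟨b, hb⟩
  set u := ⁅w', a'⁆ with hu
  set v := ⁅w', b'⁆ with hv
  have hu' := Subgroup.mem_center_iff.1 (hz a')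
  have hv' := Subgroup.mem_center_iff.1 (hz b')
  refine mul_inv_eq_iff_eq_mul.1 ?_
  calc w' * ⁅a', b'⁆ * w'⁻¹ = ⁅u * a', v * b'⁆ := by
        rw [hu, hv, commutatorElement_def, commutatorElement_def, commutatorElement_def, commutatorElement_def]
        group
    _ = ⁅a', b'⁆ := by
        rw [commutatorElement_def, commutatorElement_def, mul_inv_rev, mul_inv_rev]
        calc u * a' * (v * b') * (a'⁻¹ * u⁻¹) * (b'⁻¹ * v⁻¹)
            = u * ((a' * v) * b' * a'⁻¹) * u⁻¹ * (b'⁻¹ * v⁻¹) := by group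
          _ = u * (v * a' * b' * a'⁻¹) * u⁻¹ * (b'⁻¹ * v⁻¹) := by rw [hv' a']
          _ = (v * a' * b' * a'⁻¹) * (b'⁻¹ * v⁻¹) := by
              rw [← hu' (v * a' * b' * a'⁻¹), mul_inv_cancel_right]
          _ = v * (a' * b' * a'⁻¹ * b'⁻¹) * v⁻¹ := by group
          _ = a' * b' * a'⁻¹ * b'⁻¹ := by rw [← hv', mul_inv_cancel_right]

/-- The case of a subgroup inside the derived subgroup of a Sylow subgroup. -/
theorem centralizer_derived (hG : IsMinSimpleOddOrder G) (hM : IsCoatom M) {S X : Subgroup G}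
    (hStop : SylIn p S ⊤) (hSM : S ≤ M) (hX : Nat.card X = p) (hXS : X ≤ ⁅S, S⁆) :
    Subgroup.centralizer (X : Set G) ≤ M ∧
      ∀ L : Subgroup G, IsCoatom L → Subgroup.centralizer (X : Set G) ≤ L → L = M := by
  have hXp := isPGroup_of_card hX
  have hX1 := ne_bot_of_card hX
  have hXS' : X ≤ S := hXS.trans (Subgroup.commutator_le_self S)
  have hna : ¬ IsMulCommutative ↥S := fun h => hX1 (le_bot_iff.1 (hXS.trans
    (Subgroup.commutator_eq_bot_iff_le_centralizer.2 fun a ha => Subgroup.mem_centralizer_iff.2 fun b hb =>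
      congrArg Subtype.val (h.is_comm.comm (⟨b, hb⟩ : S) ⟨a, ha⟩)).le))
  by_cases hr : PRankLE p 2 ↥S
  · obtain ⟨S', hS'⟩ := hStop.exists_sylow
    rcases sylow_rank_two hG S' (by rw [hS']; exact hr) with h | ⟨P₁, P₂, h1, h2, h3, h4, -, h6, -⟩
    · rw [hS'] at h; exact absurd h hna
    rw [hS'] at h1
    refine of_iu hG hM hXp hX1 (Nonabelian.inUniqueMaximal hG hStop.isPGroup hna) hSM
      (Subgroup.le_centralizer_iff.1 (hXS.trans (Subgroup.commutator_le.2 fun x hx y hy => ?_)))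
    haveI := h6
    have hn : P₂ ≤ Subgroup.normalizer (P₁ : Set G) := fun b hb => Subgroup.centralizer_le_normalizer _
      (Subgroup.mem_centralizer_iff.2 fun a ha => h2 a ha b hb)
    rw [← h1, ← SetLike.mem_coe, Subgroup.coe_mul_of_right_le_normalizer_left _ _ hn] at hx hy
    obtain ⟨a, ha, b, hb, rfl⟩ := hx
    obtain ⟨a', ha', b', hb', rfl⟩ := hy
    have e : ⁅a * b, a' * b'⁆ = ⁅a, a'⁆ := by
      have c1 : Commute b b' := congrArg Subtype.val
        ((IsCyclic.commGroup (α := ↥P₂)).mul_comm (⟨b, hb⟩ : P₂) ⟨b', hb'⟩)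
      have c2 : Commute b a' := (show Commute a' b from h2 a' ha' b hb).symm
      have c3 : Commute a b' := h2 a ha b' hb'
      have c4 : Commute b (a * a') := ((show Commute a b from h2 a ha b hb).symm).mul_right c2
      rw [commutatorElement_def, commutatorElement_def, mul_inv_rev, mul_inv_rev]
      calc a * b * (a' * b') * (b⁻¹ * a⁻¹) * (b'⁻¹ * a'⁻¹)
          = a * (b * (a' * b') * b⁻¹) * a⁻¹ * (b'⁻¹ * a'⁻¹) := by group
        _ = a * (a' * b') * a⁻¹ * (b'⁻¹ * a'⁻¹) := by rw [(c2.mul_right c1).eq, mul_inv_cancel_right]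
        _ = a * a' * (b' * a⁻¹ * b'⁻¹) * a'⁻¹ := by group
        _ = a * a' * a⁻¹ * a'⁻¹ := by rw [(c3.inv_left).symm.eq, mul_inv_cancel_right]
    show ⁅a * b, a' * b'⁆ ∈ _
    rw [e]
    have hz : ⁅a, a'⁆ ∈ P₁ ⊓ Subgroup.centralizer (P₁ : Set G) :=
      derived_eq_centre h3 h4 ▸ Subgroup.commutator_mem_commutator ha ha'
    have hle : P₁ ⊔ P₂ ≤ Subgroup.centralizer ({⁅a, a'⁆} : Set G) := sup_le
      (fun w hw => Subgroup.mem_centralizer_singleton_iff.2 (Subgroup.mem_centralizer_iff.1 hz.2 w hw))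
      (fun w hw => Subgroup.mem_centralizer_singleton_iff.2 (h2 _ hz.1 w hw).symm)
    exact Subgroup.mem_centralizer_iff.2 fun w hw => Subgroup.mem_centralizer_singleton_iff.1 (hle (h1.ge hw))
  · have hp2 : p ≠ 2 := Uniq.ne_two hG hXp hX1
    obtain ⟨F, hFS, hFe, hF⟩ := exists_elab_of_prank hr
    obtain ⟨W, hWS, hSW, hWe, hWc⟩ := exists_normal_sq hp2 hStop.isPGroup hFS hFe
      ((Nat.pow_le_pow_right hp.out.pos (by omega)).trans hF)
    have hXW : X ≤ Subgroup.centralizer (W : Set G) := hXS.trans (derived_centralizes hStop.isPGroup hWS hSW hWc)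
    by_cases hle : X ≤ W
    · haveI : (W.subgroupOf S).Normal := Subgroup.normal_subgroupOf_of_le_normalizer hSW
      obtain ⟨A, hWA, -, hAC, hAr⟩ := Cfsg.Agent.S1452.result p hp2 hStop.isPGroup hr (W.subgroupOf S)
        ⟨⟨⟨fun u v => Subtype.ext (Subtype.ext
          (congrArg Subtype.val (hWe.1.is_comm.comm (⟨u.1.1, u.2⟩ : W) ⟨v.1.1, v.2⟩) :))⟩⟩,
          fun a ha => Subtype.ext (hWe.2 _ ha)⟩ (by rw [Solv.card_subgroupOf hWS, hWc])
      obtain ⟨B, hBA, hBe, hB⟩ := exists_elab_of_prank hAr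
      refine of_iu hG hM hXp hX1 (rank_three_iu (p := p) hG (F := B.map S.subtype) ?_ ?_)
        ((Subgroup.map_subtype_le B).trans hSM) ?_
      · exact ⟨haveI := hBe.1; Subgroup.map_isMulCommutative B _, by
          rintro _ ⟨b, hb, rfl⟩; rw [← map_pow, hBe.2 b hb, map_one]⟩
      · rw [Subgroup.card_map_of_injective S.subtype_injective]; exact hB
      · rintro _ ⟨b, hb, rfl⟩
        refine Subgroup.mem_centralizer_iff.2 fun x hx => ?_
        have hb' : b ∈ Subgroup.centralizer (A : Set ↥S) := hAC.symm ▸ hBA hb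
        exact congrArg Subtype.val (Subgroup.mem_centralizer_iff.1 hb' ⟨x, hXS' hx⟩ (hWA (hle hx)))
    · obtain ⟨x, hx, hxW⟩ := SetLike.not_le_iff_exists.1 hle
      have hxp : x ^ p = 1 := by
        have h1 := pow_card_eq_one' (x := (⟨x, hx⟩ : X))
        rw [hX] at h1
        exact congrArg Subtype.val h1
      have hB := elab_sup hWe (hXW hx) hxp
      obtain ⟨j, hj⟩ := IsPGroup.iff_card.1 (Fusion.elab_isPGroup hB)
      have h1 := Solv.card_lt_of_lt (lt_of_le_of_ne le_sup_left fun h : W = W ⊔ Subgroup.zpowers x =>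
        hxW (h.symm ▸ Subgroup.mem_sup_right (Subgroup.mem_zpowers x)))
      rw [hWc, hj] at h1
      refine of_iu hG hM hXp hX1 (rank_three_iu hG hB (hj ▸ Nat.pow_le_pow_right hp.out.pos
        ((Nat.pow_lt_pow_iff_right hp.out.one_lt).1 h1)))
        (sup_le (hWS.trans hSM) (Subgroup.zpowers_le.2 (hSM (hXS' hx)))) (Subgroup.le_centralizer_iff.1 ?_)
      have hxe : X = Subgroup.zpowers x := (Subgroup.eq_of_le_of_card_ge (Subgroup.zpowers_le.2 hx) (by
        rw [hX, Nat.card_zpowers, orderOf_eq_prime hxp fun h => hxW (h ▸ one_mem W)])).symm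
      rw [hxe, Subgroup.zpowers_le]
      exact Subgroup.mem_centralizer_iff.2 fun w hw =>
        congrArg Subtype.val (hB.1.is_comm.comm (⟨w, hw⟩ : (W ⊔ Subgroup.zpowers x : Subgroup G))
          ⟨x, Subgroup.mem_sup_right (Subgroup.mem_zpowers x)⟩)

/-- Subgroups of order `p` of `M` for `p ∈ σ(M)`. -/
theorem sigma_centralizer (hG : IsMinSimpleOddOrder G) (hM : IsCoatom M) (hσ : p ∈ sigma M) {X : Subgroup G}
    (hXM : X ≤ M) (hX : Nat.card X = p) {P : Subgroup G} (hP₀ : SylIn p P (sigmaCore M))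
    (h : p ∈ beta M ∨ X ≤ ⁅sigmaCore M, sigmaCore M⁆) :
    (Subgroup.centralizer (X : Set G) ≤ M ∧
      ∀ L : Subgroup G, IsCoatom L → Subgroup.centralizer (X : Set G) ≤ L → L = M) ∧ InUniqueMaximal P ∧ P ≤ M := by
  have hσM : sigmaCore M ≤ M := Subgroup.map_subtype_le _
  have hall := (sigmaCore_hall hG hM).1
  have hsyl : ∀ S, SylIn p S (sigmaCore M) → SylIn p S M := fun S hS => ⟨hS.le.trans hσM, hS.isPGroup, by
    rw [← Subgroup.relIndex_mul_relIndex S (sigmaCore M) M hS.le hσM]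
    exact hp.out.prime.not_dvd_mul hS.not_dvd (hall.2.2 p hp.out hσ)⟩
  have hP := hsyl P hP₀
  by_cases hβ : p ∈ beta M
  · refine ⟨centralizer_beta hG hM hσ hβ hXM hX, ?_, hP.le⟩
    obtain ⟨F, hFM, hFe, hF⟩ := exists_elab_of_prank hβ.1.2
    obtain ⟨g, -, hgP⟩ := hP.conj_le (Fusion.elab_isPGroup hFe) hFM
    exact iu_mono (iu_conj (rank_three_iu hG hFe hF) g) hgP fun h' => hM.1 (eq_top_iff.2 (h' ▸ hP.le))
  have hXd := h.resolve_left hβ
  -- a conjugate of the Sylow subgroup has X in its derived subgroup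
  obtain ⟨R, hR⟩ := exists_sylow hP₀
  obtain ⟨Q, N, hN, hNc⟩ := (hnpc_derived hG hM hσ.2.1 hβ).2
  haveI := hN
  have hNR : N.IsComplement' (R : Subgroup ↥(sigmaCore M)) := by
    refine Subgroup.isComplement'_of_coprime ?_ ?_
    · rw [R.card_eq_multiplicity, ← Q.card_eq_multiplicity, hNc.card_mul]
    · obtain ⟨j, hj⟩ := IsPGroup.iff_card.1 R.isPGroup'
      rw [hj]
      refine (((Nat.Prime.coprime_iff_not_dvd hp.out).2 fun hd => ?_).pow_left j).symm
      exact Q.not_dvd_index (by rw [hNc.index_eq_card]; exact hd)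
  set D := ⁅(R : Subgroup ↥(sigmaCore M)), (R : Subgroup ↥(sigmaCore M))⁆ with hD
  have hDR : D ≤ (R : Subgroup ↥(sigmaCore M)) := Subgroup.commutator_le_self _
  set K := N ⊔ D with hK
  have hder : commutator ↥(sigmaCore M) ≤ K := by
    intro y hy
    suffices hy' : QuotientGroup.mk' N y ∈ D.map (QuotientGroup.mk' N) by
      obtain ⟨d, hd, hde⟩ := hy'
      rw [show y = d * (d⁻¹ * y) by group]
      exact mul_mem (Subgroup.mem_sup_right hd) (Subgroup.mem_sup_left (QuotientGroup.eq.1 hde))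
    have hsurj : (R : Subgroup ↥(sigmaCore M)).map (QuotientGroup.mk' N) = ⊤ := by
      refine eq_top_iff.2 fun x _ => ?_
      obtain ⟨g, rfl⟩ := QuotientGroup.mk'_surjective N x
      obtain ⟨⟨⟨n, hn⟩, ⟨r, hr⟩⟩, hg, -⟩ := hNR.existsUnique g
      refine ⟨r, hr, ?_⟩
      simp only at hg
      rw [← hg, map_mul, show QuotientGroup.mk' N n = 1 from (QuotientGroup.eq_one_iff n).2 hn, one_mul]
    rw [hD, Subgroup.map_commutator, hsurj]
    have h1 := Subgroup.mem_map_of_mem (QuotientGroup.mk' N) hy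
    rw [commutator_def, Subgroup.map_commutator] at h1
    exact Subgroup.commutator_mono le_top le_top h1
  have hDs : SylIn p D K := by
    refine ⟨le_sup_right, R.isPGroup'.to_le hDR, fun hd => ?_⟩
    have h1 := Solv.card_sup_mul_card_inf' N D (by rw [Subgroup.normalizer_eq_top]; exact le_top)
    have hinf : N ⊓ D = ⊥ := le_bot_iff.1 ((inf_le_inf_left N hDR).trans hNR.disjoint.le_bot)
    rw [hinf, Subgroup.card_bot, mul_one] at h1
    have h2 := Subgroup.relIndex_mul_relIndex ⊥ D K bot_le le_sup_right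
    rw [Subgroup.relIndex_bot_left, Subgroup.relIndex_bot_left, hK, h1, mul_comm] at h2
    have h3 : D.relIndex K = Nat.card N := Nat.eq_of_mul_eq_mul_right Nat.card_pos h2
    refine Q.not_dvd_index ?_
    rw [hNc.index_eq_card, ← h3]
    exact hd
  have hXs : X ≤ sigmaCore M := hXd.trans (Subgroup.commutator_le_self _)
  have hXK : X.subgroupOf (sigmaCore M) ≤ K := fun x hx => hder (by
    obtain ⟨y, hy, hyx⟩ := (Subgroup.map_subtype_commutator (sigmaCore M)).ge (hXd hx)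
    rwa [Subtype.ext hyx.symm])
  obtain ⟨g, -, hgD⟩ := hDs.conj_le ((isPGroup_of_card hX).comap_subtype (K := sigmaCore M)) hXK
  set S := cj P (g : G)⁻¹ with hS
  have hSσ : SylIn p S (sigmaCore M) := hP₀.cj' (Subgroup.le_normalizer (inv_mem g.2))
  have hXS : X ≤ ⁅S, S⁆ := by
    have h1 : cj X (g : G) ≤ ⁅P, P⁆ := by
      have h2 := Subgroup.map_mono (f := (sigmaCore M).subtype) hgD
      rw [hD, Subgroup.map_commutator, hR] at h2
      refine le_trans ?_ h2
      rintro _ ⟨x, hx, rfl⟩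
      exact ⟨_, ⟨⟨x, hXs hx⟩, hx, rfl⟩, rfl⟩
    rw [hS, ← Fusion.cj_commutator, ← Fusion.cj_cj_inv X (g : G)]
    exact cj_mono h1 _
  have hSM := hsyl S hSσ
  refine ⟨centralizer_derived hG hM (sigma_sylow hσ hSM).1 hSM.le hX hXS,
    Nonabelian.inUniqueMaximal hG hP.isPGroup fun hc => ne_bot_of_card hX (le_bot_iff.1 ?_), hP.le⟩
  refine hXS.trans ?_
  rw [hS, ← Fusion.cj_commutator, Subgroup.commutator_eq_bot_iff_le_centralizer.2 fun a ha =>
    Subgroup.mem_centralizer_iff.2 fun b hb => congrArg Subtype.val (hc.is_comm.comm (⟨b, hb⟩ : P) ⟨a, ha⟩)]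
  exact (Subgroup.map_bot _).le

end Cfsg.Agent.OddLocal.SigmaCentralizer
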