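import Cfsg.Agent.Lib.OddLocal.SylowStructure
import Cfsg.Agent.Lib.OddLocal.SigmaCentralizer

/-!
A cyclic group of odd order acting on a `p`-group with fixed points a central line.
-/

set_option autoImplicit false
set_option linter.style.haveILetI false

namespace Cfsg.Agent.OddLocal.LineAct

open scoped Pointwise commutatorElement
open Cfsg
open Cfsg.Agent.Fusion (cj cj_cj cj_one card_cj cj_eq_self)
open Cfsg.Agent.OddLocal.Uniq
open Cfsg.Agent.OddLocal.Sig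
open Cfsg.Agent.OddLocal.RankTwo

universe u

variable {G : Type u} [Group G] [Finite G] {p : ℕ} [hp : Fact p.Prime] {Z X S K : Subgroup G}

/-- An element fixing `Z` and fixing `w` modulo `Z` fixes `w`. -/
theorem fixed_mod {k w : G} (hkZ : ∀ z ∈ Z, Commute k z) (hZ : Nat.card Z = p) (hk : (orderOf k).Coprime p)
    (h : k * w * k⁻¹ * w⁻¹ ∈ Z) : Commute k w := by
  set z := k * w * k⁻¹ * w⁻¹ with hz
  have hkw : k * w * k⁻¹ = z * w := by rw [hz]; group
  have key : ∀ n : ℕ, k ^ n * w * (k ^ n)⁻¹ = z ^ n * w := by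
    intro n
    induction n with
    | zero => simp
    | succ n ih =>
      calc k ^ (n + 1) * w * (k ^ (n + 1))⁻¹ = k * (k ^ n * w * (k ^ n)⁻¹) * k⁻¹ := by rw [pow_succ']; group
        _ = k * (z ^ n * w) * k⁻¹ := by rw [ih]
        _ = (k * z ^ n) * w * k⁻¹ := by group
        _ = (z ^ n * k) * w * k⁻¹ := by rw [((hkZ z h).pow_right n).eq]
        _ = z ^ n * (k * w * k⁻¹) := by group
        _ = _ := by rw [hkw, pow_succ]; group
  have h1 : z ^ orderOf k = 1 := by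
    have := key (orderOf k)
    rw [pow_orderOf_eq_one, one_mul, inv_one, mul_one] at this
    exact mul_eq_right.1 this.symm
  have h2 : z ^ p = 1 := by
    have := pow_card_eq_one' (x := (⟨z, h⟩ : Z))
    rw [hZ] at this
    exact congrArg Subtype.val this
  have hz1 : z = 1 := orderOf_eq_one_iff.1 (Nat.eq_one_of_dvd_coprimes hk
    (orderOf_dvd_of_pow_eq_one h1) (orderOf_dvd_of_pow_eq_one h2))
  rw [hz1, one_mul] at hkw
  exact mul_inv_eq_iff_eq_mul.1 hkw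

/-- The elements of a group of order `p²` over a central line. -/
theorem exists_zpow {w v : G} (hZ : Nat.card Z = p) (hX : Nat.card X = p ^ 2) (hZX : Z ≤ X)
    (hXZ : X ≤ Subgroup.centralizer (Z : Set G)) (hw : w ∈ X) (hwZ : w ∉ Z) (hv : v ∈ X) :
    ∃ a : ℤ, ∃ z ∈ Z, v = z * w ^ a := by
  have hn : Subgroup.zpowers w ≤ Subgroup.normalizer (Z : Set G) :=
    Subgroup.zpowers_le.2 (Subgroup.centralizer_le_normalizer _ (hXZ hw))
  have hle : Z ⊔ Subgroup.zpowers w ≤ X := sup_le hZX (Subgroup.zpowers_le.2 hw)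
  have heq : Z ⊔ Subgroup.zpowers w = X := by
    refine Subgroup.eq_of_le_of_card_ge hle ?_
    obtain ⟨j, hj2, hj⟩ := (Nat.dvd_prime_pow hp.out).1 (hX ▸ Subgroup.card_dvd_of_le hle)
    have hlt : Nat.card Z < Nat.card (Z ⊔ Subgroup.zpowers w : Subgroup G) :=
      Solv.card_lt_of_lt (lt_of_le_of_ne le_sup_left fun h => hwZ (h ▸ Subgroup.mem_sup_right (Subgroup.mem_zpowers w)))
    rw [hZ, hj] at hlt
    rw [hX, hj]
    refine Nat.pow_le_pow_right hp.out.pos ?_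
    by_contra hj1
    exact hlt.not_ge ((Nat.pow_le_pow_right hp.out.pos (by omega : j ≤ 1)).trans (pow_one p).le)
  rw [← heq, ← SetLike.mem_coe, Subgroup.coe_mul_of_right_le_normalizer_left _ _ hn] at hv
  obtain ⟨z, hz, y, ⟨a, rfl⟩, rfl⟩ := hv
  exact ⟨a, z, hz, rfl⟩

/-- A cyclic group acting freely on a group of order `p²` over its central fixed line. -/
theorem card_dvd_pred (hc : IsCyclic ↥K) (hco : (Nat.card K).Coprime p) (hZ : Nat.card Z = p)
    (hX : Nat.card X = p ^ 2) (hZX : Z ≤ X) (hXZ : X ≤ Subgroup.centralizer (Z : Set G))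
    (hKZ : K ≤ Subgroup.centralizer (Z : Set G)) (hKX : K ≤ Subgroup.normalizer (X : Set G))
    (hfree : ∀ k ∈ K, k ≠ 1 → ∀ w ∈ X, Commute k w → w ∈ Z) : Nat.card K ∣ p - 1 := by
  obtain ⟨w, hw, hwZ⟩ := SetLike.exists_of_lt (lt_of_le_of_ne hZX fun h => by
    rw [h, hX] at hZ
    have h1 := Nat.pow_lt_pow_right hp.out.one_lt one_lt_two
    rw [pow_one] at h1
    exact absurd hZ h1.ne')
  have hkz : ∀ k ∈ K, ∀ z ∈ Z, Commute k z := fun k hk z hz => (Subgroup.mem_centralizer_iff.1 (hKZ hk) z hz).symm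
  have hwz : ∀ z ∈ Z, Commute w z := fun z hz => (Subgroup.mem_centralizer_iff.1 (hXZ hw) z hz).symm
  have hwp : w ^ p ∈ Z := by
    haveI : (Z.subgroupOf X).Normal :=
      Subgroup.normal_subgroupOf_of_le_normalizer (hXZ.trans (Subgroup.centralizer_le_normalizer _))
    have hidx : (Z.subgroupOf X).index = p := by
      have h := (Z.subgroupOf X).card_mul_index
      rw [Solv.card_subgroupOf hZX, hZ, hX, pow_two] at h
      exact Nat.eq_of_mul_eq_mul_left hp.out.pos h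
    have h := (Z.subgroupOf X).pow_index_mem ⟨w, hw⟩
    rw [hidx] at h
    exact h
  obtain ⟨⟨k, hk⟩, hgen⟩ := hc.exists_generator
  have hcard : Nat.card K = orderOf k := by
    rw [← Subgroup.orderOf_mk k hk, orderOf_eq_card_of_forall_mem_zpowers hgen]
  rw [hcard]
  refine orderOf_dvd_of_pow_eq_one (by_contra fun hne => hwZ ?_)
  obtain ⟨a, z₀, hz₀, ha⟩ := exists_zpow hZ hX hZX hXZ hw hwZ ((Subgroup.mem_normalizer_iff.1 (hKX hk) w).1 hw)
  have key : ∀ i : ℕ, ∃ z ∈ Z, k ^ i * w * (k ^ i)⁻¹ = z * w ^ (a ^ i) := by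
    intro i
    induction i with
    | zero => exact ⟨1, one_mem _, by simp⟩
    | succ i ih =>
      obtain ⟨z, hz, hzi⟩ := ih
      refine ⟨z * z₀ ^ (a ^ i), Z.mul_mem hz (Z.zpow_mem hz₀ _), ?_⟩
      calc k ^ (i + 1) * w * (k ^ (i + 1))⁻¹ = k * (k ^ i * w * (k ^ i)⁻¹) * k⁻¹ := by rw [pow_succ']; group
        _ = k * (z * w ^ (a ^ i)) * k⁻¹ := by rw [hzi]
        _ = (k * z) * w ^ (a ^ i) * k⁻¹ := by group
        _ = (z * k) * w ^ (a ^ i) * k⁻¹ := by rw [(hkz k hk z hz).eq]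
        _ = z * (k * w ^ (a ^ i) * k⁻¹) := by group
        _ = z * (k * w * k⁻¹) ^ (a ^ i) := by rw [conj_zpow]
        _ = z * (z₀ * w ^ a) ^ (a ^ i) := by rw [ha]
        _ = z * (z₀ ^ (a ^ i) * (w ^ a) ^ (a ^ i)) := by
            rw [((hwz z₀ hz₀).symm.zpow_right a).mul_zpow]
        _ = _ := by rw [← zpow_mul, pow_succ', mul_assoc]
  have ha0 : ¬ (p : ℤ) ∣ a := fun ⟨b, hb⟩ => hwZ (by
    have h1 : k * w * k⁻¹ ∈ Z := by
      rw [ha, hb, zpow_mul, zpow_natCast]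
      exact Z.mul_mem hz₀ (Z.zpow_mem hwp b)
    have h2 : k⁻¹ * (k * w * k⁻¹) * k = w := by group
    rw [← h2, mul_assoc, ← (hkz k hk _ h1).eq, ← mul_assoc, inv_mul_cancel, one_mul]
    exact h1)
  obtain ⟨b, hb⟩ : (p : ℤ) ∣ a ^ (p - 1) - 1 := by
    rw [← ZMod.intCast_zmod_eq_zero_iff_dvd]
    push_cast
    rw [ZMod.pow_card_sub_one_eq_one (fun h => ha0 ((ZMod.intCast_zmod_eq_zero_iff_dvd a p).1 h)), sub_self]
  obtain ⟨z, hz, hzi⟩ := key (p - 1)
  have hmem : k ^ (p - 1) * w * (k ^ (p - 1))⁻¹ * w⁻¹ ∈ Z := by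
    rw [hzi, show a ^ (p - 1) = (p : ℤ) * b + 1 by omega, zpow_add, zpow_one, zpow_mul, zpow_natCast]
    have h3 := Z.mul_mem hz (Z.zpow_mem hwp b)
    simpa [mul_assoc] using h3
  exact hfree _ (pow_mem hk _) hne w hw (fixed_mod (hkz _ (pow_mem hk _)) hZ
    (hco.coprime_dvd_left (Subgroup.orderOf_dvd_natCard K (pow_mem hk _))) hmem)

omit [Finite G] hp in
/-- Commutators of powers with a central commutator. -/
theorem comm_zpow {w v c : G} (hcw : Commute c w) (hcv : Commute c v) (h : v * w = w * v * c) (a b : ℤ) :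
    v ^ b * w ^ a = w ^ a * v ^ b * c ^ (a * b) := by
  have h1 : w⁻¹ * v * w = v * c := by rw [mul_assoc, h]; group
  have h2 : w⁻¹ * v ^ b * w = v ^ b * c ^ b := by
    have e : w⁻¹ * v ^ b * w = (w⁻¹ * v * w⁻¹⁻¹) ^ b := by rw [conj_zpow, inv_inv]
    rw [e, inv_inv, h1, hcv.symm.mul_zpow]
  have h3 : (v ^ b)⁻¹ * w * v ^ b = w * c ^ (-b) := by
    have e : (v ^ b)⁻¹ * w * v ^ b = w * (w⁻¹ * v ^ b * w)⁻¹ * v ^ b := by group
    rw [e, h2, mul_inv_rev, ← zpow_neg, mul_assoc, mul_assoc, inv_mul_cancel, mul_one]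
  have h4 : (v ^ b)⁻¹ * w ^ a * v ^ b = w ^ a * c ^ (-b * a) := by
    have e : (v ^ b)⁻¹ * w ^ a * v ^ b = ((v ^ b)⁻¹ * w * (v ^ b)⁻¹⁻¹) ^ a := by rw [conj_zpow, inv_inv]
    rw [e, inv_inv, h3, ((hcw.symm).zpow_right (-b)).mul_zpow, ← zpow_mul]
  have h5 : c ^ (a * b) = (c ^ (-b * a))⁻¹ := by rw [← zpow_neg]; congr 1; ring
  rw [h5]
  calc v ^ b * w ^ a = v ^ b * (w ^ a * c ^ (-b * a)) * (c ^ (-b * a))⁻¹ := by group
    _ = v ^ b * ((v ^ b)⁻¹ * w ^ a * v ^ b) * (c ^ (-b * a))⁻¹ := by rw [h4]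
    _ = _ := by group

/-- The subgroups of order `p²` over the centre of a group of order `p³` and exponent `p`. -/
def Lines (p : ℕ) (Z S : Subgroup G) : Set (Subgroup G) := {X | Z ≤ X ∧ X ≤ S ∧ Nat.card X = p ^ 2}

theorem card_lines (hZ : Nat.card Z = p) (hS : Nat.card S = p ^ 3) (hZS : Z ≤ S)
    (hSZ : S ≤ Subgroup.centralizer (Z : Set G)) (hexp : ∀ w ∈ S, w ^ p = 1) :
    Nat.card (Lines p Z S) = p + 1 := by
  have hline : ∀ {w : G}, w ∈ S → w ∉ Z → Z ⊔ Subgroup.zpowers w ∈ Lines p Z S := fun {w} hw hwZ =>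
    ⟨le_sup_left, sup_le hZS (Subgroup.zpowers_le.2 hw), SigmaCentralizer.card_line_sup hZ
      (orderOf_eq_prime (hexp w hw) fun h => hwZ (h ▸ one_mem _)) hwZ (hSZ hw)⟩
  let e : {w : G // w ∈ (S : Set G) \ (Z : Set G)} ≃ Σ X : Lines p Z S, {w : G // w ∈ (X.1 : Set G) \ (Z : Set G)} :=
    { toFun := fun w => ⟨⟨_, hline w.2.1 w.2.2⟩, w.1, Subgroup.mem_sup_right (Subgroup.mem_zpowers _), w.2.2⟩
      invFun := fun s => ⟨s.2.1, s.1.2.2.1 s.2.2.1, s.2.2.2⟩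
      left_inv := fun w => rfl
      right_inv := by
        rintro ⟨⟨X, hX⟩, w, hw, hwZ⟩
        have hXeq : Z ⊔ Subgroup.zpowers w = X := Subgroup.eq_of_le_of_card_ge
          (sup_le hX.1 (Subgroup.zpowers_le.2 hw)) (by
            rw [(hline (hX.2.1 hw) hwZ).2.2, hX.2.2])
        subst hXeq
        rfl }
  have hfib : ∀ X : Lines p Z S, Nat.card {w : G // w ∈ (X.1 : Set G) \ (Z : Set G)} = p ^ 2 - p := fun X => by
    show Nat.card ↥((X.1 : Set G) \ (Z : Set G)) = _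
    rw [Nat.card_coe_set_eq, Set.ncard_sdiff X.2.1, ← Nat.card_coe_set_eq, ← Nat.card_coe_set_eq]
    exact congrArg₂ (· - ·) X.2.2.2 hZ
  have h := Nat.card_congr e
  haveI : Fintype ↥(Lines p Z S) := Fintype.ofFinite _
  rw [Nat.card_sigma] at h
  simp only [hfib] at h
  rw [Finset.sum_const, Finset.card_univ, ← Nat.card_eq_fintype_card, smul_eq_mul] at h
  have h1 : Nat.card {w : G // w ∈ (S : Set G) \ (Z : Set G)} = p ^ 3 - p := by
    show Nat.card ↥((S : Set G) \ (Z : Set G)) = _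
    rw [Nat.card_coe_set_eq, Set.ncard_sdiff hZS, ← Nat.card_coe_set_eq, ← Nat.card_coe_set_eq]
    exact congrArg₂ (· - ·) hS hZ
  rw [h1] at h
  have h2 : (p + 1) * (p ^ 2 - p) = p ^ 3 - p := by
    rw [Nat.mul_sub, add_mul, add_mul, one_mul, one_mul, ← pow_succ' p 2, ← pow_two]
    show p ^ 3 + p ^ 2 - (p ^ 2 + p) = p ^ 3 - p
    omega
  refine (Nat.eq_of_mul_eq_mul_right ?_ (h2.trans h)).symm
  exact Nat.sub_pos_of_lt (by rw [pow_two]; exact lt_mul_of_one_lt_left hp.out.pos hp.out.one_lt)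

/-- A cyclic group of odd order acting freely modulo the centre on a group of order `p³`. -/
theorem card_dvd (hc : IsCyclic ↥K) (hodd : Odd (Nat.card K)) (hco : (Nat.card K).Coprime p)
    (hna : ¬ IsMulCommutative ↥S) (hS : Nat.card S = p ^ 3) (hexp : ∀ w ∈ S, w ^ p = 1)
    (hcen : S ⊓ Subgroup.centralizer (S : Set G) = Z) (hZ : Nat.card Z = p)
    (hKZ : K ≤ Subgroup.centralizer (Z : Set G)) (hKS : K ≤ Subgroup.normalizer (S : Set G))
    (hfree : ∀ k ∈ K, k ≠ 1 → ∀ w ∈ S, Commute k w → w ∈ Z) :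
    Nat.card K ∣ p - 1 ∨ Nat.card K ∣ p + 1 := by
  classical
  have hZS : Z ≤ S := hcen ▸ inf_le_left
  have hSZ : S ≤ Subgroup.centralizer (Z : Set G) := Subgroup.le_centralizer_iff.1 (hcen ▸ inf_le_right)
  have hcom : ⁅S, S⁆ = Z := (derived_eq_centre hna hS).trans hcen
  have hkz : ∀ k ∈ K, ∀ z ∈ Z, Commute k z := fun k hk z hz => (Subgroup.mem_centralizer_iff.1 (hKZ hk) z hz).symm
  have hKco : ∀ k ∈ K, (orderOf k).Coprime p := fun k hk =>
    hco.coprime_dvd_left (Subgroup.orderOf_dvd_natCard K hk)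
  have hact : ∀ k : K, ∀ X ∈ Lines p Z S, cj X (k : G) ∈ Lines p Z S := fun k X hX => by
    refine ⟨?_, (Fusion.cj_mono hX.2.1 _).trans (cj_eq_self (hKS k.2)).le, by rw [card_cj]; exact hX.2.2⟩
    refine le_of_eq_of_le (cj_eq_self (H := Z) ?_).symm (Fusion.cj_mono hX.1 _)
    exact Subgroup.centralizer_le_normalizer _ (hKZ k.2)
  letI : MulAction ↥K ↥(Lines p Z S) :=
    { smul := fun k X => ⟨cj X.1 (k : G), hact k X.1 X.2⟩
      one_smul := fun X => Subtype.ext (cj_one X.1)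
      mul_smul := fun k l X => Subtype.ext (cj_cj X.1 (l : G) (k : G)).symm }
  by_cases hfreeL : ∀ X : ↥(Lines p Z S), MulAction.stabilizer ↥K X = ⊥
  · right
    rw [← card_lines hZ hS hZS hSZ hexp, Nat.card_congr (MulAction.selfEquivOrbitsQuotientProd hfreeL),
      Nat.card_prod]
    exact dvd_mul_left _ _
  left
  push Not at hfreeL
  obtain ⟨X₀, hX₀⟩ := hfreeL
  obtain ⟨k, hkX, hk1⟩ : ∃ k : K, k • X₀ = X₀ ∧ k ≠ 1 := by
    by_contra hno
    push Not at hno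
    exact hX₀ ((Subgroup.eq_bot_iff_forall _).2 fun k hk => hno k hk)
  have hk1' : (k : G) ≠ 1 := fun h => hk1 (Subtype.ext h)
  have hscal : ∀ X : ↥(Lines p Z S), k • X = X → ∀ w ∈ X.1, w ∉ Z → ∃ a : ℤ, ∃ z ∈ Z,
      (k : G) * w * (k : G)⁻¹ = z * w ^ a := by
    intro X hX w hw hwZ
    refine exists_zpow hZ X.2.2.2 X.2.1 (X.2.2.1.trans hSZ) hw hwZ ?_
    have h : cj X.1 (k : G) = X.1 := congrArg Subtype.val hX
    exact h ▸ Fusion.conj_mem_cj hw
  have hpick : ∀ X : ↥(Lines p Z S), ∃ w ∈ X.1, w ∉ Z := fun X => SetLike.not_le_iff_exists.1 fun h => by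
    have h1 := Subgroup.card_le_of_le h
    rw [X.2.2.2, hZ] at h1
    have h2 := Nat.pow_lt_pow_right hp.out.one_lt one_lt_two
    rw [pow_one] at h2
    exact h1.not_gt h2
  have hzp : ∀ z ∈ Z, z ^ p = 1 := fun z hz => hexp z (hZS hz)
  have hpair : ∀ X Y : ↥(Lines p Z S), X ≠ Y → k • X = X → k • Y = Y → ∀ w ∈ X.1, w ∉ Z → ∀ v ∈ Y.1, v ∉ Z →
      ∀ a b : ℤ, (∃ z ∈ Z, (k : G) * w * (k : G)⁻¹ = z * w ^ a) →
      (∃ z ∈ Z, (k : G) * v * (k : G)⁻¹ = z * v ^ b) → (p : ℤ) ∣ a * b - 1 := by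
    intro X Y hXY _ _ w hw hwZ v hv hvZ a b ⟨z₁, hz₁, e₁⟩ ⟨z₂, hz₂, e₂⟩
    have hwS := X.2.2.1 hw
    have hvS := Y.2.2.1 hv
    set c := ⁅v⁻¹, w⁻¹⁆ with hc
    have hcZ : c ∈ Z := hcom ▸ Subgroup.commutator_mem_commutator (S.inv_mem hvS) (S.inv_mem hwS)
    have hcz : ∀ y ∈ S, ∀ z ∈ Z, Commute z y := fun y hy z hz => Subgroup.mem_centralizer_iff.1 (hSZ hy) z hz
    have hvw : v * w = w * v * c := by rw [hc, commutatorElement_def]; group
    have hc1 : c ≠ 1 := fun h => by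
      rw [h, mul_one] at hvw
      refine hXY (Subtype.ext ?_)
      have hZX : ∀ (W : ↥(Lines p Z S)) (y : G), y ∈ W.1 → y ∉ Z → Z ⊔ Subgroup.zpowers y = W.1 := fun W y hy hyZ =>
        Subgroup.eq_of_le_of_card_ge (sup_le W.2.1 (Subgroup.zpowers_le.2 hy)) (by
          rw [W.2.2.2, SigmaCentralizer.card_line_sup hZ (orderOf_eq_prime (hexp y (W.2.2.1 hy))
            fun h => hyZ (h ▸ one_mem _)) hyZ (hSZ (W.2.2.1 hy))])
      by_contra hne
      refine hwZ (hcen ▸ Subgroup.mem_inf.2 ⟨hwS, ?_⟩)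
      -- `X` and `Y` generate `S`, and `w` centralizes both
      have hgen : X.1 ⊔ Y.1 = S := by
        refine Subgroup.eq_of_le_of_card_ge (sup_le X.2.2.1 Y.2.2.1) ?_
        obtain ⟨j, hj, hje⟩ := (Nat.dvd_prime_pow hp.out).1
          (hS ▸ Subgroup.card_dvd_of_le (sup_le X.2.2.1 Y.2.2.1))
        have hlt : Nat.card X.1 < Nat.card (X.1 ⊔ Y.1 : Subgroup G) := Solv.card_lt_of_lt
          (lt_of_le_of_ne le_sup_left fun h => hne (Subgroup.eq_of_le_of_card_ge (le_sup_right.trans h.ge)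
            (by rw [X.2.2.2, Y.2.2.2])).symm)
        rw [X.2.2.2, hje, Nat.pow_lt_pow_iff_right hp.out.one_lt] at hlt
        rw [hS, hje]
        exact Nat.pow_le_pow_right hp.out.pos (by omega)
      rw [Subgroup.mem_centralizer_iff]
      intro y hy
      rw [SetLike.mem_coe, ← hgen] at hy
      refine Subgroup.mem_centralizer_singleton_iff.1 ((sup_le ?_ ?_ : X.1 ⊔ Y.1 ≤ Subgroup.centralizer ({w} : Set G)) hy)
      · rw [← hZX X w hw hwZ]
        exact sup_le (fun z hz => Subgroup.mem_centralizer_singleton_iff.2 (hcz w hwS z hz).eq)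
          (Subgroup.zpowers_le.2 (Subgroup.mem_centralizer_singleton_iff.2 rfl))
      · rw [← hZX Y v hv hvZ]
        exact sup_le (fun z hz => Subgroup.mem_centralizer_singleton_iff.2 (hcz w hwS z hz).eq)
          (Subgroup.zpowers_le.2 (Subgroup.mem_centralizer_singleton_iff.2 hvw))
    have key := congrArg (fun y => (k : G) * y * (k : G)⁻¹) hvw
    beta_reduce at key
    rw [← conj_mul, ← conj_mul, ← conj_mul, e₁, e₂,
      show (k : G) * c * (k : G)⁻¹ = c by rw [(hkz k k.2 c hcZ).eq, mul_inv_cancel_right]] at key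
    have hwa : w ^ a ∈ S := S.zpow_mem hwS a
    have hvb : v ^ b ∈ S := S.zpow_mem hvS b
    have hl : z₂ * v ^ b * (z₁ * w ^ a) = z₂ * z₁ * (v ^ b * w ^ a) := by
      calc z₂ * v ^ b * (z₁ * w ^ a) = z₂ * (v ^ b * z₁) * w ^ a := by group
        _ = z₂ * (z₁ * v ^ b) * w ^ a := by rw [(hcz _ hvb z₁ hz₁).eq]
        _ = _ := by group
    have hr : z₁ * w ^ a * (z₂ * v ^ b) * c = z₂ * z₁ * (w ^ a * v ^ b * c) := by
      calc z₁ * w ^ a * (z₂ * v ^ b) * c = z₁ * (w ^ a * z₂) * v ^ b * c := by group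
        _ = z₁ * (z₂ * w ^ a) * v ^ b * c := by rw [(hcz _ hwa z₂ hz₂).eq]
        _ = z₁ * z₂ * (w ^ a * v ^ b * c) := by group
        _ = _ := by rw [(hcz _ (hZS hz₂) z₁ hz₁).eq]
    rw [hl, hr] at key
    have key2 := mul_left_cancel key
    rw [comm_zpow (hcz w hwS c hcZ) (hcz v hvS c hcZ) hvw a b] at key2
    have key3 : c ^ (a * b - 1) = 1 := by rw [zpow_sub_one, mul_left_cancel key2, mul_inv_cancel]
    have ho : orderOf c = p := orderOf_eq_prime (hzp c hcZ) hc1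
    rw [← ho]
    exact orderOf_dvd_iff_zpow_eq_one.2 key3
  -- at most two fixed lines
  have htwo : ∀ X Y W : ↥(Lines p Z S), X ≠ Y → X ≠ W → Y ≠ W → k • X = X → k • Y = Y → k • W = W → False := by
    intro X Y W h1 h2 h3 hX hY hW
    obtain ⟨w, hw, hwZ⟩ := hpick X
    obtain ⟨v, hv, hvZ⟩ := hpick Y
    obtain ⟨u, hu, huZ⟩ := hpick W
    obtain ⟨a, z₁, hz₁, e₁⟩ := hscal X hX w hw hwZ
    obtain ⟨b, z₂, hz₂, e₂⟩ := hscal Y hY v hv hvZ
    obtain ⟨d, z₃, hz₃, e₃⟩ := hscal W hW u hu huZ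
    have hab := hpair X Y h1 hX hY w hw hwZ v hv hvZ a b ⟨z₁, hz₁, e₁⟩ ⟨z₂, hz₂, e₂⟩
    have had := hpair X W h2 hX hW w hw hwZ u hu huZ a d ⟨z₁, hz₁, e₁⟩ ⟨z₃, hz₃, e₃⟩
    have hbd := hpair Y W h3 hY hW v hv hvZ u hu huZ b d ⟨z₂, hz₂, e₂⟩ ⟨z₃, hz₃, e₃⟩
    rw [← ZMod.intCast_zmod_eq_zero_iff_dvd] at hab had hbd
    push_cast [sub_eq_zero] at hab had hbd
    have hsq : ((a * a - 1 : ℤ) : ZMod p) = 0 := by
      push_cast
      linear_combination (a : ZMod p) * (a : ZMod p) * (-1) * hbd + (a : ZMod p) * (b : ZMod p) * had + hab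
    obtain ⟨m, hm⟩ := (ZMod.intCast_zmod_eq_zero_iff_dvd _ _).1 hsq
    have hwa : (k : G) ^ 2 * w * ((k : G) ^ 2)⁻¹ * w⁻¹ ∈ Z := by
      have hwS := X.2.2.1 hw
      have hz₁w : Commute z₁ (w ^ a) := Subgroup.mem_centralizer_iff.1 (hSZ (S.zpow_mem hwS a)) z₁ hz₁
      have e : (k : G) ^ 2 * w * ((k : G) ^ 2)⁻¹ = z₁ * z₁ ^ a * w ^ (a * a) := by
        calc (k : G) ^ 2 * w * ((k : G) ^ 2)⁻¹ = (k : G) * ((k : G) * w * (k : G)⁻¹) * (k : G)⁻¹ := by rw [pow_two]; group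
          _ = (k : G) * (z₁ * w ^ a) * (k : G)⁻¹ := by rw [e₁]
          _ = ((k : G) * z₁ * (k : G)⁻¹) * ((k : G) * w ^ a * (k : G)⁻¹) := by group
          _ = z₁ * ((k : G) * w * (k : G)⁻¹) ^ a := by
              rw [(hkz k k.2 z₁ hz₁).eq, mul_inv_cancel_right, conj_zpow]
          _ = z₁ * (z₁ ^ a * (w ^ a) ^ a) := by rw [e₁, hz₁w.mul_zpow]
          _ = _ := by rw [← zpow_mul, mul_assoc]
      rw [e, show a * a = (p : ℤ) * m + 1 by omega, zpow_add, zpow_one, zpow_mul, zpow_natCast, hexp w hwS, one_zpow,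
        one_mul, mul_inv_cancel_right]
      exact Z.mul_mem hz₁ (Z.zpow_mem hz₁ a)
    refine hwZ (hfree _ (pow_mem k.2 2) (fun h => hk1' ?_) w (X.2.2.1 hw)
      (fixed_mod (hkz _ (pow_mem k.2 2)) hZ (hKco _ (pow_mem k.2 2)) hwa))
    have h2 : orderOf (k : G) ∣ 2 := orderOf_dvd_of_pow_eq_one h
    exact orderOf_eq_one_iff.1 (((Nat.dvd_prime Nat.prime_two).1 h2).resolve_right fun h' =>
      Nat.not_even_iff_odd.2 hodd (even_iff_two_dvd.2 (h' ▸ Subgroup.orderOf_dvd_natCard K k.2)))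
  -- all of `K` fixes `X₀`
  haveI : Fintype ↥K := Fintype.ofFinite _
  haveI : Fintype ↥(MulAction.orbit ↥K X₀) := Fintype.ofFinite _
  haveI : Fintype ↥(MulAction.stabilizer ↥K X₀) := Fintype.ofFinite _
  have hfix : ∀ l : K, l • X₀ = X₀ := by
    intro l
    by_contra hl
    have hFk : ∀ j : K, k • (j • X₀) = j • X₀ := fun j => by
      rw [← mul_smul, show k * j = j * k from (IsCyclic.commGroup (α := ↥K)).mul_comm k j, mul_smul, hkX]
    have hsub : MulAction.orbit ↥K X₀ ⊆ {X₀, l • X₀} := by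
      rintro _ ⟨j, rfl⟩
      by_contra hj
      simp only [Set.mem_insert_iff, Set.mem_singleton_iff, not_or] at hj
      exact htwo X₀ (l • X₀) (j • X₀) (Ne.symm hl) (Ne.symm hj.1) (Ne.symm hj.2) hkX (hFk l) (hFk j)
    have hle := (Set.ncard_le_ncard hsub (Set.toFinite _)).trans (Set.ncard_pair (Ne.symm hl)).le
    have hge : 2 ≤ (MulAction.orbit ↥K X₀).ncard := (Set.ncard_pair (Ne.symm hl)).ge.trans
      (Set.ncard_le_ncard (Set.insert_subset (MulAction.mem_orbit_self _)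
        (Set.singleton_subset_iff.2 ⟨l, rfl⟩)) (Set.toFinite _))
    have hdvd := MulAction.card_orbit_mul_card_stabilizer_eq_card_group ↥K X₀
    rw [← Nat.card_eq_fintype_card, ← Nat.card_eq_fintype_card, ← Nat.card_eq_fintype_card, Nat.card_coe_set_eq,
      le_antisymm hle hge] at hdvd
    exact Nat.not_even_iff_odd.2 hodd (even_iff_two_dvd.2 (Dvd.intro _ hdvd))
  refine card_dvd_pred hc hco hZ X₀.2.2.2 X₀.2.1 (X₀.2.2.1.trans hSZ) hKZ (fun l hl => ?_)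
    fun l hl hl1 w hw h => hfree l hl hl1 w (X₀.2.2.1 hw) h
  exact Fusion.mem_normalizer_iff_cj.2 (congrArg Subtype.val (hfix ⟨l, hl⟩))

end Cfsg.Agent.OddLocal.LineAct
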