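import Cfsg.Agent.Lib.OddLocal.KappaTypeData
import Cfsg.Agent.Lib.OddLocal.LineAction

/-!
A nilpotent `M_σ` which is not a TI-subset.
-/

set_option autoImplicit false
set_option linter.style.haveILetI false

namespace Cfsg.Agent.OddLocal.Kappa

open scoped Pointwise commutatorElement
open Cfsg
open Cfsg.Agent.Fusion (SylIn cj cj_eq_self cj_mono card_cj exists_sylIn exists_sylIn_ge)
open Cfsg.Agent.OddLocal.Uniq
open Cfsg.Agent.OddLocal.Sig
open Cfsg.Agent.OddLocal.RankTwo
open Cfsg.Agent.OddLocal.TauTwo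
open Cfsg.Agent.OddLocal.Prime
open Cfsg.Agent.OddLocal.Disjoint (mem_centralizer_zpowers zpowers_card)

universe u

variable {G : Type u} [Group G] [Finite G] {p : ℕ} [hp : Fact p.Prime] {M N B S K U : Subgroup G} {x : G}

/-- A point of prime order of `M_σ` with its centralizer in another maximal subgroup `N`. -/
structure Stray (p : ℕ) (M N B S : Subgroup G) (x : G) : Prop where
  coatom : IsCoatom M
  coatomN : IsCoatom N
  setup : Setup p N B
  compl : IsComplIn (M ⊓ N) (sigmaCore N) N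
  B_le : B ≤ M ⊓ N
  mem : x ∈ sigmaCore M
  order : orderOf x = p
  centralizer : Subgroup.centralizer ({x} : Set G) ≤ N
  nilpotent : Group.IsNilpotent ↥(sigmaCore M)
  syl : SylIn p S ⊤
  S_le : S ≤ sigmaCore M
  B_S : B ≤ S
  normal : M ≤ Subgroup.normalizer (S : Set G)
  tau : p ∈ tau2 N

/-- Failure of the TI property gives a stray point. -/
theorem exists_stray (hG : IsMinSimpleOddOrder G) (hM : IsCoatom M) (hnil : Group.IsNilpotent ↥(sigmaCore M))
    (hti : ¬ IsTISubset (sigmaCore M : Set G)) :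
    ∃ (p : ℕ) (x : G) (N B S : Subgroup G), p.Prime ∧ Stray p M N B S x := by
  simp only [IsTISubset] at hti
  push Not at hti
  obtain ⟨g, hg, y, hy, hgy, hy1⟩ := hti
  have hgM : g ∉ M := fun h => hg (le_normalizer_piCoreOf h)
  obtain ⟨p, i, hp', -, hxo⟩ := exists_prime_power_order hy1
  haveI := Fact.mk hp'
  set x := y ^ i with hx
  have hxσ : x ∈ sigmaCore M := pow_mem hy i
  have hx1 : x ≠ 1 := ne_one_of_order hxo
  have hgx : g * x * g⁻¹ ∈ sigmaCore M := by
    rw [hx, ← conj_pow]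
    exact pow_mem hgy i
  have hσM : sigmaCore M ≤ M := Subgroup.map_subtype_le _
  have hxg : x ∈ cj M g⁻¹ := by
    have h := Fusion.conj_mem_cj (g := g⁻¹) (hσM hgx)
    rwa [show g⁻¹ * (g * x * g⁻¹) * g⁻¹⁻¹ = x by group] at h
  have hxM : ¬ Subgroup.centralizer ({x} : Set G) ≤ M := by
    obtain ⟨ρ, -, hρ, h | h⟩ := Support.transport hG hM hxσ hx1 hxg
    · refine absurd ?_ hgM
      rw [h, Fusion.cj_one] at hρ
      have h1 : g⁻¹ ∈ Subgroup.normalizer (M : Set G) := Fusion.mem_normalizer_iff_cj.2 hρ.symm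
      rw [normalizer_coatom hG hM] at h1
      simpa using M.inv_mem h1
    · exact h.1
  obtain ⟨N, hN, hCN, -, hc, -, -, -, hτ⟩ := Support.over_centralizer hG hM hxσ hx1 hxM
  have hpτ : p ∈ tau2 N := hτ p hp' hxo.symm.dvd
  obtain ⟨B, hBE, sB⟩ := exists_setup_in_compl hG hN hc hpτ
  have hpσ : p ∈ sigma M :=
    (sigmaCore_hall hG hM).1.2.1 p hp' (hxo ▸ Subgroup.orderOf_dvd_natCard _ hxσ)
  obtain ⟨S, hS, hBS⟩ := exists_sylIn_ge (Fusion.elab_isPGroup sB.elem) (hBE.trans inf_le_left)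
  have hSσ : S ≤ sigmaCore M :=
    le_of_hall (sigmaCore_hall hG hM).1 le_normalizer_piCoreOf hS.le (piNum_of_pgroup hS.isPGroup hpσ)
  exact ⟨p, x, N, B, S, hp', hM, hN, sB, hc, hBE, hxσ, hxo, hCN, hnil, (sigma_sylow hpσ hS).1, hSσ, hBS,
    SigmaSubgroups.sylow_of_nilpotent_normal hnil le_normalizer_piCoreOf (hS.mono hSσ (Subgroup.map_subtype_le _)),
    hpτ⟩

namespace Stray

variable (d : Stray p M N B S x)
include d

/-- The subgroups of order prime to `p` lie in `N`. -/
theorem coprime_le {Y : Subgroup G} (hY : Y ≤ sigmaCore M) (hco : (Nat.card Y).Coprime p) :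
    Y ≤ M ⊓ N := by
  haveI := d.nilpotent
  refine le_inf (hY.trans (Subgroup.map_subtype_le _)) (le_trans ?_ d.centralizer)
  rw [← centralizer_zpowers]
  exact TypePBasic.nilpotent_coprime_commute (Subgroup.zpowers_le.2 d.mem) hY
    (by rw [Nat.card_zpowers, d.order]; exact hco.symm)

/-- With abelian Sylow subgroups `M_σ` is abelian. -/
theorem core_abelian (hab : IsMulCommutative ↥S) : IsMulCommutative ↥(sigmaCore M) := by
  have hG := d.setup.minSimple
  have hpσ : p ∈ sigma M :=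
    (sigmaCore_hall hG d.coatom).1.2.1 p hp.out (d.order ▸ Subgroup.orderOf_dvd_natCard _ d.mem)
  have hxS : x ∈ S := by
    obtain ⟨m, hm, hmS⟩ := (d.syl.mono d.S_le le_top).conj_le (Fusion.isPGroup_cj (IsPGroup.of_card (n := 1)
      (by rw [Nat.card_zpowers, d.order, pow_one]) : IsPGroup p ↥(Subgroup.zpowers x)) 1)
      (by rw [Fusion.cj_one]; exact Subgroup.zpowers_le.2 d.mem)
    rw [Fusion.cj_one, Fusion.cj_le_iff,
      cj_eq_self (d.normal (M.inv_mem ((Subgroup.map_subtype_le _ : sigmaCore M ≤ M) hm)))] at hmS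
    exact hmS (Subgroup.mem_zpowers x)
  have hle : sigmaCore M ≤ M ⊓ N := by
    refine le_inf (Subgroup.map_subtype_le _) (Subgroup.relIndex_eq_one.1 ?_)
    by_contra hne
    obtain ⟨q, hq, hd⟩ := Nat.exists_prime_and_dvd hne
    haveI := Fact.mk hq
    obtain ⟨T, hT⟩ := exists_sylIn (p := q) (sigmaCore M)
    refine hT.not_dvd (hd.trans (Subgroup.relIndex_dvd_of_le_left _ ?_))
    by_cases hqp : q = p
    · subst hqp
      obtain ⟨m, hm, hmT⟩ := (d.syl.mono d.S_le le_top).conj_le hT.isPGroup hT.le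
      rw [Fusion.cj_le_iff,
        cj_eq_self (d.normal (M.inv_mem ((Subgroup.map_subtype_le _ : sigmaCore M ≤ M) hm)))] at hmT
      refine hmT.trans (le_trans (fun s hs => Subgroup.mem_centralizer_singleton_iff.2 ?_) d.centralizer)
      exact congrArg Subtype.val (hab.is_comm.comm (⟨s, hs⟩ : S) ⟨x, hxS⟩)
    · obtain ⟨i, hi⟩ := IsPGroup.iff_card.1 hT.isPGroup
      exact (d.coprime_le hT.le (hi ▸ ((Nat.coprime_primes hq hp.out).2 hqp).pow_left i)).trans inf_le_right
  exact nilpotent_abelian hG d.coatomN (hle.trans inf_le_right) d.nilpotent fun q hq hd =>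
    compl_pi hG d.coatomN d.compl hq (hd.trans (Subgroup.card_dvd_of_le hle))

/-- The only prime of `τ₂(N)`, for nonabelian Sylow subgroups. -/
theorem tau_eq (hna : ¬ IsMulCommutative ↥S) : tau2 N = {p} := by
  refine (nonabelian_case d.setup d.compl d.B_le d.tau fun S' hS' => hna ?_).1
  obtain ⟨g, -, rfl⟩ := (Fusion.sylIn_top S').conj_eq d.syl
  haveI := hS'
  exact Subgroup.map_isMulCommutative _ _

/-- `O_{p'}(M_σ)` is cyclic for nonabelian Sylow subgroups. -/
theorem pPrime_cyclic (hna : ¬ IsMulCommutative ↥S) : IsCyclic ↥(pPrimeCore p ↥(sigmaCore M)) := by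
  have hG := d.setup.minSimple
  set W := (pPrimeCore p ↥(sigmaCore M)).map (sigmaCore M).subtype with hW
  have hWσ : W ≤ sigmaCore M := Subgroup.map_subtype_le _
  have hco : (Nat.card W).Coprime p := by
    rw [hW, Subgroup.card_map_of_injective (sigmaCore M).subtype_injective]
    exact Fusion.card_pPrimeCore_coprime p _
  have hWN : W ≤ M ⊓ N := d.coprime_le hWσ hco
  haveI := d.nilpotent
  have hWπ : ∀ q : ℕ, q.Prime → q ∣ Nat.card W → q ∉ sigma N := fun q hq hd =>
    compl_pi hG d.coatomN d.compl hq (hd.trans (Subgroup.card_dvd_of_le hWN))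
  have hab := nilpotent_abelian hG d.coatomN (hWN.trans inf_le_right) (isNilpotent_of_le hWσ) hWπ
  have hc : IsCyclic ↥W := cyclic_of_rank_one hG hab fun q hq hd => by
    haveI := Fact.mk hq
    have hqp : q ≠ p := fun h => hp.out.ne_one (Nat.eq_one_of_dvd_coprimes hco (h ▸ hd) dvd_rfl)
    refine Solv.RankTwo.prankLE_of_injective (Subgroup.inclusion (hWN.trans inf_le_right))
      (Subgroup.inclusion_injective _) ?_
    exact ((classify hG d.coatomN hq (hWπ q hq hd) (hd.trans (Subgroup.card_dvd_of_le (hWN.trans inf_le_right)))).resolve_left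
      (by rw [d.tau_eq hna]; exact hqp)).elim (fun h => h.2.2.2.2) fun h => h.2.2.2
  exact isCyclic_of_surjective ((pPrimeCore p ↥(sigmaCore M)).equivMapOfInjective (sigmaCore M).subtype
    (sigmaCore M).subtype_injective).symm (MulEquiv.surjective _)

/-- The `p`-core of `M_σ`. -/
theorem pCore_card : Nat.card ↥(pCore p ↥(sigmaCore M)) = Nat.card S := by
  have hS : SylIn p S (sigmaCore M) := d.syl.mono d.S_le le_top
  obtain ⟨T, hT⟩ := hS.exists_sylow_subgroupOf
  haveI : (T : Subgroup ↥(sigmaCore M)).Normal := hT ▸ (Subgroup.normal_subgroupOf_iff_le_normalizer d.S_le).2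
    ((Subgroup.map_subtype_le _).trans d.normal)
  rw [le_antisymm (Fusion.pCore_le_sylow T) (le_sSup ⟨inferInstance, T.isPGroup'⟩), hT, Solv.card_subgroupOf d.S_le]

end Stray

end Cfsg.Agent.OddLocal.Kappa
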