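import Cfsg.Agent.Lib.OddLocal.KappaTypeData

/-!
Maximal subgroups of Type I, and the elements outside `M_σ` with fixed points.
-/

set_option autoImplicit false
set_option linter.style.haveILetI false

namespace Cfsg.Agent.OddLocal.Kappa

open scoped Pointwise commutatorElement
open Cfsg
open Cfsg.Agent.Fusion (SylIn cj cj_eq_self cj_mono card_cj exists_sylIn exists_sylIn_ge)
open Cfsg.Agent.OddLocal.Uniq
open Cfsg.Agent.OddLocal.Sig
open Cfsg.Agent.OddLocal.RankTwo
open Cfsg.Agent.OddLocal.TauTwo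
open Cfsg.Agent.OddLocal.Prime
open Cfsg.Agent.OddLocal.Disjoint (mem_centralizer_zpowers zpowers_card)

universe u

variable {G : Type u} [Group G] [Finite G] {M K U L E : Subgroup G}

/-- A maximal subgroup of Frobenius type has an empty `κ`. -/
theorem typeI_forward (hG : IsMinSimpleOddOrder G) (hM : IsCoatom M) (hKU : IsSigmaDecomposition M K U)
    (h : IsOfTypeI M) : K = ⊥ ∧ U ≠ ⊥ := by
  obtain ⟨⟨-, -, -, -, U', -, hc, -, U₀, -, hexp, hfree⟩, -⟩ := h
  have hK : K = ⊥ := by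
    by_contra hK1
    obtain ⟨q, hq, hqK⟩ := Nat.exists_prime_and_dvd fun h => hK1 (Subgroup.card_eq_one.1 h)
    haveI := Fact.mk hq
    have hκ := hKU.hall.2.1 q hq hqK
    have hFc : Nat.card (fittingHallOf M) = Nat.card (fittingHall ↥M) :=
      Subgroup.card_map_of_injective M.subtype_injective
    have hqU : q ∣ Nat.card U' := (hq.dvd_mul.1 (hc.card_mul.symm ▸ hκ.2.1)).resolve_left fun hd =>
      hκ.2.2.1 ((sigmaCore_hall hG hM).1.2.1 q hq ((hFc.symm ▸ hd).trans
        (Subgroup.card_dvd_of_le (Support.fittingHallOf_le hG hM))))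
    obtain ⟨w, hw⟩ := exists_prime_orderOf_dvd_card' q hqU
    have hqU₀ : q ∣ Nat.card U₀ := ((hw.symm.dvd.trans (Monoid.order_dvd_exponent w)).trans hexp.symm.dvd).trans
      Group.exponent_dvd_nat_card
    obtain ⟨⟨u, hu⟩, huo⟩ := exists_prime_orderOf_dvd_card' q hqU₀
    rw [Subgroup.orderOf_mk] at huo
    have hu1 : u ≠ 1 := ne_one_of_order huo
    have huo' : orderOf (u : G) = q := by rw [Subgroup.orderOf_coe, huo]
    obtain ⟨m, hm, hmk⟩ := mem_hall_conj hG hM hKU.hall u.2 fun t ht htd =>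
      (Nat.prime_dvd_prime_iff_eq ht hq).1 (huo' ▸ htd) ▸ hκ
    obtain ⟨c, hc', hc1⟩ := exists_ne_one (star_ne_bot hG hM hKU.hall hK1)
    have hy : m * c * m⁻¹ ∈ fittingHallOf M :=
      (Subgroup.mem_normalizer_iff.1 (Bender.le_normalizer_map _ hm) c).1 (star_le_fittingHall hG hM hKU hK1 hc')
    obtain ⟨y, hy', hye⟩ := hy
    have hcomm : u * y = y * u := Subtype.ext (by
      show (u : G) * (y : G) = (y : G) * (u : G)
      rw [show (y : G) = m * c * m⁻¹ from hye]
      have h1 : (m⁻¹ * (u : G) * m) * c = c * (m⁻¹ * (u : G) * m) := Subgroup.mem_centralizer_iff.1 hc'.2 _ hmk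
      calc (u : G) * (m * c * m⁻¹) = m * ((m⁻¹ * (u : G) * m) * c) * m⁻¹ := by group
        _ = m * (c * (m⁻¹ * (u : G) * m)) * m⁻¹ := by rw [h1]
        _ = _ := by group)
    have hy1 : y = 1 := hfree u hu hu1 y hy' hcomm
    rw [hy1, map_one] at hye
    exact hc1 (conj_eq_one_iff.1 hye.symm)
  exact ⟨hK, fun hU => U_ne_bot_of_K hG hM hKU hU hK⟩

/-- The setting shared by the types I and II: `L` is `M` or `M'`. -/
structure Upper (M L U : Subgroup G) : Prop where
  coatom : IsCoatom M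
  le : L ≤ M
  normal : M ≤ Subgroup.normalizer (L : Set G)
  split : IsComplIn (sigmaCore M) U L
  kappa : ∀ q : ℕ, q.Prime → q ∣ Nat.card L → q ∉ sigma M → q ∉ kappa M

namespace Upper

variable (d : Upper M L U)
include d

theorem not_sigma (hG : IsMinSimpleOddOrder G) {q : ℕ} (hq : q.Prime) (hd : q ∣ Nat.card U) : q ∉ sigma M :=
  fun hσ => (sigmaCore_hall hG d.coatom).1.2.2 q hq hσ (by
    have h1 := complIn_card d.split (d.le.trans le_normalizer_piCoreOf)
    have h2 := Subgroup.relIndex_mul_relIndex ⊥ (sigmaCore M) L bot_le d.split.1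
    rw [Subgroup.relIndex_bot_left, Subgroup.relIndex_bot_left, h1.1] at h2
    rw [← Nat.eq_of_mul_eq_mul_left Nat.card_pos h2] at hd
    rw [← Subgroup.relIndex_mul_relIndex (sigmaCore M) L M d.split.1 d.le]
    exact hd.mul_right _)

/-- An element of `L` of order prime to `σ(M)` with a fixed point is supported on `τ₂(M)`. -/
theorem tau (hG : IsMinSimpleOddOrder G) {b y : G} (hb : b ∈ L)
    (hbσ : ∀ t : ℕ, t.Prime → t ∣ orderOf b → t ∉ sigma M) (hy : y ∈ sigmaCore M) (hy1 : y ≠ 1)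
    (hby : b * y = y * b) : ∀ t : ℕ, t.Prime → t ∣ orderOf b → t ∈ tau2 M := fun t ht htd =>
  (fixed_class hG d.coatom (d.le hb) hy hy1 hby ht htd (hbσ t ht htd)).resolve_left fun h =>
    d.kappa t ht (htd.trans (Subgroup.orderOf_dvd_natCard L hb)) (hbσ t ht htd) h.1

/-- The nonidentity part of order prime to `σ(M)` of an element outside `M_σ` with a fixed point. -/
theorem exists_part (hG : IsMinSimpleOddOrder G) {a y : G} (ha : a ∈ L) (haσ : a ∉ sigmaCore M)
    (hy : y ∈ sigmaCore M) (hy1 : y ≠ 1) (hay : a * y = y * a) :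
    ∃ b ∈ Subgroup.zpowers a, b ≠ 1 ∧ (∀ t : ℕ, t.Prime → t ∣ orderOf b → t ∉ sigma M) ∧
      ∀ t : ℕ, t.Prime → t ∣ orderOf b → t ∈ tau2 M := by
  obtain ⟨e, b, hab, -, hea, hba, heσ, hbσ⟩ := exists_parts (sigma M) a
  have hbL : b ∈ L := Subgroup.zpowers_le.2 ha hba
  obtain ⟨i, hi⟩ := Subgroup.mem_zpowers_iff.1 hba
  refine ⟨b, hba, fun h => haσ ?_, hbσ, d.tau hG hbL hbσ hy hy1 (hi ▸ ((show Commute a y from hay).zpow_left i).eq)⟩
  rw [hab, h, mul_one]
  exact le_of_hall (sigmaCore_hall hG d.coatom).1 le_normalizer_piCoreOf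
    (Subgroup.zpowers_le.2 (d.le (Subgroup.zpowers_le.2 ha hea)))
    (fun t ht htd => heσ t ht (by rwa [Nat.card_zpowers] at htd)) (Subgroup.mem_zpowers e)

/-- An element conjugating one such element into another lies in `M`. -/
theorem mem_of_conj (hG : IsMinSimpleOddOrder G) {a g y y' : G} (ha : a ∈ L) (haσ : a ∉ sigmaCore M)
    (hy : y ∈ sigmaCore M) (hy1 : y ≠ 1) (hay : a * y = y * a) (hga : g * a * g⁻¹ ∈ L)
    (hy' : y' ∈ sigmaCore M) (hy'1 : y' ≠ 1) (hgay : (g * a * g⁻¹) * y' = y' * (g * a * g⁻¹)) : g ∈ M := by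
  have hM := d.coatom
  obtain ⟨b, hba, hb1, hbσ, hbτ⟩ := d.exists_part hG ha haσ hy hy1 hay
  obtain ⟨i, hi⟩ := Subgroup.mem_zpowers_iff.1 hba
  have hbL : b ∈ L := Subgroup.zpowers_le.2 ha hba
  have hgb : g * b * g⁻¹ = (g * a * g⁻¹) ^ i := by rw [conj_zpow, hi]
  have ho : orderOf (g * b * g⁻¹) = orderOf b :=
    orderOf_injective (MulAut.conj g).toMonoidHom (MulAut.conj g).injective b
  have hgbL : g * b * g⁻¹ ∈ L := hgb ▸ L.zpow_mem hga i
  have hgbC : (g * b * g⁻¹) * y' = y' * (g * b * g⁻¹) :=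
    hgb ▸ ((show Commute (g * a * g⁻¹) y' from hgay).zpow_left i).eq
  obtain ⟨E, hE⟩ := exists_compl hG hM
  have h1 := element_unique hG hM hE (d.le hbL) hb1 hbτ hy hy1
    (hi ▸ ((show Commute a y from hay).zpow_left i).eq)
  have h2 := element_unique hG hM hE (d.le hgbL) (fun h => hb1 (conj_eq_one_iff.1 h))
    (fun t ht htd => hbτ t ht (ho ▸ htd)) hy' hy'1 hgbC
  have h3 : cj M g = M := h2.2 _ (isCoatom_cj hM g) fun z hz => by
    have h4 : g⁻¹ * z * g ∈ M := h1.1 (Subgroup.mem_centralizer_singleton_iff.2 (by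
      have := Subgroup.mem_centralizer_singleton_iff.1 hz
      calc g⁻¹ * z * g * b = g⁻¹ * (z * (g * b * g⁻¹)) * g := by group
        _ = g⁻¹ * ((g * b * g⁻¹) * z) * g := by rw [this]
        _ = _ := by group))
    have h5 := Fusion.conj_mem_cj (g := g) h4
    rwa [show g * (g⁻¹ * z * g) * g⁻¹ = z by group] at h5
  rw [← normalizer_coatom hG hM]
  exact Fusion.mem_normalizer_iff_cj.2 h3

/-- Sylow subgroups of `U` are abelian of rank at most two. -/
theorem sylow_facts (hG : IsMinSimpleOddOrder G) {p : ℕ} [hp : Fact p.Prime] (P : Sylow p U) :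
    IsMulCommutative (P : Subgroup U) ∧ PRankLE p 2 (P : Subgroup U) := by
  have hUM : U ≤ M := d.split.2.1.trans d.le
  set f : ↥(P : Subgroup U) →* ↥M := (Subgroup.inclusion hUM).comp (P : Subgroup U).subtype
  have hf : Function.Injective f := (Subgroup.inclusion_injective hUM).comp Subtype.val_injective
  by_cases hd : p ∣ Nat.card U
  · have hσ := d.not_sigma hG hp.out hd
    have hab := pgroup_abelian hG d.coatom hσ (P.isPGroup'.map U.subtype) ((Subgroup.map_subtype_le _).trans hUM)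
    exact ⟨⟨⟨fun a b => Subtype.ext (Subtype.ext (congrArg Subtype.val
      (hab.is_comm.comm ⟨_, Subgroup.mem_map_of_mem U.subtype a.2⟩ ⟨_, Subgroup.mem_map_of_mem U.subtype b.2⟩) :))⟩⟩,
      Solv.RankTwo.prankLE_of_injective f hf
        (prankLE_of_not_alpha hp.out (not_alpha_of_not_sigma hG d.coatom hσ))⟩
  · have h1 : (P : Subgroup U) = ⊥ := by
      obtain ⟨i, hi⟩ := IsPGroup.iff_card.1 P.isPGroup'
      refine Subgroup.card_eq_one.1 (hi.trans ?_)
      by_contra hne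
      exact hd ((dvd_pow_self p (fun h => hne (by rw [h, pow_zero]))).trans
        (hi.symm.dvd.trans (Subgroup.card_subgroup_dvd_card _)))
    have htriv : ∀ a : ↥(P : Subgroup U), a = 1 := fun a => Subtype.ext (Subgroup.mem_bot.1 (h1.le a.2))
    refine ⟨⟨⟨fun a b => by rw [htriv a, htriv b]⟩⟩, fun A _ _ => ?_⟩
    have hA : A = ⊥ := (Subgroup.eq_bot_iff_forall _).2 fun a _ => htriv a
    rw [hA, Subgroup.card_bot]
    exact Nat.one_le_pow _ _ hp.out.pos

/-- The centralizer of a set in `U` with a common fixed point lies in `M` only. -/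
theorem centralizer_facts (hG : IsMinSimpleOddOrder G) {X : Set G} (hX : X ⊆ (U : Set G) \ {1}) (hne : X.Nonempty)
    (hfix : sigmaCore M ⊓ Subgroup.centralizer X ≠ ⊥) :
    Subgroup.centralizer X ≤ M ∧ ∀ H : Subgroup G, IsCoatom H → Subgroup.centralizer X ≤ H → H = M := by
  have hM := d.coatom
  have hUM : U ≤ M := d.split.2.1.trans d.le
  obtain ⟨y, hy, hy1⟩ := exists_ne_one hfix
  obtain ⟨E, hE, hUE⟩ := exists_compl_ge hG hM hUM fun t ht htd => d.not_sigma hG ht htd
  obtain ⟨A₀, -, -, hab, hmem⟩ := fixed_normal_abelian hG hM hE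
  set T := Subgroup.closure X with hT
  have hTU : T ≤ U := (Subgroup.closure_le U).2 fun x hx => (hX hx).1
  have hTy : T ≤ Subgroup.centralizer ({y} : Set G) := (Subgroup.closure_le _).2 fun x hx =>
    Subgroup.mem_centralizer_singleton_iff.2 (Subgroup.mem_centralizer_iff.1 hy.2 x hx)
  have hτ : ∀ z ∈ T, ∀ t : ℕ, t.Prime → t ∣ orderOf z → t ∈ tau2 M := fun z hz =>
    d.tau hG (d.split.2.1 (hTU hz))
      (fun t ht htd => d.not_sigma hG ht (htd.trans (Subgroup.orderOf_dvd_natCard U (hTU hz)))) hy.1 hy1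
      (Subgroup.mem_centralizer_singleton_iff.1 (hTy hz))
  have hTA : T ≤ A₀ := fun z hz => hmem z (hUE (hTU hz)) y hy.1 hy1
    (Subgroup.mem_centralizer_singleton_iff.1 (hTy hz)) (hτ z hz)
  have hTab : IsMulCommutative ↥T := ⟨⟨fun a b => Subtype.ext (congrArg Subtype.val
    (hab.is_comm.comm (⟨a, hTA a.2⟩ : A₀) ⟨b, hTA b.2⟩) :)⟩⟩
  have hcyc : IsCyclic ↥T := cyclic_of_rank_one hG hTab fun q hq hd => by
    haveI := Fact.mk hq
    by_contra hr
    obtain ⟨F, hF, hFe, hFc⟩ := exists_elab_of_prank hr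
    obtain ⟨⟨z, hz⟩, hzo⟩ := exists_prime_orderOf_dvd_card' q hd
    rw [Subgroup.orderOf_mk] at hzo
    have hqτ := hτ z hz q hq hzo.symm.dvd
    have hnc := noncyclic_of_card hFe hFc
    obtain ⟨A, hAF, hAe, hAc⟩ :=
      exists_elab_sq (Uniq.ne_two hG (Fusion.elab_isPGroup hFe) fun h => hnc (by rw [h]; infer_instance))
        (Fusion.elab_isPGroup hFe) hnc
    have sA := setup_of_tau2 hG hM hqτ ((hAF.trans hF).trans (hTU.trans hUM)) hAe hAc
    refine hy1 (Subgroup.mem_bot.1 (sigmaCore_inf_centralizer sA ▸ Subgroup.mem_inf.2 ⟨hy.1,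
      Subgroup.mem_centralizer_iff.2 fun a ha => ?_⟩))
    exact Subgroup.mem_centralizer_singleton_iff.1 (hTy (hF (hAF ha)))
  obtain ⟨⟨z, hz⟩, hgen⟩ := hcyc.exists_generator
  have hTz : T = Subgroup.zpowers z := le_antisymm (fun t ht => by
    obtain ⟨i, hi⟩ := Subgroup.mem_zpowers_iff.1 (hgen ⟨t, ht⟩)
    exact Subgroup.mem_zpowers_iff.2 ⟨i, congrArg Subtype.val hi⟩) (Subgroup.zpowers_le.2 hz)
  have hz1 : z ≠ 1 := fun h => by
    obtain ⟨x, hx⟩ := hne
    have h1 : x ∈ T := Subgroup.subset_closure hx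
    rw [hTz, h, Subgroup.zpowers_one_eq_bot, Subgroup.mem_bot] at h1
    exact (hX hx).2 h1
  have hC : Subgroup.centralizer X = Subgroup.centralizer ({z} : Set G) := by
    rw [← centralizer_zpowers, ← hTz, hT, Subgroup.centralizer_closure]
  rw [hC]
  exact element_unique hG hM hE (hUM (hTU hz)) hz1 (hτ z hz) hy.1 hy1
    (Subgroup.mem_centralizer_singleton_iff.1 (hTy hz))

end Upper

end Cfsg.Agent.OddLocal.Kappa
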