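import Cfsg.Agent.Lib.OddLocal.KappaHat

/-!
Every nontrivial element lies in a covered set or is conjugate into `Ẑ`.
-/

set_option autoImplicit false
set_option linter.style.haveILetI false

namespace Cfsg.Agent.OddLocal.Kappa

open scoped Pointwise commutatorElement
open Cfsg
open Cfsg.Agent.Fusion (SylIn cj cj_cj cj_eq_self cj_mono card_cj mem_normalizer_of_cj_le exists_sylIn_ge exists_sylIn)
open Cfsg.Agent.OddLocal.Uniq
open Cfsg.Agent.OddLocal.Sig
open Cfsg.Agent.OddLocal.RankTwo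
open Cfsg.Agent.OddLocal.TauTwo
open Cfsg.Agent.OddLocal.Prime
open Cfsg.Agent.OddLocal.Disjoint (mem_centralizer_zpowers zpowers_card mem_zpowers_of_order conjugate_of_sigma)

universe u

variable {G : Type u} [Group G] [Finite G] {M A B N L E K U : Subgroup G}

/-- The commuting parts of an element. -/
theorem exists_parts (π : Set ℕ) (g : G) :
    ∃ a b : G, g = a * b ∧ Commute a b ∧ a ∈ Subgroup.zpowers g ∧ b ∈ Subgroup.zpowers g ∧
      (∀ t : ℕ, t.Prime → t ∣ orderOf a → t ∈ π) ∧ (∀ t : ℕ, t.Prime → t ∣ orderOf b → t ∉ π) := by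
  obtain ⟨m, n, hmn, hco, hm, hn⟩ := Solv.exists_pi_split π (orderOf g) (orderOf_pos g).ne'
  have hgcd := Nat.gcd_eq_gcd_ab m n
  rw [hco.gcd_eq_one, Nat.cast_one] at hgcd
  set i := Nat.gcdA m n
  set j := Nat.gcdB m n
  refine ⟨g ^ ((n : ℤ) * j), g ^ ((m : ℤ) * i), ?_, (Commute.refl g).zpow_zpow _ _,
    Subgroup.zpow_mem_zpowers _ _, Subgroup.zpow_mem_zpowers _ _,
    fun t ht htd => hm t ht (htd.trans (orderOf_dvd_of_pow_eq_one ?_)),
    fun t ht htd => hn t ht (htd.trans (orderOf_dvd_of_pow_eq_one ?_))⟩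
  · rw [← zpow_add, add_comm, ← hgcd, zpow_one]
  · rw [← zpow_natCast, ← zpow_mul, show (n : ℤ) * j * (m : ℤ) = ((m * n : ℕ) : ℤ) * j by push_cast; ring, zpow_mul,
      zpow_natCast, ← hmn, pow_orderOf_eq_one, one_zpow]
  · rw [← zpow_natCast, ← zpow_mul, show (m : ℤ) * i * (n : ℤ) = ((m * n : ℕ) : ℤ) * i by push_cast; ring, zpow_mul,
      zpow_natCast, ← hmn, pow_orderOf_eq_one, one_zpow]

/-- A point of a core with a `τ₂`-element lies in a covered set. -/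
theorem tau2_tilde (hG : IsMinSimpleOddOrder G) (hM : IsCoatom M) {x x' : G} (hx : x ∈ sigmaCore M) (hx1 : x ≠ 1)
    (hx' : x' ∈ M) (hx'1 : x' ≠ 1) (hxx : x' * x = x * x')
    (hτ : ∀ t : ℕ, t.Prime → t ∣ orderOf x' → t ∈ tau2 M) :
    ∃ L : Subgroup G, IsCoatom L ∧ x * x' ∈ tildeOf L ((sigmaCore L : Set G) \ {1}) := by
  obtain ⟨E, hE⟩ := exists_compl hG hM
  obtain ⟨hCx, hu⟩ := element_unique hG hM hE hx' hx'1 hτ hx hx1 hxx
  obtain ⟨s, n, hs, hsd, -⟩ := exists_prime_power_order hx'1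
  haveI := Fact.mk hs
  obtain ⟨S, hSE, sS⟩ := exists_setup_in_compl hG hM hE (hτ s hs hsd)
  obtain ⟨H, hH, hNH⟩ := exists_coatom _ (normalizer_pgroup_ne_top hG (Fusion.elab_isPGroup sS.elem) sS.ne_bot)
  obtain ⟨h, hh⟩ := SigmaSubgroups.exists_conj_le hG hH (Y := Subgroup.zpowers x')
    (fun h => hx'1 (Subgroup.zpowers_eq_bot.1 h)) fun t ht htd =>
      tau2_common sS hE hSE hH hNH (hτ t ht (by rwa [Nat.card_zpowers] at htd))
  have hL := isCoatom_cj hH h⁻¹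
  have hxL : x' ∈ sigmaCore (cj H h⁻¹) := by
    rw [Support.sigmaCore_cj hG hH]
    exact cj_mono hh h⁻¹ ((Fusion.cj_cj_inv (Subgroup.zpowers x') h).ge (Subgroup.mem_zpowers x'))
  have hnot : ¬ Subgroup.centralizer ({x'} : Set G) ≤ cj H h⁻¹ := fun hle =>
    (hτ s hs hsd).2.1 (Support.mem_pi hG hM ((hu _ hL hle) ▸ hxL) s hs hsd)
  refine ⟨_, hL, x', ⟨hxL, hx'1⟩, x, ?_, 1, by rw [one_mul, inv_one, mul_one, hxx]⟩
  rw [Support.supportR_eq hG hL hxL hx'1 hnot hM hCx]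
  exact ⟨hx, Subgroup.mem_centralizer_singleton_iff.2 hxx.symm⟩

/-- The covering of a nontrivial element. -/
theorem cover (hG : IsMinSimpleOddOrder G) {g : G} (hg : g ≠ 1) :
    (∃ L : Subgroup G, IsCoatom L ∧ g ∈ tildeOf L ((sigmaCore L : Set G) \ {1})) ∨
      ∃ (M : Subgroup G) (x x' : G), IsCoatom M ∧ x ∈ sigmaCore M ∧ x ≠ 1 ∧ x' ∈ M ∧ x' ≠ 1 ∧ x' * x = x * x' ∧
        g = x * x' ∧ ∀ t : ℕ, t.Prime → t ∣ orderOf x' → t ∈ kappa M := by
  obtain ⟨p, n₀, hp, hpd, -⟩ := exists_prime_power_order hg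
  haveI := Fact.mk hp
  have P : Sylow p G := default
  obtain ⟨M₀, -, hM₀, hσ₀, -, -⟩ := exists_maximal_sylow hG P (fun h => P.not_dvd_index (by
    rw [h, Subgroup.index_bot]; exact hpd.trans (orderOf_dvd_natCard g)))
  obtain ⟨a, b, hgab, hab, -, -, haπ, hbπ⟩ := exists_parts (sigma M₀) g
  have ha1 : a ≠ 1 := fun h => by
    rw [h, one_mul] at hgab
    exact hbπ p hp (hgab ▸ hpd) hσ₀
  obtain ⟨h, hh⟩ := SigmaSubgroups.exists_conj_le hG hM₀ (Y := Subgroup.zpowers a)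
    (fun h => ha1 (Subgroup.zpowers_eq_bot.1 h)) fun t ht htd => haπ t ht (by rwa [Nat.card_zpowers] at htd)
  set M := cj M₀ h⁻¹ with hMdef
  have hM : IsCoatom M := isCoatom_cj hM₀ h⁻¹
  have ha : a ∈ sigmaCore M := by
    rw [hMdef, Support.sigmaCore_cj hG hM₀]
    exact cj_mono hh h⁻¹ ((Fusion.cj_cj_inv (Subgroup.zpowers a) h).ge (Subgroup.mem_zpowers a))
  have hbσ : ∀ t : ℕ, t.Prime → t ∣ orderOf b → t ∉ sigma M := fun t ht htd hσ => by
    haveI := Fact.mk ht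
    exact hbπ t ht htd ((sigma_eq_of_conj hMdef).1 hσ)
  by_cases hb1 : b = 1
  · exact Or.inl ⟨M, hM, a, ⟨ha, ha1⟩, 1, one_mem _, 1, by rw [hgab, hb1]; group⟩
  by_cases hCa : Subgroup.centralizer ({a} : Set G) ≤ M
  · have hbM : b ∈ M := hCa (Subgroup.mem_centralizer_singleton_iff.2 hab.symm.eq)
    rcases fixed_dichotomy hG hM hbM ha ha1 hab.symm.eq hb1 hbσ with h' | h'
    · exact Or.inr ⟨M, a, b, hM, ha, ha1, hbM, hb1, hab.symm.eq, hgab, h'.1⟩
    · obtain ⟨L, hL, hm⟩ := tau2_tilde hG hM ha ha1 hbM hb1 hab.symm.eq h'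
      exact Or.inl ⟨L, hL, hgab ▸ hm⟩
  obtain ⟨H, hH, hCH, hu, hcompl, hinf, -⟩ := Support.over_centralizer hG hM ha ha1 hCa
  have hbC : b ∈ Subgroup.centralizer ({a} : Set G) := Subgroup.mem_centralizer_singleton_iff.2 hab.symm.eq
  obtain ⟨v, w, hbvw, hvw, hvb, hwb, hvπ, hwπ⟩ := exists_parts (sigma H) b
  have hvC : v ∈ Subgroup.centralizer ({a} : Set G) := Subgroup.zpowers_le.2 hbC hvb
  have hwC : w ∈ Subgroup.centralizer ({a} : Set G) := Subgroup.zpowers_le.2 hbC hwb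
  have hvσ : v ∈ sigmaCore H := le_of_hall (sigmaCore_hall hG hH).1 le_normalizer_piCoreOf
    (Subgroup.zpowers_le.2 (hCH hvC)) (fun t ht htd => hvπ t ht (by rwa [Nat.card_zpowers] at htd))
    (Subgroup.mem_zpowers v)
  have hva : v ∈ supportR M a := by
    rw [Support.supportR_eq hG hM ha ha1 hCa hH hCH]
    exact ⟨hvσ, hvC⟩
  by_cases hw1 : w = 1
  · exact Or.inl ⟨M, hM, a, ⟨ha, ha1⟩, v, hva, 1, by rw [hgab, hbvw, hw1]; group⟩
  obtain ⟨hn, hcC, -⟩ := Support.centralizer_compl hG hM ha hH hCH hcompl hinf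
  set C := Subgroup.centralizer ({a} : Set G) with hCdef
  obtain ⟨ρ, hρ, hρw⟩ := Solv.sz_contain (sigmaCore H ⊓ C) (M ⊓ C) (Subgroup.zpowers w) (inf_le_right.trans hn)
    (Subgroup.zpowers_le.2 (by
      obtain ⟨e, he, s, hs, hes⟩ := hcC.2.2.2 w hwC
      exact hes ▸ Subgroup.mul_mem _ (Subgroup.mem_sup_right he) (Subgroup.mem_sup_left hs)))
    (Nat.coprime_of_dvd fun t ht h1 h2 => hwπ t ht (by rwa [Nat.card_zpowers] at h2)
      ((sigmaCore_hall hG hH).1.2.1 t ht (h1.trans (Subgroup.card_dvd_of_le inf_le_left))))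
    (Nat.coprime_of_dvd fun t ht h1 h2 => compl_pi hG hH hcompl ht (h2.trans (Subgroup.card_dvd_of_le
      (le_inf inf_le_left (inf_le_right.trans hCH) : M ⊓ C ≤ M ⊓ H)))
      ((sigmaCore_hall hG hH).1.2.1 t ht (h1.trans (Subgroup.card_dvd_of_le inf_le_left))))
    (Or.inl (Solv.isSolvable_of_le ((inf_le_left : sigmaCore H ⊓ C ≤ sigmaCore H).trans
      (Subgroup.map_subtype_le _)) (hG.2.2.2 H hH.1)))
  rw [Solv.conj_smul_eq_map] at hρw
  have hρa : ρ * a = a * ρ := Subgroup.mem_centralizer_singleton_iff.1 hρ.2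
  set M' := cj M ρ with hM'def
  have hM' : IsCoatom M' := isCoatom_cj hM ρ
  have hwM' : w ∈ M' := cj_mono inf_le_left ρ (hρw (Subgroup.mem_zpowers w))
  have ha' : a ∈ sigmaCore M' := by
    rw [hM'def, Support.sigmaCore_cj hG hM]
    have := Fusion.conj_mem_cj (g := ρ) ha
    rwa [hρa, mul_inv_cancel_right] at this
  have hCa' : ¬ Subgroup.centralizer ({a} : Set G) ≤ M' := fun hle => hCa (by
    have hC : cj C ρ = C := Fusion.cj_eq_self_of_mem hρ.2
    exact Fusion.cj_le_cj.1 (hC.le.trans hle))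
  have hwσ : ∀ t : ℕ, t.Prime → t ∣ orderOf w → t ∉ sigma M' := fun t ht htd hσ => by
    haveI := Fact.mk ht
    refine hbσ t ht (htd.trans ?_) ((sigma_eq_of_conj hM'def).1 hσ)
    rw [← Nat.card_zpowers b]
    exact Subgroup.orderOf_dvd_natCard _ hwb
  have haw : w * a = a * w := Subgroup.mem_centralizer_singleton_iff.1 hwC
  rcases fixed_dichotomy hG hM' hwM' ha' ha1 haw hw1 hwσ with h' | h'
  · exact absurd h'.2 hCa'
  obtain ⟨E', hE'⟩ := exists_compl hG hM'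
  obtain ⟨hCw, -⟩ := element_unique hG hM' hE' hwM' hw1 h' ha' ha1 haw
  have hv1 : v = 1 := by
    obtain ⟨H', hH', hCH', -, -, hinf', -⟩ := Support.over_centralizer hG hM' ha' ha1 hCa'
    refine Subgroup.mem_bot.1 ((hu H' hH' hCH' ▸ hinf' : sigmaCore H ⊓ M' = ⊥) ▸ Subgroup.mem_inf.2
      ⟨hvσ, hCw (Subgroup.mem_centralizer_singleton_iff.2 hvw.eq)⟩)
  obtain ⟨L, hL, hm⟩ := tau2_tilde hG hM' ha' ha1 hwM' hw1 haw h'
  exact Or.inl ⟨L, hL, by rwa [hgab, hbvw, hv1, one_mul]⟩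

/-- A `π`-element lies in a conjugate of a given Hall `π`-subgroup. -/
theorem mem_hall_conj (hG : IsMinSimpleOddOrder G) (hM : IsCoatom M) {π : Set ℕ} (hK : IsPiHallOf π K M) {x : G}
    (hx : x ∈ M) (hπ : ∀ t : ℕ, t.Prime → t ∣ orderOf x → t ∈ π) : ∃ m ∈ M, m⁻¹ * x * m ∈ K := by
  have hcard : Nat.card M = Nat.card K * K.relIndex M := by
    have h := Subgroup.relIndex_mul_relIndex ⊥ K M bot_le hK.1
    rw [Subgroup.relIndex_bot_left, Subgroup.relIndex_bot_left] at h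
    exact h.symm
  obtain ⟨m, hm⟩ := Solv.hall_contain (hG.2.2.2 M hM.1) (m := Nat.card K) (n := K.relIndex M) hcard
    (Nat.coprime_of_dvd fun t ht h1 h2 => hK.2.2 t ht (hK.2.1 t ht h1) h2) (Subgroup.zpowers (⟨x, hx⟩ : M))
    (K.subgroupOf M) (by
      rw [Nat.card_zpowers, Subgroup.orderOf_mk]
      exact Nat.coprime_of_dvd fun t ht h1 h2 => hK.2.2 t ht (hπ t ht h1) h2)
    (Solv.card_subgroupOf hK.1)
  refine ⟨m, m.2, ?_⟩
  have h := hm (Subgroup.mem_zpowers _)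
  rw [Solv.conj_smul_eq_map] at h
  obtain ⟨k, hk, hke⟩ := h
  have hke' : (m : G) * (k : G) * (m : G)⁻¹ = x := congrArg Subtype.val hke
  rw [← hke', show (m : G)⁻¹ * ((m : G) * k * (m : G)⁻¹) * m = k by group]
  exact hk

/-- A `κ`-element with its fixed point lies in `Ẑ` up to conjugation. -/
theorem mem_hat_conj (hG : IsMinSimpleOddOrder G) (hB : IsCoatom B) (hK : IsPiHallOf (kappa B) K B) {x x' : G}
    (hx : x ∈ sigmaCore B) (hx1 : x ≠ 1) (hx' : x' ∈ B) (hx'1 : x' ≠ 1) (hxx : x' * x = x * x')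
    (hκ : ∀ t : ℕ, t.Prime → t ∣ orderOf x' → t ∈ kappa B) :
    ∃ y : G, ∃ z ∈ hat B K, x * x' = y * z * y⁻¹ := by
  obtain ⟨m, hm, hk⟩ := mem_hall_conj hG hB hK hx' hκ
  have hkc : (m⁻¹ * x' * m) * (m⁻¹ * x * m) = (m⁻¹ * x * m) * (m⁻¹ * x' * m) := by
    calc _ = m⁻¹ * (x' * x) * m := by group
      _ = m⁻¹ * (x * x') * m := by rw [hxx]
      _ = _ := by group
  have hk1 : m⁻¹ * x' * m ≠ 1 := fun h => hx'1 (by
    calc x' = m * (m⁻¹ * x' * m) * m⁻¹ := by group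
      _ = 1 := by rw [h]; group)
  have hc1 : m⁻¹ * x * m ≠ 1 := fun h => hx1 (by
    calc x = m * (m⁻¹ * x * m) * m⁻¹ := by group
      _ = 1 := by rw [h]; group)
  have hcσ : m⁻¹ * x * m ∈ sigmaCore B := by
    have := (Subgroup.mem_normalizer_iff.1 (le_normalizer_piCoreOf (B.inv_mem hm)) x).1 hx
    rwa [inv_inv] at this
  have hc : m⁻¹ * x * m ∈ sigmaCore B ⊓ Subgroup.centralizer (K : Set G) := by
    rw [← prime_action hG hB hK hk hk1]
    exact ⟨hcσ, Subgroup.mem_centralizer_singleton_iff.2 hkc.symm⟩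
  exact ⟨m, _, hat_mem hG hB hK hk hc hk1 hc1, by rw [hkc]; group⟩

/-- Conjugate maximal subgroups have one covered set. -/
theorem tilde_cj (hG : IsMinSimpleOddOrder G) (hL : IsCoatom L) (h : G) {g : G}
    (hg : g ∈ tildeOf (cj L h) ((sigmaCore (cj L h) : Set G) \ {1})) :
    g ∈ tildeOf L ((sigmaCore L : Set G) \ {1}) := by
  obtain ⟨a, ⟨ha, ha1 : a ≠ 1⟩, r, hr, y, rfl⟩ := hg
  rw [Support.sigmaCore_cj hG hL] at ha
  obtain ⟨b, hb, rfl⟩ := ha
  change h * b * h⁻¹ ≠ 1 at ha1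
  have hb1 : b ≠ 1 := fun e => ha1 (by rw [e]; group)
  change r ∈ supportR (cj L h) (h * b * h⁻¹) at hr
  rw [Support.supportR_cj hG hL hb hb1] at hr
  obtain ⟨r₀, hr₀, rfl⟩ := hr
  exact ⟨b, ⟨hb, hb1⟩, r₀, hr₀, y * h, by
    show y * (h * b * h⁻¹ * (h * r₀ * h⁻¹)) * y⁻¹ = _
    group⟩

/-- The covered sets of nonconjugate maximal subgroups are disjoint. -/
theorem tilde_disjoint' (hG : IsMinSimpleOddOrder G) (hM : IsCoatom M) (hN : IsCoatom N)
    (hne : ∀ g : G, N ≠ cj M g) :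
    tildeOf M ((sigmaCore M : Set G) \ {1}) ∩ tildeOf N ((sigmaCore N : Set G) \ {1}) = ∅ := by
  refine Set.eq_empty_iff_forall_notMem.2 ?_
  rintro w ⟨⟨a, ⟨ha, ha1 : a ≠ 1⟩, r, hr, y, rfl⟩, a', ⟨ha', ha1' : a' ≠ 1⟩, r', hr', y', he⟩
  have hx : y * a * y⁻¹ ∈ sigmaCore (cj M y) := by
    rw [Support.sigmaCore_cj hG hM]
    exact Fusion.conj_mem_cj ha
  have hx' : y' * a' * y'⁻¹ ∈ sigmaCore (cj N y') := by
    rw [Support.sigmaCore_cj hG hN]
    exact Fusion.conj_mem_cj ha'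
  have hs : y * r * y⁻¹ ∈ supportR (cj M y) (y * a * y⁻¹) := by
    rw [Support.supportR_cj hG hM ha ha1]
    exact Fusion.conj_mem_cj hr
  have hs' : y' * r' * y'⁻¹ ∈ supportR (cj N y') (y' * a' * y'⁻¹) := by
    rw [Support.supportR_cj hG hN ha' ha1']
    exact Fusion.conj_mem_cj hr'
  refine Support.coset_disjoint hG (isCoatom_cj hM y) (isCoatom_cj hN y') hx hx'
    (fun h => ha1 (conj_eq_one_iff.1 h)) (fun h => ha1' (conj_eq_one_iff.1 h)) (fun h => ?_) hs hs' ?_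
  · obtain ⟨q, hq, hqd⟩ := Nat.exists_prime_and_dvd fun h' => ha1 (orderOf_eq_one_iff.1 h')
    haveI := Fact.mk hq
    have h3 : orderOf (y * a * y⁻¹) = orderOf (y' * a' * y'⁻¹) := by rw [h]
    rw [show orderOf (y * a * y⁻¹) = orderOf a from
      orderOf_injective (MulAut.conj y).toMonoidHom (MulAut.conj y).injective a,
      show orderOf (y' * a' * y'⁻¹) = orderOf a' from
      orderOf_injective (MulAut.conj y').toMonoidHom (MulAut.conj y').injective a'] at h3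
    obtain ⟨g, hg⟩ := conjugate_of_sigma hG hM hN (Support.mem_pi hG hM ha q hq hqd)
      (Support.mem_pi hG hN ha' q hq (h3 ▸ hqd))
    exact hne g hg
  · rw [conj_mul, conj_mul, he]

/-- The conjugates of `Ẑ` miss the covered sets. -/
theorem hat_not_tilde (hG : IsMinSimpleOddOrder G) (hM : IsCoatom M) (hK : IsPiHallOf (kappa M) K M) (hK1 : K ≠ ⊥)
    (hN : IsCoatom N) {y z : G} (hz : z ∈ hat M K) :
    y * z * y⁻¹ ∉ tildeOf N ((sigmaCore N : Set G) \ {1}) := by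
  obtain ⟨A, hA, hKA, hH, -⟩ := exists_star hG hM hK hK1
  rw [coe_meet] at hKA
  have hC1 := star_ne_bot hG hM hK hK1
  obtain ⟨k, hk, c, hc, rfl, hk1, hc1, hkc⟩ := hat_split hz
  -- the general statement for a point of a core and an element of order prime to its primes
  have key : ∀ (B : Subgroup G) (u w : G), IsCoatom B → u ∈ sigmaCore B → u ≠ 1 → w ≠ 1 → Commute u w →
      (∀ t : ℕ, t.Prime → t ∣ orderOf w → t ∉ sigma B) → Subgroup.centralizer ({u} : Set G) ≤ B →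
      (∀ h : G, u ∈ cj B h → h ∈ B) → ∀ y : G, y * (u * w) * y⁻¹ ∉ tildeOf B ((sigmaCore B : Set G) \ {1}) := by
    intro B u w hB hu hu1 hw1 huw hwπ hCu hconj y
    rintro ⟨a, ⟨ha, ha1 : a ≠ 1⟩, r, hr, y', he⟩
    set h := y'⁻¹ * y with hh
    have ho : ∀ b : G, orderOf (h * b * h⁻¹) = orderOf b := fun b =>
      orderOf_injective (MulAut.conj h).toMonoidHom (MulAut.conj h).injective b
    have he' : (h * u * h⁻¹) * (h * w * h⁻¹) = a * r := by
      calc (h * u * h⁻¹) * (h * w * h⁻¹) = y'⁻¹ * (y * (u * w) * y⁻¹) * y' := by rw [hh]; group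
        _ = a * r := by rw [he]; group
    have hcm : Commute (h * u * h⁻¹) (h * w * h⁻¹) := by
      show _ = _
      rw [conj_mul, conj_mul, huw.eq]
    obtain ⟨h1, h2⟩ := Support.parts_unique (sigma B) hcm
      ((Support.supportR_mem hG hB ha ha1 hr).1 : r * a = a * r).symm (by rw [ho]; exact Support.mem_pi hG hB hu)
      (Support.mem_pi hG hB ha) (fun t ht htd => hwπ t ht (ho w ▸ htd))
      (Support.supportR_pi hG hB ha ha1 hr) he'
    have hhB : h ∈ B := inv_mem_iff.1 (hconj h⁻¹ (Fusion.mem_cj.2 (by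
      rw [inv_inv, h1]
      exact (Subgroup.map_subtype_le _ : sigmaCore B ≤ B) ha)))
    have hCa : Subgroup.centralizer ({a} : Set G) ≤ B := by
      rw [← h1, Support.centralizer_cj, ← Fusion.cj_eq_self_of_mem hhB]
      exact cj_mono hCu h
    rw [Support.supportR_bot hCa, Subgroup.mem_bot] at hr
    exact hw1 (conj_eq_one_iff.1 (h2.trans hr))
  intro hmem
  obtain ⟨a, ⟨ha, ha1 : a ≠ 1⟩, r, hr, y', he⟩ := hmem
  obtain ⟨q, hq, hqd⟩ := Nat.exists_prime_and_dvd fun h' => ha1 (orderOf_eq_one_iff.1 h')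
  haveI := Fact.mk hq
  have hqσ : q ∈ sigma N := Support.mem_pi hG hN ha q hq hqd
  have hqz : q ∣ orderOf (k * c) := by
    have h1 : orderOf (a * r) = orderOf (k * c) := by
      have h2 := congrArg orderOf he
      rwa [show orderOf (y * (k * c) * y⁻¹) = orderOf (k * c) from
        orderOf_injective (MulAut.conj y).toMonoidHom (MulAut.conj y).injective _,
        show orderOf (y' * (a * r) * y'⁻¹) = orderOf (a * r) from
        orderOf_injective (MulAut.conj y').toMonoidHom (MulAut.conj y').injective _, eq_comm] at h2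
    rw [← h1, ((Support.supportR_mem hG hN ha ha1 hr).1 : r * a = a * r).symm |> fun e =>
      (show Commute a r from e).orderOf_mul_eq_mul_orderOf_of_coprime (Nat.coprime_of_dvd fun t ht h1 h2 =>
        Support.supportR_pi hG hN ha ha1 hr t ht h2 (Support.mem_pi hG hN ha t ht h1))]
    exact hqd.mul_right _
  have hmem' : y * (k * c) * y⁻¹ ∈ tildeOf N ((sigmaCore N : Set G) \ {1}) := ⟨a, ⟨ha, ha1⟩, r, hr, y', he⟩
  rcases (Nat.Prime.dvd_mul hq).1 (hqz.trans hkc.orderOf_mul_dvd_mul_orderOf) with h | h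
  · obtain ⟨g, hg⟩ := conjugate_of_sigma hG hA hN (Support.mem_pi hG hA (hKA.le hk).1 q hq h) hqσ
    subst hg
    exact key A k c hA (hKA.le hk).1 hk1 hc1 hkc
      (fun t ht htd => (hH.2.1 t ht (htd.trans (Subgroup.orderOf_dvd_natCard _ hc))).2.2.1)
      (star_centralizer_le hG hA hH hC1 (hKA.le hk) hk1)
      (fun x hx => by_contra fun hxA => hk1 (Subgroup.mem_bot.1 (star_inf_conj hG hA hH hC1 hxA ▸
        Subgroup.mem_inf.2 ⟨hKA.le hk, hx⟩))) y (tilde_cj hG hA g hmem')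
  · obtain ⟨g, hg⟩ := conjugate_of_sigma hG hM hN (Support.mem_pi hG hM hc.1 q hq h) hqσ
    subst hg
    exact key M c k hM hc.1 hc1 hk1 hkc.symm
      (fun t ht htd => (hK.2.1 t ht (htd.trans (Subgroup.orderOf_dvd_natCard K hk))).2.2.1)
      (star_centralizer_le hG hM hK hK1 hc hc1)
      (fun x hx => by_contra fun hxM => hc1 (Subgroup.mem_bot.1 (star_inf_conj hG hM hK hK1 hxM ▸
        Subgroup.mem_inf.2 ⟨hc, hx⟩))) y (by rw [← hkc.eq]; exact tilde_cj hG hM g hmem')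

/-- With a nonempty `κ`, every element outside the covered sets is conjugate into `Ẑ`. -/
theorem cover_hat (hG : IsMinSimpleOddOrder G) (hM : IsCoatom M) (hK : IsPiHallOf (kappa M) K M) (hK1 : K ≠ ⊥)
    {g : G} (hg : g ≠ 1) :
    (∃ L : Subgroup G, IsCoatom L ∧ g ∈ tildeOf L ((sigmaCore L : Set G) \ {1})) ∨
      ∃ y : G, ∃ z ∈ hat M K, g = y * z * y⁻¹ := by
  rcases cover hG hg with h | ⟨H, x, x', hH, hx, hx1, hx', hx'1, hxx, rfl, hκ⟩
  · exact Or.inl h
  obtain ⟨A, hA, hKA, hHA, -⟩ := exists_star hG hM hK hK1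
  obtain ⟨q, hq, hqd⟩ := Nat.exists_prime_and_dvd fun h => hx'1 (orderOf_eq_one_iff.1 h)
  obtain ⟨h, hh⟩ := star_cover hG hM hK hK1 hA hKA hH ⟨q, hκ q hq hqd⟩
  have hswap : hat A (sigmaCore M ⊓ Subgroup.centralizer (K : Set G)) = hat M K := by
    rw [coe_meet] at hKA
    rw [hat, hat, ← hKA, sup_comm, Set.union_comm]
  have key : ∀ (B L : Subgroup G), IsCoatom B → IsPiHallOf (kappa B) L B → H = cj B h →
      (∃ L' : Subgroup G, IsCoatom L' ∧ x * x' ∈ tildeOf L' ((sigmaCore L' : Set G) \ {1})) ∨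
        ∃ y : G, ∃ z ∈ hat B L, x * x' = y * z * y⁻¹ := by
    intro B L hB hL he
    rw [he, Support.sigmaCore_cj hG hB] at hx
    rw [he] at hx'
    obtain ⟨a, ha, rfl⟩ := hx
    obtain ⟨b, hb, rfl⟩ := hx'
    change h * a * h⁻¹ ≠ 1 at hx1
    change h * b * h⁻¹ ≠ 1 at hx'1
    have ha1 : a ≠ 1 := fun e => hx1 (by rw [e]; group)
    have hb1 : b ≠ 1 := fun e => hx'1 (by rw [e]; group)
    have hab : b * a = a * b := by
      have h1 : h * b * h⁻¹ * (h * a * h⁻¹) = h * a * h⁻¹ * (h * b * h⁻¹) := hxx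
      rw [conj_mul, conj_mul] at h1
      exact mul_left_cancel (mul_right_cancel h1)
    have hκb : ∀ t : ℕ, t.Prime → t ∣ orderOf b → t ∈ kappa B := fun t ht htd => by
      haveI := Fact.mk ht
      have htH : t ∈ kappa H := hκ t ht (by
        show t ∣ orderOf (h * b * h⁻¹)
        rwa [show orderOf (h * b * h⁻¹) = orderOf b from
          orderOf_injective (MulAut.conj h).toMonoidHom (MulAut.conj h).injective b])
      have h1 := rank_one hG hH htH
      have hB1 : PRankLE t 1 ↥B := by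
        have h2 := prank_cj (g := h⁻¹) (he ▸ h1 : PRankLE t 1 ↥(cj B h))
        rwa [Fusion.cj_cj_inv] at h2
      rcases fixed_class hG hB hb ha ha1 hab ht htd (fun hσ => htH.2.2.1 ((sigma_eq_of_conj he).2 hσ)) with h' | h'
      · exact h'.1
      · exact absurd hB1 h'.2.2.2
    obtain ⟨y, z, hz, hyz⟩ := mem_hat_conj hG hB hL ha ha1 hb hb1 hab hκb
    refine Or.inr ⟨h * y, z, hz, ?_⟩
    show h * a * h⁻¹ * (h * b * h⁻¹) = _
    rw [conj_mul, hyz]
    group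
  rcases hh with hh | hh
  · exact key M K hM hK hh
  · rcases key A _ hA hHA hh with h' | ⟨y, z, hz, hyz⟩
    · exact Or.inl h'
    · exact Or.inr ⟨y, z, hswap ▸ hz, hyz⟩

end Cfsg.Agent.OddLocal.Kappa
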