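import Cfsg.Agent.Lib.OddLocal.KappaFittingEq
import Cfsg.Agent.Lib.OddLocal.KappaCover

/-!
The maximal subgroups over the normalizers of the Sylow subgroups of `U`.
-/

set_option autoImplicit false
set_option linter.style.haveILetI false

namespace Cfsg.Agent.OddLocal.Kappa

open scoped Pointwise commutatorElement
open Cfsg
open Cfsg.Agent.Fusion (SylIn cj cj_cj cj_eq_self cj_mono card_cj exists_sylIn)
open Cfsg.Agent.OddLocal.Uniq
open Cfsg.Agent.OddLocal.Sig
open Cfsg.Agent.OddLocal.RankTwo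
open Cfsg.Agent.OddLocal.TauTwo
open Cfsg.Agent.OddLocal.Prime
open Cfsg.Agent.OddLocal.Disjoint (mem_centralizer_zpowers conjugate_of_sigma)

universe u

variable {G : Type u} [Group G] [Finite G] {M N H E K U Y : Subgroup G}

/-- An ideal prime is in no `τ₂`. -/
theorem not_ideal_of_tau2 (hG : IsMinSimpleOddOrder G) (hH : IsCoatom H) {t : ℕ} (ht : t ∈ tau2 H) :
    ¬ IsIdealPrime t G := by
  intro hid
  haveI := Fact.mk ht.1
  obtain ⟨E, hE⟩ := exists_compl hG hH
  obtain ⟨A, hAE, s⟩ := exists_setup_in_compl hG hH hE ht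
  obtain ⟨S, hS, hAS⟩ := Fusion.exists_sylIn_ge (Fusion.elab_isPGroup s.elem) (le_top : A ≤ ⊤)
  obtain ⟨P, hP⟩ := hS.exists_sylow
  obtain ⟨B, hBP, hBe, hAB⟩ := hid.2.2 P A (hP.symm ▸ hAS) s.elem s.card
  have hBH : B ≤ H := fun b hb => s.centralizer_le (Subgroup.mem_centralizer_iff.2 fun a ha =>
    congrArg Subtype.val (hBe.1.is_comm.comm (⟨a, hAB.le ha⟩ : B) ⟨b, hb⟩))
  have h1 := ht.2.2.1 (B.subgroupOf H) ⟨⟨fun a b => Subtype.ext (Subtype.ext (congrArg Subtype.val
    (hBe.1.is_comm.comm (⟨_, Subgroup.mem_subgroupOf.1 a.2⟩ : B) ⟨_, Subgroup.mem_subgroupOf.1 b.2⟩) :))⟩⟩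
    fun a ha => Subtype.ext (by simpa using hBe.2 _ (Subgroup.mem_subgroupOf.1 ha))
  rw [Solv.card_subgroupOf hBH] at h1
  exact hAB.ne (Subgroup.eq_of_le_of_card_ge hAB.le (s.card ▸ h1))

/-- The data of `M` with nontrivial `K` and `U`, and its partner `N`. -/
structure Duo (M K U N : Subgroup G) : Prop where
  minSimple : IsMinSimpleOddOrder G
  coatom : IsCoatom M
  decomp : IsSigmaDecomposition M K U
  K_ne : K ≠ ⊥
  U_ne : U ≠ ⊥
  coatomN : IsCoatom N
  K_eq : K = sigmaCore N ⊓ Subgroup.centralizer ((sigmaCore M ⊓ Subgroup.centralizer (K : Set G)) : Set G)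
  hallN : IsPiHallOf (kappa N) (sigmaCore M ⊓ Subgroup.centralizer (K : Set G)) N

theorem exists_duo (hG : IsMinSimpleOddOrder G) (hM : IsCoatom M) (hKU : IsSigmaDecomposition M K U)
    (hK1 : K ≠ ⊥) (hU : U ≠ ⊥) : ∃ N, Duo M K U N := by
  obtain ⟨N, hN, h1, h2, -⟩ := exists_star hG hM hKU.hall hK1
  exact ⟨N, hG, hM, hKU, hK1, hU, hN, h1, h2⟩

theorem Duo.star_ne (d : Duo M K U N) : sigmaCore M ⊓ Subgroup.centralizer (K : Set G) ≠ ⊥ :=
  star_ne_bot d.minSimple d.coatom d.decomp.hall d.K_ne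

theorem Duo.prime (d : Duo M K U N) : (Nat.card K).Prime :=
  prime_card d.minSimple d.coatom d.decomp.hall (frame_of_decomp d.minSimple d.coatom d.decomp d.K_ne) d.K_ne d.U_ne

theorem Duo.K_eq' (d : Duo M K U N) :
    K = sigmaCore N ⊓ Subgroup.centralizer ((sigmaCore M ⊓ Subgroup.centralizer (K : Set G) : Subgroup G) : Set G) := by
  have h := d.K_eq
  rw [coe_meet] at h
  exact h

theorem Duo.K_le_core (d : Duo M K U N) : K ≤ sigmaCore N := d.K_eq'.le.trans inf_le_left

theorem Duo.prime_sigma (d : Duo M K U N) : Nat.card K ∈ sigma N :=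
  (sigmaCore_hall d.minSimple d.coatomN).1.2.1 _ d.prime (Subgroup.card_dvd_of_le d.K_le_core)

theorem Duo.K_le_normalizer_U (d : Duo M K U N) : K ≤ Subgroup.normalizer (U : Set G) := d.decomp.normal

/-- The fixed points on `U` of an element of `K` are trivial. -/
theorem Duo.fpf (d : Duo M K U N) (hY : Y ≤ U) (hYC : Y ≤ Subgroup.centralizer (K : Set G)) : Y = ⊥ := by
  obtain ⟨k, hk, hk1⟩ := exists_ne_one d.K_ne
  exact eq_bot_iff.2 fun y hy => Subgroup.mem_bot.2 (decomp_fpf d.minSimple d.coatom d.decomp k hk hk1 y (hY hy)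
    (Subgroup.mem_centralizer_iff.1 (hYC hy) k hk).symm)

theorem Duo.zpowers_eq (d : Duo M K U N) {k : G} (hk : k ∈ K) (hk1 : k ≠ 1) : Subgroup.zpowers k = K := by
  refine Subgroup.eq_of_le_of_card_ge (Subgroup.zpowers_le.2 hk) ?_
  rcases (Nat.dvd_prime d.prime).1 (Subgroup.card_dvd_of_le (Subgroup.zpowers_le.2 hk)) with h | h
  · exact absurd (Subgroup.zpowers_eq_bot.1 (Subgroup.card_eq_one.1 h)) hk1
  · exact h.ge

theorem Duo.centralizer_le (d : Duo M K U N) : Subgroup.centralizer (K : Set G) ≤ N := by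
  obtain ⟨k, hk, hk1⟩ := exists_ne_one d.K_ne
  refine (Subgroup.centralizer_le (Set.singleton_subset_iff.2 hk)).trans ?_
  exact star_centralizer_le d.minSimple d.coatomN d.hallN d.star_ne (d.K_eq'.le hk) hk1

/-- A coprime `K`-invariant subgroup of `N` is centralized by `K`. -/
theorem Duo.star_commutes (d : Duo M K U N) (hY : Y ≤ N) (hn : K ≤ Subgroup.normalizer (Y : Set G))
    (hp : ¬ Nat.card K ∣ Nat.card Y) : Y ≤ Subgroup.centralizer (K : Set G) := by
  have hG := d.minSimple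
  obtain ⟨UN, hUN⟩ := exists_decomp hG d.coatomN d.hallN (hall_cyclic hG d.coatomN d.hallN)
  have hKF : K ≤ fittingHallOf N := d.K_eq'.le.trans (star_le_fittingHall hG d.coatomN hUN d.star_ne)
  have hnF : N ≤ Subgroup.normalizer (fittingHallOf N : Set G) := Bender.le_normalizer_map _
  haveI : Group.IsNilpotent ↥(fittingHallOf N) := by
    haveI := TypePBasic.fittingOf_nilpotent N
    have h : fittingHallOf N ≤ fittingOf N := Subgroup.map_mono TypePBasic.fittingHall_le_fitting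
    exact isNilpotent_of_le h
  have hco : (Nat.card K).Coprime (Nat.card Y) := d.prime.coprime_iff_not_dvd.2 hp
  have hle : ⁅Y, K⁆ ≤ Y ⊓ fittingHallOf N := Subgroup.commutator_le.2 fun y hy k hk => by
    refine ⟨?_, ?_⟩
    · rw [commutatorElement_def, show y * k * y⁻¹ * k⁻¹ = y * (k * y⁻¹ * k⁻¹) by group]
      exact Y.mul_mem hy ((Subgroup.mem_normalizer_iff.1 (hn hk) _).1 (Y.inv_mem hy))
    · rw [commutatorElement_def]
      exact Subgroup.mul_mem _ ((Subgroup.mem_normalizer_iff.1 (hnF (hY hy)) k).1 (hKF hk))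
        (Subgroup.inv_mem _ (hKF hk))
  have hC : ⁅Y, K⁆ ≤ Subgroup.centralizer (K : Set G) := by
    have h1 := TypePBasic.nilpotent_coprime_commute (X := ⁅Y, K⁆) hKF (hle.trans inf_le_right)
      (hco.coprime_dvd_right (Subgroup.card_dvd_of_le (hle.trans inf_le_left)))
    exact h1
  rw [← Subgroup.commutator_eq_bot_iff_le_centralizer,
    ← Solv.commutator_commutator_eq hn hco (Or.inl (Solv.isSolvable_of_le d.decomp.hall.1 (hG.2.2.2 M d.coatom.1))),
    Subgroup.commutator_eq_bot_iff_le_centralizer]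
  exact hC

/-- A maximal subgroup containing `K` and sharing a prime with `σ(N)` is `N`. -/
theorem Duo.eq_partner (d : Duo M K U N) (hH : IsCoatom H) (hKH : K ≤ H) {t : ℕ} [Fact t.Prime] (h : t ∈ sigma N)
    (h' : t ∈ sigma H) : H = N := by
  obtain ⟨g, hg⟩ := conjugate_of_sigma d.minSimple d.coatomN hH h h'
  subst hg
  have hgN : g ∈ N := by
    by_contra hgN
    exact d.K_ne (le_bot_iff.1 ((le_inf d.K_eq'.le hKH).trans
      (star_inf_conj d.minSimple d.coatomN d.hallN d.star_ne hgN).le))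
  exact cj_eq_self (Subgroup.le_normalizer hgN)

theorem Duo.prime_not_sigma (d : Duo M K U N) (hH : IsCoatom H) (hKH : K ≤ H) (hne : H ≠ N) :
    Nat.card K ∉ sigma H := fun h => by
  haveI := Fact.mk d.prime
  exact hne (d.eq_partner hH hKH d.prime_sigma h)

/-- `K` has no fixed points on the core of a neighbour. -/
theorem Duo.fixed_bot (d : Duo M K U N) (hH : IsCoatom H) (hκ : kappa H = ∅) (hKH : K ≤ H) (hne : H ≠ N) :
    sigmaCore H ⊓ Subgroup.centralizer (K : Set G) = ⊥ := by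
  refine eq_bot_iff.2 fun c hc => Subgroup.mem_bot.2 (by_contra fun hc1 => ?_)
  have hG := d.minSimple
  haveI := Fact.mk d.prime
  obtain ⟨k, hk, hk1⟩ := exists_ne_one d.K_ne
  have hkc : k * c = c * k := Subgroup.mem_centralizer_iff.1 hc.2 k hk
  have hko : orderOf k = Nat.card K := by rw [← Nat.card_zpowers, d.zpowers_eq hk hk1]
  rcases fixed_class hG hH (hKH hk) hc.1 hc1 hkc d.prime hko.symm.dvd (d.prime_not_sigma hH hKH hne) with h | h
  · exact (Set.eq_empty_iff_forall_notMem.1 hκ _) h.1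
  · obtain ⟨E, hE⟩ := exists_compl hG hH
    obtain ⟨-, hu⟩ := element_unique hG hH hE (hKH hk) hk1 (fun q hq hd => by
      rw [hko] at hd; exact (Nat.prime_dvd_prime_iff_eq hq d.prime).1 hd ▸ h) hc.1 hc1 hkc
    refine hne (hu N d.coatomN ?_).symm
    rw [← centralizer_zpowers, d.zpowers_eq hk hk1]
    exact d.centralizer_le

/-- The formula: a fixed-point-free `K` on `V` makes `V` centralize the core. -/
theorem Duo.core_centralized (d : Duo M K U N) (hH : IsCoatom H) (hκ : kappa H = ∅) (hne : H ≠ N)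
    (hE : IsComplIn E (sigmaCore H) H) (hKE : K ≤ E) {V : Subgroup G} (hVE : V ≤ E)
    (hn : K ≤ Subgroup.normalizer (V : Set G)) (hfpf : V ⊓ Subgroup.centralizer (K : Set G) = ⊥) :
    sigmaCore H ≤ Subgroup.centralizer (V : Set G) := by
  have hG := d.minSimple
  have hsup : V ⊔ K ≤ E := sup_le hVE hKE
  have key := Solv.FrobFix.formula (sigmaCore H) V K
    (Solv.isSolvable_of_le (Subgroup.map_subtype_le _) (hG.2.2.2 H hH.1))
    ((hsup.trans hE.1).trans le_normalizer_piCoreOf) hn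
    (fun e he he1 v hv hev => by
      have h1 : v ∈ V ⊓ Subgroup.centralizer (K : Set G) := ⟨hv, by
        rw [← d.zpowers_eq he he1, centralizer_zpowers]
        exact Subgroup.mem_centralizer_singleton_iff.2 hev.symm⟩
      rwa [hfpf, Subgroup.mem_bot] at h1)
    (Nat.coprime_of_dvd fun q hq h1 h2 => compl_pi hG hH hE hq (h2.trans (Subgroup.card_dvd_of_le hsup))
      ((sigmaCore_hall hG hH).1.2.1 q hq h1))
  have h0 := d.fixed_bot hH hκ (hKE.trans hE.1) hne
  have h1 : sigmaCore H ⊓ Subgroup.centralizer ((V ⊔ K : Subgroup G) : Set G) = ⊥ :=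
    le_bot_iff.1 ((inf_le_inf_left _ (centralizer_le_of_le le_sup_right)).trans h0.le)
  rw [h0, h1, Subgroup.card_bot, one_pow, one_mul, one_mul] at key
  exact inf_eq_left.1 (Subgroup.eq_of_le_of_card_ge inf_le_left key.le)

/-- The normaliser of `K` lies in the partner. -/
theorem Duo.normalizer_le (d : Duo M K U N) : Subgroup.normalizer (K : Set G) ≤ N := fun x hx => by
  by_contra hxN
  refine d.K_ne (le_bot_iff.1 ((le_inf d.K_eq'.le ?_).trans
    (star_inf_conj d.minSimple d.coatomN d.hallN d.star_ne hxN).le))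
  rw [← cj_eq_self hx]
  exact cj_mono (d.K_le_core.trans (Subgroup.map_subtype_le _)) x

/-- The complement of the core of a neighbour lies in the partner. -/
theorem Duo.compl_le_partner (d : Duo M K U N) (hH : IsCoatom H) (hκ : kappa H = ∅) (hne : H ≠ N)
    (hE : IsComplIn E (sigmaCore H) H) (hKE : K ≤ E) : E ≤ N := by
  have hG := d.minSimple
  haveI := Fact.mk d.prime
  have hKH : K ≤ H := hKE.trans hE.1
  have hpσ := d.prime_not_sigma hH hKH hne
  have hKp : IsPGroup (Nat.card K) ↥K := IsPGroup.of_card (n := 1) (by rw [pow_one])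
  obtain ⟨P, hP, hKP⟩ := Fusion.exists_sylIn_ge hKp hKE
  have hPab := pgroup_abelian hG hH hpσ hP.isPGroup (hP.le.trans hE.1)
  have hcomm : ∀ e ∈ E, cj ⁅E, E⁆ e = ⁅E, E⁆ := fun e he => by
    show Subgroup.map _ ⁅E, E⁆ = ⁅E, E⁆
    rw [Subgroup.map_commutator]
    exact congrArg₂ (fun X Y : Subgroup G => ⁅X, Y⁆) (cj_eq_self (Subgroup.le_normalizer he))
      (cj_eq_self (Subgroup.le_normalizer he))
  by_cases hd : Nat.card K ∣ Nat.card ↥⁅E, E⁆
  · by_cases hc : IsCyclic ↥P
    · refine fun e he => d.normalizer_le (Fusion.mem_normalizer_of_cj_le ?_)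
      obtain ⟨⟨x, hx⟩, hxo⟩ := exists_prime_orderOf_dvd_card' (Nat.card K) hd
      rw [Subgroup.orderOf_mk] at hxo
      obtain ⟨a, ha, hxP⟩ := hP.conj_le (IsPGroup.of_card (n := 1) (by rw [pow_one, Nat.card_zpowers, hxo]))
        (Subgroup.zpowers_le.2 (Subgroup.commutator_le_self E hx))
      have hKE' : K ≤ ⁅E, E⁆ := by
        rw [cyclic_eq hc hKP hxP rfl (by rw [card_cj, Nat.card_zpowers, hxo]), ← hcomm a ha]
        exact cj_mono (Subgroup.zpowers_le.2 hx) a
      have hKe : cj K e ≤ ⁅E, E⁆ := (cj_mono hKE' e).trans (hcomm e he).le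
      have hab := compl_derived_abelian hG hH hE
      have hsup : IsPGroup (Nat.card K) ↥(cj K e ⊔ K) := IsPGroup.to_sup_of_normal_right' (Fusion.isPGroup_cj hKp e) hKp
        fun y hy => Subgroup.centralizer_le_normalizer _ (Subgroup.mem_centralizer_iff.2 fun z hz =>
          congrArg Subtype.val (hab.is_comm.comm (⟨z, hKE' hz⟩ : (⁅E, E⁆ : Subgroup G)) ⟨y, hKe hy⟩))
      obtain ⟨b, -, hbP⟩ := hP.conj_le hsup ((sup_le hKe hKE').trans (Subgroup.commutator_le_self E))
      have h1 := cyclic_eq hc ((cj_mono le_sup_left b).trans hbP) ((cj_mono le_sup_right b).trans hbP)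
        (by rw [card_cj, card_cj]) (by rw [card_cj])
      rw [← Fusion.cj_cj_inv (cj K e) b, h1, Fusion.cj_cj_inv]
    · obtain ⟨A, hAP, hAe, hAc⟩ := exists_elab_sq (Uniq.ne_two hG hKp d.K_ne) hP.isPGroup hc
      have hAH : A ≤ H := hAP.trans (hP.le.trans hE.1)
      have hτ : Nat.card K ∈ tau2 H := (classify hG hH d.prime hpσ (Subgroup.card_dvd_of_le hKH)).resolve_right
        fun h => not_prankLE_of_elab hAH hAe hAc.ge (h.elim (fun h => h.2.2.2.2) fun h => h.2.2.2)
      have sA := setup_of_tau2 hG hH hτ hAH hAe hAc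
      have hAE : A ≤ E := hAP.trans hP.le
      obtain ⟨⟨hEA, hline⟩, -, -⟩ := complement_tau2 sA hE hAE
      have hKA : K ≤ A := hline K hKE rfl
      obtain ⟨H', hH', hNH'⟩ := exists_coatom _ (normalizer_pgroup_ne_top hG (Fusion.elab_isPGroup sA.elem) sA.ne_bot)
      have h : H' = N := d.eq_partner hH' (hKA.trans (Subgroup.le_normalizer.trans hNH')) d.prime_sigma
        (tau2_common sA hE hAE hH' hNH' hτ)
      exact hEA.trans (h ▸ hNH')
  obtain ⟨W, hW, hdW⟩ := exists_hall_ge hG (fun h => hH.1 (top_le_iff.1 (h ▸ hE.1)) : E ≠ ⊤) ({Nat.card K}ᶜ)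
    (Subgroup.commutator_le_self E) fun q hq hqd (hqp : q = Nat.card K) => hd (hqp ▸ hqd)
  have hKW : K ≤ Subgroup.normalizer (W : Set G) := fun k hk => Fusion.mem_normalizer_of_cj_le (by
    rintro _ ⟨w, hw, rfl⟩
    show k * w * k⁻¹ ∈ W
    have h1 := W.mul_mem (hdW (Subgroup.commutator_mem_commutator (hKE hk) (hW.1 hw))) hw
    rwa [commutatorElement_def, inv_mul_cancel_right] at h1)
  have hpW : ¬ Nat.card K ∣ Nat.card W := fun h => hW.2.1 _ d.prime h rfl
  have key : ∀ (t : ℕ), t.Prime → t ∣ Nat.card E → ∃ T : Subgroup G, SylIn t T E ∧ T ≤ N := by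
    intro t ht htd
    haveI := Fact.mk ht
    have htσ : t ∉ sigma H := compl_pi hG hH hE ht htd
    rcases eq_or_ne t (Nat.card K) with htp | htp
    · subst htp
      exact ⟨P, hP, fun x hx => d.centralizer_le (Subgroup.mem_centralizer_iff.2 fun k hk =>
        congrArg Subtype.val (hPab.is_comm.comm (⟨k, hKP hk⟩ : P) ⟨x, hx⟩))⟩
    obtain ⟨T, ⟨hTW, hTc⟩, hKT⟩ := Solv.exists_invariant_sylow hKW (d.prime.coprime_iff_not_dvd.2 hpW)
      (Or.inr (Solv.isSolvable_of_le (hW.1.trans hE.1) (hG.2.2.2 H hH.1))) t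
    have hT : SylIn t T E := by
      refine ⟨hTW.trans hW.1, IsPGroup.of_card hTc, fun h => ?_⟩
      rw [← Subgroup.relIndex_mul_relIndex T W E hTW hW.1] at h
      refine ((Nat.Prime.dvd_mul ht).1 h).elim (fun h => ?_) (hW.2.2 t ht htp)
      refine Nat.pow_succ_factorization_not_dvd (Nat.card_pos (α := W)).ne' ht ?_
      have h2 := Subgroup.relIndex_mul_relIndex ⊥ T W bot_le hTW
      rw [Subgroup.relIndex_bot_left, Subgroup.relIndex_bot_left, hTc] at h2
      have h3 := mul_dvd_mul_left (t ^ (Nat.card W).factorization t) h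
      rw [h2, ← pow_succ] at h3
      exact h3
    suffices hTK : T ≤ Subgroup.centralizer (K : Set G) from ⟨T, hT, hTK.trans d.centralizer_le⟩
    have hab := pgroup_abelian hG hH htσ hT.isPGroup (hT.le.trans hE.1)
    have hco : (Nat.card K).Coprime (Nat.card T) := by
      obtain ⟨j, hj⟩ := IsPGroup.iff_card.1 hT.isPGroup
      rw [hj]
      exact ((Nat.coprime_primes d.prime ht).2 htp.symm).pow_right j
    set V := ⁅T, K⁆ with hV
    by_contra hnot
    have hV1 : V ≠ ⊥ := fun h => hnot (Subgroup.commutator_eq_bot_iff_le_centralizer.1 h)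
    have hinf : V ⊓ Subgroup.centralizer (K : Set G) = ⊥ := Solv.PLenFix.commutator_inf_centralizer T K hab hKT hco
    have hVT : V ≤ T := (Solv.commutator_normal_in hKT).1
    have hVn : K ≤ Subgroup.normalizer (V : Set G) := fun k hk => Fusion.mem_normalizer_of_cj_le (by
      show Subgroup.map _ ⁅T, K⁆ ≤ ⁅T, K⁆
      rw [Subgroup.map_commutator]
      exact Subgroup.commutator_mono (cj_eq_self (hKT hk)).le (cj_eq_self (Subgroup.le_normalizer hk)).le)
    have hcent := d.core_centralized hH hκ hne hE hKE (hVT.trans hT.le) hVn hinf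
    obtain ⟨⟨x, hx⟩, hxo⟩ := exists_prime_orderOf_dvd_card' t (show t ∣ Nat.card V by
      obtain ⟨j, hj⟩ := IsPGroup.iff_card.1 (hT.isPGroup.to_le hVT)
      rw [hj]
      refine dvd_pow_self t fun h0 => hV1 (Subgroup.card_eq_one.1 ?_)
      rw [hj, h0, pow_zero])
    rw [Subgroup.orderOf_mk] at hxo
    have hx1 : x ≠ 1 := fun h => ht.ne_one (by rw [← hxo, h, orderOf_one])
    obtain ⟨c, hc, hc1⟩ := exists_ne_one (FitParts.sigmaCore_ne_bot hG hH)
    have hτ : t ∈ tau2 H := by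
      rcases fixed_class hG hH (hE.1 (hT.le (hVT hx))) hc hc1 (Subgroup.mem_centralizer_iff.1 (hcent hc) x hx)
        ht hxo.symm.dvd htσ with h | h
      · exact absurd h.1 (Set.eq_empty_iff_forall_notMem.1 hκ _)
      · exact h
    have htM : t ∉ sigma M := fun h =>
      not_ideal_of_tau2 hG hH hτ (sigma_subset_beta hG d.coatom d.decomp d.K_ne d.U_ne t h).2
    obtain ⟨A, hAE, sA⟩ := exists_setup_in_compl hG hH hE hτ
    obtain ⟨⟨hEA, hline⟩, -, -⟩ := complement_tau2 sA hE hAE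
    have hxA : x ∈ A := hline _ (Subgroup.zpowers_le.2 (hT.le (hVT hx))) (by rw [Nat.card_zpowers, hxo])
      (Subgroup.mem_zpowers x)
    have hKA : K ≤ Subgroup.normalizer (A : Set G) := hKE.trans hEA
    have hpA : ¬ Nat.card K ∣ Nat.card A := fun h => htp ((Nat.prime_dvd_prime_iff_eq d.prime ht).1
      (d.prime.dvd_of_dvd_pow (sA.card ▸ h))).symm
    suffices hAN : A ≤ N by
      have h1 : x ∈ V ⊓ Subgroup.centralizer (K : Set G) := ⟨hx, d.star_commutes hAN hKA hpA hxA⟩
      rw [hinf, Subgroup.mem_bot] at h1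
      exact hx1 h1
    by_cases hAC : A ⊓ Subgroup.centralizer (K : Set G) = ⊥
    · exact absurd (le_bot_iff.1 ((le_inf le_rfl (d.core_centralized hH hκ hne hE hKE hAE hKA hAC)).trans
        (sigmaCore_inf_centralizer sA).le)) (FitParts.sigmaCore_ne_bot hG hH)
    obtain ⟨y, hy, hy1⟩ := exists_ne_one hAC
    have hyo : orderOf y = t := orderOf_eq_prime (sA.elem.2 y hy.1) hy1
    obtain ⟨k, hk, hk1⟩ := exists_ne_one d.K_ne
    have hyk : y * k = k * y := (Subgroup.mem_centralizer_iff.1 hy.2 k hk).symm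
    by_cases htN : t ∈ sigma N
    · obtain ⟨H', hH', hNH'⟩ := exists_coatom _ (normalizer_pgroup_ne_top hG (Fusion.elab_isPGroup sA.elem) sA.ne_bot)
      have h : H' = N := d.eq_partner hH' (hKA.trans hNH') htN (tau2_common sA hE hAE hH' hNH' hτ)
      exact Subgroup.le_normalizer.trans (h ▸ hNH')
    rcases fixed_class hG d.coatomN (d.centralizer_le hy.2) (d.K_le_core hk) hk1 hyk ht hyo.symm.dvd htN with h | h
    · refine absurd ((sigmaCore_hall hG d.coatom).1.2.1 t ht ?_) htM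
      refine Dvd.dvd.trans ?_ (Subgroup.card_dvd_of_le (inf_le_left : sigmaCore M ⊓ Subgroup.centralizer (K : Set G) ≤ _))
      have h2 := Subgroup.relIndex_mul_relIndex ⊥ (sigmaCore M ⊓ Subgroup.centralizer (K : Set G)) N bot_le d.hallN.1
      rw [Subgroup.relIndex_bot_left, Subgroup.relIndex_bot_left] at h2
      exact ((Nat.Prime.dvd_mul ht).1 (h2.symm ▸ h.1.2.1)).resolve_right (d.hallN.2.2 t ht h.1)
    · obtain ⟨E', hE'⟩ := exists_compl hG d.coatomN
      obtain ⟨hC, -⟩ := element_unique hG d.coatomN hE' (d.centralizer_le hy.2) hy1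
        (fun q hq hd => by rw [hyo] at hd; exact (Nat.prime_dvd_prime_iff_eq hq ht).1 hd ▸ h) (d.K_le_core hk) hk1 hyk
      exact fun a ha => hC (Subgroup.mem_centralizer_singleton_iff.2
        (congrArg Subtype.val (sA.elem.1.is_comm.comm (⟨a, ha⟩ : A) ⟨y, hy.1⟩)))
  refine fun e he => ?_
  have h1 : (E ⊓ N).relIndex E = 1 := by
    by_contra hne'
    obtain ⟨t, ht, htd⟩ := Nat.exists_prime_and_dvd hne'
    obtain ⟨T, hT, hTN⟩ := key t ht (htd.trans (Subgroup.relIndex_dvd_card _ _))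
    exact hT.not_dvd (htd.trans (Subgroup.relIndex_dvd_of_le_left E (le_inf hT.le hTN)))
  exact (Subgroup.relIndex_eq_one.1 h1 he).2

/-- A Sylow subgroup whose normaliser stays inside gives a prime of `σ`. -/
theorem sigma_of_sylIn {r : ℕ} [hr : Fact r.Prime] {R : Subgroup G} (hR : SylIn r R H) (hR1 : R ≠ ⊥)
    (hN : Subgroup.normalizer (R : Set G) ≤ H) : r ∈ sigma H := by
  obtain ⟨P, hP⟩ := hR.exists_sylow_subgroupOf
  obtain ⟨j, hj⟩ := IsPGroup.iff_card.1 hR.isPGroup
  refine ⟨hr.out, (dvd_pow_self r (fun h : j = 0 => hR1 (Subgroup.card_eq_one.1 (by rw [hj, h, pow_zero])))).trans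
    (hj ▸ Subgroup.card_dvd_of_le hR.le), P, ?_⟩
  rw [hP, Subgroup.map_subgroupOf_eq_of_le hR.le]
  exact hN

/-- A maximal subgroup over the normaliser of a Sylow subgroup of `U`. -/
theorem Duo.neighbour (d : Duo M K U N) {r : ℕ} [Fact r.Prime] {R : Subgroup G} (hR : SylIn r R U) (hR1 : R ≠ ⊥)
    (hH : IsCoatom H) (hNR : Subgroup.normalizer (R : Set G) ≤ H) :
    kappa H = ∅ ∧ U ≤ sigmaCore H ∧ M ⊓ H = U ⊔ K ∧ ¬ H ⊓ Subgroup.normalizer (U : Set G) ≤ M ∧
      K ≤ fittingOf (H ⊓ N) ∧ IsComplIn (H ⊓ N) (sigmaCore H) H := by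
  have hG := d.minSimple
  have hM := d.coatom
  haveI := Fact.mk d.prime
  have hF := frame_of_decomp hG hM d.decomp d.K_ne
  have hUM : U ≤ M := hF.hall.1
  obtain ⟨j, hj⟩ := IsPGroup.iff_card.1 hR.isPGroup
  have hrR : r ∣ Nat.card R := hj ▸ dvd_pow_self r (fun h : j = 0 => hR1 (Subgroup.card_eq_one.1 (by rw [hj, h, pow_zero])))
  obtain ⟨hr, hrκ, hrσ⟩ := hF.hall.2.1 r Fact.out (hrR.trans (Subgroup.card_dvd_of_le hR.le))
  have hpU : ∀ V : Subgroup G, V ≤ U → ¬ Nat.card K ∣ Nat.card V := fun V hV h =>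
    (hF.hall.2.1 _ d.prime (h.trans (Subgroup.card_dvd_of_le hV))).2.1 (d.decomp.hall.2.1 _ d.prime dvd_rfl)
  have hUcomm : ∀ V : Subgroup G, V ≤ U → U ≤ Subgroup.centralizer (V : Set G) := fun V hV u hu =>
    Subgroup.mem_centralizer_iff.2 fun v hv =>
      congrArg Subtype.val (hF.abelian.is_comm.comm (⟨v, hV hv⟩ : U) ⟨u, hu⟩)
  have hchar : ∀ {t : ℕ} [Fact t.Prime] {Q : Subgroup G}, SylIn t Q U → K ≤ Subgroup.normalizer (Q : Set G) := by
    intro t _ Q hQ k hk
    obtain ⟨x, hx, hxQ⟩ := hQ.conj_eq (hQ.cj' (d.decomp.normal hk))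
    refine Fusion.mem_normalizer_of_cj_le ?_
    rw [← hxQ, cj_eq_self (Subgroup.centralizer_le_normalizer _ (hUcomm Q hQ.le hx))]
  have hUH : U ≤ H := ((hUcomm R hR.le).trans (Subgroup.centralizer_le_normalizer _)).trans hNR
  have hKH : K ≤ H := (hchar hR).trans hNR
  have hRM : SylIn r R M := sylIn_of_hallOf hF.hall ⟨hr, hrκ, hrσ⟩ hR
  have hneN : H ≠ N := fun h => hR1 (d.fpf hR.le (d.star_commutes
    ((hR.le.trans hUH).trans h.le) (hchar hR) (hpU R hR.le)))
  have hneM : ∀ g : G, H ≠ cj M g := by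
    intro g h
    subst h
    exact hrσ (sigma_of_cj (sigma_of_sylIn ((hRM.cj g).of_card_ge hR.isPGroup (hR.le.trans hUH)
      (card_cj R g).le) hR1 hNR))
  have hκ : kappa H = ∅ := by
    by_contra h
    obtain ⟨g, hg | hg⟩ := star_cover hG hM d.decomp.hall d.K_ne d.coatomN d.K_eq hH
      (Set.nonempty_iff_ne_empty.2 h)
    · exact hneM g hg
    · refine hneN ?_
      subst hg
      have hgN : g ∈ N := by
        by_contra hgN
        exact d.K_ne (le_bot_iff.1 ((le_inf d.K_eq'.le hKH).trans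
          (star_inf_conj hG d.coatomN d.hallN d.star_ne hgN).le))
      exact cj_eq_self (Subgroup.le_normalizer hgN)
  have hpσ := d.prime_not_sigma hH hKH hneN
  have hUσ : U ≤ sigmaCore H := by
    refine le_of_hall (sigmaCore_hall hG hH).1 le_normalizer_piCoreOf hUH fun q hq hqU => ?_
    by_contra hqσ
    haveI := Fact.mk hq
    obtain ⟨Q, hQ⟩ := exists_sylIn (p := q) U
    have hQp : ∀ t : ℕ, t.Prime → t ∣ Nat.card (Q ⊔ K : Subgroup G) → t ∉ sigma H := by
      intro t ht htd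
      have h1 := Solv.card_sup_mul_card_inf' Q K (hchar hQ)
      rcases (Nat.Prime.dvd_mul ht).1 (htd.trans ⟨_, h1.symm⟩) with h2 | h2
      · obtain ⟨i, hi⟩ := IsPGroup.iff_card.1 hQ.isPGroup
        rwa [(Nat.prime_dvd_prime_iff_eq ht hq).1 (ht.dvd_of_dvd_pow (hi ▸ h2))]
      · rwa [(Nat.prime_dvd_prime_iff_eq ht d.prime).1 h2]
    obtain ⟨E, hE, hQKE⟩ := exists_compl_ge hG hH (sup_le (hQ.le.trans hUH) hKH) hQp
    have hQ1 : Q = ⊥ := d.fpf hQ.le (d.star_commutes
      ((le_sup_left.trans hQKE).trans (d.compl_le_partner hH hκ hneN hE (le_sup_right.trans hQKE)))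
      (hchar hQ) (hpU Q hQ.le))
    refine hQ.not_dvd ?_
    rw [hQ1, Subgroup.relIndex_bot_left]
    exact hqU
  obtain ⟨E, hE, hKE⟩ := exists_compl_ge hG hH hKH fun t ht htd => by
    rwa [(Nat.prime_dvd_prime_iff_eq ht d.prime).1 htd]
  have hEN := d.compl_le_partner hH hκ hneN hE hKE
  have hHn : H ≤ Subgroup.normalizer (sigmaCore H : Set G) := le_normalizer_piCoreOf
  have hYbot : sigmaCore H ⊓ N = ⊥ := by
    refine le_bot_iff.1 ((le_inf inf_le_left (d.star_commutes inf_le_right (fun k hk => ?_) fun h => hpσ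
      ((sigmaCore_hall hG hH).1.2.1 _ d.prime (h.trans (Subgroup.card_dvd_of_le inf_le_left))))).trans
      (d.fixed_bot hH hκ hKH hneN).le)
    refine Fusion.mem_normalizer_of_cj_le ?_
    rw [Fusion.cj_inf, cj_eq_self (hHn (hKH hk)), cj_eq_self (Subgroup.le_normalizer (hEN (hKE hk)))]
  have hHN : H ⊓ N = E := by
    refine le_antisymm (fun x hx => ?_) (le_inf hE.1 hEN)
    obtain ⟨e, he, c, hc, rfl⟩ := hE.2.2.2 x hx.1
    have h1 : c ∈ sigmaCore H ⊓ N := ⟨hc, by simpa using N.mul_mem (N.inv_mem (hEN he)) hx.2⟩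
    rw [hYbot, Subgroup.mem_bot] at h1
    simpa [h1] using he
  refine ⟨hκ, hUσ, ?_, ?_, ?_, hHN.symm ▸ hE⟩
  · refine le_antisymm (fun m hm => ?_) (sup_le (le_inf hUM hUH) (le_inf d.decomp.hall.1 hKH))
    obtain ⟨e, he, s, hs, rfl⟩ := hF.compl.2.2.2 m hm.1
    have hsH : s ∈ H := by simpa using H.mul_mem (H.inv_mem (sup_le hUH hKH he)) hm.2
    have hs1 : s ∈ sigmaCore M ⊓ Subgroup.centralizer (U : Set G) := ⟨hs, Subgroup.mem_centralizer_iff.2
      fun u hu => (cores_commute hG hM hH hneM hs hsH (hUσ hu) (hUM hu)).symm⟩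
    rw [factor_fixed hG hM hF d.U_ne, Subgroup.mem_bot] at hs1
    simpa [hs1] using he
  · intro hle
    obtain ⟨U', hU'⟩ := exists_decomp hG hH (K := ⊥) ⟨bot_le, fun q hq hd => by
        rw [Subgroup.card_bot] at hd; exact absurd hd hq.not_dvd_one,
      fun q _ hq => absurd hq (Set.eq_empty_iff_forall_notMem.1 hκ q)⟩
      (isCyclic_of_subsingleton (α := ↥(⊥ : Subgroup G)))
    have hU'1 : U' ≠ ⊥ := fun h => by
      obtain ⟨e, he, c, hc, hec⟩ := (Decomp.compl hG hH hU').2.2.2 _ (hKH (exists_ne_one d.K_ne).choose_spec.1)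
      rw [h, bot_sup_eq, Subgroup.mem_bot] at he
      rw [he, one_mul] at hec
      exact (exists_ne_one d.K_ne).choose_spec.2 (Subgroup.mem_bot.1 (d.fixed_bot hH hκ hKH hneN ▸
        Subgroup.mem_inf.2 ⟨hec ▸ hc, Subgroup.mem_centralizer_iff.2 fun k hk =>
          comm_of_cyclic d.decomp.cyclic k hk _ (exists_ne_one d.K_ne).choose_spec.1⟩))
    haveI : Group.IsNilpotent ↥(sigmaCore H) := core_nilpotent_of_U hG hH hU' hU'1
    have hEx : ∀ x ∈ sigmaCore H, x ∈ M → x ∈ U := by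
      intro x hx hxM
      have h1 : x ∈ U ⊔ K := by
        have h2 : x ∈ M ⊓ H := ⟨hxM, Subgroup.map_subtype_le _ hx⟩
        obtain ⟨e, he, s, hs, rfl⟩ := hF.compl.2.2.2 x hxM
        have hsH : s ∈ H := by simpa using H.mul_mem (H.inv_mem (sup_le hUH hKH he)) h2.2
        have hs1 : s ∈ sigmaCore M ⊓ Subgroup.centralizer (U : Set G) := ⟨hs, Subgroup.mem_centralizer_iff.2
          fun u hu => (cores_commute hG hM hH hneM hs hsH (hUσ hu) (hUM hu)).symm⟩
        rw [factor_fixed hG hM hF d.U_ne, Subgroup.mem_bot] at hs1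
        simpa [hs1] using he
      obtain ⟨u, hu, k, hk, rfl⟩ := hF.mul x h1
      have hk1 : k ∈ K ⊓ sigmaCore H := ⟨hk, by simpa using (sigmaCore H).mul_mem ((sigmaCore H).inv_mem (hUσ hu)) hx⟩
      rw [Solv.coprime_inf (d.prime.coprime_iff_not_dvd.2 fun h =>
        hpσ ((sigmaCore_hall hG hH).1.2.1 _ d.prime h)), Subgroup.mem_bot] at hk1
      simpa [hk1] using hu
    have hS : Subgroup.subgroupOf U (sigmaCore H) = ⊤ := by
      by_contra hne
      obtain ⟨x, hx, hxU⟩ := SetLike.exists_of_lt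
        (Group.normalizerCondition_of_isNilpotent (G := ↥(sigmaCore H)) _ (lt_top_iff_ne_top.2 hne))
      have hxn : (x : G) ∈ Subgroup.normalizer (U : Set G) := by
        rw [Subgroup.mem_normalizer_iff]
        intro y
        constructor
        · intro hy
          exact (Subgroup.mem_normalizer_iff.1 hx ⟨y, hUσ hy⟩).1 hy
        · intro hy
          have hyσ : y ∈ sigmaCore H := by
            simpa [mul_assoc] using (sigmaCore H).mul_mem ((sigmaCore H).mul_mem
              ((sigmaCore H).inv_mem x.2) (hUσ hy)) x.2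
          exact (Subgroup.mem_normalizer_iff.1 hx ⟨y, hyσ⟩).2 hy
      exact hxU (hEx x x.2 (hle ⟨Subgroup.map_subtype_le _ x.2, hxn⟩))
    have heq : sigmaCore H = U := le_antisymm (Subgroup.subgroupOf_eq_top.1 hS) hUσ
    refine hneM 1 ?_
    rw [Fusion.cj_one]
    refine ((hH.le_iff).1 ?_).resolve_left hM.1 |>.symm
    exact fun h hh => hle ⟨hh, heq ▸ hHn hh⟩
  · rw [hHN]
    obtain ⟨UN, hUN⟩ := exists_decomp hG d.coatomN d.hallN (hall_cyclic hG d.coatomN d.hallN)
    have hKF : K ≤ fittingOf N := d.K_eq'.le.trans ((star_le_fittingHall hG d.coatomN hUN d.star_ne).trans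
      (Subgroup.map_mono TypePBasic.fittingHall_le_fitting))
    haveI := TypePBasic.fittingOf_nilpotent N
    have hn : E ≤ Subgroup.normalizer ((E ⊓ fittingOf N : Subgroup G) : Set G) := fun e he => by
      refine Fusion.mem_normalizer_of_cj_le ?_
      have h1 : cj (fittingOf N) e = fittingOf N := cj_eq_self (Bender.le_normalizer_map _ (hEN he))
      rw [Fusion.cj_inf, cj_eq_self (Subgroup.le_normalizer he), h1]
    exact (le_inf hKE hKF).trans (le_fittingOf inf_le_left hn (isNilpotent_of_le inf_le_right))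

end Cfsg.Agent.OddLocal.Kappa
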