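import Cfsg.Agent.Lib.OddLocal.Decomposition

/-!
Centralizers of the elements of `U` with fixed points on `M_σ`, for a standard factorisation `M = K U M_σ`.
-/

set_option autoImplicit false
set_option linter.style.haveILetI false

namespace Cfsg.Agent.OddLocal.Decomp

open scoped Pointwise
open Cfsg
open Cfsg.Agent.Fusion (SylIn cj cj_eq_self cj_mono card_cj exists_sylIn_ge mem_normalizer_of_cj_le)
open Cfsg.Agent.OddLocal.Sig
open Cfsg.Agent.OddLocal.TauTwo
open Cfsg.Agent.OddLocal.Uniq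
open Cfsg.Agent.OddLocal.RankTwo

universe u

variable {G : Type u} [Group G] [Finite G] {M K U : Subgroup G}

/-- An element of a complement without prime divisors below `p` centralizes `A`. -/
theorem centralizes_of_min {p : ℕ} [hp : Fact p.Prime] {A E : Subgroup G} (s : Setup p M A) (hEM : E ≤ M)
    (hEA : E ≤ Subgroup.normalizer (A : Set G)) {x : G} (hxE : x ∈ E)
    (hmin : ∀ r : ℕ, r.Prime → r ∣ orderOf x → p ≤ r) : x ∈ Subgroup.centralizer (A : Set G) := by
  have hG := s.minSimple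
  set W := Subgroup.zpowers x with hW
  have hWE : W ≤ E := Subgroup.zpowers_le.2 hxE
  suffices hWC : W ≤ Subgroup.centralizer (A : Set G) from hWC (Subgroup.mem_zpowers x)
  rw [← Subgroup.relIndex_eq_one]
  by_contra hne
  obtain ⟨r, hr, hd⟩ := Nat.exists_prime_and_dvd hne
  haveI := Fact.mk hr
  have hrx : r ∣ orderOf x := by
    rw [← Nat.card_zpowers]; exact hd.trans (Subgroup.relIndex_dvd_card _ _)
  obtain ⟨T, hT⟩ := Fusion.exists_sylIn (p := r) W
  refine hT.not_dvd (hd.trans (Subgroup.relIndex_dvd_of_le_left W ?_))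
  by_cases hrp : r = p
  · obtain ⟨P, hP, hAP⟩ := exists_sylIn_ge (p := p)
      ((hrp ▸ hT.isPGroup : IsPGroup p T).to_sup_of_normal_right' (Fusion.elab_isPGroup s.elem)
        ((hT.le.trans hWE).trans hEA)) (sup_le ((hT.le.trans hWE).trans hEM) s.le)
    exact (le_sup_left.trans hAP).trans (sylow_le_centralizer s hP (le_sup_right.trans hAP))
  · have hlt : p < r := lt_of_le_of_ne (hmin r hr hrx) (Ne.symm hrp)
    intro t ht
    refine Solv.centralizes_of_small_frattini A (Fusion.elab_isPGroup s.elem) ?_ t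
      (hEA (hWE (hT.le ht))) fun q hq hqd => ?_
    · rw [← s.card]
      exact Nat.le_of_dvd Nat.card_pos (Subgroup.card_quotient_dvd_card _)
    · obtain ⟨j, hj⟩ := IsPGroup.iff_card.1 hT.isPGroup
      have hqr : q = r := (Nat.prime_dvd_prime_iff_eq hq hr).1
        (hq.dvd_of_dvd_pow (hj ▸ hqd.trans (Subgroup.orderOf_dvd_natCard _ ht)))
      subst hqr
      refine ⟨hrp, fun hdv => ?_⟩
      have hp2 := hp.out.two_le
      rw [show p ^ 2 - 1 = (p + 1) * (p - 1) by simpa using Nat.sq_sub_sq p 1] at hdv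
      rcases hq.dvd_mul.1 hdv with h | h
      · have h1 := Nat.le_of_dvd (by omega) h
        have h2 : q = p + 1 := by omega
        have h3 : Odd q := Odd.of_dvd_nat hG.1 (hrx.trans (orderOf_dvd_natCard x))
        have h4 : Odd p := hp.out.odd_of_ne_two s.ne_two
        rw [Nat.odd_iff] at h3 h4
        omega
      · have h1 := Nat.le_of_dvd (by omega) h
        omega

variable (hG : IsMinSimpleOddOrder G) (hM : IsCoatom M) (hKU : IsSigmaDecomposition M K U)

include hG hM hKU in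
/-- The primes of an element of `U M_σ` outside `σ(M)` with a fixed point lie in `τ₂(M)`. -/
theorem tau2_of_fixed {y x : G} (hy : y ∈ U ⊔ sigmaCore M) (hx : x ∈ sigmaCore M) (hx1 : x ≠ 1)
    (hxy : y * x = x * y) {q : ℕ} (hq : q.Prime) (hd : q ∣ orderOf y) (hσ : q ∉ sigma M) : q ∈ tau2 M := by
  have hUM := U_le hKU
  have hσM : sigmaCore M ≤ M := Subgroup.map_subtype_le _
  have hle : U ⊔ sigmaCore M ≤ M := sup_le hUM hσM
  have hdM : q ∣ Nat.card M :=
    (hd.trans (Subgroup.orderOf_dvd_natCard _ hy)).trans (Subgroup.card_dvd_of_le hle)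
  have hdU : q ∣ Nat.card U := by
    have h1 := Solv.card_sup_mul_card_inf' (sigmaCore M) U (hUM.trans le_normalizer_piCoreOf)
    have h2 : q ∣ Nat.card (sigmaCore M) * Nat.card U := by
      rw [← h1, sup_comm]
      exact (hd.trans (Subgroup.orderOf_dvd_natCard _ hy)).mul_right _
    exact ((Nat.Prime.dvd_mul hq).1 h2).resolve_left fun h => hσ ((sigmaCore_hall hG hM).1.2.1 q hq h)
  refine (classify hG hM hq hσ hdM).resolve_right fun h13 => ?_
  exact (U_pi hG hM hKU hq hdU).2 (kappa_of_fixed hG hM hq hσ hdM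
    (h13.elim (fun h => h.2.2.2.2) fun h => h.2.2.2) (hle hy) hd hx hx1 hxy)

include hG hM hKU in
/-- The centralizer of a subgroup of `U` with a fixed point lies in `M` only. -/
theorem subgroup_unique {X : Subgroup G} (hXU : X ≤ U) (hX : X ≠ ⊥)
    (hXc : sigmaCore M ⊓ Subgroup.centralizer (X : Set G) ≠ ⊥) :
    Subgroup.centralizer (X : Set G) ≤ M ∧
      ∀ L : Subgroup G, IsCoatom L → Subgroup.centralizer (X : Set G) ≤ L → L = M := by
  obtain ⟨y, hy', hy1⟩ := exists_ne_one hXc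
  obtain ⟨hy, hyX⟩ := Subgroup.mem_inf.1 hy'
  have hE := compl hG hM hKU
  have hcard : Nat.card X ≠ 1 := fun h => hX (Subgroup.card_eq_one.1 h)
  set p := (Nat.card X).minFac with hpd
  have hpP : p.Prime := Nat.minFac_prime hcard
  haveI := Fact.mk hpP
  obtain ⟨⟨w, hwX⟩, hwo⟩ := exists_prime_orderOf_dvd_card' p (Nat.minFac_dvd (Nat.card X))
  rw [Subgroup.orderOf_mk] at hwo
  have hxy : ∀ x ∈ X, x * y = y * x := fun x hx => Subgroup.mem_centralizer_iff.1 hyX x hx
  have hp2 : p ∈ tau2 M := tau2_of_fixed hG hM hKU (Subgroup.mem_sup_left (hXU hwX)) hy hy1 (hxy w hwX) hpP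
    hwo.symm.dvd (U_pi hG hM hKU hpP ((hwo.symm.dvd.trans (Subgroup.orderOf_dvd_natCard _ (hXU hwX))))).1
  obtain ⟨A, hAE, s⟩ := exists_setup_in_compl hG hM hE hp2
  obtain ⟨⟨hEA, hlines⟩, -, -⟩ := complement_tau2 s hE hAE
  have hXE : X ≤ U ⊔ K := hXU.trans le_sup_left
  have hXA : X ≤ Subgroup.centralizer (A : Set G) := fun x hx =>
    centralizes_of_min s hE.1 hEA (hXE hx) fun r hr hd =>
      Nat.minFac_le_of_dvd hr.two_le (hd.trans (Subgroup.orderOf_dvd_natCard _ hx))
  have hAX : A ≤ Subgroup.centralizer (X : Set G) := Subgroup.le_centralizer_iff.1 hXA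
  have hwc : Nat.card (Subgroup.zpowers w) = p := by rw [Nat.card_zpowers, hwo]
  have hwA : Subgroup.zpowers w ≤ A := hlines _ (Subgroup.zpowers_le.2 (hXE hwX)) hwc
  have hle : Subgroup.centralizer (X : Set G) ≤ Subgroup.centralizer (Subgroup.zpowers w : Set G) :=
    centralizer_le_of_le (Subgroup.zpowers_le.2 hwX)
  obtain ⟨hC, -⟩ := centralizer_unique_of_fixed s hwA hwc fun h =>
    hy1 (Subgroup.mem_bot.1 (h ▸ Subgroup.mem_inf.2 ⟨hy, hle hyX⟩))
  refine ⟨hle.trans hC, fun L hL hCL => ?_⟩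
  by_contra hne
  exact hy1 (Subgroup.mem_bot.1 (sigmaCore_inf_coatom s hL hne (hAX.trans hCL) ▸
    Subgroup.mem_inf.2 ⟨hy, hCL hyX⟩))

include hKU in
/-- `U M_σ` is normal in `M`. -/
theorem le_normalizer_sup : M ≤ Subgroup.normalizer ((U ⊔ sigmaCore M : Subgroup G) : Set G) := by
  intro m hm
  obtain ⟨u, hu, b, hb, rfl⟩ := hKU.compl.2.2.2 m hm
  have hσn : M ≤ Subgroup.normalizer (sigmaCore M : Set G) := le_normalizer_piCoreOf
  refine Subgroup.mul_mem _ (Subgroup.le_normalizer (Subgroup.mem_sup_left hu)) ?_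
  refine sup_le (fun k hk => mem_normalizer_of_cj_le ?_)
    ((le_sup_right : sigmaCore M ≤ U ⊔ sigmaCore M).trans Subgroup.le_normalizer) hb
  rw [Fusion.cj, Subgroup.map_sup]
  exact sup_le_sup (cj_eq_self (hKU.normal hk)).le (cj_eq_self (hσn (K_le hKU hk))).le

include hG hM hKU in
/-- The elements of `A(M)` outside `M_σ` form a TI-set. -/
theorem sigmaA_ti : IsTISubset (sigmaA M U \ (sigmaCore M : Set G)) := by
  intro g hg x hx hgx
  exfalso
  obtain ⟨E, hE⟩ := exists_compl hG hM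
  have hσM : sigmaCore M ≤ M := Subgroup.map_subtype_le _
  have hkey : ∀ {x : G}, x ∈ sigmaA M U \ (sigmaCore M : Set G) → ∀ q : ℕ, q.Prime → q ∣ orderOf x →
      q ∉ sigma M → Subgroup.centralizer ({x ^ (orderOf x / q)} : Set G) ≤ M ∧
        ∀ L : Subgroup G, IsCoatom L → Subgroup.centralizer ({x ^ (orderOf x / q)} : Set G) ≤ L → L = M := by
    rintro x ⟨⟨⟨hxM, y, hy, hy1, hxy⟩, hxU⟩, -⟩ q hq hd hσ
    have hwo : orderOf (x ^ (orderOf x / q)) = q := orderOf_pow_orderOf_div (orderOf_pos x).ne' hd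
    refine element_unique hG hM hE (pow_mem hxM _) (fun h => hq.ne_one (by rw [← hwo, h, orderOf_one]))
      (fun r hr hrd => ?_) hy hy1 ((show Commute x y from hxy).pow_left _).eq
    rw [hwo] at hrd
    rw [(Nat.prime_dvd_prime_iff_eq hr hq).1 hrd]
    exact tau2_of_fixed hG hM hKU hxU hy hy1 hxy hq hd hσ
  obtain ⟨q, hq, hd, hσ⟩ : ∃ q : ℕ, q.Prime ∧ q ∣ orderOf x ∧ q ∉ sigma M := by
    by_contra hno
    push Not at hno
    refine hx.2 (le_of_hall (sigmaCore_hall hG hM).1 le_normalizer_piCoreOf (Subgroup.zpowers_le.2 hx.1.1.1)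
      (fun q hq hd => hno q hq (by rwa [Nat.card_zpowers] at hd)) (Subgroup.mem_zpowers x))
  obtain ⟨hC, hu⟩ := hkey hx q hq hd hσ
  have ho : orderOf (g * x * g⁻¹) = orderOf x :=
    orderOf_injective (MulAut.conj g).toMonoidHom (MulAut.conj g).injective x
  obtain ⟨hC', -⟩ := hkey hgx q hq (ho ▸ hd) hσ
  rw [ho, conj_pow] at hC'
  set w := x ^ (orderOf x / q)
  have hcj : Subgroup.centralizer ({g * w * g⁻¹} : Set G) = cj (Subgroup.centralizer ({w} : Set G)) g := by
    rw [← centralizer_zpowers, ← centralizer_zpowers, Fusion.cj_centralizer, cj_zpowers]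
  rw [hcj] at hC'
  have h2 : cj M g⁻¹ = M := hu _ ((OrderIso.isCoatom_iff (MulEquiv.mapSubgroup (MulAut.conj g⁻¹)) M).2 hM)
    ((Fusion.cj_cj_inv _ g).ge.trans (cj_mono hC' g⁻¹))
  have hgM : g ∈ M := by
    have h3 : g⁻¹ ∈ Subgroup.normalizer (M : Set G) := mem_normalizer_of_cj_le h2.le
    rw [normalizer_coatom hG hM] at h3
    exact inv_mem_iff.1 h3
  -- `M` normalizes the set
  refine hg (Subgroup.mem_set_normalizer_iff.2 fun a => ?_)
  have hset : ∀ m ∈ M, ∀ a ∈ sigmaA M U \ (sigmaCore M : Set G),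
      m * a * m⁻¹ ∈ sigmaA M U \ (sigmaCore M : Set G) := by
    rintro m hm a ⟨⟨⟨haM, y, hy, hy1, hay⟩, haU⟩, haσ⟩
    have hmσ := Subgroup.mem_normalizer_iff.1 (le_normalizer_piCoreOf hm : m ∈ Subgroup.normalizer (sigmaCore M : Set G))
    exact ⟨⟨⟨M.mul_mem (M.mul_mem hm haM) (M.inv_mem hm), m * y * m⁻¹, (hmσ y).1 hy,
      fun h => hy1 (conj_eq_one_iff.1 h), by rw [conj_mul, conj_mul, hay]⟩,
      (Subgroup.mem_normalizer_iff.1 (le_normalizer_sup hKU hm) a).1 haU⟩, fun h => haσ ((hmσ a).2 h)⟩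
  refine ⟨hset g hgM a, fun h => ?_⟩
  have := hset g⁻¹ (inv_mem hgM) _ h
  simpa [mul_assoc] using this

end Cfsg.Agent.OddLocal.Decomp
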