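import Cfsg.Agent.Lib.OddLocal.TauTwoFrobenius

/-!
The Frobenius type criterion.
-/

set_option autoImplicit false
set_option linter.style.haveILetI false

namespace Cfsg.Agent.OddLocal.TauTwo

open Cfsg
open scoped commutatorElement
open Cfsg.Agent.Fusion (SylIn cj cj_cj cj_eq_self cj_mono card_cj isPGroup_cj exists_sylIn_ge
  mem_normalizer_of_cj_le)
open Cfsg.Agent.OddLocal.Uniq
open Cfsg.Agent.OddLocal.Sig
open Cfsg.Agent.OddLocal.RankTwo

universe u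

variable {G : Type u} [Group G] [Finite G] {M E : Subgroup G}

/-- Abelian Sylow subgroups for `τ₂(M)` are normal in the complement. -/
theorem abelianTau2_of_forall (hG : IsMinSimpleOddOrder G) (hM : IsCoatom M)
    (hE : IsComplIn E (sigmaCore M) M)
    (h : ∀ (q : ℕ) [Fact q.Prime], q ∈ tau2 M → ∃ S : Sylow q G, IsMulCommutative (S : Subgroup G)) :
    AbelianTau2 M E := by
  intro q _ hq P hP
  obtain ⟨A, hAE, s⟩ := exists_setup_in_compl hG hM hE hq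
  obtain ⟨S, hS⟩ := h q hq
  obtain ⟨T, hT, hAT⟩ := exists_sylIn_ge (Fusion.elab_isPGroup s.elem) (le_top (a := A))
  obtain ⟨x, -, hx⟩ := (Fusion.sylIn_top S).conj_le hT.isPGroup le_top
  have hTC : T ≤ Subgroup.centralizer (A : Set G) := fun t ht => Subgroup.mem_centralizer_iff.2 fun a ha => by
    have h1 : (MulAut.conj x) a * (MulAut.conj x) t = (MulAut.conj x) t * (MulAut.conj x) a :=
      congrArg Subtype.val (hS.is_comm.comm (⟨_, hx ⟨a, hAT ha, rfl⟩⟩ : (S : Subgroup G))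
        ⟨_, hx ⟨t, ht, rfl⟩⟩)
    rw [← map_mul, ← map_mul] at h1
    exact (MulAut.conj x).injective h1
  obtain ⟨-, ⟨hC, hEeq, -⟩, -⟩ := complement_tau2 s hE hAE
  have hTE : T ≤ E := hEeq ▸ hTC.trans hC
  have hET := (sylow_normal s hE hAE (hT.mono hTE le_top) hT).2.2.1
  obtain ⟨g, hg, hgP⟩ := (hT.mono hTE le_top).conj_le hP.isPGroup hP.le
  rw [Fusion.cj_le_iff, cj_eq_self (hET (Subgroup.inv_mem _ hg))] at hgP
  obtain rfl : T = P := hP.eq_of_le hT.isPGroup hgP hTE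
  exact ⟨hT, hET⟩

omit [Finite G] in
theorem primePow_eq_one {z : G} {a b q : ℕ} (hq : q.Prime) (hb : ¬ q ∣ b) (hz : z ^ q ^ a = 1) (h : z ^ b = 1) :
    z = 1 := by
  have : orderOf z ∣ Nat.gcd (q ^ a) b := Nat.dvd_gcd (orderOf_dvd_of_pow_eq_one hz) (orderOf_dvd_of_pow_eq_one h)
  rw [Nat.Coprime.gcd_eq_one (Nat.Coprime.pow_left a ((Nat.Prime.coprime_iff_not_dvd hq).2 hb)), Nat.dvd_one,
    orderOf_eq_one_iff] at this
  exact this

/-- The case of abelian Sylow subgroups. -/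
theorem frobenius_abelian (hG : IsMinSimpleOddOrder G) (hM : IsCoatom M) (hE : IsComplIn E (sigmaCore M) M)
    (h13 : Fpf13 M E) (hab : AbelianTau2 M E) :
    (∃ A₀ : Subgroup G, A₀ ≤ E ∧ E ≤ Subgroup.normalizer (A₀ : Set G) ∧ IsMulCommutative A₀ ∧
        ∀ x ∈ sigmaCore M, x ≠ 1 → E ⊓ Subgroup.centralizer ({x} : Set G) ≤ A₀) ∧
      ∃ E₀ : Subgroup G, E₀ ≤ E ∧ Monoid.exponent E₀ = Monoid.exponent E ∧
        ∀ e ∈ E₀, e ≠ 1 → sigmaCore M ⊓ Subgroup.centralizer ({e} : Set G) = ⊥ := by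
  set T : Set G := {y | y ∈ E ∧ ∃ q, q ∈ tau2 M ∧ ∃ k, orderOf y = q ^ k} with hT
  set A₀ := Subgroup.closure T with hA₀
  have hsyl : ∀ (q : ℕ) [Fact q.Prime], q ∈ tau2 M → ∀ P : Subgroup G, SylIn q P E →
      ∀ y ∈ E, ∀ k, orderOf y = q ^ k → y ∈ P := by
    intro q _ hq P hP y hy k hk
    obtain ⟨-, hEP⟩ := hab q hq P hP
    obtain ⟨g, hg, hgP⟩ := hP.conj_le (IsPGroup.of_card (n := k) (by rw [Nat.card_zpowers, hk]) :
      IsPGroup q ↥(Subgroup.zpowers y)) (Subgroup.zpowers_le.2 hy)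
    rw [Fusion.cj_le_iff, cj_eq_self (hEP (Subgroup.inv_mem _ hg))] at hgP
    exact hgP (Subgroup.mem_zpowers y)
  have hTcomm : ∀ a ∈ T, ∀ b ∈ T, a * b = b * a := by
    rintro a ⟨ha, q, hq, i, hai⟩ b ⟨hb, r, hr, j, hbj⟩
    haveI := Fact.mk hq.1
    haveI := Fact.mk hr.1
    obtain ⟨P, hP⟩ := Fusion.exists_sylIn (p := q) E
    obtain ⟨Q, hQ⟩ := Fusion.exists_sylIn (p := r) E
    have haP := hsyl q hq P hP a ha i hai
    have hbQ := hsyl r hr Q hQ b hb j hbj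
    rcases eq_or_ne q r with rfl | hne
    · have hPab := pgroup_abelian hG hM hq.2.1 hP.isPGroup (hP.le.trans hE.1)
      exact congrArg Subtype.val (hPab.is_comm.comm (⟨a, haP⟩ : P) ⟨b, hsyl q hq P hP b hb j hbj⟩)
    · exact (Subgroup.mem_centralizer_iff.1 (centralizes_of_meet (hQ.le.trans (hab q hq P hP).2) le_rfl
        (hP.le.trans (hab r hr Q hQ).2) (Solv.coprime_inf (coprime_pgroup hne hP.isPGroup hQ.isPGroup)) haP)
        b hbQ).symm
  haveI hA₀ab : IsMulCommutative ↥A₀ := Subgroup.isMulCommutative_closure hTcomm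
  have hA₀c : ∀ a ∈ A₀, ∀ b ∈ A₀, Commute a b := fun a ha b hb =>
    congrArg Subtype.val (hA₀ab.is_comm.comm (⟨a, ha⟩ : A₀) ⟨b, hb⟩)
  have hA₀E : A₀ ≤ E := (Subgroup.closure_le _).2 fun y hy => hy.1
  have hEA₀ : E ≤ Subgroup.normalizer (A₀ : Set G) := fun g hg => mem_normalizer_of_cj_le (by
    show Subgroup.map _ A₀ ≤ A₀
    rw [hA₀, MonoidHom.map_closure, Subgroup.closure_le]
    rintro _ ⟨y, ⟨hy, q, hq, k, hk⟩, rfl⟩
    refine Subgroup.subset_closure ⟨Subgroup.mul_mem _ (Subgroup.mul_mem _ hg hy) (Subgroup.inv_mem _ hg), q, hq, k, ?_⟩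
    rw [← hk]
    exact MulEquiv.orderOf_eq (MulAut.conj g) y)
  have hsupp : ∀ y ∈ A₀, ∀ q : ℕ, q.Prime → q ∣ orderOf y → q ∈ tau2 M := by
    intro y hy
    induction hy using Subgroup.closure_induction with
    | mem y hy =>
      obtain ⟨-, q, hq, k, hk⟩ := hy
      intro r hr hd
      exact (Nat.prime_dvd_prime_iff_eq hr hq.1).1 (hr.dvd_of_dvd_pow (hk ▸ hd)) ▸ hq
    | one => intro r hr hd; rw [orderOf_one, Nat.dvd_one] at hd; exact absurd hd hr.ne_one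
    | mul a b ha hb iha ihb =>
      intro r hr hd
      exact ((Nat.Prime.dvd_mul hr).1 (hd.trans (hA₀c a ha b hb).orderOf_mul_dvd_mul_orderOf)).elim
        (iha r hr) (ihb r hr)
    | inv a ha iha => intro r hr hd; exact iha r hr (by rwa [orderOf_inv] at hd)
  have hmem : ∀ y ∈ E, (∀ q : ℕ, q.Prime → q ∣ orderOf y → q ∈ tau2 M) → y ∈ A₀ := by
    intro y hy hτ
    refine Subgroup.zpowers_le.1 (inf_eq_left.1 (Subgroup.eq_of_le_of_card_ge inf_le_left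
      (Nat.le_of_dvd Nat.card_pos ?_)))
    rw [Nat.card_zpowers]
    refine (Nat.dvd_iff_prime_pow_dvd_dvd _ _).2 fun q k hq hd => ?_
    rcases eq_or_ne k 0 with rfl | hk
    · simp
    have ho := orderOf_pow_orderOf_div (orderOf_pos y).ne' hd
    rw [← ho]
    refine Subgroup.orderOf_dvd_natCard _ ⟨Subgroup.npow_mem_zpowers y _, ?_⟩
    exact Subgroup.subset_closure ⟨pow_mem hy _, q, hτ q hq ((dvd_pow_self q hk).trans hd), k, ho⟩
  have hfix : ∀ y ∈ E, ∀ x ∈ sigmaCore M, x ≠ 1 → y * x = x * y → y ∈ A₀ := fun y hy x hx hx1 hxy =>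
    hmem y hy fun q hq hd => fixed_tau2 hG hM hE h13 hy hx hx1 hxy hq hd
  refine ⟨⟨A₀, hA₀E, hEA₀, hA₀ab, fun x hx hx1 y hy =>
    hfix y hy.1 x hx hx1 (Subgroup.mem_centralizer_singleton_iff.1 hy.2)⟩, ?_⟩
  -- the invariant parts
  have hpart : ∀ q : tau2 M, ∃ Z : Subgroup G, Z ≤ A₀ ∧ IsPGroup q.1 Z ∧ E ≤ Subgroup.normalizer (Z : Set G) ∧
      (∃ z ∈ Z, ∀ y ∈ E, ∀ k, orderOf y = q.1 ^ k → q.1 ^ k ∣ orderOf z) ∧
      ∀ z ∈ Z, z ≠ 1 → z ^ q.1 = 1 → sigmaCore M ⊓ Subgroup.centralizer ({z} : Set G) = ⊥ := by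
    rintro ⟨q, hq⟩
    haveI := Fact.mk hq.1
    obtain ⟨A, hAE, s⟩ := exists_setup_in_compl hG hM hE hq
    obtain ⟨P, hP⟩ := Fusion.exists_sylIn (p := q) E
    obtain ⟨Z, hZP, hZn, ⟨z, hz, hze⟩, hZf⟩ := exists_part s hE hAE h13 hab hq hP
    refine ⟨Z, fun w hw => hmem w (hP.le (hZP hw)) fun r hr hd => ?_, hP.isPGroup.to_le hZP, hZn,
      ⟨z, hz, fun y hy k hk => hk ▸ orderOf_dvd_of_pow_eq_one (hze y (hsyl q hq P hP y hy k hk))⟩, hZf⟩
    obtain ⟨i, hi⟩ := IsPGroup.iff_card.1 hP.isPGroup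
    exact (Nat.prime_dvd_prime_iff_eq hr hq.1).1 (hr.dvd_of_dvd_pow (hi ▸ hd.trans
      (Subgroup.orderOf_dvd_natCard P (hZP hw)))) ▸ hq
  choose Z hZA hZp hZn hZe hZf using hpart
  set N := Nat.card A₀ with hN
  have hNne : N ≠ 0 := Nat.card_pos.ne'
  have hconj : ∀ {g : G}, g ∈ E → ∀ {H : Subgroup G}, E ≤ Subgroup.normalizer (H : Set G) → ∀ {y : G}, y ∈ H →
      g * y * g⁻¹ ∈ H := fun {g} hg {H} hH {y} hy => (Subgroup.mem_normalizer_iff.1 (hH hg) y).1 hy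
  let ZZ : Subgroup G :=
    { carrier := {y | y ∈ A₀ ∧ ∀ q : tau2 M, y ^ (ordCompl[q.1] N) ∈ Z q}
      one_mem' := ⟨one_mem _, fun q => by rw [one_pow]; exact one_mem _⟩
      mul_mem' := by
        rintro a b ⟨ha, ha'⟩ ⟨hb, hb'⟩
        exact ⟨Subgroup.mul_mem _ ha hb, fun q => by
          rw [(hA₀c a ha b hb).mul_pow]; exact Subgroup.mul_mem _ (ha' q) (hb' q)⟩
      inv_mem' := by
        rintro a ⟨ha, ha'⟩
        exact ⟨Subgroup.inv_mem _ ha, fun q => by rw [inv_pow]; exact Subgroup.inv_mem _ (ha' q)⟩ }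
  have hcop : ∀ q : tau2 M, ¬ q.1 ∣ ordCompl[q.1] N := fun q => Nat.not_dvd_ordCompl q.2.1 hNne
  have hpN : ∀ {y : G}, y ∈ A₀ → ∀ q : ℕ, y ^ (ordProj[q] N * ordCompl[q] N) = 1 := fun {y} hy q => by
    rw [Nat.ordProj_mul_ordCompl_eq_self]
    exact orderOf_dvd_iff_pow_eq_one.1 (Subgroup.orderOf_dvd_natCard A₀ hy)
  have hZZ : ∀ q, Z q ≤ ZZ := by
    refine fun q w hw => ⟨hZA q hw, fun r => ?_⟩
    rcases eq_or_ne q r with rfl | hne
    · exact pow_mem hw _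
    obtain ⟨i, hi⟩ := hZp q ⟨w, hw⟩
    have hwi : w ^ q.1 ^ i = 1 := congrArg Subtype.val hi
    have : w ^ ordCompl[r.1] N = 1 := by
      refine primePow_eq_one (a := (N.factorization r.1)) (b := q.1 ^ i) r.2.1 (fun hd => hne (Subtype.ext
        ((Nat.prime_dvd_prime_iff_eq r.2.1 q.2.1).1 (r.2.1.dvd_of_dvd_pow hd)).symm)) ?_ ?_
      · rw [← pow_mul, mul_comm]; exact hpN (hZA q hw) _
      · rw [← pow_mul, mul_comm, pow_mul, hwi, one_pow]
    rw [this]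
    exact one_mem _
  have hEZZ : E ≤ Subgroup.normalizer (ZZ : Set G) := fun g hg => mem_normalizer_of_cj_le (by
    rintro _ ⟨y, ⟨hy, hy'⟩, rfl⟩
    refine ⟨hconj hg hEA₀ hy, fun q => ?_⟩
    show (g * y * g⁻¹) ^ _ ∈ Z q
    rw [conj_pow]
    exact hconj hg (hZn q) (hy' q))
  -- a complement of `A₀`
  set A' := A₀.subgroupOf E with hA'
  haveI : A'.Normal := (Subgroup.normal_subgroupOf_iff_le_normalizer hA₀E).2 hEA₀
  have hA'c : Nat.card A' = N := Nat.card_congr (Subgroup.subgroupOfEquivOfLe hA₀E).toEquiv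
  obtain ⟨K', hK'⟩ := Subgroup.exists_left_complement'_of_coprime (N := A') (by
    rw [hA'c]
    refine Nat.coprime_of_dvd fun q hq hdN hd => ?_
    haveI := Fact.mk hq
    obtain ⟨w, hw⟩ := exists_prime_orderOf_dvd_card' q hdN
    have hq2 : q ∈ tau2 M := hsupp w w.2 q hq (by rw [Subgroup.orderOf_coe, hw])
    obtain ⟨P, hP⟩ := Fusion.exists_sylIn (p := q) E
    have hPA : P ≤ A₀ := fun y hy => hmem y (hP.le hy) fun r hr hrd => by
      obtain ⟨i, hi⟩ := IsPGroup.iff_card.1 hP.isPGroup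
      exact (Nat.prime_dvd_prime_iff_eq hr hq).1 (hr.dvd_of_dvd_pow (hi ▸ hrd.trans
        (Subgroup.orderOf_dvd_natCard P hy))) ▸ hq2
    exact hP.not_dvd (hd.trans ⟨P.relIndex A₀, by
      rw [mul_comm, ← Subgroup.relIndex_mul_relIndex P A₀ E hPA hA₀E]; rfl⟩))
  set K := K'.map E.subtype with hK
  have hKE : K ≤ E := Subgroup.map_subtype_le _
  have hKA : ∀ k ∈ K, k ∈ A₀ → k = 1 := by
    rintro _ ⟨k, hk, rfl⟩ hkA
    have : k ∈ K' ⊓ A' := ⟨hk, Subgroup.mem_subgroupOf.2 hkA⟩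
    rw [hK'.disjoint.eq_bot, Subgroup.mem_bot] at this
    rw [this, map_one]
  have hfac : ∀ y ∈ E, ∃ a ∈ A₀, ∃ k ∈ K, y = a * k := by
    intro y hy
    obtain ⟨⟨⟨k, hk⟩, ⟨a, ha⟩⟩, h, -⟩ := hK'.existsUnique (⟨y, hy⟩⁻¹ : ↥E)
    refine ⟨(a : G)⁻¹, Subgroup.inv_mem _ (Subgroup.mem_subgroupOf.1 ha), (k : G)⁻¹,
      Subgroup.inv_mem _ (Subgroup.mem_map_of_mem _ hk), ?_⟩
    have h' := congrArg Subtype.val h
    simp only [Subgroup.coe_mul, InvMemClass.coe_inv] at h'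
    rw [← mul_inv_rev, h', inv_inv]
  have hE₀ : K ⊔ ZZ ≤ E := sup_le hKE fun y hy => hA₀E hy.1
  refine ⟨K ⊔ ZZ, hE₀, exponent_eq_of_primePow hE₀ fun q hq y hy k hk => ?_, fun y hy hy1 => eq_bot_iff.2 ?_⟩
  · by_cases hq2 : q ∈ tau2 M
    · obtain ⟨z, hz, hze⟩ := hZe ⟨q, hq2⟩
      refine (hze y hy k hk).trans ?_
      rw [← Subgroup.orderOf_mk z (Subgroup.mem_sup_right (S := K) (hZZ _ hz))]
      exact Monoid.order_dvd_exponent _
    · obtain ⟨a, ha, v, hv, hav⟩ := hfac y hy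
      refine Dvd.dvd.trans ?_ (Monoid.order_dvd_exponent (⟨v, Subgroup.mem_sup_left hv⟩ : ↥(K ⊔ ZZ)))
      rw [Subgroup.orderOf_mk, ← hk]
      refine orderOf_dvd_of_pow_eq_one ?_
      have h := mul_pow_mem ha (hEA₀ (hKE hv)) (orderOf v)
      rw [← hav, pow_orderOf_eq_one, inv_one, mul_one] at h
      by_contra hne
      obtain ⟨r, hr, hrd⟩ := Nat.exists_prime_and_dvd (fun h1 => hne (orderOf_eq_one_iff.1 h1))
      exact hq2 ((Nat.prime_dvd_prime_iff_eq hr hq).1 (hr.dvd_of_dvd_pow (hk ▸ hrd.trans (orderOf_pow_dvd _))) ▸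
        hsupp _ h r hr hrd)
  · rintro x ⟨hx, hxC⟩
    by_contra hx1
    have hcomm : y * x = x * y := (Subgroup.mem_centralizer_singleton_iff.1 hxC).symm
    have hyA := hfix y (hE₀ hy) x hx hx1 hcomm
    have hyZ : y ∈ ZZ := by
      rw [← SetLike.mem_coe, Subgroup.coe_mul_of_left_le_normalizer_right _ _ (hKE.trans hEZZ)] at hy
      obtain ⟨v, hv, z, hz, rfl⟩ := hy
      show v * z ∈ ZZ
      rw [hKA v hv (by simpa using Subgroup.mul_mem _ hyA (Subgroup.inv_mem _ hz.1)), one_mul]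
      exact hz
    obtain ⟨r, hr, hrd⟩ := Nat.exists_prime_and_dvd (fun h1 => hy1 (orderOf_eq_one_iff.1 h1))
    set u := y ^ (orderOf y / r) with hu
    have huo : orderOf u = r := orderOf_pow_orderOf_div (orderOf_pos y).ne' hrd
    set q : tau2 M := ⟨r, hsupp y hyA r hr hrd⟩ with hq
    obtain ⟨c, hc⟩ := exists_pow_eq_self_of_coprime (x := u)
      (huo.symm ▸ ((Nat.Prime.coprime_iff_not_dvd hr).2 (hcop q)).symm)
    have huZ : u ∈ Z q := hc ▸ pow_mem ((pow_mem hyZ (orderOf y / r)).2 q) c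
    refine hx1 (Subgroup.mem_bot.1 (hZf q u huZ (fun h => hr.ne_one (by rw [← huo, h, orderOf_one]))
      (orderOf_dvd_iff_pow_eq_one.1 (dvd_of_eq huo)) ▸ Subgroup.mem_inf.2 ⟨hx, ?_⟩))
    exact Subgroup.mem_centralizer_singleton_iff.2 ((show Commute y x from hcomm).pow_left _).symm.eq

end Cfsg.Agent.OddLocal.TauTwo
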