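import Cfsg.Agent.Lib.OddLocal.KappaDecomp
import Cfsg.Agent.Lib.OddLocal.TauTwoFrobeniusAbelian
import Cfsg.Agent.Lib.OddLocal.DecompositionFixed
import Cfsg.Agent.S1421

/-!
A subgroup of `U` with the exponent of `U` acting freely on `M_σ`.
-/

set_option autoImplicit false
set_option linter.style.haveILetI false

namespace Cfsg.Agent.OddLocal.Kappa

open scoped Pointwise commutatorElement
open Cfsg
open Cfsg.Agent.Fusion (SylIn cj cj_cj cj_eq_self cj_mono card_cj exists_sylIn)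
open Cfsg.Agent.OddLocal.Uniq
open Cfsg.Agent.OddLocal.Sig
open Cfsg.Agent.OddLocal.RankTwo
open Cfsg.Agent.OddLocal.TauTwo

universe u

variable {G : Type u} [Group G] [Finite G] {M A K U P : Subgroup G} {p : ℕ}

theorem sylIn_of_hallOf {π : Set ℕ} [hp : Fact p.Prime] (hU : IsPiHallOf π U M) (hπ : p ∈ π) (hP : SylIn p P U) :
    SylIn p P M := ⟨hP.le.trans hU.1, hP.isPGroup, fun hd => by
  rw [← Subgroup.relIndex_mul_relIndex P U M hP.le hU.1] at hd
  exact ((Nat.Prime.dvd_mul hp.out).1 hd).elim hP.not_dvd (hU.2.2 p hp.out hπ)⟩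

/-- A cyclic subgroup of a Sylow subgroup of a `τ₂` prime, of full exponent, acting freely on `M_σ`. -/
theorem exists_root_fpf (hG : IsMinSimpleOddOrder G) (hM : IsCoatom M) [hp : Fact p.Prime] (hp2 : p ∈ tau2 M)
    (hP : SylIn p P M) : ∃ z ∈ P, (∀ y ∈ P, y ^ orderOf z = 1) ∧
      ∀ w ∈ Subgroup.zpowers z, orderOf w = p → sigmaCore M ⊓ Subgroup.centralizer ({w} : Set G) = ⊥ := by
  obtain ⟨F, hFM, hFe, hFc⟩ := exists_elab_of_prank hp2.2.2.2
  obtain ⟨g, -, hgF⟩ := hP.conj_le (Fusion.elab_isPGroup hFe) hFM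
  have hFe' : IsElementaryAbelian p (cj F g) := ⟨haveI := hFe.1; Subgroup.map_isMulCommutative F _, by
    rintro _ ⟨y, hy, rfl⟩; rw [← map_pow, hFe.2 y hy, map_one]⟩
  have hPc' : ¬ IsCyclic ↥P := fun hc => noncyclic_of_card hFe' (by rw [card_cj]; exact hFc) (by
    haveI := hc
    exact isCyclic_of_injective (Subgroup.inclusion hgF) (Subgroup.inclusion_injective hgF))
  obtain ⟨A, hgP, hAe, hAc⟩ :=
    exists_elab_sq (Uniq.ne_two hG hP.isPGroup fun h => hPc' (by rw [h]; infer_instance)) hP.isPGroup hPc'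
  have s : Setup p M A := setup_of_tau2 hG hM hp2 (hgP.trans hP.le) hAe hAc
  have hom := omega_iff s hP hgP
  have hPab := pgroup_abelian hG hM hp2.2.1 hP.isPGroup hP.le
  have hPc : ∀ a ∈ P, ∀ b ∈ P, Commute a b := fun a ha b hb =>
    congrArg Subtype.val (hPab.is_comm.comm (⟨a, ha⟩ : P) ⟨b, hb⟩)
  have hord : ∀ y ∈ P, ∃ k, orderOf y = p ^ k := fun y hy => by
    obtain ⟨k, hk⟩ := IsPGroup.iff_card.1 (hP.isPGroup.to_le (Subgroup.zpowers_le.2 hy))
    exact ⟨k, by rwa [Nat.card_zpowers] at hk⟩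
  obtain ⟨x₀, hx₀⟩ := Finite.exists_max fun y : ↥P => orderOf (y : G)
  obtain ⟨k, hk⟩ := hord _ x₀.2
  have hexp : ∀ y ∈ P, y ^ p ^ k = 1 := fun y hy => by
    obtain ⟨j, hj⟩ := hord y hy
    have hjk := hx₀ ⟨y, hy⟩
    simp only [hj, hk] at hjk
    exact orderOf_dvd_iff_pow_eq_one.1 (hj ▸ pow_dvd_pow p ((Nat.pow_le_pow_iff_right hp.out.one_lt).1 hjk))
  obtain ⟨a₀, ha₀, ha₀1⟩ := exists_ne_one s.ne_bot
  obtain ⟨n, rfl⟩ : ∃ n, k = n + 1 := by
    refine Nat.exists_eq_succ_of_ne_zero fun h => ha₀1 ?_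
    simpa [h] using hexp a₀ (hgP ha₀)
  let R : Subgroup G :=
    { carrier := {u | ∃ y ∈ P, y ^ p ^ n = u}
      one_mem' := ⟨1, one_mem _, one_pow _⟩
      mul_mem' := by
        rintro _ _ ⟨a, ha, rfl⟩ ⟨b, hb, rfl⟩
        exact ⟨a * b, Subgroup.mul_mem _ ha hb, (hPc a ha b hb).mul_pow _⟩
      inv_mem' := by
        rintro _ ⟨a, ha, rfl⟩
        exact ⟨a⁻¹, Subgroup.inv_mem _ ha, inv_pow _ _⟩ }
  have hRA : R ≤ A := by
    rintro _ ⟨y, hy, rfl⟩
    exact (hom _ (pow_mem hy _)).1 (by rw [← pow_mul, ← pow_succ]; exact hexp y hy)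
  have hRN : Subgroup.normalizer (P : Set G) ≤ Subgroup.normalizer (R : Set G) := fun g hg =>
    Fusion.mem_normalizer_of_cj_le (by
      rintro _ ⟨_, ⟨y, hy, rfl⟩, rfl⟩
      exact ⟨g * y * g⁻¹, (Subgroup.mem_normalizer_iff.1 hg y).1 hy, by rw [conj_pow]; rfl⟩)
  have hx₀n : (x₀ : G) ^ p ^ n ≠ 1 := fun h => by
    have := Nat.le_of_dvd (pow_pos hp.out.pos n) (hk ▸ orderOf_dvd_of_pow_eq_one h)
    exact absurd this (not_le.2 (Nat.pow_lt_pow_right hp.out.one_lt n.lt_succ_self))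
  obtain ⟨L, hLR, hLc, hLfix⟩ : ∃ L : Subgroup G, L ≤ R ∧ Nat.card L = p ∧
      sigmaCore M ⊓ Subgroup.centralizer (L : Set G) = ⊥ := by
    by_cases hRA' : R = A
    · rw [hRA']
      exact exists_fpf_line s
    have hRc : Nat.card R = p := by
      obtain ⟨j, hj2, hj⟩ := (Nat.dvd_prime_pow hp.out).1 (s.card ▸ Subgroup.card_dvd_of_le hRA)
      interval_cases j
      · exact absurd (Subgroup.mem_bot.1 ((Subgroup.card_eq_one.1 (hj.trans (pow_zero p))) ▸
          (⟨_, x₀.2, rfl⟩ : (x₀ : G) ^ p ^ n ∈ R))) hx₀n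
      · rw [hj, pow_one]
      · exact absurd (Subgroup.eq_of_le_of_card_ge hRA (by rw [s.card, hj])) hRA'
    refine ⟨R, le_rfl, hRc, ?_⟩
    by_contra hne
    have hgood := good_of_fixed s hRA hRc hne
    obtain ⟨g, hg, hgM⟩ := SetLike.not_le_iff_exists.1 (s.sylow_normalizer hP)
    exact hgM (mem_of_good_conj s (g := g) (by rw [cj_eq_self (hRN hg)]; exact hgood) hgood)
  obtain ⟨u, hu, hu1⟩ := exists_ne_one (ne_bot_of_card hLc)
  obtain ⟨x, hxP, hxu⟩ := hLR hu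
  have hxo : orderOf x = p ^ (n + 1) := orderOf_eq_prime_pow (by rw [hxu]; exact hu1) (hexp x hxP)
  have huo : orderOf u = p := orderOf_eq_prime (s.elem.2 u (hRA (hLR hu))) hu1
  refine ⟨x, hxP, hxo ▸ hexp, fun w hw hwo => ?_⟩
  have h : Subgroup.zpowers w = L := by
    refine (cyclic_eq (P := Subgroup.zpowers x) inferInstance (Subgroup.zpowers_le.2 hw)
      (Subgroup.zpowers_le.2 (hxu ▸ Subgroup.npow_mem_zpowers x _)) (p := p) (by rw [Nat.card_zpowers, hwo])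
      (by rw [Nat.card_zpowers, huo])).trans ?_
    exact Subgroup.eq_of_le_of_card_ge (Subgroup.zpowers_le.2 hu) (by rw [hLc, Nat.card_zpowers, huo])
  rw [← centralizer_zpowers, h]
  exact hLfix

/-- For an abelian `U`: a free subgroup of full exponent. -/
theorem exists_free_abelian (hG : IsMinSimpleOddOrder G) (hM : IsCoatom M)
    (hU : IsPiHallOf {q | q.Prime ∧ q ∉ kappa M ∧ q ∉ sigma M} U M) (hab : IsMulCommutative ↥U) :
    ∃ U₀ : Subgroup G, U₀ ≤ U ∧ Monoid.exponent U₀ = Monoid.exponent U ∧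
      ∀ u ∈ U₀, u ≠ 1 → sigmaCore M ⊓ Subgroup.centralizer ({u} : Set G) = ⊥ := by
  have hUc : ∀ a ∈ U, ∀ b ∈ U, Commute a b := fun a ha b hb =>
    congrArg Subtype.val (hab.is_comm.comm (⟨a, ha⟩ : U) ⟨b, hb⟩)
  set N := Nat.card U with hN
  have hNne : N ≠ 0 := Nat.card_pos.ne'
  have hpart : ∀ q : ℕ, ∃ z ∈ U, q.Prime → (∃ i, orderOf z = q ^ i) ∧
      (∀ y ∈ U, ∀ k, orderOf y = q ^ k → q ^ k ∣ orderOf z) ∧
      ∀ w ∈ Subgroup.zpowers z, orderOf w = q → sigmaCore M ⊓ Subgroup.centralizer ({w} : Set G) = ⊥ := by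
    intro q
    by_cases hq : q.Prime
    swap
    · exact ⟨1, one_mem _, fun h => absurd h hq⟩
    by_cases hqd : q ∣ N
    swap
    · refine ⟨1, one_mem _, fun _ => ⟨⟨0, by simp⟩, fun y hy k hk => ?_, fun w hw hwo => ?_⟩⟩
      · rcases Nat.eq_zero_or_pos k with rfl | hk0
        · simp
        exact absurd ((dvd_pow_self q hk0.ne').trans (hk ▸ Subgroup.orderOf_dvd_natCard U hy)) hqd
      · rw [Subgroup.zpowers_one_eq_bot, Subgroup.mem_bot] at hw
        rw [hw, orderOf_one] at hwo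
        exact absurd hwo.symm hq.ne_one
    haveI := Fact.mk hq
    have hqπ := hU.2.1 q hq hqd
    obtain ⟨P, hP⟩ := exists_sylIn (p := q) U
    have hPM : SylIn q P M := sylIn_of_hallOf hU hqπ hP
    have hmem : ∀ y ∈ U, ∀ k, orderOf y = q ^ k → y ∈ P := fun y hy k hk => by
      obtain ⟨g, hg, hgP⟩ := hP.conj_le (IsPGroup.of_card (n := k) (by rw [Nat.card_zpowers, hk]) :
        IsPGroup q ↥(Subgroup.zpowers y)) (Subgroup.zpowers_le.2 hy)
      have h := hgP (Subgroup.mem_map_of_mem _ (Subgroup.mem_zpowers y))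
      have h' : g * y * g⁻¹ ∈ P := h
      rwa [(hUc g hg y hy).eq, mul_inv_cancel_right] at h'
    have hord : ∀ y ∈ P, ∃ k, orderOf y = q ^ k := fun y hy => by
      obtain ⟨k, hk⟩ := IsPGroup.iff_card.1 (hP.isPGroup.to_le (Subgroup.zpowers_le.2 hy))
      exact ⟨k, by rwa [Nat.card_zpowers] at hk⟩
    rcases classify hG hM hq hqπ.2.2 (hqd.trans (Subgroup.card_dvd_of_le hU.1)) with h | h
    · obtain ⟨z, hz, hze, hzf⟩ := exists_root_fpf hG hM h hPM
      exact ⟨z, hP.le hz, fun _ => ⟨hord z hz, fun y hy k hk =>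
        hk ▸ orderOf_dvd_of_pow_eq_one (hze y (hmem y hy k hk)), hzf⟩⟩
    · obtain ⟨x₀, hx₀⟩ := Finite.exists_max fun y : ↥P => orderOf (y : G)
      obtain ⟨i, hi⟩ := hord _ x₀.2
      refine ⟨x₀, hP.le x₀.2, fun _ => ⟨⟨i, hi⟩, fun y hy k hk => ?_, fun w hw hwo => ?_⟩⟩
      · have h' := hx₀ ⟨y, hmem y hy k hk⟩
        simp only [hk, hi] at h'
        exact hi ▸ pow_dvd_pow q ((Nat.pow_le_pow_iff_right hq.one_lt).1 h')
      · refine eq_bot_iff.2 fun x hx => Subgroup.mem_bot.2 (by_contra fun hx1 => hqπ.2.1 ?_)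
        exact Decomp.kappa_of_fixed hG hM hq hqπ.2.2 (hqd.trans (Subgroup.card_dvd_of_le hU.1))
          (h.elim (fun h => h.2.2.2.2) fun h => h.2.2.2)
          (hU.1 (Subgroup.zpowers_le.2 (hP.le x₀.2) hw)) (hwo.symm ▸ dvd_rfl) hx.1 hx1
          (Subgroup.mem_centralizer_singleton_iff.1 hx.2).symm
  choose z hzU hz using hpart
  let U₀ : Subgroup G :=
    { carrier := {y | y ∈ U ∧ ∀ q : ℕ, q.Prime → y ^ (ordCompl[q] N) ∈ Subgroup.zpowers (z q)}
      one_mem' := ⟨one_mem _, fun q _ => by rw [one_pow]; exact one_mem _⟩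
      mul_mem' := by
        rintro a b ⟨ha, ha'⟩ ⟨hb, hb'⟩
        exact ⟨Subgroup.mul_mem _ ha hb, fun q hq => by
          rw [(hUc a ha b hb).mul_pow]; exact Subgroup.mul_mem _ (ha' q hq) (hb' q hq)⟩
      inv_mem' := by
        rintro a ⟨ha, ha'⟩
        exact ⟨Subgroup.inv_mem _ ha, fun q hq => by rw [inv_pow]; exact Subgroup.inv_mem _ (ha' q hq)⟩ }
  have hle : U₀ ≤ U := fun y hy => hy.1
  have hzU₀ : ∀ q : ℕ, q.Prime → z q ∈ U₀ := by
    refine fun q hq => ⟨hzU q, fun r hr => ?_⟩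
    rcases eq_or_ne q r with rfl | hne
    · exact pow_mem (Subgroup.mem_zpowers _) _
    obtain ⟨i, hi⟩ := (hz q hq).1
    have hwi : z q ^ q ^ i = 1 := hi ▸ pow_orderOf_eq_one _
    have : z q ^ ordCompl[r] N = 1 := by
      refine primePow_eq_one (a := N.factorization r) (b := q ^ i) hr (fun hd => hne
        ((Nat.prime_dvd_prime_iff_eq hr hq).1 (hr.dvd_of_dvd_pow hd)).symm) ?_ ?_
      · rw [← pow_mul, mul_comm, Nat.ordProj_mul_ordCompl_eq_self]
        exact orderOf_dvd_iff_pow_eq_one.1 (Subgroup.orderOf_dvd_natCard U (hzU q))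
      · rw [← pow_mul, mul_comm, pow_mul, hwi, one_pow]
    rw [this]
    exact one_mem _
  refine ⟨U₀, hle, exponent_eq_of_primePow hle fun q hq y hy k hk => ?_, fun v hv hv1 => eq_bot_iff.2 ?_⟩
  · refine ((hz q hq).2.1 y hy k hk).trans ?_
    rw [← Subgroup.orderOf_mk (z q) (hzU₀ q hq)]
    exact Monoid.order_dvd_exponent _
  · rintro x ⟨hx, hxC⟩
    by_contra hx1
    obtain ⟨q, hq, hqd⟩ := Nat.exists_prime_and_dvd (fun h1 => hv1 (orderOf_eq_one_iff.1 h1))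
    set w := v ^ (orderOf v / q) with hw
    have hwo : orderOf w = q := orderOf_pow_orderOf_div (orderOf_pos v).ne' hqd
    obtain ⟨c, hc⟩ := exists_pow_eq_self_of_coprime (x := w) (n := ordCompl[q] N)
      (by rw [hwo]; exact ((Nat.Prime.coprime_iff_not_dvd hq).2 (Nat.not_dvd_ordCompl hq hNne)).symm)
    have hwz : w ∈ Subgroup.zpowers (z q) := hc ▸ pow_mem ((pow_mem hv (orderOf v / q)).2 q hq) c
    refine hx1 (Subgroup.mem_bot.1 ((hz q hq).2.2 w hwz hwo ▸ Subgroup.mem_inf.2 ⟨hx, ?_⟩))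
    exact Subgroup.mem_centralizer_singleton_iff.2
      ((show Commute x v from Subgroup.mem_centralizer_singleton_iff.1 hxC).pow_right _).eq

/-- The subgroup `U₀` of a decomposition. -/
theorem exists_free (hG : IsMinSimpleOddOrder G) (hM : IsCoatom M) (hKU : IsSigmaDecomposition M K U) :
    ∃ U₀ : Subgroup G, U₀ ≤ U ∧ Monoid.exponent U₀ = Monoid.exponent U ∧
      ∀ u ∈ U₀, u ≠ 1 → sigmaCore M ⊓ Subgroup.centralizer ({u} : Set G) = ⊥ := by
  by_cases hK : K = ⊥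
  · have hE : IsComplIn U (sigmaCore M) M := by
      have h := hKU.compl
      rwa [hK, bot_sup_eq] at h
    refine (S1421.result hG M hM U hE fun e he he1 hτ => eq_bot_iff.2 fun x hx => Subgroup.mem_bot.2
      (by_contra fun hx1 => ?_)).2
    obtain ⟨q, hq, hqd⟩ := Nat.exists_prime_and_dvd fun h => he1 (orderOf_eq_one_iff.1 h)
    have hqU : q ∣ Nat.card U := hqd.trans (Subgroup.orderOf_dvd_natCard U he)
    exact (Decomp.U_pi hG hM hKU hq hqU).2 (Decomp.kappa_of_fixed hG hM hq (Decomp.U_pi hG hM hKU hq hqU).1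
      (hqU.trans (Subgroup.card_dvd_of_le (Decomp.U_le hKU)))
      ((hτ q hq hqd).elim (fun h => h.2.2.2.2) fun h => h.2.2.2) (Decomp.U_le hKU he) hqd hx.1 hx1
      (Subgroup.mem_centralizer_singleton_iff.1 hx.2).symm)
  · have hF := frame_of_decomp hG hM hKU hK
    exact exists_free_abelian hG hM hF.hall hF.abelian

end Cfsg.Agent.OddLocal.Kappa
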