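import Cfsg.Agent.Lib.OddLocal.KappaEmbedding

/-!
The set `Ẑ = K K^* ∖ (K ∪ K^*)` and the covering of the maximal subgroups with a nonempty `κ`.
-/

set_option autoImplicit false
set_option linter.style.haveILetI false

namespace Cfsg.Agent.OddLocal.Kappa

open scoped Pointwise commutatorElement
open Cfsg
open Cfsg.Agent.Fusion (SylIn cj cj_cj cj_eq_self cj_mono card_cj mem_normalizer_of_cj_le exists_sylIn_ge exists_sylIn)
open Cfsg.Agent.OddLocal.Uniq
open Cfsg.Agent.OddLocal.Sig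
open Cfsg.Agent.OddLocal.RankTwo
open Cfsg.Agent.OddLocal.TauTwo
open Cfsg.Agent.OddLocal.Prime
open Cfsg.Agent.OddLocal.Disjoint (mem_centralizer_zpowers zpowers_card mem_zpowers_of_order conjugate_of_sigma)

universe u

variable {G : Type u} [Group G] [Finite G] {M A E K U : Subgroup G}

/-- `Ẑ` for `M` and `K`. -/
def hat (M K : Subgroup G) : Set G :=
  (↑(K ⊔ (sigmaCore M ⊓ Subgroup.centralizer (K : Set G))) : Set G) \
    ((K : Set G) ∪ ↑(sigmaCore M ⊓ Subgroup.centralizer (K : Set G)))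

omit [Finite G] in
theorem hat_split {z : G} (hz : z ∈ hat M K) :
    ∃ k ∈ K, ∃ c ∈ sigmaCore M ⊓ Subgroup.centralizer (K : Set G),
      z = k * c ∧ k ≠ 1 ∧ c ≠ 1 ∧ Commute k c := by
  obtain ⟨h1, h2⟩ := hz
  rw [Subgroup.coe_mul_of_right_le_normalizer_left _ _ (inf_le_right.trans
    (Subgroup.centralizer_le_normalizer _))] at h1
  obtain ⟨k, hk, c, hc, rfl⟩ := h1
  refine ⟨k, hk, c, hc, rfl, fun h => h2 (Or.inr ?_), fun h => h2 (Or.inl ?_),
    Subgroup.mem_centralizer_iff.1 hc.2 k hk⟩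
  · show k * c ∈ _
    rw [h, one_mul]
    exact hc
  · show k * c ∈ _
    rw [h, mul_one]
    exact hk

theorem hat_mem (hG : IsMinSimpleOddOrder G) (hM : IsCoatom M) (hK : IsPiHallOf (kappa M) K M) {k c : G}
    (hk : k ∈ K) (hc : c ∈ sigmaCore M ⊓ Subgroup.centralizer (K : Set G)) (hk1 : k ≠ 1) (hc1 : c ≠ 1) :
    k * c ∈ hat M K := by
  refine ⟨Subgroup.mul_mem _ (Subgroup.mem_sup_left hk) (Subgroup.mem_sup_right hc), ?_⟩
  rintro (h | h)
  · refine hc1 (Subgroup.mem_bot.1 (star_inf hG hM hK ▸ Subgroup.mem_inf.2 ⟨?_, hc⟩))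
    simpa using K.mul_mem (K.inv_mem hk) h
  · refine hk1 (Subgroup.mem_bot.1 (star_inf hG hM hK ▸ Subgroup.mem_inf.2 ⟨hk, ?_⟩))
    simpa using Subgroup.mul_mem _ h (Subgroup.inv_mem _ hc)

theorem hat_nonempty (hG : IsMinSimpleOddOrder G) (hM : IsCoatom M) (hK : IsPiHallOf (kappa M) K M)
    (hK1 : K ≠ ⊥) : (hat M K).Nonempty := by
  obtain ⟨k, hk, hk1⟩ := exists_ne_one hK1
  obtain ⟨c, hc, hc1⟩ := exists_ne_one (star_ne_bot hG hM hK hK1)
  exact ⟨k * c, hat_mem hG hM hK hk hc hk1 hc1⟩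

/-- The `K^*`-part of an element of `Ẑ` is one of its powers. -/
theorem part_mem (hG : IsMinSimpleOddOrder G) (hM : IsCoatom M) (hK : IsPiHallOf (kappa M) K M) {k c : G}
    (hk : k ∈ K) (hc : c ∈ sigmaCore M ⊓ Subgroup.centralizer (K : Set G)) :
    c ∈ Subgroup.zpowers (k * c) := by
  have hco : (Nat.card K).Coprime (orderOf c) := Nat.coprime_of_dvd fun q hq h1 h2 =>
    (hK.2.1 q hq h1).2.2.1 (Support.mem_pi hG hM hc.1 q hq h2)
  obtain ⟨j, hj⟩ := exists_pow_eq_self_of_coprime (x := c) hco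
  refine Subgroup.mem_zpowers_iff.2 ⟨(Nat.card K * j : ℕ), ?_⟩
  rw [zpow_natCast, (show Commute k c from Subgroup.mem_centralizer_iff.1 hc.2 k hk).mul_pow, pow_mul, pow_mul,
    orderOf_dvd_iff_pow_eq_one.1 (Subgroup.orderOf_dvd_natCard K hk), one_pow, one_mul, hj]

/-- `Ẑ` misses the other conjugates of `M`. -/
theorem hat_not_mem_cj (hG : IsMinSimpleOddOrder G) (hM : IsCoatom M) (hK : IsPiHallOf (kappa M) K M)
    (hK1 : K ≠ ⊥) {g : G} (hg : g ∉ M) {z : G} (hz : z ∈ hat M K) : z ∉ cj M g := by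
  intro hzg
  obtain ⟨k, hk, c, hc, rfl, -, hc1, -⟩ := hat_split hz
  exact hc1 (Subgroup.mem_bot.1 (star_inf_conj hG hM hK hK1 hg ▸
    Subgroup.mem_inf.2 ⟨hc, (Subgroup.zpowers_le.2 hzg) (part_mem hG hM hK hk hc)⟩))

/-- `Ẑ` is a TI-set with normaliser `K K^*`. -/
theorem hat_ti (hG : IsMinSimpleOddOrder G) (hM : IsCoatom M) (hK : IsPiHallOf (kappa M) K M) (hK1 : K ≠ ⊥)
    {z g : G} (hz : z ∈ hat M K) (hgz : g * z * g⁻¹ ∈ hat M K) :
    g ∈ K ⊔ (sigmaCore M ⊓ Subgroup.centralizer (K : Set G)) := by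
  obtain ⟨A, hA, hKA, hH, hMA⟩ := exists_star hG hM hK hK1
  rw [coe_meet] at hKA
  set C := sigmaCore M ⊓ Subgroup.centralizer (K : Set G) with hC
  obtain ⟨k, hk, c, hc, rfl, hk1, hc1, hkc⟩ := hat_split hz
  obtain ⟨k', hk', c', hc', he, -, -, hkc'⟩ := hat_split hgz
  have ho : ∀ a : G, orderOf (g * a * g⁻¹) = orderOf a := fun a =>
    orderOf_injective (MulAut.conj g).toMonoidHom (MulAut.conj g).injective a
  have hkσ : ∀ {a : G}, a ∈ K → ∀ t : ℕ, t.Prime → t ∣ orderOf a → t ∉ sigma M := fun ha t ht htd =>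
    (hK.2.1 t ht (htd.trans (Subgroup.orderOf_dvd_natCard K ha))).2.2.1
  have hcm : Commute (g * c * g⁻¹) (g * k * g⁻¹) := by
    show _ = _
    rw [conj_mul, conj_mul, hkc.eq]
  obtain ⟨h1, h2⟩ := Support.parts_unique (sigma M) hcm hkc'.symm (by rw [ho]; exact Support.mem_pi hG hM hc.1)
    (Support.mem_pi hG hM hc'.1) (fun t ht htd => hkσ hk t ht (ho k ▸ htd)) (hkσ hk')
    (by rw [conj_mul, hkc.symm.eq, he, hkc'.eq])
  rw [← hMA]
  refine ⟨?_, ?_⟩
  · by_contra hgM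
    refine hc1 (conj_eq_one_iff.1 (Subgroup.mem_bot.1 (star_inf_conj hG hM hK hK1 hgM ▸
      Subgroup.mem_inf.2 ⟨h1 ▸ hc', Fusion.conj_mem_cj ((Subgroup.map_subtype_le _ : sigmaCore M ≤ M) hc.1)⟩)))
  · by_contra hgA
    refine hk1 (conj_eq_one_iff.1 (Subgroup.mem_bot.1 (star_inf_conj hG hA hH (star_ne_bot hG hM hK hK1) hgA ▸
      Subgroup.mem_inf.2 ⟨hKA.le (h2 ▸ hk'),
        Fusion.conj_mem_cj ((Subgroup.map_subtype_le _ : sigmaCore A ≤ A) (hKA.le hk).1)⟩)))

theorem star_comm (hG : IsMinSimpleOddOrder G) (hM : IsCoatom M) (hK : IsPiHallOf (kappa M) K M) (hK1 : K ≠ ⊥) :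
    ∀ a ∈ K ⊔ (sigmaCore M ⊓ Subgroup.centralizer (K : Set G)),
      ∀ b ∈ K ⊔ (sigmaCore M ⊓ Subgroup.centralizer (K : Set G)), a * b = b * a := by
  obtain ⟨A, hA, hKA, hH, -⟩ := exists_star hG hM hK hK1
  exact comm_of_cyclic (star_facts hG hM hK hK1 hA hKA hH).2

/-- The normaliser of `Ẑ` is `K K^*`. -/
theorem hat_normalizer (hG : IsMinSimpleOddOrder G) (hM : IsCoatom M) (hK : IsPiHallOf (kappa M) K M)
    (hK1 : K ≠ ⊥) :
    Subgroup.normalizer (hat M K) = K ⊔ (sigmaCore M ⊓ Subgroup.centralizer (K : Set G)) := by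
  obtain ⟨z, hz⟩ := hat_nonempty hG hM hK hK1
  refine le_antisymm (fun g hg => hat_ti hG hM hK hK1 hz ((Subgroup.mem_set_normalizer_iff.1 hg z).1 hz))
    fun g hg => Subgroup.mem_set_normalizer_iff.2 fun a => ⟨fun ha => ?_, fun ha => ?_⟩
  · rw [star_comm hG hM hK hK1 g hg a ha.1, mul_inv_cancel_right]
    exact ha
  · have hgm : g * a * g⁻¹ ∈ K ⊔ (sigmaCore M ⊓ Subgroup.centralizer (K : Set G)) := ha.1
    have h := star_comm hG hM hK hK1 g⁻¹ (Subgroup.inv_mem _ hg) _ hgm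
    rw [← mul_assoc, ← mul_assoc, inv_mul_cancel, one_mul] at h
    have h' : g * a * g⁻¹ = a := mul_right_cancel h.symm
    rwa [h'] at ha

theorem hat_centralizer (hG : IsMinSimpleOddOrder G) (hM : IsCoatom M) (hK : IsPiHallOf (kappa M) K M)
    (hK1 : K ≠ ⊥) {z : G} (hz : z ∈ hat M K) :
    Subgroup.centralizer ({z} : Set G) = K ⊔ (sigmaCore M ⊓ Subgroup.centralizer (K : Set G)) := by
  refine le_antisymm (fun g hg => hat_ti hG hM hK hK1 hz ?_) fun g hg =>
    Subgroup.mem_centralizer_singleton_iff.2 (star_comm hG hM hK hK1 g hg z hz.1)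
  rw [Subgroup.mem_centralizer_singleton_iff.1 hg, mul_inv_cancel_right]
  exact hz

theorem hat_card (hG : IsMinSimpleOddOrder G) (hM : IsCoatom M) (hK : IsPiHallOf (kappa M) K M) :
    (hat M K).ncard + Nat.card K + Nat.card ↥(sigmaCore M ⊓ Subgroup.centralizer (K : Set G)) =
      Nat.card K * Nat.card ↥(sigmaCore M ⊓ Subgroup.centralizer (K : Set G)) + 1 := by
  set C := sigmaCore M ⊓ Subgroup.centralizer (K : Set G) with hC
  have hZ : Nat.card ↥(K ⊔ C) = Nat.card K * Nat.card C := by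
    have h := Solv.card_sup_mul_card_inf' K C (inf_le_right.trans (Subgroup.centralizer_le_normalizer _))
    rwa [star_inf hG hM hK, Subgroup.card_bot, mul_one] at h
  have hsub : (K : Set G) ∪ (C : Set G) ⊆ (↑(K ⊔ C) : Set G) :=
    Set.union_subset (SetLike.coe_subset_coe.2 le_sup_left) (SetLike.coe_subset_coe.2 le_sup_right)
  have h1 := Set.ncard_diff_add_ncard_of_subset hsub (Set.toFinite _)
  have h2 := Set.ncard_union_add_ncard_inter (K : Set G) (C : Set G) (Set.toFinite _) (Set.toFinite _)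
  rw [show ((K : Set G) ∩ (C : Set G)) = ((K ⊓ C : Subgroup G) : Set G) from rfl, star_inf hG hM hK,
    Subgroup.coe_bot, Set.ncard_singleton] at h2
  simp only [← Nat.card_coe_set_eq, SetLike.coe_sort_coe] at h1 h2
  rw [hZ] at h1
  rw [hat, ← hC, ← Nat.card_coe_set_eq]
  omega

/-- The conjugates of the elements of `Ẑ`. -/
theorem hat_conj_card (hG : IsMinSimpleOddOrder G) (hM : IsCoatom M) (hK : IsPiHallOf (kappa M) K M)
    (hK1 : K ≠ ⊥) :
    Set.ncard {a : G | ∃ g : G, ∃ z ∈ hat M K, a = g * z * g⁻¹} =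
      (K ⊔ (sigmaCore M ⊓ Subgroup.centralizer (K : Set G))).index * (hat M K).ncard := by
  set Z := K ⊔ (sigmaCore M ⊓ Subgroup.centralizer (K : Set G)) with hZ
  let ψ : (G ⧸ Z) × hat M K → G := fun p => p.1.out * p.2.1 * p.1.out⁻¹
  have hinj : Function.Injective ψ := by
    rintro ⟨a, w, hw⟩ ⟨a', w', hw'⟩ he
    have he' : a.out * w * a.out⁻¹ = a'.out * w' * a'.out⁻¹ := he
    have h1 : (a'.out⁻¹ * a.out) * w * (a'.out⁻¹ * a.out)⁻¹ = w' := by
      calc _ = a'.out⁻¹ * (a.out * w * a.out⁻¹) * a'.out := by group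
        _ = w' := by rw [he']; group
    obtain rfl : a = a' := by
      rw [← QuotientGroup.out_eq' a, ← QuotientGroup.out_eq' a']
      exact (QuotientGroup.eq.2 (hat_ti hG hM hK hK1 hw (by rw [h1]; exact hw'))).symm
    rw [inv_mul_cancel, one_mul, inv_one, mul_one] at h1
    subst h1
    rfl
  have hrange : Set.range ψ = {a : G | ∃ g : G, ∃ z ∈ hat M K, a = g * z * g⁻¹} := by
    refine Set.Subset.antisymm ?_ ?_
    · rintro _ ⟨⟨a, w, hw⟩, rfl⟩
      exact ⟨a.out, w, hw, rfl⟩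
    · rintro _ ⟨g, z, hz, rfl⟩
      obtain ⟨m, hm⟩ := QuotientGroup.mk_out_eq_mul Z g
      refine ⟨(QuotientGroup.mk g, ⟨z, hz⟩), ?_⟩
      show (QuotientGroup.mk g : G ⧸ Z).out * z * (QuotientGroup.mk g : G ⧸ Z).out⁻¹ = _
      rw [hm, mul_assoc g, star_comm hG hM hK hK1 m m.2 z hz.1]
      group
  rw [← hrange, Set.ncard_range_of_injective hinj, Nat.card_prod, Subgroup.index, Nat.card_coe_set_eq]

/-- The conjugates of `Ẑ` cover more than half of the group. -/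
theorem hat_half (hG : IsMinSimpleOddOrder G) (hM : IsCoatom M) (hK : IsPiHallOf (kappa M) K M) (hK1 : K ≠ ⊥) :
    Nat.card K * Nat.card ↥(sigmaCore M ⊓ Subgroup.centralizer (K : Set G)) *
        Set.ncard {a : G | ∃ g : G, ∃ z ∈ hat M K, a = g * z * g⁻¹} =
      (Nat.card K * Nat.card ↥(sigmaCore M ⊓ Subgroup.centralizer (K : Set G)) - Nat.card K -
        Nat.card ↥(sigmaCore M ⊓ Subgroup.centralizer (K : Set G)) + 1) * Nat.card G ∧
    Nat.card G < 2 * Set.ncard {a : G | ∃ g : G, ∃ z ∈ hat M K, a = g * z * g⁻¹} := by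
  set C := sigmaCore M ⊓ Subgroup.centralizer (K : Set G) with hC
  have hZ : Nat.card ↥(K ⊔ C) = Nat.card K * Nat.card C := by
    have h := Solv.card_sup_mul_card_inf' K C (inf_le_right.trans (Subgroup.centralizer_le_normalizer _))
    rwa [star_inf hG hM hK, Subgroup.card_bot, mul_one] at h
  have hg := (K ⊔ C).index_mul_card
  have hh := hat_card hG hM hK
  rw [hZ] at hg
  rw [hat_conj_card hG hM hK hK1, ← hg]
  have hodd : ∀ H : Subgroup G, H ≠ ⊥ → 3 ≤ Nat.card H := fun H hH => by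
    obtain ⟨m, hm⟩ := odd_subgroup hG H
    have : Nat.card H ≠ 1 := fun h => hH (Subgroup.card_eq_one.1 h)
    omega
  have hk := hodd K hK1
  have hc := hodd C (star_ne_bot hG hM hK hK1)
  have hne : Nat.card K ≠ Nat.card C := fun h => by
    obtain ⟨q, hq, hqd⟩ := Nat.exists_prime_and_dvd (show Nat.card K ≠ 1 by omega)
    exact (hK.2.1 q hq hqd).2.2.1
      ((sigmaCore_hall hG hM).1.2.1 q hq ((h ▸ hqd : q ∣ Nat.card C).trans (Subgroup.card_dvd_of_le inf_le_left)))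
  set k := Nat.card K
  set c := Nat.card C
  set W := (hat M K).ncard
  set i := (K ⊔ C).index
  have h1 : 2 * k + 2 * c < k * c + 2 := by
    rcases Nat.lt_or_ge k 4 with h | h
    · have : k = 3 := by omega
      obtain ⟨m, hm⟩ := odd_subgroup hG C
      rw [this]
      omega
    · rcases Nat.lt_or_ge c 4 with h' | h'
      · obtain ⟨m, hm⟩ := odd_subgroup hG K
        have : c = 3 := by omega
        rw [this]
        omega
      · have : 4 * k ≤ k * c := by rw [mul_comm 4]; exact Nat.mul_le_mul_left _ h'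
        have : 4 * c ≤ k * c := Nat.mul_le_mul_right _ h
        omega
  refine ⟨?_, ?_⟩
  · rw [show k * c - k - c + 1 = W by omega]
    ring
  · have hW : k * c < 2 * W := by omega
    calc i * (k * c) < i * (2 * W) :=
        Nat.mul_lt_mul_of_pos_left hW (Nat.pos_of_ne_zero Subgroup.index_ne_zero_of_finite)
      _ = 2 * (i * W) := by ring

/-- Every maximal subgroup with a nonempty `κ` is conjugate to `M` or to `M^*`. -/
theorem star_cover (hG : IsMinSimpleOddOrder G) (hM : IsCoatom M) (hK : IsPiHallOf (kappa M) K M) (hK1 : K ≠ ⊥)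
    (hA : IsCoatom A)
    (hKst : K = sigmaCore A ⊓ Subgroup.centralizer ((sigmaCore M ⊓ Subgroup.centralizer (K : Set G)) : Set G))
    {H : Subgroup G} (hH : IsCoatom H) (hκ : (kappa H).Nonempty) :
    ∃ g : G, H = cj M g ∨ H = cj A g := by
  classical
  rw [coe_meet] at hKst
  obtain ⟨L, hL, -⟩ := exists_hall_ge hG hH.1 (kappa H) (bot_le : (⊥ : Subgroup G) ≤ H)
    (fun p hp hd => by rw [Subgroup.card_bot] at hd; exact absurd hd hp.not_dvd_one)
  have hL1 : L ≠ ⊥ := fun h => by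
    obtain ⟨q, hq⟩ := hκ
    refine hL.2.2 q hq.1 hq ?_
    rw [h, Subgroup.relIndex_bot_left]
    exact hq.2.1
  obtain ⟨-, hM2⟩ := hat_half hG hM hK hK1
  obtain ⟨-, hH2⟩ := hat_half hG hH hL hL1
  have hmeet : ({a : G | ∃ g : G, ∃ z ∈ hat M K, a = g * z * g⁻¹} ∩
      {a : G | ∃ g : G, ∃ z ∈ hat H L, a = g * z * g⁻¹}).Nonempty := by
    by_contra h
    rw [Set.not_nonempty_iff_eq_empty, ← Set.disjoint_iff_inter_eq_empty] at h
    have h1 := Set.ncard_le_ncard (Set.subset_univ ({a : G | ∃ g : G, ∃ z ∈ hat M K, a = g * z * g⁻¹} ∪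
      {a : G | ∃ g : G, ∃ z ∈ hat H L, a = g * z * g⁻¹})) (Set.toFinite _)
    rw [Set.ncard_union_eq h (Set.toFinite _) (Set.toFinite _), Set.ncard_univ] at h1
    omega
  obtain ⟨a, ⟨g, z, hz, rfl⟩, g', z', hz', he⟩ := hmeet
  have ho : orderOf z = orderOf z' := by
    have h := congrArg orderOf he
    rwa [orderOf_injective (MulAut.conj g).toMonoidHom (MulAut.conj g).injective z |> fun e =>
      show orderOf (g * z * g⁻¹) = orderOf z from e,
      orderOf_injective (MulAut.conj g').toMonoidHom (MulAut.conj g').injective z' |> fun e =>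
      show orderOf (g' * z' * g'⁻¹) = orderOf z' from e] at h
  obtain ⟨k', hk', c', hc', rfl, -, hc'1, hkc'⟩ := hat_split hz'
  obtain ⟨q, hq, hqd⟩ := Nat.exists_prime_and_dvd fun h => hc'1 (orderOf_eq_one_iff.1 h)
  haveI := Fact.mk hq
  have hqH : q ∈ sigma H := Support.mem_pi hG hH hc'.1 q hq hqd
  have hco : (orderOf k').Coprime (orderOf c') := Nat.coprime_of_dvd fun t ht h1 h2 =>
    (hL.2.1 t ht (h1.trans (Subgroup.orderOf_dvd_natCard L hk'))).2.2.1 (Support.mem_pi hG hH hc'.1 t ht h2)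
  have hqz : q ∣ orderOf z := by
    rw [ho, hkc'.orderOf_mul_eq_mul_orderOf_of_coprime hco]
    exact hqd.mul_left _
  obtain ⟨k, hk, c, hc, rfl, -, -, hkc⟩ := hat_split hz
  rcases (Nat.Prime.dvd_mul hq).1 (hqz.trans hkc.orderOf_mul_dvd_mul_orderOf) with h | h
  · obtain ⟨x, hx⟩ := conjugate_of_sigma hG hA hH (Support.mem_pi hG hA (hKst.le hk).1 q hq h) hqH
    exact ⟨x, Or.inr hx⟩
  · obtain ⟨x, hx⟩ := conjugate_of_sigma hG hM hH (Support.mem_pi hG hM hc.1 q hq h) hqH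
    exact ⟨x, Or.inl hx⟩

/-- `κ(M) = τ₁(M)` when `κ(M)` is nonempty. -/
theorem kappa_eq_tau1 (hG : IsMinSimpleOddOrder G) (hM : IsCoatom M) (hK : IsPiHallOf (kappa M) K M)
    (hK1 : K ≠ ⊥) : kappa M = tau1 M := by
  obtain ⟨E, U, hF⟩ := exists_frame hG hM hK hK1
  ext q
  constructor
  · intro hq
    haveI := Fact.mk hq.1
    have hq1 := rank_one hG hM hq
    refine ⟨hq.1, hq.2.2.1, hq.2.1, fun hd => ?_, hq1⟩
    rcases kappa_cases hG hM hK hF.compl hF.le with ⟨hτ, -⟩ | ⟨hKE, -⟩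
    · exact hτ q hq hd
    · obtain ⟨P, hP⟩ := exists_sylIn (p := q) E
      have h1 := tau3_sylow hG hM hF.compl ⟨hq.1, hq.2.2.1, hd, hq1⟩ hP
      have hbot : ⁅E, E⁆ = ⊥ := by
        rw [← hKE, Subgroup.commutator_eq_bot_iff_le_centralizer]
        exact fun a ha => Subgroup.mem_centralizer_iff.2 fun b hb =>
          comm_of_cyclic (hall_cyclic hG hM hK) b hb a ha
      have hPbot : P = ⊥ := le_bot_iff.1 (hbot ▸ h1)
      refine hP.not_dvd ?_
      rw [hPbot, Subgroup.relIndex_bot_left, ← hKE]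
      have h2 := Subgroup.relIndex_mul_relIndex ⊥ K M bot_le hK.1
      rw [Subgroup.relIndex_bot_left, Subgroup.relIndex_bot_left] at h2
      exact ((Nat.Prime.dvd_mul hq.1).1 (h2.symm ▸ hq.2.1)).resolve_right (hK.2.2 q hq.1 hq)
  · intro hq
    obtain ⟨hqp, hσ, hqM, hqd, -⟩ := hq
    by_contra hκ
    refine hqd (dvd_trans ?_ (Subgroup.card_dvd_of_le (factor_le_derived hF hK hK1)))
    have h2 := Subgroup.relIndex_mul_relIndex ⊥ U M bot_le hF.hall.1
    rw [Subgroup.relIndex_bot_left, Subgroup.relIndex_bot_left] at h2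
    exact ((Nat.Prime.dvd_mul hqp).1 (h2.symm ▸ hqM)).resolve_right (hF.hall.2.2 q hqp ⟨hqp, hκ, hσ⟩)

/-- `K^*` is a Hall `σ(M)`-subgroup of `M^*`. -/
theorem star_sigma_hall (hG : IsMinSimpleOddOrder G) (hM : IsCoatom M) (hK : IsPiHallOf (kappa M) K M)
    (hK1 : K ≠ ⊥) (hA : IsCoatom A)
    (hKst : K = sigmaCore A ⊓ Subgroup.centralizer ((sigmaCore M ⊓ Subgroup.centralizer (K : Set G)) : Set G))
    (hKstH : IsPiHallOf (kappa A) (sigmaCore M ⊓ Subgroup.centralizer (K : Set G)) A) :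
    IsPiHallOf (sigma M) (sigmaCore M ⊓ Subgroup.centralizer (K : Set G)) A := by
  have hMA := (star_facts hG hM hK hK1 hA hKst hKstH).1
  rw [coe_meet] at hKst
  set C := sigmaCore M ⊓ Subgroup.centralizer (K : Set G) with hC
  refine ⟨hKstH.1, fun q hq hd => (sigmaCore_hall hG hM).1.2.1 q hq (hd.trans (Subgroup.card_dvd_of_le inf_le_left)),
    fun q hq hσ hd => ?_⟩
  haveI := Fact.mk hq
  have hqA : q ∣ Nat.card A := hd.trans (Subgroup.relIndex_dvd_card C A)
  by_cases hκ : q ∈ kappa A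
  · exact hKstH.2.2 q hq hκ hd
  have hC1 : C ≠ ⊥ := star_ne_bot hG hM hK hK1
  obtain ⟨E, U, hF⟩ := exists_frame hG hA hKstH hC1
  have hσA : q ∉ sigma A := fun h => by
    obtain ⟨g, hg⟩ := conjugate_of_sigma hG hM hA hσ h
    obtain ⟨k, hk, hk1⟩ := exists_ne_one hK1
    obtain ⟨t, ht, htd⟩ := Nat.exists_prime_and_dvd fun h => hk1 (orderOf_eq_one_iff.1 h)
    haveI := Fact.mk ht
    exact (hK.2.1 t ht (htd.trans (Subgroup.orderOf_dvd_natCard K hk))).2.2.1
      ((sigma_eq_of_conj hg).1 (Support.mem_pi hG hA (hKst.le hk).1 t ht htd))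
  obtain ⟨Q, hQ⟩ := exists_sylIn (p := q) U
  have hQn : C ≤ Subgroup.normalizer (Q : Set G) := fun c hc => by
    have hnil : Group.IsNilpotent ↥U := by
      letI : CommGroup ↥U := { (inferInstance : Group ↥U) with mul_comm := hF.abelian.is_comm.comm }
      exact CommGroup.isNilpotent
    exact SigmaSubgroups.sylow_of_nilpotent_normal hnil hF.normal hQ (hF.le hc)
  have hUσ : ∀ {p : ℕ}, p.Prime → p ∣ Nat.card ↥(Q ⊔ C) → p ∈ sigma M := by
    intro p hp hpd
    have h1 := Solv.card_sup_mul_card_inf' Q C hQn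
    have h2 : p ∣ Nat.card Q * Nat.card C := h1 ▸ hpd.mul_right _
    rcases (Nat.Prime.dvd_mul hp).1 h2 with h | h
    · obtain ⟨i, hi⟩ := IsPGroup.iff_card.1 hQ.isPGroup
      rw [(Nat.prime_dvd_prime_iff_eq hp hq).1 (hp.dvd_of_dvd_pow (hi ▸ h))]
      exact hσ
    · exact (sigmaCore_hall hG hM).1.2.1 p hp (h.trans (Subgroup.card_dvd_of_le inf_le_left))
  have hQC : Q ≤ sigmaCore M := le_sup_left.trans (le_core_of_star hG hM hK hK1 (fun p hp hpd => hUσ hp hpd)
    (fun h => hC1 (le_bot_iff.1 (h ▸ le_inf le_sup_right le_rfl))))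
  have hQ1 : Q = ⊥ := le_bot_iff.1 (fun x hx => by
    have hxA : x ∈ M ⊓ A := ⟨(Subgroup.map_subtype_le _ : sigmaCore M ≤ M) (hQC hx), hF.hall.1 (hQ.le hx)⟩
    rw [hMA, ← SetLike.mem_coe, Subgroup.coe_mul_of_right_le_normalizer_left _ _ (inf_le_right.trans
      (Subgroup.centralizer_le_normalizer _))] at hxA
    obtain ⟨k, hk, c, hc, rfl⟩ := hxA
    have h1 : k ∈ K ⊓ C := ⟨hk, by simpa using (sigmaCore M).mul_mem (hQC hx) ((sigmaCore M).inv_mem hc.1),
      Subgroup.mem_centralizer_iff.2 fun b hb => comm_of_cyclic (hall_cyclic hG hM hK) b hb k hk⟩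
    rw [star_inf hG hM hK, Subgroup.mem_bot] at h1
    subst h1
    have h2 : c ∈ U ⊓ C := ⟨by simpa using hQ.le hx, hc⟩
    rw [hF.inf, Subgroup.mem_bot] at h2
    simp [h2])
  refine hQ.not_dvd ?_
  rw [hQ1, Subgroup.relIndex_bot_left]
  have h2 := Subgroup.relIndex_mul_relIndex ⊥ U A bot_le hF.hall.1
  rw [Subgroup.relIndex_bot_left, Subgroup.relIndex_bot_left] at h2
  exact ((Nat.Prime.dvd_mul hq).1 (h2.symm ▸ hqA)).resolve_right (hF.hall.2.2 q hq ⟨hq, hκ, hσA⟩)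

end Cfsg.Agent.OddLocal.Kappa
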