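import Cfsg.Agent.Lib.OddLocal.KappaFittingEq
import Cfsg.Agent.Lib.SSF.NoTwoSetup

/-!
The structure of `M` when `M_F ≠ M_σ`.
-/

set_option autoImplicit false
set_option linter.style.haveILetI false

namespace Cfsg.Agent.OddLocal.Kappa

open scoped Pointwise commutatorElement
open Cfsg
open Cfsg.Agent.Fusion (SylIn cj cj_cj cj_eq_self cj_mono card_cj exists_sylIn)
open Cfsg.Agent.OddLocal.Uniq
open Cfsg.Agent.OddLocal.Sig
open Cfsg.Agent.OddLocal.RankTwo
open Cfsg.Agent.OddLocal.TauTwo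
open Cfsg.Agent.OddLocal.Prime

universe u

variable {G : Type u} [Group G] [Finite G] {M E K U Q D H₁ : Subgroup G}

/-- The data of the splitting `M_σ = Q D`. -/
structure Split (M K Q D H₁ : Subgroup G) : Prop where
  syl : SylIn (Nat.card ↥(sigmaCore M ⊓ Subgroup.centralizer (K : Set G))) Q M
  norm : M ≤ Subgroup.normalizer (Q : Set G)
  fitting : Q ≤ fittingHallOf M
  star : sigmaCore M ⊓ Subgroup.centralizer (K : Set G) ≤ Q
  compl : IsComplIn Q D (sigmaCore M)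
  nilpotent : Group.IsNilpotent ↥D
  invariant : K ≤ Subgroup.normalizer (D : Set G)
  hallK : K ≤ H₁
  hallD : D ≤ H₁
  hall_le : H₁ ≤ M
  coprime : ¬ Nat.card ↥(sigmaCore M ⊓ Subgroup.centralizer (K : Set G)) ∣ Nat.card H₁

theorem exists_split (hG : IsMinSimpleOddOrder G) (hM : IsCoatom M) (hKU : IsSigmaDecomposition M K U)
    (hne : fittingHallOf M ≠ sigmaCore M) :
    U = ⊥ ∧ K ≠ ⊥ ∧ ∃ Q D H₁ : Subgroup G, Split M K Q D H₁ := by
  have hU : U = ⊥ := by
    by_contra hU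
    exact hne (Support.fittingHallOf_eq hG hM (core_nilpotent_of_U hG hM hKU hU)).symm
  have hK1 := U_ne_bot_of_K hG hM hKU hU
  obtain ⟨Q, D, H₁, h1, h2, h3, h4, h5, h6, h7, h8, h9, h10, h11⟩ := exists_Q_compl hG hM hKU hK1 hU
  exact ⟨hU, hK1, Q, D, H₁, h1, h2, h3, h4, h5, h6, h7, h8, h9, h10, h11⟩

theorem Split.prime (hG : IsMinSimpleOddOrder G) (hM : IsCoatom M) (hKU : IsSigmaDecomposition M K U)
    (hne : fittingHallOf M ≠ sigmaCore M) : ((Nat.card ↥(sigmaCore M ⊓ Subgroup.centralizer (K : Set G)))).Prime := by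
  obtain ⟨hU, hK1, -⟩ := exists_split hG hM hKU hne
  exact star_prime hG hM hKU hK1 hU

/-- `D` does not centralize `Q`. -/
theorem Split.not_centralized (hG : IsMinSimpleOddOrder G) (hM : IsCoatom M) (hS : Split M K Q D H₁)
    (hne : fittingHallOf M ≠ sigmaCore M) (hp : ((Nat.card ↥(sigmaCore M ⊓ Subgroup.centralizer (K : Set G)))).Prime) : ¬ D ≤ Subgroup.centralizer (Q : Set G) := by
  intro hcD
  haveI : Fact ((Nat.card ↥(sigmaCore M ⊓ Subgroup.centralizer (K : Set G)))).Prime := ⟨hp⟩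
  haveI := hS.syl.isPGroup.isNilpotent
  haveI := hS.nilpotent
  let f : ↥Q × ↥D →* G := MonoidHom.noncommCoprod Q.subtype D.subtype
    fun x y => Subgroup.mem_centralizer_iff.1 (hcD y.2) x x.2
  haveI : Group.IsNilpotent ↥f.range := Group.nilpotent_of_surjective f.rangeRestrict f.rangeRestrict_surjective
  have hle : sigmaCore M ≤ f.range := fun m hm => by
    obtain ⟨x, hx, y, hy, rfl⟩ := hS.compl.2.2.2 m hm
    exact ⟨(⟨x, hx⟩, ⟨y, hy⟩), rfl⟩
  exact hne (Support.fittingHallOf_eq hG hM (isNilpotent_of_le hle)).symm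

/-- The counting formula on an invariant subgroup of `Q`. -/
theorem Split.formula (hG : IsMinSimpleOddOrder G) (hM : IsCoatom M) (hKU : IsSigmaDecomposition M K U)
    (hS : Split M K Q D H₁) (hp : ((Nat.card ↥(sigmaCore M ⊓ Subgroup.centralizer (K : Set G)))).Prime) {N W : Subgroup G} (hNQ : N ≤ Q)
    (hn : D ⊔ K ≤ Subgroup.normalizer (N : Set G)) (hW : W ≤ K) (hW1 : W ≠ ⊥) :
    Nat.card ↥(N ⊓ Subgroup.centralizer ((D ⊔ W : Subgroup G) : Set G)) ^ Nat.card W * Nat.card N =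
      Nat.card ↥(N ⊓ (sigmaCore M ⊓ Subgroup.centralizer (K : Set G))) ^ Nat.card W *
        Nat.card ↥(N ⊓ Subgroup.centralizer (D : Set G)) := by
  haveI : Fact ((Nat.card ↥(sigmaCore M ⊓ Subgroup.centralizer (K : Set G)))).Prime := ⟨hp⟩
  have hQσ : Q ≤ sigmaCore M := hS.compl.1
  have h1 : N ⊓ Subgroup.centralizer (W : Set G) = N ⊓ (sigmaCore M ⊓ Subgroup.centralizer (K : Set G)) := by
    refine le_antisymm (fun x hx => ⟨hx.1, ?_⟩) (inf_le_inf_left _ (inf_le_right.trans (Subgroup.centralizer_le hW)))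
    obtain ⟨w, hw, hw1⟩ := exists_ne_one hW1
    rw [← prime_action hG hM hKU.hall (hW hw) hw1]
    exact ⟨hQσ (hNQ hx.1), Subgroup.mem_centralizer_singleton_iff.2 (Subgroup.mem_centralizer_iff.1 hx.2 w hw).symm⟩
  have hDW : D ⊔ W ≤ H₁ := sup_le hS.hallD (hW.trans hS.hallK)
  have hco : (Nat.card N).Coprime (Nat.card ↥(D ⊔ W)) := by
    obtain ⟨j, hj⟩ := IsPGroup.iff_card.1 (hS.syl.isPGroup.to_le hNQ)
    rw [hj]
    exact ((hp.coprime_iff_not_dvd.2 hS.coprime).coprime_dvd_right (Subgroup.card_dvd_of_le hDW)).pow_left j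
  have key := Solv.FrobFix.formula N D W (Solv.isSolvable_of_le ((hNQ.trans hS.syl.le)) (hG.2.2.2 M hM.1))
    ((sup_le_sup_left hW D).trans hn) (hW.trans hS.invariant) (fun e he he1 u hu heu => ?_) hco
  · rwa [h1] at key
  · have hu' : u ∈ sigmaCore M ⊓ Subgroup.centralizer (K : Set G) := by
      rw [← prime_action hG hM hKU.hall (hW he) he1]
      exact ⟨hS.compl.2.1 hu, Subgroup.mem_centralizer_singleton_iff.2 heu.symm⟩
    have h2 : u ∈ Q ⊓ D := ⟨hS.star hu', hu⟩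
    rwa [hS.compl.2.2.1, Subgroup.mem_bot] at h2

/-- `K^*` is trivial or everything inside an invariant subgroup. -/
theorem star_inf_cases (hp : ((Nat.card ↥(sigmaCore M ⊓ Subgroup.centralizer (K : Set G)))).Prime) (N : Subgroup G) :
    N ⊓ (sigmaCore M ⊓ Subgroup.centralizer (K : Set G)) = ⊥ ∨
      sigmaCore M ⊓ Subgroup.centralizer (K : Set G) ≤ N := by
  rcases (Nat.dvd_prime hp).1 (Subgroup.card_dvd_of_le
    (inf_le_right : N ⊓ (sigmaCore M ⊓ Subgroup.centralizer (K : Set G)) ≤ _)) with h | h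
  · exact Or.inl (Subgroup.card_eq_one.1 h)
  · exact Or.inr (inf_eq_right.1 (Subgroup.eq_of_le_of_card_ge inf_le_right h.ge))

/-- The quantities for `Q`. -/
theorem Split.facts (hG : IsMinSimpleOddOrder G) (hM : IsCoatom M) (hKU : IsSigmaDecomposition M K U)
    (hK1 : K ≠ ⊥) (hS : Split M K Q D H₁) (hne : fittingHallOf M ≠ sigmaCore M) :
    (Nat.card K).Prime ∧ Q ⊓ Subgroup.centralizer (D : Set G) < Q ∧
      (sigmaCore M ⊓ Subgroup.centralizer (K : Set G)) ⊓ Subgroup.centralizer (D : Set G) = ⊥ ∧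
      Nat.card Q = Nat.card ↥(Q ⊓ Subgroup.centralizer (D : Set G)) * (Nat.card ↥(sigmaCore M ⊓ Subgroup.centralizer (K : Set G))) ^ Nat.card K := by
  have hp := Split.prime hG hM hKU hne
  set C := sigmaCore M ⊓ Subgroup.centralizer (K : Set G) with hC
  have hn : D ⊔ K ≤ Subgroup.normalizer (Q : Set G) :=
    (sup_le (hS.hallD.trans hS.hall_le) hKU.hall.1).trans hS.norm
  have hnc := hS.not_centralized hG hM hne hp
  have hlt : Q ⊓ Subgroup.centralizer (D : Set G) < Q := lt_of_le_of_ne inf_le_left fun h => hnc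
    (Subgroup.le_centralizer_iff.1 (inf_eq_left.1 h))
  have hCD : C ⊓ Subgroup.centralizer (D : Set G) = ⊥ := by
    rw [inf_comm]
    refine (star_inf_cases hp _).resolve_right fun h => hlt.ne ?_
    have key := hS.formula hG hM hKU hp le_rfl hn le_rfl hK1
    have e : Q ⊓ Subgroup.centralizer ((D ⊔ K : Subgroup G) : Set G) = Q ⊓ C := by
      refine le_antisymm (fun x hx => ⟨hx.1, hS.compl.1 hx.1, centralizer_le_of_le le_sup_right hx.2⟩) fun x hx => ⟨hx.1, ?_⟩
      refine (Subgroup.le_centralizer_iff.1 (sup_le (Subgroup.le_centralizer_iff.1 ?_) (Subgroup.le_centralizer_iff.1 inf_le_right)) : C ≤ _) hx.2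
      exact h
    rw [e] at key
    exact Subgroup.eq_of_le_of_card_ge inf_le_left (Nat.eq_of_mul_eq_mul_left (pow_pos Nat.card_pos _) key).le
  have hval : ∀ W ≤ K, W ≠ ⊥ → Nat.card Q = Nat.card ↥(Q ⊓ Subgroup.centralizer (D : Set G)) * (Nat.card ↥(sigmaCore M ⊓ Subgroup.centralizer (K : Set G))) ^ Nat.card W := by
    intro W hW hW1
    have key := hS.formula hG hM hKU hp le_rfl hn hW hW1
    have e : Q ⊓ Subgroup.centralizer ((D ⊔ W : Subgroup G) : Set G) = ⊥ := by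
      rw [eq_bot_iff, ← hCD]
      intro x hx
      refine ⟨?_, centralizer_le_of_le le_sup_left hx.2⟩
      obtain ⟨w, hw, hw1⟩ := exists_ne_one hW1
      rw [hC, ← prime_action hG hM hKU.hall (hW hw) hw1]
      exact ⟨hS.compl.1 hx.1, Subgroup.mem_centralizer_singleton_iff.2
        (Subgroup.mem_centralizer_iff.1 hx.2 w (Subgroup.mem_sup_right hw)).symm⟩
    rw [e, inf_eq_right.2 hS.star, Subgroup.card_bot, one_pow, one_mul] at key
    rw [key, mul_comm]
  refine ⟨?_, hlt, hCD, hval K le_rfl hK1⟩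
  obtain ⟨k, hk, hk1⟩ := exists_ne_one hK1
  obtain ⟨t, i, ht, -, hko⟩ := exists_prime_power_order hk1
  have h1 := hval _ (Subgroup.zpowers_le.2 (pow_mem hk i)) (fun h => ne_one_of_order (hq := ⟨ht⟩) hko
    (Subgroup.zpowers_eq_bot.1 h))
  rw [hval K le_rfl hK1, Nat.card_zpowers, hko] at h1
  rw [Nat.pow_right_injective hp.two_le (Nat.eq_of_mul_eq_mul_left Nat.card_pos h1)]
  exact ht

/-- `Q_0 = C_Q(D)` contains the Frattini subgroup of `Q` and is normal in `M`. -/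
theorem Split.frattini_le (hG : IsMinSimpleOddOrder G) (hM : IsCoatom M) (hKU : IsSigmaDecomposition M K U)
    (hK1 : K ≠ ⊥) (hS : Split M K Q D H₁) (hne : fittingHallOf M ≠ sigmaCore M) :
    (frattini ↥Q).map Q.subtype ≤ Q ⊓ Subgroup.centralizer (D : Set G) ∧
      M ≤ Subgroup.normalizer ((Q ⊓ Subgroup.centralizer (D : Set G) : Subgroup G) : Set G) := by
  have hp := Split.prime hG hM hKU hne
  haveI : Fact ((Nat.card ↥(sigmaCore M ⊓ Subgroup.centralizer (K : Set G)))).Prime := ⟨hp⟩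
  obtain ⟨-, hlt, hCD, hQc⟩ := hS.facts hG hM hKU hK1 hne
  set Φ := (frattini ↥Q).map Q.subtype with hΦ
  have hΦQ : Φ ≤ Q := Subgroup.map_subtype_le _
  have hMΦ : M ≤ Subgroup.normalizer (Φ : Set G) := hS.norm.trans (SSF.normalizer_le_of_char _)
  have hDKM : D ⊔ K ≤ M := sup_le (hS.hallD.trans hS.hall_le) hKU.hall.1
  have hDK : D ⊔ K ≤ Subgroup.normalizer (Φ : Set G) := hDKM.trans hMΦ
  have key := hS.formula hG hM hKU hp hΦQ hDK le_rfl hK1
  have e : Φ ⊓ Subgroup.centralizer ((D ⊔ K : Subgroup G) : Set G) = ⊥ := by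
    rw [eq_bot_iff, ← hCD]
    exact fun x hx => ⟨⟨hS.compl.1 (hΦQ hx.1), centralizer_le_of_le le_sup_right hx.2⟩,
      centralizer_le_of_le le_sup_left hx.2⟩
  rw [e, Subgroup.card_bot, one_pow, one_mul] at key
  have hsplit : Φ ≤ Subgroup.centralizer (D : Set G) := by
    rcases star_inf_cases hp Φ with h | h
    · rw [h, Subgroup.card_bot, one_pow, one_mul] at key
      exact inf_eq_left.1 (Subgroup.eq_of_le_of_card_ge inf_le_left key.le)
    exfalso
    rw [inf_eq_right.2 h] at key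
    -- `Q = C_Q(D) Φ`
    have hn0 : Φ ≤ Subgroup.normalizer (Φ : Set G) := Subgroup.le_normalizer
    have h2 := Solv.card_sup_mul_card_inf' Φ (Q ⊓ Subgroup.centralizer (D : Set G))
      (inf_le_left.trans (hS.syl.le.trans hMΦ))
    have h3 : Φ ⊓ (Q ⊓ Subgroup.centralizer (D : Set G)) = Φ ⊓ Subgroup.centralizer (D : Set G) := by
      rw [← inf_assoc, inf_eq_left.2 hΦQ]
    rw [h3, key] at h2
    have h4 : Nat.card ↥(Φ ⊔ Q ⊓ Subgroup.centralizer (D : Set G)) = Nat.card Q := by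
      refine Nat.eq_of_mul_eq_mul_right (Nat.card_pos (α := ↥(Φ ⊓ Subgroup.centralizer (D : Set G)))) ?_
      rw [h2, hQc]
      ring
    have h5 : Φ ⊔ Q ⊓ Subgroup.centralizer (D : Set G) = Q :=
      Subgroup.eq_of_le_of_card_ge (sup_le hΦQ inf_le_left) h4.ge
    have h6 : (Q ⊓ Subgroup.centralizer (D : Set G)).subgroupOf Q ⊔ frattini ↥Q = ⊤ := by
      refine Subgroup.map_injective Q.subtype_injective ?_
      rw [Subgroup.map_sup, Subgroup.map_subgroupOf_eq_of_le inf_le_left, ← MonoidHom.range_eq_map,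
        Subgroup.range_subtype, sup_comm]
      exact h5
    have h7 := frattini_nongenerating h6
    rw [Subgroup.subgroupOf_eq_top] at h7
    exact hlt.ne (le_antisymm inf_le_left h7)
  have hle : Φ ≤ Q ⊓ Subgroup.centralizer (D : Set G) := le_inf hΦQ hsplit
  refine ⟨hle, fun m hm => ?_⟩
  have hcomm : ∀ x ∈ Q, ∀ y ∈ Q, x * y * x⁻¹ * y⁻¹ ∈ Φ := fun x hx y hy =>
    ⟨_, Solv.commutatorElement_mem_frattini hS.syl.isPGroup ⟨x, hx⟩ ⟨y, hy⟩, rfl⟩
  have hnorm : ∀ x ∈ Q, x ∈ Subgroup.normalizer ((Q ⊓ Subgroup.centralizer (D : Set G) : Subgroup G) : Set G) :=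
    fun x hx => Fusion.mem_normalizer_of_cj_le (by
      rintro _ ⟨y, hy, rfl⟩
      show x * y * x⁻¹ ∈ _
      rw [show x * y * x⁻¹ = (x * y * x⁻¹ * y⁻¹) * y by group]
      exact Subgroup.mul_mem _ (hle (hcomm x hx y hy.1)) hy)
  have hn2 : ∀ x ∈ D ⊔ K, x ∈ Subgroup.normalizer ((Q ⊓ Subgroup.centralizer (D : Set G) : Subgroup G) : Set G) := by
    intro x hx
    have hxD : x ∈ Subgroup.normalizer (D : Set G) := (sup_le Subgroup.le_normalizer hS.invariant) hx
    refine Fusion.mem_normalizer_of_cj_le ?_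
    rintro _ ⟨y, hy, rfl⟩
    refine ⟨(Subgroup.mem_normalizer_iff.1 (hS.norm (hDKM hx)) y).1 hy.1, Subgroup.mem_centralizer_iff.2 fun d hd => ?_⟩
    have h1 : x⁻¹ * d * x ∈ D := by
      have := (Subgroup.mem_normalizer_iff.1 (Subgroup.inv_mem _ hxD) d).1 hd
      rwa [inv_inv] at this
    have h2 := Subgroup.mem_centralizer_iff.1 hy.2 _ h1
    show d * (x * y * x⁻¹) = x * y * x⁻¹ * d
    calc d * (x * y * x⁻¹) = x * ((x⁻¹ * d * x) * y) * x⁻¹ := by group
      _ = x * (y * (x⁻¹ * d * x)) * x⁻¹ := by rw [h2]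
      _ = _ := by group
  obtain ⟨u, hu, w, hw, rfl⟩ := hKU.compl.2.2.2 m hm
  have hU : U = ⊥ := (exists_split hG hM hKU hne).1
  rw [hU, Subgroup.mem_bot] at hu
  rw [← SetLike.mem_coe, Decomp.coe_sup hKU] at hw
  obtain ⟨k, hk, s, hs, rfl⟩ := hw
  obtain ⟨x, hx, d, hd, rfl⟩ := hS.compl.2.2.2 s hs
  rw [hu, one_mul]
  exact Subgroup.mul_mem _ (hn2 k (Subgroup.mem_sup_right hk))
    (Subgroup.mul_mem _ (hnorm x hx) (hn2 d (Subgroup.mem_sup_left hd)))

/-- No proper normal subgroup of `M` lies strictly between `Q_0` and `Q`. -/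
theorem Split.chief (hG : IsMinSimpleOddOrder G) (hM : IsCoatom M) (hKU : IsSigmaDecomposition M K U)
    (hK1 : K ≠ ⊥) (hS : Split M K Q D H₁) (hne : fittingHallOf M ≠ sigmaCore M) {N : Subgroup G}
    (h1 : Q ⊓ Subgroup.centralizer (D : Set G) < N) (h2 : N < Q) : ¬ M ≤ Subgroup.normalizer (N : Set G) := by
  intro hn
  have hp := Split.prime hG hM hKU hne
  obtain ⟨-, -, hCD, hQc⟩ := hS.facts hG hM hKU hK1 hne
  have key := hS.formula hG hM hKU hp h2.le ((sup_le (hS.hallD.trans hS.hall_le) hKU.hall.1).trans hn) le_rfl hK1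
  have e : N ⊓ Subgroup.centralizer ((D ⊔ K : Subgroup G) : Set G) = ⊥ := by
    rw [eq_bot_iff, ← hCD]
    exact fun x hx => ⟨⟨hS.compl.1 (h2.le hx.1), centralizer_le_of_le le_sup_right hx.2⟩,
      centralizer_le_of_le le_sup_left hx.2⟩
  have e2 : N ⊓ Subgroup.centralizer (D : Set G) = Q ⊓ Subgroup.centralizer (D : Set G) :=
    le_antisymm (inf_le_inf_right _ h2.le) (le_inf h1.le inf_le_right)
  rw [e, e2, Subgroup.card_bot, one_pow, one_mul] at key
  rcases star_inf_cases hp N with h | h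
  · rw [h, Subgroup.card_bot, one_pow, one_mul] at key
    exact h1.ne (Subgroup.eq_of_le_of_card_ge h1.le key.le)
  · rw [inf_eq_right.2 h, mul_comm, ← hQc] at key
    exact h2.ne (Subgroup.eq_of_le_of_card_ge h2.le key.ge)

/-- `|K^*|` is in `β(M)`. -/
theorem Split.beta (hG : IsMinSimpleOddOrder G) (hM : IsCoatom M) (hKU : IsSigmaDecomposition M K U)
    (hS : Split M K Q D H₁) (hne : fittingHallOf M ≠ sigmaCore M) : (Nat.card ↥(sigmaCore M ⊓ Subgroup.centralizer (K : Set G))) ∈ beta M := by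
  by_contra hβ
  have hp := Split.prime hG hM hKU hne
  haveI : Fact ((Nat.card ↥(sigmaCore M ⊓ Subgroup.centralizer (K : Set G)))).Prime := ⟨hp⟩
  have hqM : (Nat.card ↥(sigmaCore M ⊓ Subgroup.centralizer (K : Set G))) ∣ Nat.card M := Subgroup.card_dvd_of_le (inf_le_left.trans (Subgroup.map_subtype_le _))
  have h := (hnpc_derived hG hM hqM hβ).2
  rw [Fusion.hnpc_iff] at h
  set R := pResidual (Nat.card ↥(sigmaCore M ⊓ Subgroup.centralizer (K : Set G))) ↥(sigmaCore M) with hR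
  haveI : R.Normal := inferInstance
  refine hS.not_centralized hG hM hne hp fun d hd => ?_
  have hdR : (⟨d, hS.compl.2.1 hd⟩ : ↥(sigmaCore M)) ∈ R := by
    rw [← QuotientGroup.eq_one_iff]
    obtain ⟨i, hi⟩ := Fusion.isPGroup_quotient_pResidual (QuotientGroup.mk (⟨d, hS.compl.2.1 hd⟩ : ↥(sigmaCore M)) :
      ↥(sigmaCore M) ⧸ R)
    have h1 : orderOf ((QuotientGroup.mk' R) (⟨d, hS.compl.2.1 hd⟩ : ↥(sigmaCore M))) ∣ orderOf d :=
      (orderOf_map_dvd _ _).trans (Subgroup.orderOf_mk _ _).dvd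
    refine orderOf_eq_one_iff.1 (Nat.eq_one_of_dvd_coprimes ?_ h1 (orderOf_dvd_of_pow_eq_one hi))
    exact ((hp.coprime_iff_not_dvd.2 hS.coprime).symm.coprime_dvd_left
      (Subgroup.orderOf_dvd_natCard H₁ (hS.hallD hd))).pow_right i
  refine Subgroup.mem_centralizer_iff.2 fun x hx => ?_
  haveI : (Q.subgroupOf (sigmaCore M)).Normal := (Subgroup.normal_subgroupOf_iff_le_normalizer hS.compl.1).2
    ((Subgroup.map_subtype_le _ : sigmaCore M ≤ M).trans hS.norm)
  have hdis : Disjoint R (Q.subgroupOf (sigmaCore M)) := by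
    rw [disjoint_iff]
    refine Solv.coprime_inf ?_
    obtain ⟨j, hj⟩ := IsPGroup.iff_card.1 hS.syl.isPGroup
    rw [Solv.card_subgroupOf hS.compl.1, hj]
    exact h.pow_right j
  exact congrArg Subtype.val (Subgroup.commute_of_normal_of_disjoint R (Q.subgroupOf (sigmaCore M)) inferInstance
    inferInstance hdis _ ⟨x, hS.compl.1 hx⟩ hdR (Subgroup.mem_subgroupOf.2 hx)).symm

/-- `F(M)` is a TI-subset. -/
theorem Split.ti (hG : IsMinSimpleOddOrder G) (hM : IsCoatom M) (hKU : IsSigmaDecomposition M K U)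
    (hK1 : K ≠ ⊥) (hS : Split M K Q D H₁) (hne : fittingHallOf M ≠ sigmaCore M) :
    IsTISubset (fittingOf M : Set G) := by
  intro g hg x hx hgx
  by_contra hx1
  have hgM : g ∉ M := fun h => hg (le_normalizer_fittingOf h)
  have hp := Split.prime hG hM hKU hne
  haveI : Fact ((Nat.card ↥(sigmaCore M ⊓ Subgroup.centralizer (K : Set G)))).Prime := ⟨hp⟩
  have hκ : (kappa M).Nonempty := by
    obtain ⟨t, ht, htd⟩ := Nat.exists_prime_and_dvd fun h => hK1 (Subgroup.card_eq_one.1 h)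
    exact ⟨t, hKU.hall.2.1 t ht htd⟩
  have hU : U = ⊥ := (exists_split hG hM hKU hne).1
  have hFσ : fittingOf M ≤ sigmaCore M := by
    refine (fitting_le_derived hG hM hκ).trans ?_
    rw [derived_eq hG hM hKU hK1, hU, bot_sup_eq]
  have hσM : sigmaCore M ≤ M := Subgroup.map_subtype_le _
  obtain ⟨r, hr, hrd⟩ := Nat.exists_prime_and_dvd fun h => hx1 (orderOf_eq_one_iff.1 h)
  have hgx' : g * x * g⁻¹ ∈ sigmaCore M ⊓ cj M g := ⟨hFσ hgx, Fusion.conj_mem_cj (hσM (hFσ hx))⟩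
  have ho : orderOf (g * x * g⁻¹) = orderOf x :=
    orderOf_injective (MulAut.conj g).toMonoidHom (MulAut.conj g).injective x
  have hrq : r ≠ (Nat.card ↥(sigmaCore M ⊓ Subgroup.centralizer (K : Set G))) := fun h => (SigmaTI.inter_conj hG hM hgM).2.1 r hr
    ((ho ▸ hrd).trans (Subgroup.orderOf_dvd_natCard _ hgx')) (h ▸ hS.beta hG hM hKU hne)
  set w := x ^ (orderOf x / r) with hw
  have hwo : orderOf w = r := orderOf_pow_orderOf_div (orderOf_pos x).ne' hrd
  haveI := TypePBasic.fittingOf_nilpotent M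
  have hQF : Q ≤ fittingOf M := hS.fitting.trans (Subgroup.map_mono TypePBasic.fittingHall_le_fitting)
  have hcent : ∀ y ∈ fittingOf M, orderOf y = r → Q ≤ Subgroup.centralizer ({y} : Set G) := fun y hy hyo z hz =>
    Subgroup.mem_centralizer_singleton_iff.2 (Subgroup.mem_centralizer_iff.1
      (TypePBasic.nilpotent_coprime_commute hQF (Subgroup.zpowers_le.2 hy) (by
        obtain ⟨j, hj⟩ := IsPGroup.iff_card.1 hS.syl.isPGroup
        rw [Nat.card_zpowers, hyo, hj]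
        exact ((Nat.coprime_primes hp hr).2 hrq.symm).pow_left j) (Subgroup.mem_zpowers y)) z hz)
  have hgw : g * w * g⁻¹ ∈ fittingOf M := by
    rw [hw, ← conj_pow]
    exact pow_mem hgx _
  have hwo' : orderOf (g * w * g⁻¹) = r :=
    (orderOf_injective (MulAut.conj g).toMonoidHom (MulAut.conj g).injective w).trans hwo
  obtain ⟨L, ⟨hL, hQL⟩, huniq⟩ := sylow_unique hG hM hKU.hall (frame_of_decomp hG hM hKU hK1) hK1
    (p := (Nat.card ↥(sigmaCore M ⊓ Subgroup.centralizer (K : Set G)))) dvd_rfl (hS.syl.mono hS.compl.1 hσM)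
  have hLM : L = M := (huniq M ⟨hM, hS.syl.le⟩).symm
  obtain ⟨L', hL', hCL⟩ := exists_coatom (Subgroup.centralizer ({g * w * g⁻¹} : Set G)) (ne_top_of_le_ne_top
    (haveI := Fact.mk hr; normalizer_pgroup_ne_top hG (p := r) (X := Subgroup.zpowers (g * w * g⁻¹))
      (IsPGroup.of_card (n := 1) (by rw [Nat.card_zpowers, hwo', pow_one]))
      (fun h => hr.ne_one (by rw [← hwo', Subgroup.zpowers_eq_bot.1 h, orderOf_one])))
    (centralizer_zpowers (g * w * g⁻¹) ▸ Subgroup.centralizer_le_normalizer _))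
  have hL'M : L' = M := (huniq L' ⟨hL', (hcent _ hgw hwo').trans hCL⟩).trans hLM
  have hgQ : cj Q g ≤ M := by
    rw [← hL'M]
    rintro _ ⟨z, hz, rfl⟩
    refine hCL (Subgroup.mem_centralizer_singleton_iff.2 ?_)
    have := Subgroup.mem_centralizer_singleton_iff.1 (hcent w (pow_mem hx _) hwo hz)
    show g * z * g⁻¹ * (g * w * g⁻¹) = g * w * g⁻¹ * (g * z * g⁻¹)
    rw [conj_mul, conj_mul, this]
  have hgQ' : cj Q g ≤ Q := le_of_hall (π := {(Nat.card ↥(sigmaCore M ⊓ Subgroup.centralizer (K : Set G)))}) (N := Q) ⟨hS.syl.le, fun s hs hsd => by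
      obtain ⟨j, hj⟩ := IsPGroup.iff_card.1 hS.syl.isPGroup
      exact (Nat.prime_dvd_prime_iff_eq hs hp).1 (hs.dvd_of_dvd_pow (hj ▸ hsd)),
      fun s _ (hsq : s = (Nat.card ↥(sigmaCore M ⊓ Subgroup.centralizer (K : Set G)))) hd => hS.syl.not_dvd (hsq ▸ hd)⟩ hS.norm hgQ fun s hs hsd => by
      obtain ⟨j, hj⟩ := IsPGroup.iff_card.1 hS.syl.isPGroup
      rw [card_cj, hj] at hsd
      exact (Nat.prime_dvd_prime_iff_eq hs hp).1 (hs.dvd_of_dvd_pow hsd)
  obtain ⟨L'', hL'', hNL⟩ := exists_coatom _ (normalizer_pgroup_ne_top hG hS.syl.isPGroup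
    (fun h => (star_ne_bot hG hM hKU.hall hK1) (le_bot_iff.1 (hS.star.trans h.le))))
  have h8 : L'' = M := (huniq L'' ⟨hL'', Subgroup.le_normalizer.trans hNL⟩).trans hLM
  exact hgM (h8 ▸ hNL (Fusion.mem_normalizer_of_cj_le hgQ'))


/-- Two complements of `Q` in `M_σ` have the same fixed points on `Q`. -/
theorem Split.fixed_compl_le (hG : IsMinSimpleOddOrder G) (hM : IsCoatom M)
    (hp : (Nat.card ↥(sigmaCore M ⊓ Subgroup.centralizer (K : Set G))).Prime)
    (hQ : SylIn (Nat.card ↥(sigmaCore M ⊓ Subgroup.centralizer (K : Set G))) Q M)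
    (hQn : M ≤ Subgroup.normalizer (Q : Set G)) {D D' : Subgroup G} (hD : IsComplIn Q D (sigmaCore M))
    (hD' : IsComplIn Q D' (sigmaCore M)) :
    ∃ g ∈ Q, cj (Q ⊓ Subgroup.centralizer (D : Set G)) g ≤ Q ⊓ Subgroup.centralizer (D' : Set G) := by
  haveI : Fact (Nat.card ↥(sigmaCore M ⊓ Subgroup.centralizer (K : Set G))).Prime := ⟨hp⟩
  have hσM : sigmaCore M ≤ M := Subgroup.map_subtype_le _
  have hco : ∀ E : Subgroup G, IsComplIn Q E (sigmaCore M) → (Nat.card Q).Coprime (Nat.card E) := fun E hE =>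
    Nat.coprime_of_dvd fun t ht h1 h2 => by
      haveI := Fact.mk ht
      obtain ⟨j, hj⟩ := IsPGroup.iff_card.1 hQ.isPGroup
      obtain ⟨⟨e, he⟩, heo⟩ := exists_prime_orderOf_dvd_card' t h2
      rw [Subgroup.orderOf_mk] at heo
      have htq := (Nat.prime_dvd_prime_iff_eq ht hp).1 (ht.dvd_of_dvd_pow (hj ▸ h1))
      have h3 : e ∈ Q ⊓ E := ⟨le_of_hall (π := {(Nat.card ↥(sigmaCore M ⊓ Subgroup.centralizer (K : Set G)))}) (N := Q)
        ⟨hQ.le, fun s hs hsd => (Nat.prime_dvd_prime_iff_eq hs hp).1 (hs.dvd_of_dvd_pow (hj ▸ hsd)),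
          fun s _ (hsq : s = _) hd => hQ.not_dvd (hsq ▸ hd)⟩ hQn (Subgroup.zpowers_le.2 (hσM (hE.2.1 he)))
        (fun s hs hsd => by
          rw [Nat.card_zpowers, heo] at hsd
          exact ((Nat.prime_dvd_prime_iff_eq hs ht).1 hsd).trans htq) (Subgroup.mem_zpowers e), he⟩
      rw [hE.2.2.1, Subgroup.mem_bot] at h3
      exact ht.ne_one (by rw [← heo, h3, orderOf_one])
  obtain ⟨g, hg, hle⟩ := Solv.sz_contain Q D D' ((hD.2.1.trans hσM).trans hQn) (fun d hd => by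
    obtain ⟨x, hx, y, hy, rfl⟩ := hD.2.2.2 d (hD'.2.1 hd)
    exact Subgroup.mul_mem _ (Subgroup.mem_sup_left hx) (Subgroup.mem_sup_right hy)) (hco D' hD') (hco D hD)
    (Or.inl (Solv.isSolvable_of_le hQ.le (hG.2.2.2 M hM.1)))
  rw [Solv.conj_smul_eq_map] at hle
  refine ⟨g, hg, ?_⟩
  rintro _ ⟨y, hy, rfl⟩
  refine ⟨(Subgroup.mem_normalizer_iff.1 (hQn (hQ.le hg)) y).1 hy.1, Subgroup.mem_centralizer_iff.2 fun d hd => ?_⟩
  obtain ⟨e, he, rfl⟩ := hle hd
  show g * e * g⁻¹ * (g * y * g⁻¹) = g * y * g⁻¹ * (g * e * g⁻¹)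
  rw [conj_mul, conj_mul, Subgroup.mem_centralizer_iff.1 hy.2 e he]

theorem Split.fixed_compl_eq (hG : IsMinSimpleOddOrder G) (hM : IsCoatom M) (hKU : IsSigmaDecomposition M K U)
    (hK1 : K ≠ ⊥) (hS : Split M K Q D H₁) (hne : fittingHallOf M ≠ sigmaCore M) {D' : Subgroup G}
    (hD' : IsComplIn Q D' (sigmaCore M)) :
    Q ⊓ Subgroup.centralizer (D' : Set G) = Q ⊓ Subgroup.centralizer (D : Set G) := by
  have hp := Split.prime hG hM hKU hne
  have hn := (hS.frattini_le hG hM hKU hK1 hne).2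
  obtain ⟨g, hg, h1⟩ := Split.fixed_compl_le hG hM hp hS.syl hS.norm hS.compl hD'
  obtain ⟨g', hg', h2⟩ := Split.fixed_compl_le hG hM hp hS.syl hS.norm hD' hS.compl
  rw [cj_eq_self (hn (hS.syl.le hg))] at h1
  refine le_antisymm ?_ h1
  rw [Fusion.cj_le_iff, cj_eq_self (hn (M.inv_mem (hS.syl.le hg')))] at h2
  exact h2

end Cfsg.Agent.OddLocal.Kappa
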