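import Cfsg.Agent.Lib.OddLocal.KappaSupport
import Cfsg.Agent.Lib.OddLocal.KappaNonnilpotent
import Cfsg.Agent.Lib.OddLocal.KappaFree
import Cfsg.Agent.Lib.OddLocal.KappaHat

/-!
The data of type P of a maximal subgroup with a nonempty `κ`.
-/

set_option autoImplicit false
set_option linter.style.haveILetI false

namespace Cfsg.Agent.OddLocal.Kappa

open scoped Pointwise commutatorElement
open Cfsg
open Cfsg.Agent.Fusion (SylIn cj cj_eq_self cj_mono card_cj exists_sylIn exists_sylIn_ge)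
open Cfsg.Agent.OddLocal.Uniq
open Cfsg.Agent.OddLocal.Sig
open Cfsg.Agent.OddLocal.RankTwo
open Cfsg.Agent.OddLocal.TauTwo
open Cfsg.Agent.OddLocal.Prime
open Cfsg.Agent.OddLocal.Disjoint (mem_centralizer_zpowers zpowers_card)

universe u

variable {G : Type u} [Group G] [Finite G] {M L K U A B D W₁ W₂ : Subgroup G}

/-- The orders in a factorisation `L = A B` with `A` normalised by `L`. -/
theorem complIn_card (hc : IsComplIn A B L) (hn : L ≤ Subgroup.normalizer (A : Set G)) :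
    Nat.card L = Nat.card A * Nat.card B ∧ B.relIndex L = Nat.card A := by
  obtain ⟨hA, hB, hinf, hmul⟩ := hc
  have hL : L = A ⊔ B := le_antisymm (fun x hx => by
    obtain ⟨a, ha, b, hb, rfl⟩ := hmul x hx
    exact Subgroup.mul_mem _ (Subgroup.mem_sup_left ha) (Subgroup.mem_sup_right hb)) (sup_le hA hB)
  have h1 := Solv.card_sup_mul_card_inf' A B (hB.trans hn)
  rw [hinf, Subgroup.card_bot, mul_one, ← hL] at h1
  refine ⟨h1, ?_⟩
  have h2 := Subgroup.relIndex_mul_relIndex ⊥ B L bot_le hB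
  rw [Subgroup.relIndex_bot_left, Subgroup.relIndex_bot_left, h1, mul_comm (Nat.card A)] at h2
  exact Nat.eq_of_mul_eq_mul_left Nat.card_pos h2

/-- `U` is a complement of `M_σ` in `M'`. -/
theorem derived_split (hG : IsMinSimpleOddOrder G) (hM : IsCoatom M) (hKU : IsSigmaDecomposition M K U)
    (hK1 : K ≠ ⊥) : IsComplIn (sigmaCore M) U ⁅M, M⁆ := by
  have hd := derived_eq hG hM hKU hK1
  have hUn : U ≤ Subgroup.normalizer (sigmaCore M : Set G) := (Decomp.U_le hKU).trans le_normalizer_piCoreOf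
  refine ⟨core_le_derived hG hM, hd.symm ▸ le_sup_left, eq_bot_iff.2 fun x hx => hKU.compl.2.2.1 ▸
    Subgroup.mem_inf.2 ⟨hx.2, Subgroup.mem_sup_right hx.1⟩, fun m hm => ?_⟩
  rw [hd, sup_comm, ← SetLike.mem_coe, Subgroup.coe_mul_of_right_le_normalizer_left _ _ hUn] at hm
  obtain ⟨a, ha, b, hb, rfl⟩ := hm
  exact ⟨a, ha, b, hb, rfl⟩

/-- `K` is a complement of `M'` in `M`. -/
theorem derived_compl (hG : IsMinSimpleOddOrder G) (hM : IsCoatom M) (hKU : IsSigmaDecomposition M K U)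
    (hK1 : K ≠ ⊥) : IsComplIn ⁅M, M⁆ K M := by
  have hd := derived_eq hG hM hKU hK1
  have hσM : sigmaCore M ≤ M := Subgroup.map_subtype_le _
  refine ⟨Subgroup.commutator_le_self M, Decomp.K_le hKU, Solv.coprime_inf (Nat.coprime_of_dvd fun q hq h1 h2 => ?_),
    fun m hm => ?_⟩
  · rw [(complIn_card (derived_split hG hM hKU hK1)
      ((Subgroup.commutator_le_self M).trans le_normalizer_piCoreOf)).1] at h1
    exact ((Nat.Prime.dvd_mul hq).1 h1).elim
      (fun h => (hKU.hall.2.1 q hq h2).2.2.1 ((sigmaCore_hall hG hM).1.2.1 q hq h))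
      fun h => (Decomp.U_pi hG hM hKU hq h).2 (hKU.hall.2.1 q hq h2)
  · obtain ⟨u, hu, w, hw, rfl⟩ := hKU.compl.2.2.2 m hm
    rw [← SetLike.mem_coe, Decomp.coe_sup hKU] at hw
    obtain ⟨k, hk, s, hs, rfl⟩ := hw
    refine ⟨u * (k * s * k⁻¹), ?_, k, hk, by group⟩
    rw [hd]
    exact Subgroup.mul_mem _ (Subgroup.mem_sup_left hu) (Subgroup.mem_sup_right
      ((Subgroup.mem_normalizer_iff.1 (le_normalizer_piCoreOf (Decomp.K_le hKU hk)) s).1 hs))

/-- The normaliser of a nilpotent Hall subgroup of `M` for primes in `σ(M)` lies in `M`. -/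
theorem normalizer_le_of_hall (hG : IsMinSimpleOddOrder G) (hM : IsCoatom M) (hD : D ≤ sigmaCore M) (hD1 : D ≠ ⊥)
    (hnil : Group.IsNilpotent ↥D) (hco : (Nat.card D).Coprime (D.relIndex M)) :
    Subgroup.normalizer (D : Set G) ≤ M := by
  obtain ⟨r, hr, hrd⟩ := Nat.exists_prime_and_dvd fun h => hD1 (Subgroup.card_eq_one.1 h)
  haveI := Fact.mk hr
  obtain ⟨R, hR⟩ := exists_sylIn (p := r) D
  have hRM : SylIn r R M := sylIn_of_hallOf (coprime_relIndex_hall hco (hD.trans (Subgroup.map_subtype_le _)))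
    (show r ∈ {q | q ∣ Nat.card D} from hrd) hR
  exact (SigmaSubgroups.sylow_of_nilpotent_normal hnil le_rfl hR).trans
    (sigma_sylow ((sigmaCore_hall hG hM).1.2.1 r hr (hrd.trans (Subgroup.card_dvd_of_le hD))) hRM).2.2

/-- A nilpotent complement of `M_F` in `M_σ` normalised by `K`, when `U = 1`. -/
theorem exists_type_compl (hG : IsMinSimpleOddOrder G) (hM : IsCoatom M) (hKU : IsSigmaDecomposition M K U)
    (hne : fittingHallOf M ≠ sigmaCore M) :
    ∃ D : Subgroup G, Group.IsNilpotent ↥D ∧ K ≤ Subgroup.normalizer (D : Set G) ∧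
      IsComplIn (fittingHallOf M) D (sigmaCore M) := by
  obtain ⟨-, -, Q, D, H₁, hS⟩ := exists_split hG hM hKU hne
  set F := fittingHallOf M with hF
  have hFσ : F ≤ sigmaCore M := Support.fittingHallOf_le hG hM
  have hσM : sigmaCore M ≤ M := Subgroup.map_subtype_le _
  have hDσ : D ≤ sigmaCore M := hS.compl.2.1
  haveI := hS.nilpotent
  obtain ⟨W, hW, -⟩ := exists_hall_ge hG (M := D) (fun h => hM.1 (top_le_iff.1 (h.ge.trans (hDσ.trans hσM))))
    {q | ¬ q ∣ Nat.card F} (bot_le : (⊥ : Subgroup G) ≤ D)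
    (fun q hq hd => by rw [Subgroup.card_bot] at hd; exact absurd hd hq.not_dvd_one)
  have hWσ : W ≤ sigmaCore M := hW.1.trans hDσ
  have hFn : W ≤ Subgroup.normalizer (F : Set G) := (hWσ.trans hσM).trans (Bender.le_normalizer_map _)
  refine ⟨W, isNilpotent_of_le hW.1, fun k hk => Fusion.mem_normalizer_of_cj_le ?_, hFσ, hWσ,
    Solv.coprime_inf (Nat.coprime_of_dvd fun q hq h1 h2 => hW.2.1 q hq h2 h1), fun m hm => ?_⟩
  · exact nilpotent_hall_le hW ((cj_mono hW.1 k).trans (cj_eq_self (hS.invariant hk)).le)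
      fun q hq hd => hW.2.1 q hq (card_cj W k ▸ hd)
  have h1 : (F ⊔ W).relIndex (sigmaCore M) = 1 := by
    by_contra h
    obtain ⟨q, hq, hd⟩ := Nat.exists_prime_and_dvd h
    have hd1 := hd.trans (Subgroup.relIndex_dvd_of_le_left (sigmaCore M) (le_sup_left : F ≤ F ⊔ W))
    have hd2 := hd.trans (Subgroup.relIndex_dvd_of_le_left (sigmaCore M) (le_sup_right : W ≤ F ⊔ W))
    have hqF : ¬ q ∣ Nat.card F := fun h => hq.ne_one (Nat.eq_one_of_dvd_coprimes (TypePBasic.fittingHallOf_hall M)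
      h (hd1.trans (Subgroup.relIndex_mul_relIndex F _ M hFσ hσM ▸ dvd_mul_right _ _)))
    rw [← Subgroup.relIndex_mul_relIndex W D _ hW.1 hDσ,
      (complIn_card hS.compl (hσM.trans hS.norm)).2] at hd2
    exact ((Nat.Prime.dvd_mul hq).1 hd2).elim (hW.2.2 q hq hqF)
      fun h => hqF (h.trans (Subgroup.card_dvd_of_le hS.fitting))
  have h2 := Subgroup.relIndex_eq_one.1 h1 hm
  rw [← SetLike.mem_coe, Subgroup.coe_mul_of_right_le_normalizer_left _ _ hFn] at h2
  obtain ⟨a, ha, b, hb, rfl⟩ := h2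
  exact ⟨a, ha, b, hb, rfl⟩

/-- A Hall `κ(M)`-subgroup and its fixed points form a self-normalizing cyclic subgroup. -/
theorem selfNormalizing (hG : IsMinSimpleOddOrder G) (hM : IsCoatom M) (hKU : IsSigmaDecomposition M K U)
    (hK1 : K ≠ ⊥) : IsSelfNormalizingCyclic K (sigmaCore M ⊓ Subgroup.centralizer (K : Set G)) := by
  have hK := hKU.hall
  refine ⟨hK1, star_ne_bot hG hM hK hK1, eq_bot_iff.2 fun x hx => (Decomp.K_inf_sigmaCore hG hM hKU) ▸
    Subgroup.mem_inf.2 ⟨hx.1, hx.2.1⟩, fun a ha b hb => Subgroup.mem_centralizer_iff.1 hb.2 a ha, ?_, ?_⟩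
  · obtain ⟨A, hA, hKA, hH, -⟩ := exists_star hG hM hK hK1
    rw [coe_meet] at hKA
    exact (star_facts hG hM hK hK1 hA hKA hH).2
  · rintro X hX ⟨z, hz⟩
    refine le_antisymm (fun g hg => hat_ti hG hM hK hK1 (hX hz) (hX ((Subgroup.mem_set_normalizer_iff.1 hg z).1 hz)))
      fun g hg => Subgroup.mem_set_normalizer_iff.2 fun a => ?_
    have hfix : ∀ {b : G}, b ∈ X → g * b * g⁻¹ = b := fun {b} hb => by
      rw [star_comm hG hM hK hK1 g hg b (hX hb).1, mul_inv_cancel_right]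
    refine ⟨fun ha => (hfix ha).symm ▸ ha, fun ha => ?_⟩
    have h : g * a * g⁻¹ = a := mul_right_injective g (mul_left_injective g⁻¹ (hfix ha))
    rwa [h] at ha

/-- The data of type P when `κ(M)` is nonempty. -/
theorem exists_typeP (hG : IsMinSimpleOddOrder G) (hM : IsCoatom M) (hKU : IsSigmaDecomposition M K U)
    (hK1 : K ≠ ⊥) :
    ∃ D : Subgroup G, IsTypePWith M K D (sigmaCore M ⊓ Subgroup.centralizer (K : Set G)) ∧
      (fittingHallOf M = sigmaCore M → D = U) := by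
  have hF := frame_of_decomp hG hM hKU hK1
  have hsplit := derived_split hG hM hKU hK1
  obtain ⟨D, hDn, hKD, hDc, hDU⟩ : ∃ D : Subgroup G, Group.IsNilpotent ↥D ∧
      K ≤ Subgroup.normalizer (D : Set G) ∧ IsComplIn (fittingHallOf M) D ⁅M, M⁆ ∧
      (fittingHallOf M = sigmaCore M → D = U) := by
    by_cases he : fittingHallOf M = sigmaCore M
    · haveI := hF.abelian
      letI : CommGroup ↥U := { (inferInstance : Group ↥U) with mul_comm := fun a b => hF.abelian.is_comm.comm a b }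
      exact ⟨U, CommGroup.isNilpotent, hKU.normal, he.symm ▸ hsplit, fun _ => rfl⟩
    · obtain ⟨D, h1, h2, h3⟩ := exists_type_compl hG hM hKU he
      refine ⟨D, h1, h2, ?_, fun h => absurd h he⟩
      obtain ⟨hU, -⟩ := exists_split hG hM hKU he
      rwa [derived_eq hG hM hKU hK1, hU, bot_sup_eq]
  have hκ : (kappa M).Nonempty := by
    obtain ⟨q, hq, hqd⟩ := Nat.exists_prime_and_dvd fun h => hK1 (Subgroup.card_eq_one.1 h)
    exact ⟨q, hKU.hall.2.1 q hq hqd⟩
  have hFeq : fittingHallOf M ⊔ (M ⊓ Subgroup.centralizer (fittingHallOf M : Set G)) = fittingOf M := by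
    rw [fitting_eq hG hM, sup_comm]
  refine ⟨D, ⟨hK1, hKU.cyclic, Nat.coprime_of_dvd fun q hq h1 h2 => hKU.hall.2.2 q hq (hKU.hall.2.1 q hq h1) h2,
    derived_compl hG hM hKU hK1, hDn, hKD, hDc, fittingHall_not_cyclic hG hM hKU hK1,
    hFeq.symm ▸ second_le_fitting hG hM, hFeq, fitting_le_derived hG hM hκ,
    le_inf (star_le_fittingHall hG hM hKU hK1) (star_le_second hG hM hKU hK1), fun x hx hx1 => ?_,
    selfNormalizing hG hM hKU hK1⟩, hDU⟩
  refine le_antisymm (fun y hy => ?_) (le_inf (inf_le_left.trans (core_le_derived hG hM))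
    (inf_le_right.trans (Subgroup.centralizer_le (Set.singleton_subset_iff.2 hx))))
  obtain ⟨s, hs, u, hu, rfl⟩ := hsplit.2.2.2 y hy.1
  have hxy : (s * u) * x = x * (s * u) := Subgroup.mem_centralizer_singleton_iff.1 hy.2
  have hxu : x * u * x⁻¹ ∈ U := (Subgroup.mem_normalizer_iff.1 (hKU.normal hx) u).1 hu
  have hxs : x * s * x⁻¹ ∈ sigmaCore M :=
    (Subgroup.mem_normalizer_iff.1 (le_normalizer_piCoreOf (Decomp.K_le hKU hx)) s).1 hs
  have h1 : s⁻¹ * (x * s * x⁻¹) = u * (x * u * x⁻¹)⁻¹ := by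
    calc s⁻¹ * (x * s * x⁻¹) = s⁻¹ * (x * (s * u)) * u⁻¹ * x⁻¹ := by group
      _ = s⁻¹ * ((s * u) * x) * u⁻¹ * x⁻¹ := by rw [hxy]
      _ = _ := by group
  have h2 : u * (x * u * x⁻¹)⁻¹ = 1 := Subgroup.mem_bot.1 (hsplit.2.2.1 ▸ Subgroup.mem_inf.2
    ⟨h1 ▸ (sigmaCore M).mul_mem ((sigmaCore M).inv_mem hs) hxs, U.mul_mem hu (U.inv_mem hxu)⟩)
  have hu1 : u = 1 := hF.fpf x hx hx1 u hu (mul_inv_eq_iff_eq_mul.1 (mul_inv_eq_one.1 h2).symm).symm
  rw [hu1, mul_one] at hxy ⊢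
  rw [← prime_action hG hM hKU.hall hx hx1]
  exact ⟨hs, Subgroup.mem_centralizer_singleton_iff.2 hxy⟩

/-- Data of type P give a nonempty `κ`. -/
theorem kappa_nonempty_of_typeP (hG : IsMinSimpleOddOrder G) (hM : IsCoatom M)
    (hP : IsTypePWith M W₁ D W₂) : (kappa M).Nonempty := by
  obtain ⟨r, hr, hrd⟩ := Nat.exists_prime_and_dvd fun h => hP.W₁_ne (Subgroup.card_eq_one.1 h)
  haveI := Fact.mk hr
  obtain ⟨⟨x, hx⟩, hxo⟩ := exists_prime_orderOf_dvd_card' r hrd
  rw [Subgroup.orderOf_mk] at hxo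
  have hW : W₁ ≤ M := hP.W₁_compl.2.1
  have hσ : r ∉ sigma M := fun hσ => ne_one_of_order hxo (Subgroup.mem_bot.1 (hP.W₁_compl.2.2.1 ▸ Subgroup.mem_inf.2
    ⟨core_le_derived hG hM (mem_sigmaCore hG hM (hW hx) (k := 1) (by rw [pow_one, hxo]) hσ), hx⟩))
  obtain ⟨y, hy, hy1⟩ := exists_ne_one hP.selfNormalizing.2.1
  have hrank : PRankLE r 1 ↥M := by
    by_contra hn
    obtain ⟨F, hF, hFe, hFc⟩ := exists_elab_of_prank hn
    obtain ⟨T, hT⟩ := exists_sylIn (p := r) W₁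
    have hTM : SylIn r T M := sylIn_of_hallOf (coprime_relIndex_hall hP.W₁_hall hW)
      (show r ∈ {q | q ∣ Nat.card W₁} from hrd) hT
    obtain ⟨m, -, hm⟩ := hTM.conj_le (Fusion.elab_isPGroup hFe) hF
    haveI := hP.W₁_cyclic
    refine noncyclic_of_card (Disjoint.elab_cj hFe m) (by rw [card_cj]; exact hFc) ?_
    exact isCyclic_of_injective (Subgroup.inclusion (hm.trans hT.le)) (Subgroup.inclusion_injective _)
  exact ⟨r, Decomp.kappa_of_fixed hG hM hr hσ (hrd.trans (Subgroup.card_dvd_of_le hW)) hrank (hW hx) (hxo ▸ dvd_rfl)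
    (Support.fittingHallOf_le hG hM (hP.W₂_le hy).1) hy1
    (Subgroup.mem_centralizer_singleton_iff.1 ((hP.W₂_centralizer x hx (ne_one_of_order hxo)).ge hy).2).symm⟩

theorem K_ne_bot_of_kappa (hKU : IsSigmaDecomposition M K U) (hκ : (kappa M).Nonempty) : K ≠ ⊥ := fun h => by
  obtain ⟨t, ht⟩ := hκ
  exact hKU.hall.2.2 t ht.1 ht (by rw [h, Subgroup.relIndex_bot_left]; exact ht.2.1)

/-- `U` is trivial when a complement of `M_F` in `M'` is. -/
theorem U_bot_of_compl_bot (hG : IsMinSimpleOddOrder G) (hM : IsCoatom M) (hKU : IsSigmaDecomposition M K U)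
    (hK1 : K ≠ ⊥) (hD : IsComplIn (fittingHallOf M) D ⁅M, M⁆) (hD1 : D = ⊥) :
    U = ⊥ ∧ fittingHallOf M = sigmaCore M := by
  have hle : ⁅M, M⁆ ≤ fittingHallOf M := fun m hm => by
    obtain ⟨a, ha, b, hb, rfl⟩ := hD.2.2.2 m hm
    rw [hD1, Subgroup.mem_bot] at hb
    rwa [hb, mul_one]
  have hFσ := Support.fittingHallOf_le hG hM
  have hsplit := derived_split hG hM hKU hK1
  refine ⟨eq_bot_iff.2 fun u hu => hsplit.2.2.1.le ⟨hFσ (hle (hsplit.2.1 hu)), hu⟩,
    le_antisymm hFσ (hsplit.1.trans hle)⟩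

/-- For a trivial `U` a complement of `M_F` in `M'` is trivial or has its normaliser in `M`. -/
theorem normalizer_compl_le (hG : IsMinSimpleOddOrder G) (hM : IsCoatom M) (hKU : IsSigmaDecomposition M K U)
    (hK1 : K ≠ ⊥) (hU : U = ⊥) (hnil : Group.IsNilpotent ↥D) (hD : IsComplIn (fittingHallOf M) D ⁅M, M⁆)
    (hD1 : D ≠ ⊥) : Subgroup.normalizer (D : Set G) ≤ M := by
  have he : ⁅M, M⁆ = sigmaCore M := by rw [derived_eq hG hM hKU hK1, hU, bot_sup_eq]
  rw [he] at hD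
  have hσM : sigmaCore M ≤ M := Subgroup.map_subtype_le _
  have hFn : M ≤ Subgroup.normalizer (fittingHallOf M : Set G) := Bender.le_normalizer_map _
  refine normalizer_le_of_hall hG hM hD.2.1 hD1 hnil ?_
  rw [← Subgroup.relIndex_mul_relIndex D _ M hD.2.1 hσM, (complIn_card hD (hσM.trans hFn)).2]
  exact Nat.Coprime.mul_right (TypePBasic.compl_coprime hD hσM).symm
    ((Nat.coprime_of_dvd fun q hq h1 h2 => (sigmaCore_hall hG hM).1.2.2 q hq
      ((sigmaCore_hall hG hM).1.2.1 q hq h1) h2).coprime_dvd_left (Subgroup.card_dvd_of_le hD.2.1))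

/-- A nilpotent `M_σ` has all complements in `M'` conjugate to `U`. -/
theorem compl_conj_U (hG : IsMinSimpleOddOrder G) (hM : IsCoatom M) (hKU : IsSigmaDecomposition M K U)
    (hK1 : K ≠ ⊥) (hD : IsComplIn (sigmaCore M) D ⁅M, M⁆) : ∃ m ∈ M, cj D m = U := by
  have hF := frame_of_decomp hG hM hKU hK1
  have hn : ⁅M, M⁆ ≤ Subgroup.normalizer (sigmaCore M : Set G) :=
    (Subgroup.commutator_le_self M).trans le_normalizer_piCoreOf
  have hcard : Nat.card D = Nat.card U := Nat.eq_of_mul_eq_mul_left Nat.card_pos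
    ((complIn_card hD hn).1.symm.trans (complIn_card (derived_split hG hM hKU hK1) hn).1)
  obtain ⟨m, hm, hmD⟩ := hall_conj_le hG hM hF.hall (hD.2.1.trans (Subgroup.commutator_le_self M))
    fun t ht hd => hF.hall.2.1 t ht (hcard ▸ hd)
  refine ⟨m⁻¹, M.inv_mem hm, Subgroup.eq_of_le_of_card_ge ?_ (by rw [card_cj, hcard])⟩
  rintro _ ⟨y, hy, rfl⟩
  show m⁻¹ * y * m⁻¹⁻¹ ∈ U
  rw [inv_inv]
  exact hmD y hy

/-- Data of Type II force `U` to be nontrivial. -/
theorem typeII_forward (hG : IsMinSimpleOddOrder G) (hM : IsCoatom M) (hKU : IsSigmaDecomposition M K U)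
    (h : IsOfTypeII M) : K ≠ ⊥ ∧ U ≠ ⊥ := by
  obtain ⟨W₁, D, W₂, hP, hD1, -, -, -, hN, -⟩ := h
  have hK1 := K_ne_bot_of_kappa hKU (kappa_nonempty_of_typeP hG hM hP)
  exact ⟨hK1, fun hU => hN (normalizer_compl_le hG hM hKU hK1 hU hP.U_nilpotent hP.U_compl hD1)⟩

end Cfsg.Agent.OddLocal.Kappa
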