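import Cfsg.Agent.Lib.OddLocal.KappaHat
import Cfsg.Agent.Lib.OddLocal.DecompositionFixed

/-!
The derived series of a maximal subgroup with a nonempty `κ`.
-/

set_option autoImplicit false
set_option linter.style.haveILetI false

namespace Cfsg.Agent.OddLocal.Kappa

open scoped Pointwise commutatorElement
open Cfsg
open Cfsg.Agent.Fusion (SylIn cj cj_cj cj_eq_self cj_mono card_cj exists_sylIn)
open Cfsg.Agent.OddLocal.Uniq
open Cfsg.Agent.OddLocal.Sig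
open Cfsg.Agent.OddLocal.RankTwo
open Cfsg.Agent.OddLocal.TauTwo

universe u

variable {G : Type u} [Group G] [Finite G] {M A D K U R : Subgroup G}

omit [Finite G] in
/-- The derived group lies in a normal subgroup with commuting images. -/
theorem derived_le_of_mul (hRn : M ≤ Subgroup.normalizer (R : Set G)) (hRM : R ≤ M)
    (hDM : D ≤ M) (hKM : K ≤ M) (hmul : ∀ m ∈ M, ∃ d ∈ D, ∃ k ∈ K, m = d * k)
    (hD : ∀ a ∈ D, ∀ b ∈ D, ⁅a, b⁆ ∈ R) (hK : ∀ a ∈ K, ∀ b ∈ K, ⁅a, b⁆ ∈ R)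
    (hDK : ∀ a ∈ D, ∀ b ∈ K, ⁅a, b⁆ ∈ R) : ⁅M, M⁆ ≤ R := by
  haveI : (R.subgroupOf M).Normal := (Subgroup.normal_subgroupOf_iff_le_normalizer hRM).2 hRn
  set f := QuotientGroup.mk' (R.subgroupOf M) with hf
  have hc : ∀ a b : M, ⁅(a : G), (b : G)⁆ ∈ R → Commute (f a) (f b) := fun a b h => by
    refine commutatorElement_eq_one_iff_commute.1 ?_
    rw [← map_commutatorElement, hf, QuotientGroup.mk'_apply, QuotientGroup.eq_one_iff, Subgroup.mem_subgroupOf]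
    exact h
  rw [Subgroup.commutator_le]
  intro x hx y hy
  obtain ⟨a, ha, k, hk, rfl⟩ := hmul x hx
  obtain ⟨b, hb, l, hl, rfl⟩ := hmul y hy
  have h1 : Commute (f ⟨a, hDM ha⟩ * f ⟨k, hKM hk⟩) (f ⟨b, hDM hb⟩ * f ⟨l, hKM hl⟩) :=
    ((hc _ _ (hD a ha b hb)).mul_left (hc _ _ (hDK b hb k hk)).symm).mul_right
      ((hc _ _ (hDK a ha l hl)).mul_left (hc _ _ (hK k hk l hl)))
  have h2 : f ⁅(⟨a, hDM ha⟩ * ⟨k, hKM hk⟩ : M), (⟨b, hDM hb⟩ * ⟨l, hKM hl⟩ : M)⁆ = 1 := by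
    rw [map_commutatorElement, map_mul, map_mul]
    exact commutatorElement_eq_one_iff_commute.2 h1
  rw [hf, QuotientGroup.mk'_apply, QuotientGroup.eq_one_iff, Subgroup.mem_subgroupOf] at h2
  exact h2

/-- The derived group is `U M_σ` when `K ≠ 1`. -/
theorem derived_eq (hG : IsMinSimpleOddOrder G) (hM : IsCoatom M) (hKU : IsSigmaDecomposition M K U)
    (hK1 : K ≠ ⊥) : ⁅M, M⁆ = U ⊔ sigmaCore M := by
  have hF := frame_of_decomp hG hM hKU hK1
  have hσM : sigmaCore M ≤ M := Subgroup.map_subtype_le _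
  have hWM : U ⊔ sigmaCore M ≤ M := sup_le (Decomp.U_le hKU) hσM
  have hn : M ≤ Subgroup.normalizer ((U ⊔ sigmaCore M : Subgroup G) : Set G) := Decomp.le_normalizer_sup hKU
  have hcm : ∀ a ∈ U ⊔ sigmaCore M, ∀ b ∈ M, ⁅a, b⁆ ∈ U ⊔ sigmaCore M := fun a ha b hb => by
    rw [commutatorElement_def, show a * b * a⁻¹ * b⁻¹ = a * (b * a⁻¹ * b⁻¹) by group]
    exact Subgroup.mul_mem _ ha ((Subgroup.mem_normalizer_iff.1 (hn hb) _).1 (Subgroup.inv_mem _ ha))
  refine le_antisymm (derived_le_of_mul (D := U ⊔ sigmaCore M) (K := K) hn hWM hWM (Decomp.K_le hKU) (fun m hm => ?_)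
    (fun a ha b hb => hcm a ha b (hWM hb)) (fun a ha b hb => ?_) fun a ha b hb => hcm a ha b (Decomp.K_le hKU hb))
    (sup_le (factor_le_derived hF hKU.hall hK1) (core_le_derived hG hM))
  · obtain ⟨u, hu, w, hw, rfl⟩ := hKU.compl.2.2.2 m hm
    rw [← SetLike.mem_coe, Decomp.coe_sup hKU] at hw
    obtain ⟨k, hk, s, hs, rfl⟩ := hw
    refine ⟨u * (k * s * k⁻¹), Subgroup.mul_mem _ (Subgroup.mem_sup_left hu) (Subgroup.mem_sup_right
      ((Subgroup.mem_normalizer_iff.1 (le_normalizer_piCoreOf (Decomp.K_le hKU hk)) s).1 hs)), k, hk, by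
      show u * (k * s) = _
      group⟩
  · rw [commutatorElement_eq_one_iff_commute.2 (comm_of_cyclic hKU.cyclic a ha b hb)]
    exact one_mem _

/-- `K^*` lies in the second derived group. -/
theorem star_le_second (hG : IsMinSimpleOddOrder G) (hM : IsCoatom M) (hKU : IsSigmaDecomposition M K U)
    (hK1 : K ≠ ⊥) : sigmaCore M ⊓ Subgroup.centralizer (K : Set G) ≤ ⁅⁅M, M⁆, ⁅M, M⁆⁆ := by
  classical
  haveI : Fintype ↥K := Fintype.ofFinite _
  set D : Subgroup G := ⁅M, M⁆ with hD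
  have hDM : D ≤ M := Subgroup.commutator_le_self M
  have hMD : M ≤ Subgroup.normalizer (D : Set G) := fun m hm => Fusion.mem_normalizer_of_cj_le (by
    show Subgroup.map _ ⁅M, M⁆ ≤ ⁅M, M⁆
    rw [Subgroup.map_commutator]
    exact Subgroup.commutator_mono (cj_eq_self (Subgroup.le_normalizer hm)).le (cj_eq_self (Subgroup.le_normalizer hm)).le)
  have hKD : K ≤ Subgroup.normalizer (D : Set G) := (Decomp.K_le hKU).trans hMD
  let c : ↥K → ↥D → ↥D := fun k x => ⟨k * x * (k : G)⁻¹, (Subgroup.mem_normalizer_iff.1 (hKD k.2) x).1 x.2⟩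
  have hcmul : ∀ k x y, c k (x * y) = c k x * c k y := fun k x y => Subtype.ext (conj_mul).symm
  let φ : ↥D →* Abelianization ↥D := MonoidHom.mk' (fun x => ∏ k : ↥K, Abelianization.of (c k x)) fun x y => by
    simp only [hcmul, map_mul, Finset.prod_mul_distrib]
  have hφK : ∀ (l : ↥K) x, φ (c l x) = φ x := fun l x => by
    show ∏ k : ↥K, Abelianization.of (c k (c l x)) = _
    refine (Finset.prod_congr rfl fun k _ => ?_).trans (Equiv.prod_comp (Equiv.mulRight l)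
      fun k => Abelianization.of (c k x))
    congr 1
    apply Subtype.ext
    show (k : G) * ((l : G) * x * (l : G)⁻¹) * (k : G)⁻¹ = ((k : G) * l) * x * ((k : G) * l)⁻¹
    group
  set R := φ.ker.map D.subtype with hR
  have hRD : R ≤ D := Subgroup.map_subtype_le _
  have hmem : ∀ x : ↥D, (x : G) ∈ R ↔ φ x = 1 := fun x =>
    ⟨fun ⟨y, hy, e⟩ => by rwa [← Subtype.ext (e : (y : G) = x)], fun h => ⟨x, h, rfl⟩⟩
  have hmul : ∀ m ∈ M, ∃ d ∈ D, ∃ k ∈ K, m = d * k := by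
    intro m hm
    obtain ⟨u, hu, w, hw, rfl⟩ := hKU.compl.2.2.2 m hm
    rw [← SetLike.mem_coe, Decomp.coe_sup hKU] at hw
    obtain ⟨k, hk, s, hs, rfl⟩ := hw
    refine ⟨u * (k * s * k⁻¹), ?_, k, hk, by show u * (k * s) = _; group⟩
    rw [hD, derived_eq hG hM hKU hK1]
    exact Subgroup.mul_mem _ (Subgroup.mem_sup_left hu) (Subgroup.mem_sup_right
      ((Subgroup.mem_normalizer_iff.1 (le_normalizer_piCoreOf (Decomp.K_le hKU hk)) s).1 hs))
  have hRn : M ≤ Subgroup.normalizer (R : Set G) := fun m hm => Fusion.mem_normalizer_of_cj_le (by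
    rintro _ ⟨_, ⟨x, hx, rfl⟩, rfl⟩
    obtain ⟨d, hd, k, hk, rfl⟩ := hmul m hm
    refine ⟨⟨d, hd⟩ * c ⟨k, hk⟩ x * (⟨d, hd⟩ : ↥D)⁻¹, ?_, by
      show d * (k * x * k⁻¹) * d⁻¹ = d * k * x * (d * k)⁻¹
      group⟩
    change φ x = 1 at hx
    show φ _ = 1
    rw [map_mul, map_mul, hφK, hx, mul_one, map_inv, mul_inv_cancel])
  have hDR : D ≤ R := hD ▸ derived_le_of_mul hRn (hRD.trans hDM) hDM (Decomp.K_le hKU) hmul
    (fun a ha b hb => (hmem ⟨⁅a, b⁆, Subgroup.commutator_le_self D (Subgroup.commutator_mem_commutator ha hb)⟩).2 (by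
      rw [show (⟨⁅a, b⁆, _⟩ : ↥D) = ⁅(⟨a, ha⟩ : ↥D), ⟨b, hb⟩⁆ from Subtype.ext rfl, map_commutatorElement,
        commutatorElement_eq_one_iff_commute]
      exact mul_comm _ _))
    (fun a ha b hb => by
      rw [commutatorElement_eq_one_iff_commute.2 (comm_of_cyclic hKU.cyclic a ha b hb)]
      exact one_mem _)
    (fun a ha b hb => by
      rw [show ⁅a, b⁆ = (((⟨a, ha⟩ : ↥D) * (c ⟨b, hb⟩ ⟨a, ha⟩)⁻¹ : ↥D) : G) by
        show a * b * a⁻¹ * b⁻¹ = a * (b * a * b⁻¹)⁻¹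
        group, hmem, map_mul, map_inv, hφK, mul_inv_cancel])
  intro x hx
  have hxD : x ∈ D := core_le_derived hG hM hx.1
  have h1 : φ ⟨x, hxD⟩ = 1 := (hmem _).1 (hDR hxD)
  have h2 : Abelianization.of (⟨x, hxD⟩ : ↥D) ^ Nat.card K = 1 := by
    rw [← h1]
    show _ = ∏ k : ↥K, Abelianization.of (c k ⟨x, hxD⟩)
    have hfix : ∀ k : ↥K, c k ⟨x, hxD⟩ = ⟨x, hxD⟩ := fun k => Subtype.ext (by
      show (k : G) * x * (k : G)⁻¹ = x
      rw [Subgroup.mem_centralizer_iff.1 hx.2 k k.2, mul_inv_cancel_right])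
    simp [hfix, Finset.prod_const, Nat.card_eq_fintype_card]
  have h3 : Abelianization.of (⟨x, hxD⟩ : ↥D) = 1 := by
    have hd : orderOf (Abelianization.of (⟨x, hxD⟩ : ↥D)) ∣ orderOf x :=
      (orderOf_map_dvd _ _).trans (Subgroup.orderOf_mk x hxD).dvd
    refine orderOf_eq_one_iff.1 (Nat.eq_one_of_dvd_coprimes ?_ hd (orderOf_dvd_of_pow_eq_one h2))
    exact Nat.coprime_of_dvd fun q hq h5 h6 =>
      (hKU.hall.2.1 q hq h6).2.2.1 (Support.mem_pi hG hM hx.1 q hq h5)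
  rw [← Subgroup.map_subtype_commutator]
  exact ⟨⟨x, hxD⟩, (QuotientGroup.eq_one_iff _).1 h3, rfl⟩

end Cfsg.Agent.OddLocal.Kappa
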