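import Cfsg.Agent.Lib.OddLocal.KappaCover
import Cfsg.Agent.Lib.OddLocal.KappaDerived

/-!
The `M`-conjugates of `Ẑ` make up `A₀(M) ∖ A(M)`.
-/

set_option autoImplicit false
set_option linter.style.haveILetI false

namespace Cfsg.Agent.OddLocal.Kappa

open scoped Pointwise commutatorElement
open Cfsg
open Cfsg.Agent.Fusion (SylIn cj cj_cj cj_eq_self cj_mono card_cj exists_sylIn)
open Cfsg.Agent.OddLocal.Uniq
open Cfsg.Agent.OddLocal.Sig
open Cfsg.Agent.OddLocal.RankTwo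
open Cfsg.Agent.OddLocal.TauTwo

universe u

variable {G : Type u} [Group G] [Finite G] {M K U : Subgroup G}

/-- The set of `M`-conjugates of `Ẑ`. -/
def hatConj (M K : Subgroup G) : Set G := {a : G | ∃ m ∈ M, ∃ z ∈ hat M K, a = m * z * m⁻¹}

theorem hatConj_eq (hG : IsMinSimpleOddOrder G) (hM : IsCoatom M) (hKU : IsSigmaDecomposition M K U)
    (hK1 : K ≠ ⊥) : hatConj M K = sigmaA0 M K \ sigmaA M U := by
  have hσM : sigmaCore M ≤ M := Subgroup.map_subtype_le _
  have hF := frame_of_decomp hG hM hKU hK1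
  have hWM : U ⊔ sigmaCore M ≤ M := sup_le (Decomp.U_le hKU) hσM
  have hWn : M ≤ Subgroup.normalizer ((U ⊔ sigmaCore M : Subgroup G) : Set G) := Decomp.le_normalizer_sup hKU
  have ho : ∀ h b : G, orderOf (h * b * h⁻¹) = orderOf b := fun h b =>
    orderOf_injective (MulAut.conj h).toMonoidHom (MulAut.conj h).injective b
  have hWκ : ∀ t : ℕ, t.Prime → t ∣ Nat.card ↥(U ⊔ sigmaCore M) → t ∉ kappa M := fun t ht h => by
    have h1 := Solv.card_sup_mul_card_inf' (sigmaCore M) U ((Decomp.U_le hKU).trans le_normalizer_piCoreOf)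
    rw [sup_comm] at h1
    have h2 : t ∣ Nat.card (sigmaCore M) * Nat.card U := by
      rw [← h1]
      exact h.mul_right _
    exact ((Nat.Prime.dvd_mul ht).1 h2).elim (fun h' hκ => hκ.2.2.1 ((sigmaCore_hall hG hM).1.2.1 t ht h'))
      fun h' => (Decomp.U_pi hG hM hKU ht h').2
  refine Set.Subset.antisymm ?_ ?_
  · rintro _ ⟨m, hm, z, hz, rfl⟩
    obtain ⟨k, hk, c, hc, rfl, hk1, hc1, hkc⟩ := hat_split hz
    have hmc : m * c * m⁻¹ ∈ sigmaCore M := (Subgroup.mem_normalizer_iff.1 (le_normalizer_piCoreOf hm) c).1 hc.1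
    have hzM : k * c ∈ M := M.mul_mem (hKU.hall.1 hk) (hσM hc.1)
    refine ⟨⟨⟨M.mul_mem (M.mul_mem hm hzM) (M.inv_mem hm), _, hmc, fun h => hc1 (conj_eq_one_iff.1 h), ?_⟩, ?_⟩,
      fun h => hk1 ?_⟩
    · rw [conj_mul, conj_mul, ← mul_assoc c k c, ← hkc.eq]
    · rintro ⟨k', hk', -, m', -, he⟩
      have h1 : c ∈ Subgroup.zpowers (k * c) := part_mem hG hM hKU.hall hk hc
      obtain ⟨q, hq, hqd⟩ := Nat.exists_prime_and_dvd fun h => hc1 (orderOf_eq_one_iff.1 h)
      refine (hKU.hall.2.1 q hq ((hqd.trans ?_).trans (Subgroup.orderOf_dvd_natCard K hk'))).2.2.1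
        (Support.mem_pi hG hM hc.1 q hq hqd)
      rw [← ho m' k', ← he, ho m, ← Nat.card_zpowers (k * c)]
      exact Subgroup.orderOf_dvd_natCard _ h1
    · have h2 : m * (k * c) * m⁻¹ ∈ U ⊔ sigmaCore M := h.2
      have h3 : k * c ∈ U ⊔ sigmaCore M := (Subgroup.mem_normalizer_iff.1 (hWn hm) _).2 h2
      have h4 : k ∈ U ⊔ sigmaCore M := by
        simpa using Subgroup.mul_mem _ h3 (Subgroup.inv_mem _ (Subgroup.mem_sup_right (S := U) hc.1))
      by_contra hk1'
      obtain ⟨q, hq, hqd⟩ := Nat.exists_prime_and_dvd fun h => hk1' (orderOf_eq_one_iff.1 h)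
      exact hWκ q hq (hqd.trans (Subgroup.orderOf_dvd_natCard _ h4))
        (hKU.hall.2.1 q hq (hqd.trans (Subgroup.orderOf_dvd_natCard _ hk)))
  · rintro a ⟨⟨⟨haM, y, hy, hy1, hay⟩, hnK⟩, hnA⟩
    obtain ⟨b, d, hbd, hbdc, hba, hda, hbκ, hdκ⟩ := exists_parts (kappa M) a
    have hbM : b ∈ M := Subgroup.zpowers_le.2 haM hba
    have hdM : d ∈ M := Subgroup.zpowers_le.2 haM hda
    have hdW : d ∈ U ⊔ sigmaCore M := by
      haveI := (Subgroup.normal_subgroupOf_iff_le_normalizer hWM).2 hWn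
      have h1 := ((U ⊔ sigmaCore M).subgroupOf M).pow_index_mem (⟨d, hdM⟩ : M)
      have hdvd : ((U ⊔ sigmaCore M).subgroupOf M).index ∣ Nat.card K := by
        have hle : M ≤ (U ⊔ sigmaCore M) ⊔ K := fun m hm => by
          obtain ⟨u, hu, w, hw, rfl⟩ := hKU.compl.2.2.2 m hm
          exact mul_mem (Subgroup.mem_sup_left (Subgroup.mem_sup_left hu))
            ((sup_le le_sup_right (le_sup_right.trans le_sup_left) :
              K ⊔ sigmaCore M ≤ (U ⊔ sigmaCore M) ⊔ K) hw)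
        have h2 := Solv.card_sup_mul_card_inf' (U ⊔ sigmaCore M) K (hKU.hall.1.trans hWn)
        rw [le_antisymm (sup_le hWM hKU.hall.1) hle, ← ((U ⊔ sigmaCore M).subgroupOf M).card_mul_index,
          Solv.card_subgroupOf hWM, mul_assoc] at h2
        exact Dvd.intro _ (Nat.eq_of_mul_eq_mul_left Nat.card_pos h2)
      obtain ⟨j, hj⟩ := exists_pow_eq_self_of_coprime (x := d) (n := ((U ⊔ sigmaCore M).subgroupOf M).index)
        (Nat.coprime_of_dvd fun t ht h2 h3 => hdκ t ht h3 (hKU.hall.2.1 t ht (h2.trans hdvd)))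
      rw [← hj]
      exact pow_mem (Subgroup.mem_subgroupOf.1 h1) j
    have hb1 : b ≠ 1 := fun h => hnA ⟨⟨haM, y, hy, hy1, hay⟩, by rw [hbd, h, one_mul]; exact hdW⟩
    obtain ⟨m, hm, hmk⟩ := mem_hall_conj hG hM hKU.hall hbM hbκ
    set k := m⁻¹ * b * m with hk
    set e := m⁻¹ * d * m with he
    have hk1 : k ≠ 1 := fun h => hb1 (by
      calc b = m * k * m⁻¹ := by rw [hk]; group
        _ = 1 := by rw [h]; group)
    have hek : e ∈ M ⊓ Subgroup.centralizer ({k} : Set G) := by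
      refine ⟨M.mul_mem (M.mul_mem (M.inv_mem hm) hdM) hm, Subgroup.mem_centralizer_singleton_iff.2 ?_⟩
      calc e * k = m⁻¹ * (d * b) * m := by rw [he, hk]; group
        _ = m⁻¹ * (b * d) * m := by rw [hbdc.eq]
        _ = _ := by rw [he, hk]; group
    rw [centralizer_eq hG hM hKU.hall hF (comm_of_cyclic hKU.cyclic) hmk hk1, ← SetLike.mem_coe,
      Subgroup.coe_mul_of_right_le_normalizer_left _ _ (inf_le_right.trans
        (Subgroup.centralizer_le_normalizer _))] at hek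
    obtain ⟨k', hk', c, hc, hkc⟩ := hek
    have hkc' : k' * c = e := hkc
    have hk'1 : k' = 1 := by
      by_contra hne
      obtain ⟨q, hq, hqd⟩ := Nat.exists_prime_and_dvd fun h => hne (orderOf_eq_one_iff.1 h)
      have hck : Commute k' c := Subgroup.mem_centralizer_iff.1 hc.2 k' hk'
      have hco : (orderOf k').Coprime (orderOf c) := Nat.coprime_of_dvd fun t ht h1 h2 =>
        (hKU.hall.2.1 t ht (h1.trans (Subgroup.orderOf_dvd_natCard K hk'))).2.2.1 (Support.mem_pi hG hM hc.1 t ht h2)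
      refine hdκ q hq ?_ (hKU.hall.2.1 q hq (hqd.trans (Subgroup.orderOf_dvd_natCard K hk')))
      rw [← ho m⁻¹ d, inv_inv, ← he, ← hkc', hck.orderOf_mul_eq_mul_orderOf_of_coprime hco]
      exact hqd.mul_right _
    rw [hk'1, one_mul] at hkc'
    refine ⟨m, hm, k * c, hat_mem hG hM hKU.hall hmk hc hk1 fun h => hnK ⟨k, hmk, hk1, m, hm, ?_⟩, ?_⟩
    · rw [hbd, show d = m * e * m⁻¹ by rw [he]; group, ← hkc', h, hk]
      group
    · rw [hkc', he, hk, hbd]
      group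

theorem hatConj_ti (hG : IsMinSimpleOddOrder G) (hM : IsCoatom M) (hKU : IsSigmaDecomposition M K U)
    (hK1 : K ≠ ⊥) : IsTISubset (hatConj M K) := by
  intro g hg x hx hgx
  exfalso
  obtain ⟨m, hm, z, hz, rfl⟩ := hx
  obtain ⟨n, hn, w, hw, he⟩ := hgx
  have h1 : (n⁻¹ * g * m) * z * (n⁻¹ * g * m)⁻¹ ∈ hat M K := by
    have e : (n⁻¹ * g * m) * z * (n⁻¹ * g * m)⁻¹ = w := by
      calc _ = n⁻¹ * (g * (m * z * m⁻¹) * g⁻¹) * n := by group
        _ = n⁻¹ * (n * w * n⁻¹) * n := by rw [he]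
        _ = w := by group
    rwa [e]
  have h2 : n⁻¹ * g * m ∈ M :=
    (sup_le hKU.hall.1 (inf_le_left.trans (Subgroup.map_subtype_le _))) (hat_ti hG hM hKU.hall hK1 hz h1)
  have hgM : g ∈ M := by
    have := M.mul_mem (M.mul_mem hn h2) (M.inv_mem hm)
    rwa [show n * (n⁻¹ * g * m) * m⁻¹ = g by group] at this
  have hfwd : ∀ h ∈ M, ∀ a ∈ hatConj M K, h * a * h⁻¹ ∈ hatConj M K := by
    rintro h hh _ ⟨m', hm', z', hz', rfl⟩
    exact ⟨h * m', M.mul_mem hh hm', z', hz', by group⟩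
  refine hg (Subgroup.mem_set_normalizer_iff''.2 fun a => ⟨fun h => ?_, fun h => ?_⟩)
  · have := hfwd g⁻¹ (M.inv_mem hgM) _ h
    rwa [inv_inv] at this
  · have := hfwd g hgM _ h
    rwa [show g * (g⁻¹ * a * g) * g⁻¹ = a by group] at this

end Cfsg.Agent.OddLocal.Kappa
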