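import Cfsg.Agent.Lib.OddLocal.KappaTypeI
import Cfsg.Agent.Lib.OddLocal.KappaHatConj
import Cfsg.Agent.S1382

/-!
The sets `A₁(M) ⊆ A(M) ⊆ A₀(M)` and their fusion.
-/

set_option autoImplicit false
set_option linter.style.haveILetI false

namespace Cfsg.Agent.OddLocal.Kappa

open scoped Pointwise commutatorElement
open Cfsg
open Cfsg.Agent.Fusion (SylIn cj cj_eq_self cj_mono card_cj exists_sylIn)
open Cfsg.Agent.OddLocal.Uniq
open Cfsg.Agent.OddLocal.Sig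
open Cfsg.Agent.OddLocal.RankTwo
open Cfsg.Agent.OddLocal.TauTwo
open Cfsg.Agent.OddLocal.Prime

universe u

variable {G : Type u} [Group G] [Finite G] {M K U L W₁ W₂ D : Subgroup G}

theorem le_normalizer_derived (M : Subgroup G) : M ≤ Subgroup.normalizer ((⁅M, M⁆ : Subgroup G) : Set G) :=
  fun m hm => Fusion.mem_normalizer_of_cj_le (by rw [Fusion.cj_commutator, Fusion.cj_eq_self_of_mem hm])

theorem core_eq_fittingHall (hG : IsMinSimpleOddOrder G) (hM : IsCoatom M) (h : ¬ (IsOfTypeIII M ∨ IsOfTypeIV M)) :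
    fittingHallOf M = sigmaCore M := by
  obtain ⟨K, U, hKU⟩ := exists_full_decomp hG hM
  by_contra hne
  obtain ⟨hU, hK, -⟩ := exists_split hG hM hKU hne
  exact h ((S1382.result hG M hM K U hKU).2 ⟨hK, hU, hne⟩)

/-- In every case `M_s` is `M_σ`. -/
theorem typeCore_eq (hG : IsMinSimpleOddOrder G) (hM : IsCoatom M) : typeCore M = sigmaCore M := by
  by_cases h : IsOfTypeIII M ∨ IsOfTypeIV M
  · obtain ⟨K, U, hKU⟩ := exists_full_decomp hG hM
    obtain ⟨hK, hU, -⟩ := (S1382.result hG M hM K U hKU).1 h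
    rw [typeCore, if_pos h, derived_eq hG hM hKU hK, hU, bot_sup_eq]
  · rw [typeCore, if_neg h, core_eq_fittingHall hG hM h]

theorem typeA1_eq (hG : IsMinSimpleOddOrder G) (hM : IsCoatom M) : typeA1 M = (sigmaCore M : Set G) \ {1} := by
  rw [typeA1, typeCore_eq hG hM]

theorem not_typeI_of_K (hG : IsMinSimpleOddOrder G) (hM : IsCoatom M) (hKU : IsSigmaDecomposition M K U)
    (hK1 : K ≠ ⊥) : ¬ IsOfTypeI M := fun h => hK1 (typeI_forward hG hM hKU h).1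

/-- The elements of `A(M)` have fixed points in `M_σ`. -/
theorem typeA_fixed (hG : IsMinSimpleOddOrder G) (hM : IsCoatom M) {a : G} (ha : a ∈ typeA M) :
    a ∈ M ∧ a ≠ 1 ∧ ∃ y ∈ sigmaCore M, y ≠ 1 ∧ a * y = y * a := by
  by_cases hI : IsOfTypeI M
  · rw [typeA, if_pos hI] at ha
    obtain ⟨haM, ha1, y, hy, hy1, hay⟩ := ha
    exact ⟨haM, ha1, y, Support.fittingHallOf_le hG hM hy, hy1, hay⟩
  · rw [typeA, if_neg hI, typeCore_eq hG hM] at ha
    exact ⟨Subgroup.commutator_le_self M ha.1, ha.2⟩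

theorem typeA1_subset_typeA (hG : IsMinSimpleOddOrder G) (hM : IsCoatom M) : typeA1 M ⊆ typeA M := by
  intro a ha
  rw [typeA1_eq hG hM] at ha
  obtain ⟨haσ, ha1⟩ := ha
  by_cases hI : IsOfTypeI M
  · obtain ⟨K, U, hKU⟩ := exists_full_decomp hG hM
    have he : fittingHallOf M = sigmaCore M := core_eq_fittingHall hG hM fun h =>
      ((S1382.result hG M hM K U hKU).1 h).1 (typeI_forward hG hM hKU hI).1
    rw [typeA, if_pos hI, he]
    exact ⟨(Subgroup.map_subtype_le _ : sigmaCore M ≤ M) haσ, ha1, a, haσ, ha1, rfl⟩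
  · rw [typeA, if_neg hI, typeCore_eq hG hM]
    exact ⟨core_le_derived hG hM haσ, ha1, a, haσ, ha1, rfl⟩

theorem typeA_conj (hG : IsMinSimpleOddOrder G) (hM : IsCoatom M) {m a : G} (hm : m ∈ M) (ha : a ∈ typeA M) :
    m * a * m⁻¹ ∈ typeA M := by
  have h1 : ∀ {H : Subgroup G}, M ≤ Subgroup.normalizer (H : Set G) → ∀ {x : G}, x ∈ H → m * x * m⁻¹ ∈ H :=
    @fun H hn x hx => (Subgroup.mem_normalizer_iff.1 (hn hm) x).1 hx
  by_cases hI : IsOfTypeI M
  · rw [typeA, if_pos hI] at ha ⊢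
    obtain ⟨haM, ha1, y, hy, hy1, hay⟩ := ha
    exact ⟨h1 Subgroup.le_normalizer haM, fun h => ha1 (conj_eq_one_iff.1 h), _,
      h1 (Bender.le_normalizer_map _) hy, fun h => hy1 (conj_eq_one_iff.1 h), by rw [conj_mul, conj_mul, hay]⟩
  · rw [typeA, if_neg hI, typeCore_eq hG hM] at ha ⊢
    obtain ⟨haM, ha1, y, hy, hy1, hay⟩ := ha
    exact ⟨h1 (le_normalizer_derived M) haM, fun h => ha1 (conj_eq_one_iff.1 h), _,
      h1 le_normalizer_piCoreOf hy, fun h => hy1 (conj_eq_one_iff.1 h), by rw [conj_mul, conj_mul, hay]⟩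

theorem typeA0_conj (hG : IsMinSimpleOddOrder G) (hM : IsCoatom M) {m a : G} (hm : m ∈ M) (ha : a ∈ typeA0 M) :
    m * a * m⁻¹ ∈ typeA0 M := by
  rcases ha with ha | ⟨hI, W₁, D, W₂, hP, n, hn, w, hw, hw₁, hw₂, rfl⟩
  · exact Or.inl (typeA_conj hG hM hm ha)
  · exact Or.inr ⟨hI, W₁, D, W₂, hP, m * n, M.mul_mem hm hn, w, hw, hw₁, hw₂, by group⟩

/-- The sets `A(M)` lie in `L = M` or `L = M'`, which has no prime of `κ(M)`. -/
theorem exists_upper (hG : IsMinSimpleOddOrder G) (hM : IsCoatom M) (hKU : IsSigmaDecomposition M K U) :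
    ∃ L : Subgroup G, Upper M L U ∧ ∀ a ∈ typeA M, a ∈ L := by
  by_cases hK1 : K = ⊥
  · have hc := hKU.compl
    rw [hK1, bot_sup_eq] at hc
    have hsplit : IsComplIn (sigmaCore M) U M := ⟨hc.2.1, hc.1, by rw [inf_comm]; exact hc.2.2.1, fun m hm => by
      obtain ⟨u, hu, s, hs, rfl⟩ := hc.2.2.2 m hm
      exact ⟨u * s * u⁻¹, (Subgroup.mem_normalizer_iff.1 (le_normalizer_piCoreOf (hc.1 hu)) s).1 hs, u, hu,
        by group⟩⟩
    exact ⟨M, ⟨hM, le_rfl, Subgroup.le_normalizer, hsplit, fun q hq hd _ hκ => hKU.hall.2.2 q hq hκ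
      (by rw [hK1, Subgroup.relIndex_bot_left]; exact hd)⟩, fun a ha => (typeA_fixed hG hM ha).1⟩
  · have hsplit := derived_split hG hM hKU hK1
    refine ⟨⁅M, M⁆, ⟨hM, Subgroup.commutator_le_self M, le_normalizer_derived M, hsplit, fun q hq hd hσ => ?_⟩,
      fun a ha => ?_⟩
    · rw [(complIn_card hsplit ((Subgroup.commutator_le_self M).trans le_normalizer_piCoreOf)).1] at hd
      exact ((Nat.Prime.dvd_mul hq).1 hd).elim
        (fun h => absurd ((sigmaCore_hall hG hM).1.2.1 q hq h) hσ) fun h => (Decomp.U_pi hG hM hKU hq h).2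
    · rw [typeA, if_neg (not_typeI_of_K hG hM hKU hK1)] at ha
      exact ha.1

/-- The elements `w ∈ W₁ W₂ ∖ (W₁ ∪ W₂)` of data of type P are conjugate into `Ẑ`. -/
theorem typeP_hat (hG : IsMinSimpleOddOrder G) (hM : IsCoatom M) (hKU : IsSigmaDecomposition M K U) (hK1 : K ≠ ⊥)
    (hP : IsTypePWith M W₁ D W₂) {w : G} (hw : w ∈ W₁ ⊔ W₂) (hw₁ : w ∉ W₁) (hw₂ : w ∉ W₂) :
    w ∈ hatConj M K := by
  obtain ⟨D', hP', -⟩ := exists_typeP hG hM hKU hK1
  set C := sigmaCore M ⊓ Subgroup.centralizer (K : Set G) with hC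
  have hcard : Nat.card W₁ = Nat.card K := Nat.eq_of_mul_eq_mul_left (Nat.card_pos (α := ↥(⁅M, M⁆ : Subgroup G)))
    ((complIn_card hP.W₁_compl (le_normalizer_derived M)).1.symm.trans
      (complIn_card (derived_compl hG hM hKU hK1) (le_normalizer_derived M)).1)
  obtain ⟨m, hm, hmW⟩ := hall_conj_le hG hM hKU.hall hP.W₁_compl.2.1
    fun t ht hd => hKU.hall.2.1 t ht (hcard ▸ hd)
  have h1 : cj W₁ m⁻¹ = K := by
    refine Subgroup.eq_of_le_of_card_ge ?_ (by rw [card_cj, hcard])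
    rintro _ ⟨y, hy, rfl⟩
    show m⁻¹ * y * m⁻¹⁻¹ ∈ K
    rw [inv_inv]
    exact hmW y hy
  obtain ⟨x, hx, hx1⟩ := exists_ne_one hP.W₁_ne
  have hk1 : m⁻¹ * x * m ≠ 1 := fun h => hx1 (by
    calc x = m * (m⁻¹ * x * m) * m⁻¹ := by group
      _ = 1 := by rw [h]; group)
  have h2 : cj W₂ m⁻¹ = C := by
    rw [← hP.W₂_centralizer x hx hx1, ← hP'.W₂_centralizer _ (hmW x hx) hk1, Fusion.cj_inf, Fusion.cj_commutator,
      Fusion.cj_eq_self_of_mem (M.inv_mem hm), ← Support.centralizer_cj, inv_inv]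
  have h3 : cj (W₁ ⊔ W₂) m⁻¹ = K ⊔ C := by
    rw [cj, Subgroup.map_sup, ← cj, ← cj, h1, h2]
  have hz : m⁻¹ * w * m⁻¹⁻¹ ∈ hat M K := by
    refine ⟨h3 ▸ Fusion.conj_mem_cj hw, ?_⟩
    rintro (h | h)
    · refine hw₁ ?_
      rw [SetLike.mem_coe, ← h1, Fusion.mem_cj] at h
      rwa [show m⁻¹⁻¹ * (m⁻¹ * w * m⁻¹⁻¹) * m⁻¹ = w by group] at h
    · refine hw₂ ?_
      rw [SetLike.mem_coe, ← hC, ← h2, Fusion.mem_cj] at h
      rwa [show m⁻¹⁻¹ * (m⁻¹ * w * m⁻¹⁻¹) * m⁻¹ = w by group] at h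
  exact ⟨m, hm, _, hz, by group⟩

/-- The elements of `A₀(M)` are those of `A(M)` and conjugates of elements of `Ẑ`. -/
theorem typeA0_cases (hG : IsMinSimpleOddOrder G) (hM : IsCoatom M) (hKU : IsSigmaDecomposition M K U) {a : G}
    (ha : a ∈ typeA0 M) : a ∈ typeA M ∨ K ≠ ⊥ ∧ a ∈ hatConj M K := by
  rcases ha with ha | ⟨-, W₁, D, W₂, hP, n, hn, w, hw, hw₁, hw₂, rfl⟩
  · exact Or.inl ha
  · have hK1 := K_ne_bot_of_kappa hKU (kappa_nonempty_of_typeP hG hM hP)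
    obtain ⟨m, hm, z, hz, rfl⟩ := typeP_hat hG hM hKU hK1 hP hw hw₁ hw₂
    exact Or.inr ⟨hK1, n * m, M.mul_mem hn hm, z, hz, by group⟩

/-- The order of a conjugate of an element of `Ẑ` is divisible by a prime of `κ(M)`. -/
theorem hatConj_prime (hG : IsMinSimpleOddOrder G) (hM : IsCoatom M) (hKU : IsSigmaDecomposition M K U) {a : G}
    (ha : a ∈ hatConj M K) : ∃ q : ℕ, q.Prime ∧ q ∣ orderOf a ∧ q ∈ kappa M := by
  obtain ⟨m, -, z, hz, rfl⟩ := ha
  obtain ⟨k, hk, c, hc, rfl, hk1, -, hkc⟩ := hat_split hz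
  obtain ⟨q, hq, hqd⟩ := Nat.exists_prime_and_dvd fun h => hk1 (orderOf_eq_one_iff.1 h)
  have hκ := hKU.hall.2.1 q hq (hqd.trans (Subgroup.orderOf_dvd_natCard K hk))
  refine ⟨q, hq, ?_, hκ⟩
  rw [show orderOf (m * (k * c) * m⁻¹) = orderOf (k * c) from
    orderOf_injective (MulAut.conj m).toMonoidHom (MulAut.conj m).injective _,
    hkc.orderOf_mul_eq_mul_orderOf_of_coprime (Nat.coprime_of_dvd fun t ht h1 h2 =>
      (hKU.hall.2.1 t ht (h1.trans (Subgroup.orderOf_dvd_natCard K hk))).2.2.1 (Support.mem_pi hG hM hc.1 t ht h2))]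
  exact hqd.mul_right _

theorem typeA0_mem (hG : IsMinSimpleOddOrder G) (hM : IsCoatom M) {a : G} (ha : a ∈ typeA0 M) :
    a ∈ M ∧ a ≠ 1 := by
  obtain ⟨K, U, hKU⟩ := exists_full_decomp hG hM
  rcases typeA0_cases hG hM hKU ha with h | ⟨-, h⟩
  · exact ⟨(typeA_fixed hG hM h).1, (typeA_fixed hG hM h).2.1⟩
  · refine ⟨?_, fun h1 => ?_⟩
    · obtain ⟨m, hm, z, hz, rfl⟩ := h
      exact M.mul_mem (M.mul_mem hm ((sup_le hKU.hall.1 (inf_le_left.trans (Subgroup.map_subtype_le _))) hz.1))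
        (M.inv_mem hm)
    · obtain ⟨q, hq, hd, -⟩ := hatConj_prime hG hM hKU h
      rw [h1, orderOf_one, Nat.dvd_one] at hd
      exact hq.ne_one hd

/-- An element of `M` conjugate to one of `M_σ` lies in `M_σ`. -/
theorem mem_core_of_conj (hG : IsMinSimpleOddOrder G) (hM : IsCoatom M) {a g : G} (ha : a ∈ sigmaCore M)
    (hga : g * a * g⁻¹ ∈ M) : g * a * g⁻¹ ∈ sigmaCore M :=
  le_of_hall (sigmaCore_hall hG hM).1 le_normalizer_piCoreOf (Subgroup.zpowers_le.2 hga) (fun t ht htd => by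
    rw [Nat.card_zpowers, show orderOf (g * a * g⁻¹) = orderOf a from
      orderOf_injective (MulAut.conj g).toMonoidHom (MulAut.conj g).injective a] at htd
    exact Support.mem_pi hG hM ha t ht htd) (Subgroup.mem_zpowers _)

/-- Elements of `A₀(M)` outside `M_σ` are fused only by `M`. -/
theorem mem_of_fused (hG : IsMinSimpleOddOrder G) (hM : IsCoatom M) {a g : G} (ha : a ∈ typeA0 M)
    (haσ : a ∉ sigmaCore M) (hga : g * a * g⁻¹ ∈ typeA0 M) : g ∈ M := by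
  obtain ⟨K, U, hKU⟩ := exists_full_decomp hG hM
  obtain ⟨L, d, hL⟩ := exists_upper hG hM hKU
  have ho : orderOf (g * a * g⁻¹) = orderOf a := orderOf_injective (MulAut.conj g).toMonoidHom (MulAut.conj g).injective a
  have hgaσ : g * a * g⁻¹ ∉ sigmaCore M := fun h => by
    have h' := mem_core_of_conj hG hM (g := g⁻¹) h
      (by rw [show g⁻¹ * (g * a * g⁻¹) * g⁻¹⁻¹ = a by group]; exact (typeA0_mem hG hM ha).1)
    rw [show g⁻¹ * (g * a * g⁻¹) * g⁻¹⁻¹ = a by group] at h'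
    exact haσ h'
  have mixed : ∀ {b c : G}, b ∈ typeA M → c ∈ hatConj M K → orderOf b ≠ orderOf c := fun {b c} hb hc he => by
    obtain ⟨q, hq, hd, hκ⟩ := hatConj_prime hG hM hKU hc
    exact d.kappa q hq ((he ▸ hd).trans (Subgroup.orderOf_dvd_natCard L (hL b hb))) hκ.2.2.1 hκ
  rcases typeA0_cases hG hM hKU ha with h | ⟨hK1, h⟩ <;> rcases typeA0_cases hG hM hKU hga with h' | ⟨hK1', h'⟩
  · obtain ⟨-, -, y, hy, hy1, hay⟩ := typeA_fixed hG hM h
    obtain ⟨-, -, y', hy', hy'1, hgay⟩ := typeA_fixed hG hM h'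
    exact d.mem_of_conj hG (hL a h) haσ hy hy1 hay (hL _ h') hy' hy'1 hgay
  · exact absurd ho.symm (mixed h h')
  · exact absurd ho (mixed h' h)
  · obtain ⟨m, hm, z, hz, rfl⟩ := h
    obtain ⟨n, hn, w, hw, he⟩ := h'
    have h1 : (n⁻¹ * g * m) * z * (n⁻¹ * g * m)⁻¹ ∈ hat M K := by
      rw [show (n⁻¹ * g * m) * z * (n⁻¹ * g * m)⁻¹ = w by
        calc _ = n⁻¹ * (g * (m * z * m⁻¹) * g⁻¹) * n := by group
          _ = n⁻¹ * (n * w * n⁻¹) * n := by rw [he]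
          _ = w := by group]
      exact hw
    have h2 : n⁻¹ * g * m ∈ M :=
      (sup_le hKU.hall.1 (inf_le_left.trans (Subgroup.map_subtype_le _))) (hat_ti hG hM hKU.hall hK1 hz h1)
    have := M.mul_mem (M.mul_mem hn h2) (M.inv_mem hm)
    rwa [show n * (n⁻¹ * g * m) * m⁻¹ = g by group] at this

/-- The elements of `A₀(M)` outside `M_σ` have their centralizers in `M`. -/
theorem centralizer_le_of_not_core (hG : IsMinSimpleOddOrder G) (hM : IsCoatom M) {a : G} (ha : a ∈ typeA0 M)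
    (haσ : a ∉ sigmaCore M) : Subgroup.centralizer ({a} : Set G) ≤ M := fun g hg => by
  refine mem_of_fused hG hM ha haσ ?_
  rwa [Subgroup.mem_centralizer_singleton_iff.1 hg, mul_inv_cancel_right]

omit [Finite G] in
/-- A nonempty set of `M` invariant under `M` has `M` as normaliser. -/
theorem normalizer_set_eq (hG : IsMinSimpleOddOrder G) (hM : IsCoatom M) {A : Set G} (hA : A ⊆ (M : Set G))
    (hinv : ∀ m ∈ M, ∀ a ∈ A, m * a * m⁻¹ ∈ A) (hne : ∃ a ∈ A, a ≠ 1) : Subgroup.normalizer A = M := by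
  have hle : M ≤ Subgroup.normalizer A := fun m hm => Subgroup.mem_set_normalizer_iff.2 fun a =>
    ⟨hinv m hm a, fun h => by
      have h2 := hinv m⁻¹ (M.inv_mem hm) _ h
      rwa [show m⁻¹ * (m * a * m⁻¹) * m⁻¹⁻¹ = a by group] at h2⟩
  refine (hM.le_iff.1 hle).resolve_left fun htop => ?_
  have hnorm : (Subgroup.closure A).Normal := ⟨fun x hx g => by
    have h : Subgroup.closure A ≤ cj (Subgroup.closure A) g⁻¹ := (Subgroup.closure_le _).2 fun a ha => by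
      rw [SetLike.mem_coe, Fusion.mem_cj, inv_inv]
      exact Subgroup.subset_closure
        ((Subgroup.mem_set_normalizer_iff.1 (htop.ge (Subgroup.mem_top g)) a).1 ha)
    have h2 := h hx
    rwa [Fusion.mem_cj, inv_inv] at h2⟩
  obtain ⟨a, ha, ha1⟩ := hne
  rcases hG.2.1.eq_bot_or_eq_top_of_normal _ hnorm with h | h
  · exact ha1 (Subgroup.mem_bot.1 (h ▸ Subgroup.subset_closure ha))
  · exact hM.1 (top_le_iff.1 (h ▸ (Subgroup.closure_le M).2 hA))

/-- The properties shared by `A₁(M)`, `A(M)` and `A₀(M)`. -/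
theorem sets_facts (hG : IsMinSimpleOddOrder G) (hM : IsCoatom M) {A : Set G}
    (hA : A = typeA1 M ∨ A = typeA M ∨ A = typeA0 M) :
    typeA1 M ⊆ A ∧ A ⊆ typeA0 M ∧ (∀ m ∈ M, ∀ a ∈ A, m * a * m⁻¹ ∈ A) ∧ Subgroup.normalizer A = M := by
  obtain ⟨h1, h2, h3⟩ : typeA1 M ⊆ A ∧ A ⊆ typeA0 M ∧ ∀ m ∈ M, ∀ a ∈ A, m * a * m⁻¹ ∈ A := by
    rcases hA with rfl | rfl | rfl
    · refine ⟨subset_rfl, fun a ha => Or.inl (typeA1_subset_typeA hG hM ha), fun m hm a ha => ?_⟩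
      rw [typeA1_eq hG hM] at ha ⊢
      exact ⟨(Subgroup.mem_normalizer_iff.1 (le_normalizer_piCoreOf hm) a).1 ha.1,
        fun h => ha.2 (conj_eq_one_iff.1 h)⟩
    · exact ⟨typeA1_subset_typeA hG hM, fun a ha => Or.inl ha, fun m hm a ha => typeA_conj hG hM hm ha⟩
    · exact ⟨fun a ha => Or.inl (typeA1_subset_typeA hG hM ha), subset_rfl, fun m hm a ha => typeA0_conj hG hM hm ha⟩
  obtain ⟨y, hy, hy1⟩ := exists_ne_one (FitParts.sigmaCore_ne_bot hG hM)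
  exact ⟨h1, h2, h3, normalizer_set_eq hG hM (fun a ha => (typeA0_mem hG hM (h2 ha)).1) h3
    ⟨y, h1 (by rw [typeA1_eq hG hM]; exact ⟨hy, hy1⟩), hy1⟩⟩

end Cfsg.Agent.OddLocal.Kappa
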