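import Cfsg.Agent.Lib.OddLocal.KappaTypeData
import Cfsg.Agent.S1363

/-!
The derived subgroup of a maximal subgroup of type II is of Frobenius type.
-/

set_option autoImplicit false
set_option linter.style.haveILetI false

namespace Cfsg.Agent.OddLocal.Kappa

open scoped Pointwise commutatorElement
open Cfsg
open Cfsg.Agent.Fusion (SylIn cj cj_eq_self cj_mono card_cj exists_sylIn exists_sylIn_ge)
open Cfsg.Agent.OddLocal.Uniq
open Cfsg.Agent.OddLocal.Sig
open Cfsg.Agent.OddLocal.RankTwo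
open Cfsg.Agent.OddLocal.TauTwo
open Cfsg.Agent.OddLocal.Prime

universe u

variable {G : Type u} [Group G] [Finite G] {M K U : Subgroup G}

/-- `(M')_F = M_σ` for a nilpotent `M_σ`. -/
theorem fittingHallOf_derived (hG : IsMinSimpleOddOrder G) (hM : IsCoatom M) (hKU : IsSigmaDecomposition M K U)
    (hK1 : K ≠ ⊥) (hnil : Group.IsNilpotent ↥(sigmaCore M)) : fittingHallOf ⁅M, M⁆ = sigmaCore M := by
  set L := ⁅M, M⁆ with hL
  set N := fittingHallOf L with hN
  have hLM : L ≤ M := Subgroup.commutator_le_self M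
  have hNL : N ≤ L := Subgroup.map_subtype_le _
  have hσL : sigmaCore M ≤ L := core_le_derived hG hM
  have hLn : L ≤ Subgroup.normalizer (sigmaCore M : Set G) := hLM.trans le_normalizer_piCoreOf
  have hc := derived_compl hG hM hKU hK1
  have hLn' : M ≤ Subgroup.normalizer (L : Set G) := fun m hm => Fusion.mem_normalizer_of_cj_le (by
    rw [hL, cj, Subgroup.map_commutator, ← cj, cj_eq_self (Subgroup.le_normalizer hm)])
  haveI hNnil : Group.IsNilpotent ↥N := by
    haveI := TypePBasic.fittingOf_nilpotent L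
    exact isNilpotent_of_le (Y := fittingOf L) (Subgroup.map_mono TypePBasic.fittingHall_le_fitting)
  refine le_antisymm (le_of_hall (sigmaCore_hall hG hM).1 le_normalizer_piCoreOf (hNL.trans hLM) fun q hq hqd => ?_) ?_
  · haveI := Fact.mk hq
    obtain ⟨Q, hQ⟩ := exists_sylIn (p := q) N
    have hQ1 : Q ≠ ⊥ := fun h => hQ.not_dvd (by rw [h, Subgroup.relIndex_bot_left]; exact hqd)
    have hQL : SylIn q Q L := sylIn_of_hallOf (coprime_relIndex_hall (TypePBasic.fittingHallOf_hall L) hNL)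
      (show q ∈ {t | t ∣ Nat.card N} from hqd) hQ
    have hLQ : L ≤ Subgroup.normalizer (Q : Set G) :=
      SigmaSubgroups.sylow_of_nilpotent_normal hNnil (Bender.le_normalizer_map _) hQ
    have hMQ : M ≤ Subgroup.normalizer (Q : Set G) := fun m hm => Fusion.mem_normalizer_of_cj_le (by
      obtain ⟨x, hx, hxm⟩ := hQL.conj_le (Fusion.isPGroup_cj hQ.isPGroup m)
        ((cj_mono hQL.le m).trans (cj_eq_self (hLn' hm)).le)
      rw [Fusion.cj_le_iff, cj_eq_self (hLQ (L.inv_mem hx))] at hxm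
      exact hxm)
    have hQM : SylIn q Q M := by
      refine ⟨hQL.le.trans hLM, hQ.isPGroup, fun hd => ?_⟩
      rw [← Subgroup.relIndex_mul_relIndex Q L M hQL.le hLM] at hd
      rcases (Nat.Prime.dvd_mul hq).1 hd with h | h
      · exact hQL.not_dvd h
      have hcard := (complIn_card hc hLn').1
      have hrel := Subgroup.relIndex_mul_relIndex ⊥ L M bot_le hLM
      rw [Subgroup.relIndex_bot_left, Subgroup.relIndex_bot_left, hcard] at hrel
      rw [Nat.eq_of_mul_eq_mul_left Nat.card_pos hrel] at h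
      have hqL : q ∣ Nat.card L := hqd.trans (Subgroup.card_dvd_of_le hNL)
      rw [(complIn_card (derived_split hG hM hKU hK1) hLn).1] at hqL
      exact ((Nat.Prime.dvd_mul hq).1 hqL).elim
        (fun h' => (hKU.hall.2.1 q hq h).2.2.1 ((sigmaCore_hall hG hM).1.2.1 q hq h'))
        fun h' => (Decomp.U_pi hG hM hKU hq h').2 (hKU.hall.2.1 q hq h)
    obtain ⟨T, hT⟩ := hQM.exists_sylow_subgroupOf
    refine ⟨hq, hqd.trans (Subgroup.card_dvd_of_le (hNL.trans hLM)), T, ?_⟩
    rw [hT, Subgroup.map_subgroupOf_eq_of_le hQM.le]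
    exact (((hM.le_iff).1 hMQ).resolve_left (normalizer_pgroup_ne_top hG hQ.isPGroup hQ1)).le
  · rw [hN, fittingHallOf, ← Subgroup.map_subgroupOf_eq_of_le hσL]
    refine Subgroup.map_mono (le_sSup ⟨(Subgroup.normal_subgroupOf_iff_le_normalizer hσL).2 hLn,
      haveI := hnil; Group.nilpotent_of_mulEquiv (Subgroup.subgroupOfEquivOfLe hσL).symm, ?_⟩)
    rw [Solv.card_subgroupOf hσL]
    refine Nat.coprime_of_dvd fun q hq h1 h2 => (sigmaCore_hall hG hM).1.2.2 q hq
      ((sigmaCore_hall hG hM).1.2.1 q hq h1) ?_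
    rw [← Subgroup.relIndex_mul_relIndex (sigmaCore M) L M hσL hLM]
    exact h2.mul_right _

/-- `M'` is of Frobenius type when `U ≠ 1` and `K ≠ 1`. -/
theorem derived_typeF (hG : IsMinSimpleOddOrder G) (hM : IsCoatom M) (hKU : IsSigmaDecomposition M K U)
    (hK1 : K ≠ ⊥) (hU1 : U ≠ ⊥) : IsOfTypeF ↥⁅M, M⁆ := by
  set L := ⁅M, M⁆ with hL
  have hnil := core_nilpotent_of_U hG hM hKU hU1
  have hF := fittingHallOf_derived hG hM hKU hK1 hnil
  rw [← hL] at hF
  obtain ⟨hσL, hUL, hinf, hmul⟩ : IsComplIn (sigmaCore M) U L := derived_split hG hM hKU hK1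
  have hfit : fittingHall ↥L = (sigmaCore M).subgroupOf L := by
    rw [← hF, fittingHallOf, Subgroup.subgroupOf, Subgroup.comap_map_eq_self_of_injective L.subtype_injective]
  have hLt : L ≠ ⊤ := fun h => hM.1 (top_le_iff.1 (h.ge.trans (Subgroup.commutator_le_self M)))
  have hab := (frame_of_decomp hG hM hKU hK1).abelian
  obtain ⟨U₀, hU₀, hexp, hfree⟩ := exists_free hG hM hKU
  refine ⟨hG.2.2.2 L hLt, hG.1.of_dvd_nat (Subgroup.card_subgroup_dvd_card L), fun h => ?_, fun h => ?_,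
    U.subgroupOf L, fun h => ?_, ?_, ⟨U.subgroupOf L, le_rfl, Subgroup.le_normalizer, ?_, ?_⟩,
    U₀.subgroupOf L, fun x hx => hU₀ hx, ?_, ?_⟩
  · refine FitParts.sigmaCore_ne_bot hG hM ?_
    rw [← hF, fittingHallOf, h, Subgroup.map_bot]
  · refine hU1 (eq_bot_iff.2 fun x hx => hinf.le ⟨?_, hx⟩)
    have h1 : (⟨x, hUL hx⟩ : L) ∈ fittingHall ↥L := h ▸ Subgroup.mem_top _
    rw [hfit] at h1
    exact h1
  · exact hU1 (by rw [← Subgroup.map_subgroupOf_eq_of_le hUL, h, Subgroup.map_bot])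
  · rw [hfit]
    refine Subgroup.isComplement'_of_disjoint_and_mul_eq_univ ?_ (Set.eq_univ_of_forall fun z => ?_)
    · rw [disjoint_iff, eq_bot_iff]
      intro z hz
      exact Subgroup.mem_bot.2 (Subtype.ext (Subgroup.mem_bot.1 (hinf ▸ ⟨hz.1, hz.2⟩ : (z : G) ∈ (⊥ : Subgroup G))))
    · obtain ⟨a, ha, b, hb, e⟩ := hmul z z.2
      exact ⟨⟨a, hσL ha⟩, ha, ⟨b, hUL hb⟩, hb, Subtype.ext e.symm⟩
  · haveI := hab
    exact ⟨⟨fun a b => Subtype.ext (Subtype.ext (congrArg Subtype.val (hab.is_comm.comm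
      (⟨((a : L) : G), a.2⟩ : U) ⟨((b : L) : G), b.2⟩) :))⟩⟩
  · exact fun x _ _ => inf_le_left
  · rw [Monoid.exponent_eq_of_mulEquiv (Subgroup.subgroupOfEquivOfLe (hU₀.trans hUL)), hexp,
      ← Monoid.exponent_eq_of_mulEquiv (Subgroup.subgroupOfEquivOfLe hUL)]
  · intro u hu hu1 x hx hux
    rw [hfit] at hx
    exact Subtype.ext (Subgroup.mem_bot.1 (hfree (u : G) hu (fun h => hu1 (Subtype.ext h)) ▸ Subgroup.mem_inf.2
      ⟨hx, Subgroup.mem_centralizer_singleton_iff.2 (congrArg Subtype.val hux).symm⟩))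

/-- A maximal subgroup with `K` and `U` nontrivial is of Type II. -/
theorem typeII_of_factor (hG : IsMinSimpleOddOrder G) (hM : IsCoatom M) (hKU : IsSigmaDecomposition M K U)
    (hK1 : K ≠ ⊥) (hU1 : U ≠ ⊥) : IsOfTypeII M := by
  have hnil := core_nilpotent_of_U hG hM hKU hU1
  have he := Support.fittingHallOf_eq hG hM hnil
  obtain ⟨D, hP, hD⟩ := exists_typeP hG hM hKU hK1
  obtain rfl := hD he.symm
  have h63 := S1363.result hG M hM K D hKU hK1
  exact ⟨K, D, _, hP, hU1, prime_card hG hM hKU.hall (frame_of_decomp hG hM hKU hK1) hK1 hU1,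
    fitting_ti hG hM hKU hK1 hU1, h63.1, h63.2, derived_typeF hG hM hKU hK1 hU1,
    (fittingHallOf_derived hG hM hKU hK1 hnil).trans he⟩

end Cfsg.Agent.OddLocal.Kappa
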