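import Cfsg.Prelude.Def_LieExceptional
import Cfsg.Agent.Lib.Fusion.PGroupAux
import Cfsg.Agent.Lib.Solv.Basic
import Cfsg.Agent.Lib.Perm.Schmidt

/-!
CN-groups: inheritance by quotients with solvable kernel.
-/

set_option autoImplicit false
open Cfsg
open scoped Pointwise

namespace Cfsg.Agent.OddLocal.CN

variable {G : Type*} [Group G] [Finite G]

/-- prime power elements for different primes commute inside a nilpotent subgroup -/
theorem commute_in {H : Subgroup G} (hH : Group.IsNilpotent H) {p q : ℕ} [Fact p.Prime] [Fact q.Prime]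
    (hpq : p ≠ q) {a b : G} (ha : a ∈ H) (hb : b ∈ H) (hap : ∃ k : ℕ, a ^ p ^ k = 1)
    (hbq : ∃ k : ℕ, b ^ q ^ k = 1) : a * b = b * a := by
  obtain ⟨k, hk⟩ := hap
  obtain ⟨l, hl⟩ := hbq
  have hA : IsPGroup p ↥(Subgroup.zpowers a) := by
    obtain ⟨j, -, hj⟩ := (Nat.dvd_prime_pow (Fact.out : p.Prime)).1 (orderOf_dvd_of_pow_eq_one hk)
    exact IsPGroup.of_card (n := j) (by rw [Nat.card_zpowers, hj])
  have hB : IsPGroup q ↥(Subgroup.zpowers b) := by
    obtain ⟨j, -, hj⟩ := (Nat.dvd_prime_pow (Fact.out : q.Prime)).1 (orderOf_dvd_of_pow_eq_one hl)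
    exact IsPGroup.of_card (n := j) (by rw [Nat.card_zpowers, hj])
  have h := Cfsg.Agent.Perm.commute_of_le_nilpotent hH hpq hA hB (Subgroup.zpowers_le.2 ha)
    (Subgroup.zpowers_le.2 hb) (Subgroup.mem_zpowers a)
  exact (Subgroup.mem_centralizer_iff.1 h b (Subgroup.mem_zpowers b)).symm

omit [Finite G] in
/-- a finite group in which prime power elements for different primes commute is nilpotent -/
theorem nilpotent_of_commute {C : Subgroup G} [Finite ↥C]
    (h : ∀ p q : ℕ, p.Prime → q.Prime → p ≠ q → ∀ a ∈ C, ∀ b ∈ C,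
      (∃ k : ℕ, a ^ p ^ k = 1) → (∃ k : ℕ, b ^ q ^ k = 1) → a * b = b * a) :
    Group.IsNilpotent C := by
  refine Cfsg.Agent.Perm.nilpotent_of_sylow_normal fun p hp P => ?_
  rw [← Subgroup.normalizer_eq_top_iff, ← Subgroup.index_eq_one, Nat.eq_one_iff_not_exists_prime_dvd]
  intro q hq hd
  haveI := Fact.mk hq
  rcases eq_or_ne q p with rfl | hne
  · exact P.not_dvd_index (hd.trans (Subgroup.index_dvd_of_le Subgroup.le_normalizer))
  · obtain ⟨Q⟩ : Nonempty (Sylow q ↥C) := inferInstance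
    refine Q.not_dvd_index (hd.trans (Subgroup.index_dvd_of_le (le_trans ?_ (Subgroup.centralizer_le_normalizer _))))
    intro x hx
    refine Subgroup.mem_centralizer_iff.2 fun y hy => Subtype.ext ?_
    obtain ⟨k, hk⟩ := Q.isPGroup' ⟨x, hx⟩
    obtain ⟨l, hl⟩ := P.isPGroup' ⟨y, hy⟩
    exact h p q hp.out hq (Ne.symm hne) _ y.2 _ x.2 ⟨l, congrArg (fun z => ((z : ↥C) : G)) (congrArg Subtype.val hl)⟩
      ⟨k, congrArg (fun z => ((z : ↥C) : G)) (congrArg Subtype.val hk)⟩

omit [Finite G] in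
theorem congr {K : Type*} [Group K] (e : G ≃* K) (h : IsCNGroup G) : IsCNGroup K := by
  intro k hk
  have h1 := h (e.symm k) (fun he => hk (by rw [← e.apply_symm_apply k, he, map_one]))
  let f : ↥(Subgroup.centralizer ({k} : Set K)) →* ↥(Subgroup.centralizer ({e.symm k} : Set G)) :=
    MonoidHom.mk' (fun x => ⟨e.symm x, Subgroup.mem_centralizer_singleton_iff.2 (by
      rw [← map_mul, ← map_mul, Subgroup.mem_centralizer_singleton_iff.1 x.2])⟩)
      fun a b => Subtype.ext (map_mul e.symm a.1 b.1)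
  haveI := h1
  exact Group.nilpotent_of_mulEquiv (MulEquiv.ofBijective f ⟨fun a b hab => Subtype.ext (e.symm.injective (congrArg Subtype.val hab)),
    fun y => ⟨⟨e y, Subgroup.mem_centralizer_singleton_iff.2 (by
      have := congrArg e (Subgroup.mem_centralizer_singleton_iff.1 y.2)
      simpa using this)⟩, Subtype.ext (e.symm_apply_apply _)⟩⟩).symm

/-- the preimage of the centraliser of an element of prime order modulo an abelian normal
`p`-subgroup has nilpotent image -/
theorem quotient_centralizer (hCN : IsCNGroup G) {p : ℕ} [Fact p.Prime] (M : Subgroup G) [M.Normal]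
    (hM1 : M ≠ ⊥) (hMp : IsPGroup p M) {q : ℕ} [Fact q.Prime] {g : G ⧸ M}
    (hg : orderOf g = q) : Group.IsNilpotent (Subgroup.centralizer ({g} : Set (G ⧸ M))) := by
  obtain ⟨C, hC⟩ : ∃ C, C = (Subgroup.centralizer ({g} : Set (G ⧸ M))).comap (QuotientGroup.mk' M) := ⟨_, rfl⟩
  have hqn : ∀ c : G, c ∈ C → ∀ z : G, QuotientGroup.mk' M z = g → z * c * z⁻¹ * c⁻¹ ∈ M := by
    intro c hc z hz
    rw [hC, Subgroup.mem_comap, Subgroup.mem_centralizer_singleton_iff] at hc
    rw [← QuotientGroup.eq_one_iff, ← QuotientGroup.mk'_apply, map_mul, map_mul, map_mul, map_inv, map_inv, hz, ← hc]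
    group
  have hmap : C.map (QuotientGroup.mk' M) = Subgroup.centralizer ({g} : Set (G ⧸ M)) :=
    hC ▸ Subgroup.map_comap_eq_self_of_surjective (QuotientGroup.mk'_surjective M) _
  have hMC : M ≤ C := hC ▸ QuotientGroup.le_comap_mk' M _
  have hq1 : g ≠ 1 := fun h => (Fact.out : q.Prime).ne_one (by rw [← hg, h, orderOf_one])
  by_cases hqp : q = p
  · subst hqp
    obtain ⟨x, hx⟩ := QuotientGroup.mk'_surjective M g
    have hxM : x ∉ M := fun h => hq1 (hx ▸ (QuotientGroup.eq_one_iff x).2 h)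
    have hxC : x ∈ C := hC ▸ (Subgroup.mem_centralizer_singleton_iff.2 (by rw [hx]))
    obtain ⟨P, hP⟩ : ∃ P, P = (Subgroup.zpowers g).comap (QuotientGroup.mk' M) := ⟨_, rfl⟩
    have hPp : IsPGroup q P := by
      obtain ⟨n, hn⟩ := IsPGroup.iff_card.1 hMp
      exact IsPGroup.of_card (n := n + 1) (by
        rw [hP, Cfsg.Agent.Solv.card_comap_mk', Nat.card_zpowers, hg, hn, pow_succ'])
    have hxP : x ∈ P := hP ▸ (hx ▸ Subgroup.mem_zpowers (QuotientGroup.mk' M x))
    have hMP : M ≤ P := hP ▸ QuotientGroup.le_comap_mk' M _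
    have hCP : C ≤ Subgroup.normalizer (P : Set G) := by
      refine le_trans ?_ (hP ▸ Subgroup.le_normalizer_comap (QuotientGroup.mk' M))
      rw [hC]
      refine Subgroup.comap_mono (le_trans ?_ (Subgroup.centralizer_le_normalizer _))
      intro c hc
      refine Subgroup.mem_centralizer_iff.2 fun y hy => ?_
      obtain ⟨j, rfl⟩ := hy
      exact (Commute.zpow_left (Subgroup.mem_centralizer_singleton_iff.1 hc).symm j).eq
    have hcent : ∀ U : Subgroup G, IsPGroup q U → P ≤ U →
        ∃ z ∈ M, z ≠ 1 ∧ ∀ u ∈ U, u * z = z * u := by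
      intro U hU hPU
      have hne : M.subgroupOf U ≠ ⊥ := by
        rw [Ne, Subgroup.subgroupOf_eq_bot, disjoint_iff, inf_eq_left.2 (hMP.trans hPU)]
        exact hM1
      obtain ⟨z, hz, hz1, hzc⟩ := Cfsg.Agent.Fusion.exists_central_of_normal hU (M.subgroupOf U) hne
      exact ⟨z, hz, fun h => hz1 (Subtype.ext h), fun u hu => congrArg Subtype.val (Subgroup.mem_center_iff.1 hzc ⟨u, hu⟩)⟩
    -- elements of order prime to `q` centralise `P`
    have hkey : ∀ r : ℕ, r.Prime → r ≠ q → ∀ y ∈ C, (∃ k : ℕ, y ^ r ^ k = 1) → ∀ u ∈ P, y * u = u * y := by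
      intro r hr hrq y hy hyk
      haveI := Fact.mk hr
      have hmem : ∀ m ∈ M, x⁻¹ * y * x * m * y⁻¹ ∈ M := by
        intro m hm
        have e : x⁻¹ * y * x * m * y⁻¹ = x⁻¹ * (x * y * x⁻¹ * y⁻¹)⁻¹ * x * (y * m * y⁻¹) := by group
        rw [e]
        exact mul_mem (by simpa using (inferInstance : M.Normal).conj_mem _ (inv_mem (hqn y hy x hx)) x⁻¹)
          ((inferInstance : M.Normal).conj_mem _ hm y)
      let f : ↥M → ↥M := fun m => ⟨x⁻¹ * y * x * m * y⁻¹, hmem m m.2⟩
      let σ : Equiv.Perm ↥M := Equiv.ofBijective f (Finite.injective_iff_bijective.1 fun a b h =>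
        Subtype.ext (mul_left_cancel (mul_right_cancel (congrArg Subtype.val h))))
      have hpow : ∀ (n : ℕ) (m : ↥M), (((σ ^ n) m : ↥M) : G) = x⁻¹ * y ^ n * x * m * (y ^ n)⁻¹ := by
        intro n
        induction n with
        | zero => intro m; simp
        | succ n ih =>
          intro m
          rw [pow_succ', Equiv.Perm.mul_apply]
          show x⁻¹ * y * x * (((σ ^ n) m : ↥M) : G) * y⁻¹ = _
          rw [ih m, pow_succ']
          group
      obtain ⟨k, hk⟩ := hyk
      haveI : Fintype ↥M := Fintype.ofFinite _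
      obtain ⟨m, hm⟩ := Equiv.Perm.exists_fixed_point_of_prime (p := r) (n := k) (σ := σ) (by
        rw [← Nat.card_eq_fintype_card]
        obtain ⟨n, hn⟩ := IsPGroup.iff_card.1 hMp
        rw [hn]
        exact fun hd => hrq ((Nat.prime_dvd_prime_iff_eq hr Fact.out).1 (hr.dvd_of_dvd_pow hd))) (by
        refine Equiv.ext fun m => Subtype.ext ?_
        rw [hpow, hk]
        simp)
      have hm' : x⁻¹ * y * x * (m : G) * y⁻¹ = m := congrArg Subtype.val hm
      have hyx : y * (x * (m : G)) = x * (m : G) * y := by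
        calc y * (x * (m : G)) = x * (x⁻¹ * y * x * (m : G) * y⁻¹) * y := by group
          _ = _ := by rw [hm']
      have hxm1 : x * (m : G) ≠ 1 := fun h => hxM (by rw [eq_inv_of_mul_eq_one_left h]; exact inv_mem m.2)
      obtain ⟨z, hzM, hz1, hzP⟩ := hcent P hPp le_rfl
      have hxmP : x * (m : G) ∈ P := mul_mem hxP (hMP m.2)
      have hqe : ∀ u ∈ P, ∃ j : ℕ, u ^ q ^ j = 1 := fun u hu => by
        obtain ⟨j, hj⟩ := hPp ⟨u, hu⟩
        exact ⟨j, congrArg Subtype.val hj⟩
      have hyz : y * z = z * y := commute_in (hCN _ hxm1) hrq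
        (Subgroup.mem_centralizer_singleton_iff.2 hyx) (Subgroup.mem_centralizer_singleton_iff.2 (hzP _ hxmP).symm)
        ⟨k, hk⟩ (hqe z (hMP hzM))
      intro u hu
      exact commute_in (hCN z hz1) hrq (Subgroup.mem_centralizer_singleton_iff.2 hyz)
        (Subgroup.mem_centralizer_singleton_iff.2 (hzP u hu)) ⟨k, hk⟩ (hqe u hu)
    have hCnil : Group.IsNilpotent C := by
      refine nilpotent_of_commute fun r s hr hs hrs a ha b hb hak hbk => ?_
      have hmixed : ∀ r : ℕ, r.Prime → r ≠ q → ∀ a ∈ C, (∃ k : ℕ, a ^ r ^ k = 1) →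
          ∀ b ∈ C, (∃ k : ℕ, b ^ q ^ k = 1) → a * b = b * a := by
        intro r hr hrq a ha hak b hb hbk
        haveI := Fact.mk hr
        have hUp : IsPGroup q ↥(Subgroup.zpowers b ⊔ P) := by
          refine IsPGroup.to_sup_of_normal_right' ?_ hPp (Subgroup.zpowers_le.2 (hCP hb))
          obtain ⟨l, hl⟩ := hbk
          obtain ⟨j, -, hj⟩ := (Nat.dvd_prime_pow (Fact.out : q.Prime)).1 (orderOf_dvd_of_pow_eq_one hl)
          exact IsPGroup.of_card (n := j) (by rw [Nat.card_zpowers, hj])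
        obtain ⟨z, hzM, hz1, hzU⟩ := hcent _ hUp le_sup_right
        exact commute_in (hCN z hz1) hrq
          (Subgroup.mem_centralizer_singleton_iff.2 (hkey r hr hrq a ha hak z (hMP hzM)))
          (Subgroup.mem_centralizer_singleton_iff.2 (hzU b (Subgroup.mem_sup_left (Subgroup.mem_zpowers b)))) hak hbk
      haveI := Fact.mk hr
      haveI := Fact.mk hs
      rcases eq_or_ne r q with rfl | hrq
      · exact (hmixed s hs (Ne.symm hrs) b hb hbk a ha hak).symm
      · rcases eq_or_ne s q with rfl | hsq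
        · exact hmixed r hr hrq a ha hak b hb hbk
        · have hx1 : x ≠ 1 := fun h => hxM (h ▸ one_mem M)
          exact commute_in (hCN x hx1) hrs
            (Subgroup.mem_centralizer_singleton_iff.2 (hkey r hr hrq a ha hak x hxP))
            (Subgroup.mem_centralizer_singleton_iff.2 (hkey s hs hsq b hb hbk x hxP)) hak hbk
    rw [← hmap]
    haveI := hCnil
    exact Group.nilpotent_of_surjective _ ((QuotientGroup.mk' M).subgroupMap_surjective C)
  · obtain ⟨n, hn⟩ := IsPGroup.iff_card.1 hMp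
    obtain ⟨P, hP⟩ : ∃ P, P = (Subgroup.zpowers g).comap (QuotientGroup.mk' M) := ⟨_, rfl⟩
    have hMP : M ≤ P := hP ▸ QuotientGroup.le_comap_mk' M _
    have hcardP : Nat.card P = q * p ^ n := by
      rw [hP, Cfsg.Agent.Solv.card_comap_mk', Nat.card_zpowers, hg, hn]
    obtain ⟨x₀, hx₀⟩ := exists_prime_orderOf_dvd_card' (G := ↥P) q (hcardP ▸ dvd_mul_right q _)
    have hxo : orderOf (x₀ : G) = q := (Subgroup.orderOf_coe x₀).trans hx₀
    have hxM : (x₀ : G) ∉ M := fun h => hqp ((Nat.prime_dvd_prime_iff_eq (Fact.out : q.Prime) (Fact.out : p.Prime)).1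
      ((Fact.out : q.Prime).dvd_of_dvd_pow (hn ▸ hxo ▸ (Subgroup.orderOf_mk (x₀ : G) h ▸ orderOf_dvd_natCard _))))
    obtain ⟨i, hi⟩ : QuotientGroup.mk' M (x₀ : G) ∈ Subgroup.zpowers g := by
      have := x₀.2
      exact hP.le this
    have hgx : Subgroup.zpowers (QuotientGroup.mk' M (x₀ : G)) = Subgroup.zpowers g := by
      refine Subgroup.eq_of_le_of_card_ge (Subgroup.zpowers_le.2 ⟨i, hi⟩) ?_
      rw [Nat.card_zpowers, Nat.card_zpowers, hg]
      exact (orderOf_eq_prime (by rw [← QuotientGroup.mk_pow, show (x₀ : G) ^ q = 1 from hxo ▸ pow_orderOf_eq_one _, QuotientGroup.mk_one])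
        (fun h => hxM ((QuotientGroup.eq_one_iff _).1 h))).ge
    obtain ⟨j, hj⟩ : g ∈ Subgroup.zpowers (QuotientGroup.mk' M (x₀ : G)) := hgx ▸ Subgroup.mem_zpowers g
    set x : G := (x₀ : G) ^ j with hxdef
    have hx : QuotientGroup.mk' M x = g := by rw [hxdef, map_zpow]; exact hj
    have hxP : x ∈ P := zpow_mem x₀.2 j
    have hx1 : x ≠ 1 := fun h => hq1 (by rw [← hx, h, map_one])
    have hxq : orderOf x = q := orderOf_eq_prime (by
      rw [hxdef, ← zpow_natCast, ← zpow_mul, mul_comm, zpow_mul, zpow_natCast, ← hxo,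
        pow_orderOf_eq_one, one_zpow]) hx1
    have hcover : Subgroup.centralizer ({g} : Set (G ⧸ M)) =
        (Subgroup.centralizer ({x} : Set G)).map (QuotientGroup.mk' M) := by
      refine le_antisymm ?_ ?_
      · rw [← hmap]
        rintro _ ⟨c, hc, rfl⟩
        have hy : c⁻¹ * x * c ∈ P := by
          rw [hP, Subgroup.mem_comap, map_mul, map_mul, map_inv, hx]
          rw [hC] at hc
          have := Subgroup.mem_centralizer_singleton_iff.1 hc
          rw [mul_assoc, ← this, inv_mul_cancel_left]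
          exact Subgroup.mem_zpowers g
        have hsyl : ∀ u : ↥P, orderOf u = q → ∃ S : Sylow q ↥P, (S : Subgroup ↥P) = Subgroup.zpowers u := by
          intro u hu
          refine ⟨Sylow.ofCard (Subgroup.zpowers u) ?_, rfl⟩
          rw [Nat.card_zpowers, hu, hcardP, Nat.factorization_mul (Fact.out : q.Prime).ne_zero
            (pow_ne_zero _ (Fact.out : p.Prime).ne_zero), Finsupp.add_apply,
            (Fact.out : q.Prime).factorization_self, Nat.Prime.factorization_pow (Fact.out : p.Prime),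
            Finsupp.single_eq_of_ne hqp, add_zero, pow_one]
        obtain ⟨S, hS⟩ := hsyl ⟨x, hxP⟩ ((Subgroup.orderOf_coe _).symm.trans hxq)
        obtain ⟨T, hT⟩ := hsyl ⟨c⁻¹ * x * c, hy⟩ (by
          rw [← Subgroup.orderOf_coe]
          show orderOf (c⁻¹ * x * c) = q
          rw [← MulAut.conj_symm_apply, MulEquiv.orderOf_eq, hxq])
        obtain ⟨h, hh⟩ := MulAction.exists_smul_eq ↥P S T
        have h1 : (⟨c⁻¹ * x * c, hy⟩ : ↥P) ∈ MulAut.conj h • (S : Subgroup ↥P) := by
          rw [← Sylow.pointwise_smul_def, ← Sylow.smul_def, hh, hT]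
          exact Subgroup.mem_zpowers _
        rw [hS, Cfsg.Agent.Solv.mem_conj_smul] at h1
        obtain ⟨k, hk⟩ := h1
        have hk' : x ^ k = (h : G)⁻¹ * (c⁻¹ * x * c) * (h : G) := by
          have := congrArg Subtype.val hk
          simpa using this
        have hhg : ∃ l : ℤ, g ^ l = QuotientGroup.mk' M (h : G) := hP.le h.2
        obtain ⟨l, hl⟩ := hhg
        have hk1 : x ^ k = x := by
          have e := congrArg (QuotientGroup.mk' M) hk'
          rw [map_zpow, hx, map_mul, map_mul, map_mul, map_mul, map_inv, map_inv, hx, ← hl] at e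
          rw [hC] at hc
          rw [mul_assoc _ g, ← Subgroup.mem_centralizer_singleton_iff.1 hc, inv_mul_cancel_left,
            (Commute.self_zpow g l).inv_right.symm.eq, mul_assoc, inv_mul_cancel, mul_one] at e
          have hd : (q : ℤ) ∣ k - 1 := by
            rw [← hg, orderOf_dvd_iff_zpow_eq_one, zpow_sub, e, zpow_one, mul_inv_cancel]
          obtain ⟨t, ht⟩ := hd
          rw [show k = 1 + (q : ℤ) * t by linarith, zpow_add, zpow_one, zpow_mul, zpow_natCast, ← hxq,
            pow_orderOf_eq_one, one_zpow, mul_one]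
        rw [hk1] at hk'
        refine ⟨c * h * x ^ (-l), mul_mem (Subgroup.mem_centralizer_singleton_iff.2 ?_)
          (Subgroup.mem_centralizer_singleton_iff.2 ((Commute.self_zpow x (-l)).symm.eq)), ?_⟩
        · calc c * (h : G) * x = c * (h : G) * ((h : G)⁻¹ * (c⁻¹ * x * c) * (h : G)) := by rw [← hk']
            _ = x * (c * (h : G)) := by group
        · rw [map_mul, map_mul, map_zpow, hx, ← hl, mul_assoc, ← zpow_add, add_neg_cancel, zpow_zero, mul_one]
      · rintro _ ⟨c, hc, rfl⟩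
        rw [Subgroup.mem_centralizer_singleton_iff, ← hx, ← map_mul, ← map_mul,
          Subgroup.mem_centralizer_singleton_iff.1 hc]
    rw [hcover]
    haveI := hCN x hx1
    exact Group.nilpotent_of_surjective _ ((QuotientGroup.mk' M).subgroupMap_surjective _)

/-- CN-groups modulo an abelian normal `p`-subgroup are CN-groups -/
theorem quotient_pgroup (hCN : IsCNGroup G) {p : ℕ} [Fact p.Prime] (M : Subgroup G) [M.Normal]
    (hM1 : M ≠ ⊥) (hMp : IsPGroup p M) : IsCNGroup (G ⧸ M) := by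
  intro g hg
  obtain ⟨q, hq, hd⟩ := Nat.exists_prime_and_dvd (mt orderOf_eq_one_iff.1 hg)
  haveI := Fact.mk hq
  obtain ⟨m, hm⟩ := hd
  have hm0 : m ≠ 0 := fun h => (orderOf_pos g).ne' (by rw [hm, h, mul_zero])
  have ho : orderOf (g ^ m) = q := by
    rw [orderOf_pow' _ hm0, hm, Nat.gcd_eq_right (dvd_mul_left m q), Nat.mul_div_cancel _ (Nat.pos_of_ne_zero hm0)]
  refine Cfsg.Agent.Solv.isNilpotent_of_le ?_ (quotient_centralizer hCN M hM1 hMp ho)
  intro c hc
  exact Subgroup.mem_centralizer_singleton_iff.2 (Commute.pow_right (Subgroup.mem_centralizer_singleton_iff.1 hc) m).eq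

end Cfsg.Agent.OddLocal.CN
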