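import Cfsg.Agent.Lib.OddLocal.CNMinimal
import Cfsg.Agent.S1477

/-!
Maximal nilpotent subgroups of a minimal simple CN-group of odd order are the Frobenius kernels of
the maximal subgroups; they are TI-subgroups and form a single class for each prime.
-/

set_option autoImplicit false

namespace Cfsg.Agent.OddLocal.CNMin

open Cfsg
open Cfsg.Agent.Fusion (SylIn cj exists_sylIn_ge sylIn_top sylIn_map mem_normalizer_iff_cj)

universe u

variable {G : Type u} [Group G] [Finite G]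

/-- `H` is a maximal nilpotent subgroup. -/
def IsMaxNilpotent (H : Subgroup G) : Prop :=
  Group.IsNilpotent H ∧ ∀ L : Subgroup G, Group.IsNilpotent L → H ≤ L → L = H

theorem exists_maxNilpotent_ge {H : Subgroup G} (hH : Group.IsNilpotent H) :
    ∃ M, IsMaxNilpotent M ∧ H ≤ M := by
  obtain ⟨M, hle, hM⟩ := Finite.exists_le_maximal (p := fun L : Subgroup G => Group.IsNilpotent L) (a := H) hH
  exact ⟨M, ⟨hM.1, fun L hL hML => le_antisymm (hM.2 hL hML) hML⟩, hle⟩

theorem IsMaxNilpotent.conj {H : Subgroup G} (h : IsMaxNilpotent H) (g : G) : IsMaxNilpotent (cj H g) := by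
  refine ⟨?_, fun L hL hle => ?_⟩
  · haveI := h.1
    exact (Group.isNilpotent_congr (H.equivMapOfInjective _ (MulAut.conj g).injective)).1 h.1
  · have h1 : cj L g⁻¹ = H := by
      refine h.2 _ ?_ (by rw [← Fusion.cj_cj_inv H g]; exact Fusion.cj_mono hle _)
      haveI := hL
      exact (Group.isNilpotent_congr (L.equivMapOfInjective _ (MulAut.conj g⁻¹).injective)).1 hL
    rw [← h1, Fusion.cj_inv_cj]

theorem zpowers_nilpotent (x : G) : Group.IsNilpotent (Subgroup.zpowers x) := by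
  letI : CommGroup (Subgroup.zpowers x) := IsCyclic.commGroup
  infer_instance

variable {p : ℕ} [hp : Fact p.Prime]

theorem le_sylow_of_nilpotent {L : Subgroup G} (hL : Group.IsNilpotent L) {T : Subgroup G} (hT : SylIn p T L)
    {A : Subgroup G} (hA : IsPGroup p A) (hAL : A ≤ L) : A ≤ T := by
  obtain ⟨P, hP⟩ := hT.exists_sylow_subgroupOf
  obtain ⟨Q, hQ⟩ := (hA.comap_subtype (K := L)).exists_le_sylow
  haveI := Sylow.unique_of_normal P (Perm.sylow_normal_of_nilpotent hL P)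
  rw [Subsingleton.elim Q P, hP] at hQ
  intro a ha
  exact hQ (show (⟨a, hAL ha⟩ : L) ∈ A.comap L.subtype from ha)

theorem normalizes_sylow {L : Subgroup G} (hL : Group.IsNilpotent L) {T : Subgroup G} (hT : SylIn p T L)
    {g : G} (hg : g ∈ Subgroup.normalizer (L : Set G)) : g ∈ Subgroup.normalizer (T : Set G) :=
  Fusion.mem_normalizer_of_cj_le (le_sylow_of_nilpotent hL hT (Fusion.isPGroup_cj hT.isPGroup g)
    ((Fusion.cj_mono hT.le g).trans (Fusion.cj_eq_self hg).le))

theorem central_of_sylow {L : Subgroup G} (hL : Group.IsNilpotent L) {T : Subgroup G} (hT : SylIn p T L)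
    {z : G} (hz : z ∈ T) (hzc : ∀ t ∈ T, t * z = z * t) : L ≤ Subgroup.centralizer ({z} : Set G) := by
  rw [← Subgroup.relIndex_eq_one, Subgroup.relIndex, Nat.eq_one_iff_not_exists_prime_dvd]
  intro q hq hd
  haveI := Fact.mk hq
  obtain ⟨Q⟩ : Nonempty (Sylow q ↥L) := inferInstance
  refine Q.not_dvd_index (hd.trans (Subgroup.index_dvd_of_le fun c hc => ?_))
  obtain ⟨k, hk⟩ := Q.isPGroup' ⟨c, hc⟩
  have hk' : (c : G) ^ q ^ k = 1 := congrArg (fun w => ((w : L) : G)) (congrArg Subtype.val hk)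
  obtain ⟨l, hl⟩ := hT.isPGroup ⟨z, hz⟩
  rw [Subgroup.mem_subgroupOf, Subgroup.mem_centralizer_singleton_iff]
  rcases eq_or_ne q p with rfl | hqp
  · refine hzc _ (le_sylow_of_nilpotent hL hT ?_ ?_ (Subgroup.mem_zpowers (c : G)))
    · exact IsPGroup.of_card (n := (Nat.dvd_prime_pow hq).1 (orderOf_dvd_of_pow_eq_one hk') |>.choose) (by
        rw [Nat.card_zpowers]
        exact ((Nat.dvd_prime_pow hq).1 (orderOf_dvd_of_pow_eq_one hk')).choose_spec.2)
    · exact Subgroup.zpowers_le.2 c.2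
  · exact CN.commute_in hL hqp c.2 (hT.le hz) ⟨k, hk'⟩ ⟨l, congrArg Subtype.val hl⟩

theorem exists_dvd_of_ne_bot {H : Subgroup G} (hne : H ≠ ⊥) : ∃ q : ℕ, q.Prime ∧ q ∣ Nat.card H :=
  Nat.exists_prime_and_dvd fun h1 => hne (Subgroup.card_eq_one.1 h1)

theorem sylIn_ne_bot {T H : Subgroup G} (hT : SylIn p T H) (hd : p ∣ Nat.card H) : T ≠ ⊥ := fun h0 => by
  refine hT.not_dvd ?_
  rw [h0, Subgroup.relIndex_bot_left]
  exact hd

variable (hG : IsMinSimpleOddOrder G) (hCN : IsCNGroup G)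
include hG

theorem maxNilpotent_ne_bot {H : Subgroup G} (h : IsMaxNilpotent H) : H ≠ ⊥ := by
  intro h0
  haveI := hG.2.1
  obtain ⟨x, hx⟩ := exists_ne (1 : G)
  have hc : Group.IsNilpotent (Subgroup.zpowers x) := zpowers_nilpotent x
  exact hx (Subgroup.zpowers_eq_bot.1 ((h.2 _ hc (h0 ▸ bot_le)).trans h0))

include hCN

theorem coatom_kernel {M : Subgroup G} (hM : IsCoatom M) : ∃ K, IsKernel M K := by
  rcases subgroup_shape (hG.2.2.2 M hM.1) hG.1 hCN with h | ⟨q, hq, h⟩ | h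
  · exfalso
    have hne : M ≠ ⊥ := by
      intro h0
      subst h0
      haveI := hG.2.1
      obtain ⟨x, hx⟩ := exists_ne (1 : G)
      have htop : Subgroup.zpowers x = ⊤ := hM.2 _ (bot_lt_iff_ne_bot.2 fun h => hx (Subgroup.zpowers_eq_bot.1 h))
      exact nilpotent_ne_top hG (zpowers_nilpotent x) htop
    obtain ⟨q, hq, hqd⟩ := exists_dvd_of_ne_bot hne
    haveI := Fact.mk hq
    obtain ⟨T, hT⟩ := Fusion.exists_sylIn (p := q) M
    have hTne := sylIn_ne_bot hT hqd
    have hle : M ≤ Subgroup.normalizer (T : Set G) := fun g hg =>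
      normalizes_sylow h hT (Subgroup.le_normalizer hg)
    have heq : Subgroup.normalizer (T : Set G) = M :=
      (hM.le_iff.1 hle).resolve_left (not_normal_of_ne_bot hG hTne fun hT' => hM.1 (eq_top_iff.2 (hT' ▸ hT.le)))
    obtain ⟨S, hS⟩ := sylow_of_subtype hCN hT heq.le
    obtain ⟨-, hnn, -⟩ := sylow_normalizer hG hCN S (hS ▸ hTne)
    rw [hS, heq] at hnn
    exact hnn h
  · haveI := Fact.mk hq
    exact absurd h (no_threeStep hG hCN M)
  · exact h

theorem sylow_normalizer_coatom (S : Sylow p G) (hS : (S : Subgroup G) ≠ ⊥) :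
    IsCoatom (Subgroup.normalizer ((S : Subgroup G) : Set G)) := by
  obtain ⟨heq, -, -⟩ := sylow_normalizer hG hCN S hS
  obtain ⟨-, -, -, hproper⟩ := zj_facts hG S.isPGroup' hS
  rw [heq] at hproper
  obtain ⟨M, hM, hle⟩ := (eq_top_or_exists_le_coatom _).resolve_left hproper
  obtain ⟨K, hK⟩ := coatom_kernel hG hCN hM
  have hSK : (S : Subgroup G) ≤ K := by
    have h := sylow_le_commutator hG S hS
    rw [heq] at h
    exact (h.trans (Subgroup.commutator_mono hle hle)).trans hK.comm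
  have hMS : M ≤ Subgroup.normalizer ((S : Subgroup G) : Set G) := fun g hg =>
    normalizes_sylow hK.nilp ((sylIn_top S).mono hSK le_top) (hK.norm hg)
  exact le_antisymm hle hMS ▸ hM

theorem kernel_data {H : Subgroup G} (h : IsMaxNilpotent H) (hd : p ∣ Nat.card H) :
    ∃ S : Sylow p G, (S : Subgroup G) ≠ ⊥ ∧ (S : Subgroup G) ≤ H ∧
      IsKernel (Subgroup.normalizer ((S : Subgroup G) : Set G)) H ∧
      ∀ z ∈ (S : Subgroup G), z ≠ 1 → (∀ s ∈ (S : Subgroup G), s * z = z * s) →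
        Subgroup.centralizer ({z} : Set G) = H := by
  haveI := h.1
  obtain ⟨T, hT⟩ := Fusion.exists_sylIn (p := p) H
  have hTne := sylIn_ne_bot hT hd
  obtain ⟨x, hxT, hx1, hxc⟩ := exists_central (X := G) hT.isPGroup hTne
  have hmaxC : ∀ w : G, w ≠ 1 → H ≤ Subgroup.centralizer ({w} : Set G) → Subgroup.centralizer ({w} : Set G) = H :=
    fun w hw hle => h.2 _ (hCN w hw) hle
  have hCx := hmaxC x hx1 (central_of_sylow h.1 hT hxT hxc)
  obtain ⟨S, hTS⟩ := hT.isPGroup.exists_le_sylow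
  have hcent : ∀ z ∈ (S : Subgroup G), z ≠ 1 → (∀ s ∈ (S : Subgroup G), s * z = z * s) →
      Subgroup.centralizer ({z} : Set G) = H := by
    intro z hz hz1 hzc
    have hzH : z ∈ H := hCx ▸ Subgroup.mem_centralizer_singleton_iff.2 (hzc x (hTS hxT)).symm
    have hzT : z ∈ T := by
      refine le_sylow_of_nilpotent h.1 hT (S.isPGroup'.to_inf_left (K := H)) inf_le_right ⟨hz, hzH⟩
    exact hmaxC z hz1 (central_of_sylow h.1 hT hzT fun t ht => hzc t (hTS ht))
  have hSne : (S : Subgroup G) ≠ ⊥ := fun h0 => hTne (le_bot_iff.1 (h0 ▸ hTS))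
  obtain ⟨z, hz, hz1, hzc⟩ := exists_central (X := G) S.isPGroup' hSne
  have hCz := hcent z hz hz1 hzc
  have hSH : (S : Subgroup G) ≤ H := fun s hs => hCz ▸ Subgroup.mem_centralizer_singleton_iff.2 (hzc s hs)
  refine ⟨S, hSne, hSH, ?_, hcent⟩
  obtain ⟨-, -, K, hK, hSK⟩ := sylow_normalizer hG hCN S hSne
  have hzK : K ≤ Subgroup.centralizer ({z} : Set G) :=
    central_of_sylow hK.nilp ((sylIn_top S).mono hSK le_top) hz hzc
  have hKH : K ≤ H := hzK.trans hCz.le
  have hHK : H ≤ K := fun g hg => by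
    refine hK.mem_of_commute (hSK hz) hz1 (fun k hk => Subgroup.mem_centralizer_singleton_iff.1 (hzK hk))
      (normalizes_sylow h.1 ((sylIn_top S).mono hSH le_top) (Subgroup.le_normalizer hg)) ?_
    exact Subgroup.mem_centralizer_singleton_iff.1 (hCz.ge hg)
  exact le_antisymm hKH hHK ▸ hK

theorem max_eq_of_sylow {H₁ H₂ : Subgroup G} (h₁ : IsMaxNilpotent H₁) (h₂ : IsMaxNilpotent H₂) (S : Sylow p G)
    (hS : (S : Subgroup G) ≠ ⊥) (hS₁ : (S : Subgroup G) ≤ H₁) (hS₂ : (S : Subgroup G) ≤ H₂) : H₁ = H₂ := by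
  obtain ⟨n, hn⟩ := IsPGroup.iff_card.1 S.isPGroup'
  have hd : ∀ H : Subgroup G, (S : Subgroup G) ≤ H → p ∣ Nat.card H := fun H hle => by
    refine dvd_trans ?_ (Subgroup.card_dvd_of_le hle)
    rw [hn]
    exact dvd_pow_self p fun h => hS (Subgroup.eq_bot_of_card_eq _ (by rw [hn, h, pow_zero]))
  obtain ⟨z, hz, hz1, hzc⟩ := exists_central (X := G) S.isPGroup' hS
  have key : ∀ H : Subgroup G, IsMaxNilpotent H → (S : Subgroup G) ≤ H →
      Subgroup.centralizer ({z} : Set G) = H := by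
    intro H hH hle
    obtain ⟨S', -, hS'H, -, hc⟩ := kernel_data hG hCN hH (hd H hle)
    have : (S' : Subgroup G) = S := by
      refine ((sylIn_top S).eq_of_le S'.isPGroup' ?_ le_top)
      exact le_sylow_of_nilpotent hH.1 ((sylIn_top S').mono hS'H le_top) S.isPGroup' hle
    exact hc z (this ▸ hz) hz1 (this ▸ hzc)
  rw [← key H₁ h₁ hS₁, key H₂ h₂ hS₂]

theorem normalizer_eq {H : Subgroup G} (h : IsMaxNilpotent H) (S : Sylow p G) (hS : (S : Subgroup G) ≠ ⊥)
    (hK : IsKernel (Subgroup.normalizer ((S : Subgroup G) : Set G)) H) :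
    Subgroup.normalizer (H : Set G) = Subgroup.normalizer ((S : Subgroup G) : Set G) := by
  refine ((sylow_normalizer_coatom hG hCN S hS).le_iff.1 hK.norm).resolve_left ?_
  exact not_normal_of_ne_bot hG hK.ne_bot (nilpotent_ne_top hG h.1)

theorem coatom_kernel_max {M K : Subgroup G} (hM : IsCoatom M) (hK : IsKernel M K) : IsMaxNilpotent K := by
  obtain ⟨q, hq, hqd⟩ := exists_dvd_of_ne_bot hK.ne_bot
  haveI := Fact.mk hq
  obtain ⟨T, hT⟩ := Fusion.exists_sylIn (p := q) K
  have hTne := sylIn_ne_bot hT hqd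
  have hTM : SylIn q T M := by
    obtain ⟨T', hT', hle⟩ := exists_sylIn_ge hT.isPGroup (hT.le.trans hK.le)
    have : T' ≤ T := le_sylow_of_nilpotent hK.nilp hT hT'.isPGroup fun t ht => by
      obtain ⟨k, hk⟩ := hT'.isPGroup ⟨t, ht⟩
      exact hK.not_dvd hqd (hT'.le ht) (k := k) (congrArg Subtype.val hk)
    exact le_antisymm this hle ▸ hT'
  have hle : M ≤ Subgroup.normalizer (T : Set G) := fun g hg => normalizes_sylow hK.nilp hT (hK.norm hg)
  have heq : Subgroup.normalizer (T : Set G) = M :=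
    (hM.le_iff.1 hle).resolve_left (not_normal_of_ne_bot hG hTne fun hT' => hM.1 (eq_top_iff.2 (hT' ▸ hTM.le)))
  obtain ⟨S, hS⟩ := sylow_of_subtype hCN hTM heq.le
  subst hS
  obtain ⟨H, hH, hKH⟩ := exists_maxNilpotent_ge hK.nilp
  obtain ⟨z, hz, hz1, hzc⟩ := exists_central (X := G) S.isPGroup' hTne
  have hHK : H ≤ K := by
    intro g hg
    have hgM : g ∈ M := heq ▸ normalizes_sylow hH.1 ((sylIn_top S).mono (hT.le.trans hKH) le_top) (Subgroup.le_normalizer hg)
    have hzK := central_of_sylow hK.nilp hT hz hzc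
    refine hK.mem_of_commute (hT.le hz) hz1 (fun k hk => Subgroup.mem_centralizer_singleton_iff.1 (hzK hk)) hgM ?_
    exact Subgroup.mem_centralizer_singleton_iff.1
      (central_of_sylow hH.1 ((sylIn_top S).mono (hT.le.trans hKH) le_top) hz hzc hg)
  exact le_antisymm hKH hHK ▸ hH

/-- Sylow subgroups are TI. -/
theorem sylow_ti (S S' : Sylow p G) (hne : (S : Subgroup G) ⊓ S' ≠ ⊥) : (S : Subgroup G) = S' := by
  suffices ∀ (n : ℕ) (S S' : Sylow p G), Nat.card G - Nat.card ↥((S : Subgroup G) ⊓ S') = n →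
      (S : Subgroup G) ⊓ S' ≠ ⊥ → (S : Subgroup G) = S' from this _ S S' rfl hne
  intro n
  induction n using Nat.strong_induction_on with
  | _ n ih =>
  intro S S' hn hne
  by_contra hd
  obtain ⟨D, hD⟩ : ∃ D, D = (S : Subgroup G) ⊓ S' := ⟨_, rfl⟩
  rw [← hD] at hn hne
  have hDS : D ≠ (S : Subgroup G) := fun h => hd ((sylIn_top S).eq_of_le S'.isPGroup'
    (by rw [← h, hD]; exact inf_le_right) le_top).symm
  have hDS' : D ≠ (S' : Subgroup G) := fun h => hd ((sylIn_top S').eq_of_le S.isPGroup'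
    (by rw [← h, hD]; exact inf_le_left) le_top)
  have hDleS : D ≤ (S : Subgroup G) := hD ▸ inf_le_left
  have hDleS' : D ≤ (S' : Subgroup G) := hD ▸ inf_le_right
  have hA := SylIn.normalizer_growth hDleS hDS S.isPGroup'
  have hB := SylIn.normalizer_growth hDleS' hDS' S'.isPGroup'
  have hDp : IsPGroup p D := S.isPGroup'.to_le hDleS
  obtain ⟨M, hM, hle⟩ := (eq_top_or_exists_le_coatom _).resolve_left (not_normal_of_ne_bot hG hne
    (nilpotent_ne_top hG hDp.isNilpotent))
  obtain ⟨K, hK⟩ := coatom_kernel hG hCN hM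
  obtain ⟨L, hL, hAL, hBL⟩ : ∃ L : Subgroup G, Group.IsNilpotent L ∧
      (S : Subgroup G) ⊓ Subgroup.normalizer (D : Set G) ≤ L ∧ (S' : Subgroup G) ⊓ Subgroup.normalizer (D : Set G) ≤ L := by
    by_cases hdvd : p ∣ Nat.card K
    · refine ⟨K, hK.nilp, fun a ha => ?_, fun a ha => ?_⟩
      · obtain ⟨k, hk⟩ := S.isPGroup' ⟨a, ha.1⟩
        exact hK.not_dvd hdvd (hle ha.2) (k := k) (congrArg Subtype.val hk)
      · obtain ⟨k, hk⟩ := S'.isPGroup' ⟨a, ha.1⟩
        exact hK.not_dvd hdvd (hle ha.2) (k := k) (congrArg Subtype.val hk)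
    · obtain ⟨d, hdD, hd1⟩ := (Subgroup.bot_or_exists_ne_one _).resolve_left hne
      have hbot := Fusion.coprime_inf_pGroup (H := K) (hp.out.coprime_iff_not_dvd.2 hdvd).symm hDp
      have hc : Subgroup.normalizer (D : Set G) ≤ Subgroup.centralizer ({d} : Set G) := by
        intro a ha
        rw [Subgroup.mem_centralizer_singleton_iff]
        have h1 : a * d * a⁻¹ * d⁻¹ ∈ K ⊓ D := by
          refine ⟨hK.comm ?_, D.mul_mem ((Subgroup.mem_normalizer_iff.1 ha d).1 hdD) (D.inv_mem hdD)⟩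
          rw [← commutatorElement_def]
          exact Subgroup.commutator_mem_commutator (hle ha) (hle (Subgroup.le_normalizer hdD))
        rw [hbot, Subgroup.mem_bot, mul_inv_eq_one, mul_inv_eq_iff_eq_mul] at h1
        exact h1
      exact ⟨_, hCN d hd1, inf_le_right.trans hc, inf_le_right.trans hc⟩
  obtain ⟨U, hU⟩ := Fusion.exists_sylIn (p := p) L
  obtain ⟨S'', hS''⟩ := hU.isPGroup.exists_le_sylow
  have hAU := (le_sylow_of_nilpotent hL hU (S.isPGroup'.to_inf_left) hAL).trans hS''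
  have hBU := (le_sylow_of_nilpotent hL hU (S'.isPGroup'.to_inf_left) hBL).trans hS''
  have hcard : ∀ {A B : Subgroup G}, A < B → Nat.card A < Nat.card B := fun {A B} h =>
    lt_of_le_of_ne (Subgroup.card_le_of_le h.le) fun he => h.ne (Subgroup.eq_of_le_of_card_ge h.le he.ge)
  have h1 : D < (S : Subgroup G) ⊓ S'' := lt_of_lt_of_le hA (le_inf inf_le_left hAU)
  have hs1 := hcard h1
  have hb1 := Subgroup.card_le_card_group ((S : Subgroup G) ⊓ S'')
  have heq : (S : Subgroup G) = S'' := ih _ (by omega) S S'' rfl (fun h0 => not_lt_bot (h0 ▸ h1))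
  exact hB.not_ge ((le_inf (hBU.trans heq.ge) inf_le_left).trans hD.ge)

theorem max_ti {H : Subgroup G} (h : IsMaxNilpotent H) (g : G) (hne : H ⊓ cj H g ≠ ⊥) : cj H g = H := by
  obtain ⟨q, hq, hqd⟩ := exists_dvd_of_ne_bot hne
  haveI := Fact.mk hq
  obtain ⟨y, hy⟩ := exists_prime_orderOf_dvd_card' q hqd
  obtain ⟨S, hSne, hSH, hK, -⟩ := kernel_data (p := q) hG hCN h (hqd.trans (Subgroup.card_dvd_of_le inf_le_left))
  have hyp : IsPGroup q (Subgroup.zpowers (y : G)) := IsPGroup.of_card (n := 1)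
    (by rw [Nat.card_zpowers, Subgroup.orderOf_coe, hy, pow_one])
  have h1 : (y : G) ∈ (S : Subgroup G) := le_sylow_of_nilpotent h.1 ((sylIn_top S).mono hSH le_top) hyp
    (Subgroup.zpowers_le.2 y.2.1) (Subgroup.mem_zpowers _)
  obtain ⟨S', hS'⟩ := (show SylIn q (cj (S : Subgroup G) g) ⊤ from by have := (sylIn_top S).cj g; rwa [Fusion.cj_of_normal ⊤] at this).exists_sylow
  have h2 : (y : G) ∈ (S' : Subgroup G) := by
    refine le_sylow_of_nilpotent (h.conj g).1 ((sylIn_top S').mono (by rw [hS']; exact Fusion.cj_mono hSH g) le_top) hyp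
      (Subgroup.zpowers_le.2 y.2.2) (Subgroup.mem_zpowers _)
  have heq := sylow_ti hG hCN S S' (fun h0 => by
    have : (y : G) = 1 := Subgroup.mem_bot.1 (h0 ▸ ⟨h1, h2⟩)
    rw [← Subgroup.orderOf_coe, this, orderOf_one] at hy
    exact hq.ne_one hy.symm)
  have hgN : g ∈ Subgroup.normalizer (H : Set G) := by
    rw [normalizer_eq hG hCN h S hSne hK]
    exact mem_normalizer_iff_cj.2 (hS'.symm.trans heq.symm)
  exact Fusion.cj_eq_self hgN

omit hp in
/-- The data of a maximal nilpotent subgroup. -/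
theorem max_kernel {H : Subgroup G} (h : IsMaxNilpotent H) :
    IsCoatom (Subgroup.normalizer (H : Set G)) ∧ IsKernel (Subgroup.normalizer (H : Set G)) H := by
  obtain ⟨q, hq, hqd⟩ := exists_dvd_of_ne_bot (maxNilpotent_ne_bot hG h)
  haveI := Fact.mk hq
  obtain ⟨S, hS, -, hK, -⟩ := kernel_data (p := q) hG hCN h hqd
  rw [normalizer_eq hG hCN h S hS hK]
  exact ⟨sylow_normalizer_coatom hG hCN S hS, hK⟩

omit hp in
theorem max_hall {H : Subgroup G} (h : IsMaxNilpotent H) : (Nat.card H).Coprime H.index :=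
  (S1477.result hCN H h.1 h.2).1

omit hp in
theorem fittingHallOf_eq {M K : Subgroup G} (hM : IsCoatom M) (hK : IsKernel M K) : fittingHallOf M = K := by
  have hmax := coatom_kernel_max hG hCN hM hK
  refine hmax.2 _ ?_ ?_
  · exact Solv.isNilpotent_of_le (Subgroup.map_mono TypePBasic.fittingHall_le_fitting) (TypePBasic.fittingOf_nilpotent M)
  · rw [← Subgroup.map_subgroupOf_eq_of_le hK.le]
    refine Subgroup.map_mono (le_sSup ⟨(Subgroup.normal_subgroupOf_iff_le_normalizer hK.le).2 hK.norm, ?_, ?_⟩)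
    · haveI := hK.nilp
      exact (Group.isNilpotent_congr (Subgroup.subgroupOfEquivOfLe hK.le).symm).1 hK.nilp
    · rw [Nat.card_congr (Subgroup.subgroupOfEquivOfLe hK.le).toEquiv]
      exact (max_hall hG hCN hmax).coprime_dvd_right (Subgroup.relIndex_dvd_index_of_le hK.le)

end Cfsg.Agent.OddLocal.CNMin
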