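import Cfsg.Agent.Lib.OddLocal.Support

/-!
The cosets `x R(x)` attached to the elements of `M_σ`.
-/

set_option autoImplicit false
set_option linter.style.haveILetI false

namespace Cfsg.Agent.OddLocal.Support

open scoped Pointwise commutatorElement
open Cfsg
open Cfsg.Agent.Fusion (SylIn cj cj_cj cj_eq_self cj_mono card_cj isPGroup_cj exists_sylIn_ge exists_sylIn
  mem_normalizer_of_cj_le)
open Cfsg.Agent.OddLocal.Uniq
open Cfsg.Agent.OddLocal.Sig
open Cfsg.Agent.OddLocal.RankTwo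
open Cfsg.Agent.OddLocal.TauTwo
open Cfsg.Agent.OddLocal.Prime
open Cfsg.Agent.OddLocal.Disjoint (conjugate_of_sigma)

universe u

variable {G : Type u} [Group G] [Finite G] {M : Subgroup G}

/-- Commuting parts for a set of primes and for the others determine each other. -/
theorem parts_unique (π : Set ℕ) {a b c d : G} (hab : Commute a b) (hcd : Commute c d)
    (ha : PiNum π (orderOf a)) (hc : PiNum π (orderOf c))
    (hb : ∀ t : ℕ, t.Prime → t ∣ orderOf b → t ∉ π) (hd : ∀ t : ℕ, t.Prime → t ∣ orderOf d → t ∉ π)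
    (h : a * b = c * d) : a = c ∧ b = d := by
  set m := orderOf b * orderOf d with hm
  set N := orderOf a * orderOf c with hN
  have hco : Nat.Coprime m N := Nat.coprime_of_dvd fun t ht h1 h2 => by
    rcases (Nat.Prime.dvd_mul ht).1 h1 with h1 | h1
    · rcases (Nat.Prime.dvd_mul ht).1 h2 with h2 | h2
      exacts [hb t ht h1 (ha t ht h2), hb t ht h1 (hc t ht h2)]
    · rcases (Nat.Prime.dvd_mul ht).1 h2 with h2 | h2
      exacts [hd t ht h1 (ha t ht h2), hd t ht h1 (hc t ht h2)]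
  have h1 : a ^ m = c ^ m := by
    have h' := congrArg (· ^ m) h
    simp only [hab.mul_pow, hcd.mul_pow] at h'
    rwa [orderOf_dvd_iff_pow_eq_one.1 (Dvd.intro _ hm.symm : orderOf b ∣ m),
      orderOf_dvd_iff_pow_eq_one.1 (Dvd.intro_left _ hm.symm : orderOf d ∣ m), mul_one, mul_one] at h'
  have h2 : a ^ N = c ^ N := by
    rw [orderOf_dvd_iff_pow_eq_one.1 (Dvd.intro _ hN.symm : orderOf a ∣ N),
      orderOf_dvd_iff_pow_eq_one.1 (Dvd.intro_left _ hN.symm : orderOf c ∣ N)]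
  have h3 : a = c := by
    have key : ∀ x : G, x = (x ^ m) ^ Nat.gcdA m N * (x ^ N) ^ Nat.gcdB m N := fun x => by
      rw [← zpow_natCast, ← zpow_natCast, ← zpow_mul, ← zpow_mul, ← zpow_add, ← Nat.gcd_eq_gcd_ab,
        hco.gcd_eq_one, Nat.cast_one, zpow_one]
    rw [key a, key c, h1, h2]
  exact ⟨h3, mul_left_cancel (h3 ▸ h)⟩

theorem sigmaCore_cj (hG : IsMinSimpleOddOrder G) (hM : IsCoatom M) (g : G) :
    sigmaCore (cj M g) = cj (sigmaCore M) g := by
  have hle : ∀ {H : Subgroup G}, IsCoatom H → ∀ a : G, cj (sigmaCore H) a ≤ sigmaCore (cj H a) := fun {H} hH a => by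
    refine le_of_hall (sigmaCore_hall hG (isCoatom_cj hH a)).1 le_normalizer_piCoreOf
      (cj_mono (Subgroup.map_subtype_le _) a) fun t ht htd => ?_
    haveI := Fact.mk ht
    rw [card_cj] at htd
    exact sigma_cj ((sigmaCore_hall hG hH).1.2.1 t ht htd)
  refine le_antisymm ?_ (hle hM g)
  rw [← Fusion.cj_le_cj (g := g⁻¹), Fusion.cj_cj_inv]
  exact (hle (isCoatom_cj hM g) g⁻¹).trans (by rw [Fusion.cj_cj_inv])

theorem centralizer_cj (x g : G) :
    Subgroup.centralizer ({g * x * g⁻¹} : Set G) = cj (Subgroup.centralizer ({x} : Set G)) g := by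
  rw [← centralizer_zpowers, ← centralizer_zpowers, Fusion.cj_centralizer, cj_zpowers]

theorem supportR_bot {x : G} (h : Subgroup.centralizer ({x} : Set G) ≤ M) : supportR M x = ⊥ :=
  dif_neg fun h' => h'.1 h

theorem supportR_eq (hG : IsMinSimpleOddOrder G) (hM : IsCoatom M) {x : G} (hx : x ∈ sigmaCore M) (hx1 : x ≠ 1)
    (hxM : ¬ Subgroup.centralizer ({x} : Set G) ≤ M) {H : Subgroup G} (hH : IsCoatom H)
    (hCH : Subgroup.centralizer ({x} : Set G) ≤ H) :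
    supportR M x = sigmaCore H ⊓ Subgroup.centralizer ({x} : Set G) := by
  obtain ⟨H', hH', hCH', hu, -, -, hnil, -⟩ := over_centralizer hG hM hx hx1 hxM
  have he := hu H hH hCH
  subst he
  have hex : ¬ Subgroup.centralizer ({x} : Set G) ≤ M ∧
      ∃! L : Subgroup G, IsCoatom L ∧ Subgroup.centralizer ({x} : Set G) ≤ L :=
    ⟨hxM, H, ⟨hH, hCH⟩, fun L hL => hu L hL.1 hL.2⟩
  unfold supportR
  rw [dif_pos hex, hu _ (Classical.choose_spec hex.2.exists).1 (Classical.choose_spec hex.2.exists).2,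
    fittingHallOf_eq hG hH hnil]

/-- The facts about an element of `R(x)`. -/
theorem supportR_mem (hG : IsMinSimpleOddOrder G) (hM : IsCoatom M) {x ρ : G} (hx : x ∈ sigmaCore M) (hx1 : x ≠ 1)
    (hρ : ρ ∈ supportR M x) :
    ρ * x = x * ρ ∧ (ρ = 1 ∨ ∃ H : Subgroup G, IsCoatom H ∧ Subgroup.centralizer ({x} : Set G) ≤ H ∧
      ¬ Subgroup.centralizer ({x} : Set G) ≤ M ∧ ρ ∈ sigmaCore H) := by
  by_cases hxM : Subgroup.centralizer ({x} : Set G) ≤ M
  · rw [supportR_bot hxM, Subgroup.mem_bot] at hρ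
    exact ⟨by rw [hρ, one_mul, mul_one], Or.inl hρ⟩
  obtain ⟨H, hH, hCH, -⟩ := over_centralizer hG hM hx hx1 hxM
  rw [supportR_eq hG hM hx hx1 hxM hH hCH] at hρ
  exact ⟨Subgroup.mem_centralizer_singleton_iff.1 hρ.2, Or.inr ⟨H, hH, hCH, hxM, hρ.1⟩⟩

/-- The elements of `R(x)` have orders prime to `σ(M)`. -/
theorem supportR_pi (hG : IsMinSimpleOddOrder G) (hM : IsCoatom M) {x ρ : G} (hx : x ∈ sigmaCore M) (hx1 : x ≠ 1)
    (hρ : ρ ∈ supportR M x) : ∀ t : ℕ, t.Prime → t ∣ orderOf ρ → t ∉ sigma M := by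
  intro t ht htd htσ
  obtain ⟨-, h | ⟨H, hH, hCH, hxM, hρH⟩⟩ := supportR_mem hG hM hx hx1 hρ
  · rw [h, orderOf_one, Nat.dvd_one] at htd
    exact ht.ne_one htd
  obtain ⟨g, hg⟩ := conjugate_of_sigma (hp := Fact.mk ht) hG hM hH htσ
    ((sigmaCore_hall hG hH).1.2.1 t ht (htd.trans (Subgroup.orderOf_dvd_natCard _ hρH)))
  obtain ⟨H', -, -, hu, -, -, -, -, hτ⟩ := over_centralizer hG hM hx hx1 hxM
  obtain ⟨s, n, hs, hsd, -⟩ := exists_prime_power_order hx1
  haveI := Fact.mk hs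
  refine (hu H hH hCH ▸ hτ s hs hsd : s ∈ tau2 H).2.1 (hg ▸ sigma_cj ?_)
  exact (sigmaCore_hall hG hM).1.2.1 s hs (hsd.trans (Subgroup.orderOf_dvd_natCard _ hx))

theorem mem_pi (hG : IsMinSimpleOddOrder G) (hM : IsCoatom M) {x : G} (hx : x ∈ sigmaCore M) :
    PiNum (sigma M) (orderOf x) := fun t ht htd =>
  (sigmaCore_hall hG hM).1.2.1 t ht (htd.trans (Subgroup.orderOf_dvd_natCard _ hx))

/-- Distinct elements have disjoint cosets. -/
theorem coset_disjoint (hG : IsMinSimpleOddOrder G) {N : Subgroup G} (hM : IsCoatom M) (hN : IsCoatom N) {x y r s : G}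
    (hx : x ∈ sigmaCore M) (hy : y ∈ sigmaCore N) (hx1 : x ≠ 1) (hy1 : y ≠ 1) (hxy : x ≠ y)
    (hr : r ∈ supportR M x) (hs : s ∈ supportR N y) : x * r ≠ y * s := by
  intro he
  obtain ⟨hrx, hrH⟩ := supportR_mem hG hM hx hx1 hr
  obtain ⟨hsy, hsL⟩ := supportR_mem hG hN hy hy1 hs
  have hrπ := supportR_pi hG hM hx hx1 hr
  have hsπ := supportR_pi hG hN hy hy1 hs
  by_cases hMN : ∃ g : G, N = cj M g
  · obtain ⟨g, hg⟩ := hMN
    have hy' : PiNum (sigma M) (orderOf y) := fun t ht htd => by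
      haveI := Fact.mk ht
      exact (sigma_eq_of_conj hg).1 (mem_pi hG hN hy t ht htd)
    refine hxy (parts_unique (sigma M) hrx.symm hsy.symm (mem_pi hG hM hx) hy' hrπ (fun t ht htd h => ?_) he).1
    haveI := Fact.mk ht
    exact hsπ t ht htd ((sigma_eq_of_conj hg).2 h)
  push Not at hMN
  have hdisj : ∀ t : ℕ, t.Prime → t ∈ sigma M → t ∉ sigma N := fun t ht h1 h2 => by
    haveI := Fact.mk ht
    obtain ⟨g, hg⟩ := conjugate_of_sigma hG hM hN h1 h2
    exact hMN g hg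
  -- powers of `x r` of the orders involved
  set z := x * r with hz
  have hx_pow : ∀ {t : ℕ}, t.Prime → t ∣ orderOf x → t ∣ orderOf z := fun {t} ht htd => by
    have hco : (orderOf x).Coprime (orderOf r) := Nat.coprime_of_dvd fun u hu h1 h2 =>
      hrπ u hu h2 (mem_pi hG hM hx u hu h1)
    rw [hz, (show Commute x r from hrx.symm).orderOf_mul_eq_mul_orderOf_of_coprime hco]
    exact htd.mul_right _
  have hy_pow : ∀ {t : ℕ}, t.Prime → t ∣ orderOf y → t ∣ orderOf z := fun {t} ht htd => by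
    have hco : (orderOf y).Coprime (orderOf s) := Nat.coprime_of_dvd fun u hu h1 h2 =>
      hsπ u hu h2 (mem_pi hG hN hy u hu h1)
    rw [he, (show Commute y s from hsy.symm).orderOf_mul_eq_mul_orderOf_of_coprime hco]
    exact htd.mul_right _
  obtain ⟨p, n, hp, hpd, -⟩ := exists_prime_power_order hx1
  obtain ⟨q, k, hq, hqd, -⟩ := exists_prime_power_order hy1
  haveI := Fact.mk hp
  haveI := Fact.mk hq
  have hpσ := mem_pi hG hM hx p hp hpd
  have hqσ := mem_pi hG hN hy q hq hqd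
  have hsplit : ∀ {t : ℕ} {a b : G}, Commute a b → t.Prime → t ∣ orderOf (a * b) → t ∣ orderOf a ∨ t ∣ orderOf b :=
    fun {t a b} hc ht h => (Nat.Prime.dvd_mul ht).1 (h.trans hc.orderOf_mul_dvd_mul_orderOf)
  obtain ⟨H, hH, hCH, hxM, hrHσ⟩ : ∃ H : Subgroup G, IsCoatom H ∧ Subgroup.centralizer ({x} : Set G) ≤ H ∧
      ¬ Subgroup.centralizer ({x} : Set G) ≤ M ∧ r ∈ sigmaCore H := by
    refine hrH.resolve_left fun h => ?_
    rw [hz, h, mul_one] at hy_pow
    exact hdisj q hq (mem_pi hG hM hx q hq (hy_pow hq hqd)) hqσ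
  obtain ⟨L, hL, hCL, hyN, hsLσ⟩ : ∃ L : Subgroup G, IsCoatom L ∧ Subgroup.centralizer ({y} : Set G) ≤ L ∧
      ¬ Subgroup.centralizer ({y} : Set G) ≤ N ∧ s ∈ sigmaCore L := by
    refine hsL.resolve_left fun h => ?_
    rw [he, h, mul_one] at hx_pow
    exact hdisj p hp hpσ (mem_pi hG hN hy p hp (hx_pow hp hpd))
  -- `H` is conjugate to `N` and `L` to `M`
  obtain ⟨g, hg⟩ : ∃ g : G, H = cj N g := by
    rcases hsplit hrx.symm hq (hy_pow hq hqd) with h | h
    · exact absurd hqσ (hdisj q hq (mem_pi hG hM hx q hq h))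
    · exact conjugate_of_sigma hG hN hH hqσ (mem_pi hG hH hrHσ q hq h)
  obtain ⟨f, hf⟩ : ∃ f : G, L = cj M f := by
    rcases hsplit (show Commute y s from hsy.symm) hp (he ▸ hx_pow hp hpd) with h | h
    · exact absurd (mem_pi hG hN hy p hp h) (hdisj p hp hpσ)
    · exact conjugate_of_sigma hG hM hL hpσ (mem_pi hG hL hsLσ p hp h)
  -- so `y = r` and `x = s`
  have hyr : s = x ∧ y = r := by
    refine parts_unique (sigma M) (show Commute s y from hsy) (show Commute x r from hrx.symm) (fun t ht htd => ?_)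
      (mem_pi hG hM hx) (fun t ht htd h => hdisj t ht h (mem_pi hG hN hy t ht htd)) hrπ ?_
    · haveI := Fact.mk ht
      exact (sigma_eq_of_conj hf).1 (mem_pi hG hL hsLσ t ht htd)
    · rw [hsy]; exact he.symm
  obtain ⟨hsx, hyr⟩ := hyr
  have hxL : x ∈ L := (Subgroup.map_subtype_le _ : sigmaCore L ≤ L) (hsx ▸ hsLσ)
  have hyL : y ∈ L := hCL (Subgroup.mem_centralizer_singleton_iff.2 rfl)
  obtain ⟨ρ, -, hρL, hρ⟩ := transport hG hM hx hx1 (g := f) (hf ▸ hxL)
  have hρH : ρ ∈ H := by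
    rcases hρ with h | h
    · exact h ▸ one_mem _
    · exact (Subgroup.map_subtype_le _ : sigmaCore H ≤ H) (h.2 H hH hCH)
  obtain ⟨H', -, -, hu, -, hinf, -⟩ := over_centralizer hG hM hx hx1 hxM
  have hinf' : sigmaCore H ⊓ M = ⊥ := hu H hH hCH ▸ hinf
  refine hy1 (Subgroup.mem_bot.1 ?_)
  rw [← Fusion.cj_bot ρ, ← hinf', Fusion.cj_inf, hρL, ← hf,
    cj_eq_self (H := sigmaCore H) (le_normalizer_piCoreOf hρH)]
  exact Subgroup.mem_inf.2 ⟨hyr ▸ hrHσ, hyL⟩

/-- `R(x)` does not depend on the choice of the conjugate of `M` holding `x`. -/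
theorem supportR_indep (hG : IsMinSimpleOddOrder G) (hM : IsCoatom M) {x g : G} (hx : x ∈ sigmaCore M) (hx1 : x ≠ 1)
    (hxg : x ∈ cj M g) : x ∈ sigmaCore (cj M g) ∧ supportR (cj M g) x = supportR M x := by
  obtain ⟨ρ, hρx, hρg, hρ⟩ := transport hG hM hx hx1 hxg
  have hmem : x ∈ sigmaCore (cj M g) := by
    rw [← hρg, sigmaCore_cj hG hM]
    exact ⟨x, hx, by show ρ * x * ρ⁻¹ = x; rw [hρx, mul_inv_cancel_right]⟩
  refine ⟨hmem, ?_⟩
  have hρC : ρ ∈ Subgroup.centralizer ({x} : Set G) := Subgroup.mem_centralizer_singleton_iff.2 hρx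
  have hC : cj (Subgroup.centralizer ({x} : Set G)) ρ = Subgroup.centralizer ({x} : Set G) :=
    Fusion.cj_eq_self_of_mem hρC
  have hiff : Subgroup.centralizer ({x} : Set G) ≤ cj M g ↔ Subgroup.centralizer ({x} : Set G) ≤ M := by
    rw [← hρg]
    conv_lhs => rw [← hC]
    exact Fusion.cj_le_cj
  by_cases hxM : Subgroup.centralizer ({x} : Set G) ≤ M
  · rw [supportR_bot hxM, supportR_bot (hiff.2 hxM)]
  obtain ⟨H, hH, hCH, -⟩ := over_centralizer hG hM hx hx1 hxM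
  rw [supportR_eq hG hM hx hx1 hxM hH hCH,
    supportR_eq hG (isCoatom_cj hM g) hmem hx1 (fun h => hxM (hiff.1 h)) hH hCH]

theorem supportR_cj (hG : IsMinSimpleOddOrder G) (hM : IsCoatom M) {x : G} (hx : x ∈ sigmaCore M) (hx1 : x ≠ 1)
    (g : G) : supportR (cj M g) (g * x * g⁻¹) = cj (supportR M x) g := by
  by_cases hxM : Subgroup.centralizer ({x} : Set G) ≤ M
  · rw [supportR_bot hxM, Fusion.cj_bot, supportR_bot]
    rw [centralizer_cj]
    exact cj_mono hxM g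
  obtain ⟨H, hH, hCH, -⟩ := over_centralizer hG hM hx hx1 hxM
  have hmem : g * x * g⁻¹ ∈ sigmaCore (cj M g) := by
    rw [sigmaCore_cj hG hM]; exact Fusion.conj_mem_cj hx
  rw [supportR_eq hG hM hx hx1 hxM hH hCH, supportR_eq hG (isCoatom_cj hM g) hmem
    (fun h => hx1 (conj_eq_one_iff.1 h)) (by rw [centralizer_cj]; exact fun h => hxM (Fusion.cj_le_cj.1 h))
    (isCoatom_cj hH g) (by rw [centralizer_cj]; exact cj_mono hCH g), Fusion.cj_inf, centralizer_cj,
    sigmaCore_cj hG hH]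

theorem mem_supportR (hG : IsMinSimpleOddOrder G) (hM : IsCoatom M) {x ρ : G} (hx : x ∈ sigmaCore M) (hx1 : x ≠ 1)
    (hρx : ρ * x = x * ρ) (h : ρ = 1 ∨ ¬ Subgroup.centralizer ({x} : Set G) ≤ M ∧
      ∀ L : Subgroup G, IsCoatom L → Subgroup.centralizer ({x} : Set G) ≤ L → ρ ∈ sigmaCore L) :
    ρ ∈ supportR M x := by
  rcases h with h | ⟨hxM, h⟩
  · exact h ▸ one_mem _
  obtain ⟨H, hH, hCH, -⟩ := over_centralizer hG hM hx hx1 hxM
  rw [supportR_eq hG hM hx hx1 hxM hH hCH]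
  exact ⟨h H hH hCH, Subgroup.mem_centralizer_singleton_iff.2 hρx⟩

/-- `R(x)` meets `M` trivially. -/
theorem supportR_inf (hG : IsMinSimpleOddOrder G) (hM : IsCoatom M) {x ρ : G} (hx : x ∈ sigmaCore M) (hx1 : x ≠ 1)
    (hρ : ρ ∈ supportR M x) (hρM : ρ ∈ M) : ρ = 1 := by
  obtain ⟨-, h | ⟨H, hH, hCH, hxM, hρH⟩⟩ := supportR_mem hG hM hx hx1 hρ
  · exact h
  obtain ⟨H', -, -, hu, -, hinf, -⟩ := over_centralizer hG hM hx hx1 hxM
  exact Subgroup.mem_bot.1 ((hu H hH hCH ▸ hinf : sigmaCore H ⊓ M = ⊥) ▸ Subgroup.mem_inf.2 ⟨hρH, hρM⟩)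

open scoped Classical in
/-- The count of the union of the cosets `x R(x)`. -/
theorem card_tilde (hG : IsMinSimpleOddOrder G) (hM : IsCoatom M) :
    Set.ncard (tildeOf M ((sigmaCore M : Set G) \ {1})) = (Nat.card (sigmaCore M) - 1) * M.index := by
  set S : Set G := (sigmaCore M : Set G) \ {1} with hS
  have hSmem : ∀ {a}, a ∈ S ↔ a ∈ sigmaCore M ∧ a ≠ 1 := fun {a} => by simp [hS]
  let X := {x : G // ∃ y : G, y⁻¹ * x * y ∈ S}
  have hbase : ∀ x : X, ∃ y : G, y⁻¹ * x.1 * y ∈ S := fun x => x.2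
  choose y₀ hy₀ using hbase
  have hxin : ∀ x : X, x.1 ∈ sigmaCore (cj M (y₀ x)) ∧ x.1 ≠ 1 := fun x => by
    obtain ⟨h1, h2⟩ := hSmem.1 (hy₀ x)
    refine ⟨by rw [sigmaCore_cj hG hM]; exact Fusion.mem_cj.2 h1, fun h => h2 (by rw [h]; group)⟩
  -- the pairs of a conjugate and an element
  let pt : (G ⧸ M) × S → X := fun p => ⟨p.1.out * p.2.1 * p.1.out⁻¹, p.1.out, by
    simpa [mul_assoc] using p.2.2⟩
  have hin : ∀ p : (G ⧸ M) × S, (pt p).1 ∈ cj M p.1.out := fun p =>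
    Fusion.conj_mem_cj ((Subgroup.map_subtype_le _ : sigmaCore M ≤ M) (hSmem.1 p.2.2).1)
  have htr : ∀ p : (G ⧸ M) × S, ∃ ρ : G, ρ ∈ supportR (cj M (y₀ (pt p))) (pt p).1 ∧
      cj (cj M (y₀ (pt p))) ρ = cj M p.1.out := fun p => by
    obtain ⟨h1, h2⟩ := hxin (pt p)
    have hg : (pt p).1 ∈ cj (cj M (y₀ (pt p))) (p.1.out * (y₀ (pt p))⁻¹) := by
      rw [cj_cj, inv_mul_cancel_right]; exact hin p
    obtain ⟨ρ, hρx, hρg, hρ⟩ := transport hG (isCoatom_cj hM _) h1 h2 hg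
    exact ⟨ρ, mem_supportR hG (isCoatom_cj hM _) h1 h2 hρx hρ, by rw [hρg, cj_cj, inv_mul_cancel_right]⟩
  choose ρ hρmem hρcj using htr
  let ψ : (G ⧸ M) × S → G := fun p => (pt p).1 * ρ p
  have hinj : Function.Injective ψ := by
    intro p p' he
    have hx : (pt p).1 = (pt p').1 := by
      by_contra hne
      exact coset_disjoint hG (isCoatom_cj hM _) (isCoatom_cj hM _) (hxin (pt p)).1 (hxin (pt p')).1
        (hxin (pt p)).2 (hxin (pt p')).2 hne (hρmem p) (hρmem p') he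
    have hX : pt p = pt p' := Subtype.ext hx
    have hρ' : ρ p = ρ p' := mul_left_cancel (show (pt p).1 * ρ p = (pt p).1 * ρ p' by
      conv_rhs => rw [hx]
      exact he)
    have h1 : p.1 = p'.1 := by
      have h := (hρcj p).symm.trans ((by rw [hX, hρ'] : cj (cj M (y₀ (pt p))) (ρ p) =
        cj (cj M (y₀ (pt p'))) (ρ p')).trans (hρcj p'))
      have h2 : p.1.out⁻¹ * p'.1.out ∈ Subgroup.normalizer (M : Set G) := mem_normalizer_of_cj_le (le_of_eq (by
        rw [← cj_cj, ← h, cj_cj, inv_mul_cancel, Fusion.cj_one]))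
      rw [normalizer_coatom hG hM] at h2
      rw [← QuotientGroup.out_eq' p.1, ← QuotientGroup.out_eq' p'.1]
      exact QuotientGroup.eq.2 h2
    refine Prod.ext h1 (Subtype.ext ?_)
    have h3 : p.1.out * p.2.1 * p.1.out⁻¹ = p'.1.out * p'.2.1 * p'.1.out⁻¹ := hx
    rw [← h1] at h3
    exact mul_left_cancel (mul_right_cancel h3)
  have hrange : Set.range ψ = tildeOf M S := by
    refine Set.Subset.antisymm ?_ ?_
    · rintro _ ⟨p, rfl⟩
      obtain ⟨h1, h2⟩ := hxin (pt p)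
      set y := y₀ (pt p) with hy
      obtain ⟨ha, ha1⟩ := hSmem.1 (hy₀ (pt p))
      have hr : y⁻¹ * ρ p * y ∈ supportR M (y⁻¹ * (pt p).1 * y) := by
        refine Fusion.mem_cj.1 ?_
        rw [← supportR_cj hG hM ha ha1, show y * (y⁻¹ * (pt p).1 * y) * y⁻¹ = (pt p).1 by group]
        exact hρmem p
      exact ⟨_, hy₀ (pt p), _, hr, y, by show (pt p).1 * ρ p = _; rw [hy]; group⟩
    · rintro _ ⟨a, ha, r, hr, y, rfl⟩
      obtain ⟨haσ, ha1⟩ := hSmem.1 ha
      set x : X := ⟨y * a * y⁻¹, y, by simpa [mul_assoc] using ha⟩ with hx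
      obtain ⟨h1, h2⟩ := hxin x
      have hr' : y * r * y⁻¹ ∈ supportR (cj M (y₀ x)) x.1 := by
        have hxy : x.1 ∈ cj (cj M (y₀ x)) (y * (y₀ x)⁻¹) := by
          rw [cj_cj, inv_mul_cancel_right]
          exact Fusion.conj_mem_cj ((Subgroup.map_subtype_le _ : sigmaCore M ≤ M) haσ)
        rw [← (supportR_indep hG (isCoatom_cj hM _) h1 h2 hxy).2, cj_cj, inv_mul_cancel_right, hx,
          supportR_cj hG hM haσ ha1]
        exact Fusion.conj_mem_cj hr
      set σ := y * r * y⁻¹ with hσ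
      have hσx : σ * x.1 = x.1 * σ := (supportR_mem hG (isCoatom_cj hM _) h1 h2 hr').1
      set q : G ⧸ M := QuotientGroup.mk (σ * y₀ x) with hq
      obtain ⟨m, hm, hmq⟩ : ∃ m ∈ M, q.out = σ * y₀ x * m := by
        obtain ⟨m, hm⟩ := QuotientGroup.mk_out_eq_mul M (σ * y₀ x)
        exact ⟨m, m.2, hm⟩
      have hxq : q.out⁻¹ * x.1 * q.out ∈ S := by
        obtain ⟨h3, h4⟩ := hSmem.1 (hy₀ x)
        have he : q.out⁻¹ * x.1 * q.out = m⁻¹ * ((y₀ x)⁻¹ * x.1 * y₀ x) * m⁻¹⁻¹ := by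
          rw [hmq]
          calc (σ * y₀ x * m)⁻¹ * x.1 * (σ * y₀ x * m) = m⁻¹ * (y₀ x)⁻¹ * σ⁻¹ * (x.1 * σ) * y₀ x * m := by group
            _ = m⁻¹ * (y₀ x)⁻¹ * σ⁻¹ * (σ * x.1) * y₀ x * m := by rw [hσx]
            _ = _ := by group
        rw [he]
        exact hSmem.2 ⟨(Subgroup.mem_normalizer_iff.1 (le_normalizer_piCoreOf (inv_mem hm)) _).1 h3,
          fun h => h4 (conj_eq_one_iff.1 h)⟩
      set p : (G ⧸ M) × S := (q, ⟨_, hxq⟩) with hp
      have hpx : pt p = x := Subtype.ext (by show q.out * (q.out⁻¹ * x.1 * q.out) * q.out⁻¹ = x.1; group)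
      refine ⟨p, ?_⟩
      show (pt p).1 * ρ p = _
      have hρp := hρmem p
      have hρc := hρcj p
      rw [hpx] at hρp hρc
      rw [hpx]
      have hc2 : cj (cj M (y₀ x)) σ = cj M q.out := by
        rw [cj_cj, hmq, ← cj_cj _ m, Fusion.cj_eq_self_of_mem hm]
      have h5 : σ⁻¹ * ρ p ∈ Subgroup.normalizer (cj M (y₀ x) : Set G) := mem_normalizer_of_cj_le (le_of_eq (by
        rw [← cj_cj _ (ρ p), hρc, show p.1 = q from rfl, ← hc2, cj_cj, inv_mul_cancel, Fusion.cj_one]))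
      rw [normalizer_coatom hG (isCoatom_cj hM _)] at h5
      have h6 := supportR_inf hG (isCoatom_cj hM _) h1 h2
        (Subgroup.mul_mem _ (Subgroup.inv_mem _ hr') hρp) h5
      rw [← inv_mul_eq_one.1 h6]
      show y * a * y⁻¹ * (y * r * y⁻¹) = _
      group
  rw [← hrange, Set.ncard_range_of_injective hinj, Nat.card_prod, ← Subgroup.index, mul_comm]
  congr 1
  rw [Nat.card_coe_set_eq, hS, Set.ncard_diff_singleton_of_mem (one_mem _), ← Nat.card_coe_set_eq]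
  rfl

end Cfsg.Agent.OddLocal.Support
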