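import Cfsg.Agent.Lib.OddLocal.KappaPartner
import Cfsg.Agent.Lib.OddLocal.SupportSet

/-!
Counting: not all maximal subgroups over the lines of `K` have a trivial factor `U`.
-/

set_option autoImplicit false
set_option linter.style.haveILetI false

namespace Cfsg.Agent.OddLocal.Kappa

open scoped Pointwise commutatorElement
open Cfsg
open Cfsg.Agent.Fusion (SylIn cj cj_cj cj_eq_self cj_mono card_cj mem_normalizer_of_cj_le exists_sylIn_ge exists_sylIn)
open Cfsg.Agent.OddLocal.Uniq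
open Cfsg.Agent.OddLocal.Sig
open Cfsg.Agent.OddLocal.RankTwo
open Cfsg.Agent.OddLocal.TauTwo
open Cfsg.Agent.OddLocal.Prime
open Cfsg.Agent.OddLocal.Disjoint (mem_centralizer_zpowers zpowers_card mem_zpowers_of_order conjugate_of_sigma)

universe u

variable {G : Type u} [Group G] [Finite G] {M L L' E K U Z : Subgroup G}

/-- `L` has a trivial factor and `Z` as the normaliser of a Hall `κ(L)`-subgroup. -/
def Node (Z L : Subgroup G) : Prop :=
  IsCoatom L ∧ ∃ KL EL : Subgroup G, IsPiHallOf (kappa L) KL L ∧ KL ≠ ⊥ ∧ Frame L KL EL ⊥ ∧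
    Z = KL ⊔ (sigmaCore L ⊓ Subgroup.centralizer (KL : Set G))

/-- The elements of `Z` outside all the cores. -/
def spread (Z : Subgroup G) : Set G :=
  {z | z ∈ Z ∧ ∀ L : Subgroup G, Node Z L → z ∉ sigmaCore L}

theorem Node.le (hL : Node Z L) : Z ≤ L := by
  obtain ⟨-, KL, EL, hK, -, -, rfl⟩ := hL
  exact sup_le hK.1 (inf_le_left.trans (Subgroup.map_subtype_le _))

/-- The two commuting parts of an element of `Z`. -/
theorem Node.parts (hG : IsMinSimpleOddOrder G) (hL : Node Z L) {z : G} (hz : z ∈ Z) :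
    ∃ c k : G, z = c * k ∧ Commute c k ∧ c ∈ sigmaCore L ∧ c ∈ L ∧
      (c ≠ 1 → Subgroup.centralizer ({c} : Set G) ≤ L ∧ ∀ g : G, c ∈ cj L g → g ∈ L) ∧
      PiNum (sigma L) (orderOf c) ∧ (∀ t : ℕ, t.Prime → t ∣ orderOf k → t ∉ sigma L) := by
  obtain ⟨hLc, KL, EL, hK, hK1, hF, rfl⟩ := hL
  rw [← SetLike.mem_coe, Subgroup.coe_mul_of_right_le_normalizer_left _ _ (inf_le_right.trans
    (Subgroup.centralizer_le_normalizer _))] at hz
  obtain ⟨k, hk, c, hc, rfl⟩ := hz
  have hck : Commute c k := (Subgroup.mem_centralizer_iff.1 hc.2 k hk).symm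
  refine ⟨c, k, hck.symm.eq, hck, hc.1, (Subgroup.map_subtype_le _ : sigmaCore L ≤ L) hc.1, fun hc1 =>
    ⟨star_centralizer_le hG hLc hK hK1 hc hc1, fun g hg => ?_⟩, Support.mem_pi hG hLc hc.1, fun t ht htd =>
      (prime_mem hG hLc hK hF.compl hk ht htd).2.2.1⟩
  by_contra hgL
  exact hc1 (Subgroup.mem_bot.1 (star_inf_conj hG hLc hK hK1 hgL ▸ Subgroup.mem_inf.2 ⟨hc, hg⟩))

/-- A core meets `Z` in the fixed points. -/
theorem Node.inf_eq (hG : IsMinSimpleOddOrder G) {KL EL : Subgroup G} (hK : IsPiHallOf (kappa L) KL L)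
    (hF : Frame L KL EL ⊥) :
    sigmaCore L ⊓ (KL ⊔ (sigmaCore L ⊓ Subgroup.centralizer (KL : Set G))) =
      sigmaCore L ⊓ Subgroup.centralizer (KL : Set G) := by
  refine le_antisymm (fun z hz => ?_) (le_inf inf_le_left le_sup_right)
  obtain ⟨hzσ, hz'⟩ := Subgroup.mem_inf.1 hz
  rw [← SetLike.mem_coe, Subgroup.coe_mul_of_right_le_normalizer_left _ _ (inf_le_right.trans
    (Subgroup.centralizer_le_normalizer _))] at hz'
  obtain ⟨k, hk, c, hc, rfl⟩ := hz'
  have h1 : k ∈ EL ⊓ sigmaCore L :=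
    ⟨hF.le hk, by simpa using (sigmaCore L).mul_mem hzσ ((sigmaCore L).inv_mem hc.1)⟩
  rw [hF.compl.2.2.1, Subgroup.mem_bot] at h1
  show k * c ∈ _
  rw [h1, one_mul]
  exact hc

/-- Conjugate nodes are equal. -/
theorem Node.eq_of_conj (hG : IsMinSimpleOddOrder G) (hL : Node Z L) (hL' : Node Z L') {g : G}
    (hg : L' = cj L g) : L' = L := by
  have hZ' := hL'.le
  obtain ⟨hLc, KL, EL, hK, hK1, hF, rfl⟩ := hL
  obtain ⟨c, hc, hc1⟩ := exists_ne_one (star_ne_bot hG hLc hK hK1)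
  rw [hg]
  refine Fusion.cj_eq_self_of_mem (by_contra fun hgL => hc1 ?_)
  exact Subgroup.mem_bot.1 (star_inf_conj hG hLc hK hK1 hgL ▸
    Subgroup.mem_inf.2 ⟨hc, hg ▸ hZ' (Subgroup.mem_sup_right hc)⟩)

theorem Node.sigma_eq (hG : IsMinSimpleOddOrder G) (hL : Node Z L) (hL' : Node Z L') {q : ℕ} (hq : q.Prime)
    (h : q ∈ sigma L) (h' : q ∈ sigma L') : L' = L := by
  haveI := Fact.mk hq
  obtain ⟨g, hg⟩ := conjugate_of_sigma hG hL.1 hL'.1 h h'
  exact hL.eq_of_conj hG hL' hg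

/-- Two nodes meet in `Z`. -/
theorem Node.inf (hG : IsMinSimpleOddOrder G) (hL : Node Z L) (hL' : Node Z L') (hne : L' ≠ L) : L ⊓ L' = Z := by
  obtain ⟨hLc', KL', EL', hK', hK1', hF', hZ'⟩ := hL'
  obtain ⟨c, hc, hc1⟩ := exists_ne_one (star_ne_bot hG hLc' hK' hK1')
  obtain ⟨t, i, ht, -, hxo⟩ := exists_prime_power_order hc1
  haveI := Fact.mk ht
  set x := c ^ i with hx
  have hxC := pow_mem hc i
  have hxZ : x ∈ Z := hZ' ▸ Subgroup.mem_sup_right hxC
  have htσ : t ∉ sigma L := fun h => hne (hL.sigma_eq hG ⟨hLc', KL', EL', hK', hK1', hF', hZ'⟩ ht h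
    ((sigmaCore_hall hG hLc').1.2.1 t ht (hxo ▸ Subgroup.orderOf_dvd_natCard _ hxC.1)))
  have hN : Subgroup.normalizer (Subgroup.zpowers x : Set G) ≤ L' :=
    star_normalizer_le hG hLc' hK' hK1' (Subgroup.zpowers_le.2 hxC)
      fun h => ne_one_of_order hxo (Subgroup.zpowers_eq_bot.1 h)
  obtain ⟨hLc, KL, EL, hK, -, hF, rfl⟩ := hL
  have hxK : x ∈ KL := by
    have hz : x ∈ ((KL ⊔ (sigmaCore L ⊓ Subgroup.centralizer (KL : Set G)) : Subgroup G) : Set G) := hxZ
    rw [Subgroup.coe_mul_of_right_le_normalizer_left _ _ (inf_le_right.trans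
      (Subgroup.centralizer_le_normalizer _))] at hz
    obtain ⟨k, hk, d, hd, hkd⟩ := hz
    have hkd' : k * d = x := hkd
    have hcm : Commute k d := Subgroup.mem_centralizer_iff.1 hd.2 k hk
    have hco : (orderOf k).Coprime (orderOf d) := Nat.coprime_of_dvd fun q hq h1 h2 =>
      (prime_mem hG hLc hK hF.compl hk hq h1).2.2.1 (Support.mem_pi hG hLc hd.1 q hq h2)
    have ho := hcm.orderOf_mul_eq_mul_orderOf_of_coprime hco
    rw [hkd', hxo] at ho
    have hd1 : orderOf d = 1 := by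
      by_contra h1
      obtain ⟨q, hq, hqd⟩ := Nat.exists_prime_and_dvd h1
      have hqt : q = t := (Nat.prime_dvd_prime_iff_eq hq ht).1 (ho ▸ hqd.mul_left _)
      exact htσ (hqt ▸ Support.mem_pi hG hLc hd.1 q hq hqd)
    rw [← hkd', orderOf_eq_one_iff.1 hd1, mul_one]
    exact hk
  obtain ⟨-, -, -, -, -, -, -, -, -, -, -, hD, -⟩ := exists_partner hG hLc hK hF hxK hxo hLc' hN
  exact hD

/-- `Z` is proper in each node, of index at least three. -/
theorem Node.index_le (hG : IsMinSimpleOddOrder G) (hL : Node Z L) : 3 * L.index ≤ Z.index := by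
  have hle := hL.le
  obtain ⟨hLc, KL, EL, hK, hK1, hF, hZ⟩ := hL
  have hne : Z.relIndex L ≠ 1 := by
    intro h
    have hLZ : L ≤ Z := Subgroup.relIndex_eq_one.1 h
    obtain ⟨q, hq, hqd⟩ := Nat.exists_prime_and_dvd fun h => star_ne_bot hG hLc hK hK1 (Subgroup.card_eq_one.1 h)
    haveI := Fact.mk hq
    obtain ⟨S, hS⟩ := exists_sylIn (p := q) (sigmaCore L)
    have hσ : q ∈ sigma L := (sigmaCore_hall hG hLc).1.2.1 q hq (hqd.trans (Subgroup.card_dvd_of_le inf_le_left))
    have hσL : sigmaCore L ≤ L := Subgroup.map_subtype_le _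
    refine sylow_not_le_star hG hLc hK hF hK1 hσ (S := S) ⟨hS.le.trans hσL, hS.isPGroup, ?_⟩ ?_
    · rw [← Subgroup.relIndex_mul_relIndex S (sigmaCore L) L hS.le hσL]
      exact hq.prime.not_dvd_mul hS.not_dvd ((sigmaCore_hall hG hLc).1.2.2 q hq hσ)
    · rw [← Node.inf_eq hG hK hF, ← hZ]
      exact le_inf hS.le ((hS.le.trans hσL).trans hLZ)
  have hodd : Odd (Z.relIndex L) := Odd.of_dvd_nat (odd_subgroup hG L) (Subgroup.relIndex_dvd_card _ _)
  have h3 : 3 ≤ Z.relIndex L := by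
    obtain ⟨m, hm⟩ := hodd
    omega
  rw [← Subgroup.relIndex_mul_index hle]
  exact Nat.mul_le_mul_right _ h3

/-- The index of a node times the order of its core. -/
theorem Node.index_mul (hG : IsMinSimpleOddOrder G) (hL : Node Z L) :
    L.index * Nat.card (sigmaCore L) = Z.index * Nat.card ↥(sigmaCore L ⊓ Z) := by
  obtain ⟨hLc, KL, EL, hK, -, hF, rfl⟩ := hL
  rw [Node.inf_eq hG hK hF]
  set C := sigmaCore L ⊓ Subgroup.centralizer (KL : Set G) with hC
  have hEK : EL = KL := le_antisymm (fun e he => by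
    obtain ⟨u, hu, k, hk, rfl⟩ := hF.mul e he
    rw [Subgroup.mem_bot] at hu
    rwa [hu, one_mul]) hF.le
  have h1 : Nat.card KL * Nat.card (sigmaCore L) = Nat.card L := hEK ▸ (compl_card hF.compl).2
  have h2 : Nat.card ↥(KL ⊔ C) = Nat.card KL * Nat.card C := by
    have h := Solv.card_sup_mul_card_inf' KL C (inf_le_right.trans (Subgroup.centralizer_le_normalizer _))
    rwa [Solv.coprime_inf (Nat.coprime_of_dvd fun q hq h1 h2 => (hK.2.1 q hq h1).2.2.1
      ((sigmaCore_hall hG hLc).1.2.1 q hq (h2.trans (Subgroup.card_dvd_of_le inf_le_left)))), Subgroup.card_bot,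
      mul_one] at h
  have h3 := L.index_mul_card
  have h4 := (KL ⊔ C).index_mul_card
  rw [h2] at h4
  rw [← h1] at h3
  refine Nat.eq_of_mul_eq_mul_left (Nat.card_pos (α := KL)) ?_
  calc Nat.card KL * (L.index * Nat.card (sigmaCore L))
      = L.index * (Nat.card KL * Nat.card (sigmaCore L)) := by ring
    _ = Nat.card G := h3
    _ = _ := by rw [← h4]; ring

/-- The conjugating elements between points of the spread lie in `Z`. -/
theorem spread_ti (hG : IsMinSimpleOddOrder G)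
    (hex : ∃ L : Subgroup G, Node Z L) (hcov : ∀ q : ℕ, q.Prime → q ∣ Nat.card Z → ∃ L : Subgroup G, Node Z L ∧ q ∈ sigma L)
    {z g : G} (hz : z ∈ spread Z) (hgz : g * z * g⁻¹ ∈ spread Z) : g ∈ Z := by
  have hmem : ∀ {L : Subgroup G}, Node Z L → ∀ q : ℕ, q.Prime → q ∣ orderOf z → q ∈ sigma L → g ∈ L := by
    intro L hL q hq hqd hqσ
    obtain ⟨c, k, hzc, hck, -, hcL, -, hcπ, hkπ⟩ := hL.parts hG hz.1
    obtain ⟨c', k', hzc', hck', -, -, hfix, hc'π, hk'π⟩ := hL.parts hG hgz.1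
    have ho : ∀ a : G, orderOf (g * a * g⁻¹) = orderOf a := fun a =>
      orderOf_injective (MulAut.conj g).toMonoidHom (MulAut.conj g).injective a
    have he : (g * c * g⁻¹) * (g * k * g⁻¹) = c' * k' := by
      rw [← hzc', hzc]
      group
    have hcm : Commute (g * c * g⁻¹) (g * k * g⁻¹) := by
      show _ = _
      rw [conj_mul, conj_mul, hck.eq]
    have h1 := (Support.parts_unique (sigma L) hcm hck' (by rw [ho]; exact hcπ) hc'π
      (fun t ht htd => hkπ t ht (ho k ▸ htd)) hk'π he).1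
    have hc1 : c ≠ 1 := fun h => by
      rw [h, one_mul] at hzc
      exact hkπ q hq (hzc ▸ hqd) hqσ
    rw [← h1] at hfix
    exact (hfix fun h => hc1 (conj_eq_one_iff.1 h)).2 g (Fusion.conj_mem_cj hcL)
  have hz1 : orderOf z ≠ 1 := fun h => by
    obtain ⟨L, hL⟩ := hex
    exact hz.2 L hL (by rw [orderOf_eq_one_iff.1 h]; exact one_mem _)
  obtain ⟨q, hq, hqd⟩ := Nat.exists_prime_and_dvd hz1
  obtain ⟨L, hL, hqσ⟩ := hcov q hq (hqd.trans (Subgroup.orderOf_dvd_natCard Z hz.1))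
  obtain ⟨c, k, hzc, hck, hcσ, -, -, hcπ, hkπ⟩ := hL.parts hG hz.1
  have hk1 : k ≠ 1 := fun h => hz.2 L hL (by rwa [hzc, h, mul_one])
  obtain ⟨r, hr, hrd⟩ := Nat.exists_prime_and_dvd fun h => hk1 (orderOf_eq_one_iff.1 h)
  have hrz : r ∣ orderOf z := by
    rw [hzc, hck.orderOf_mul_eq_mul_orderOf_of_coprime
      (Nat.coprime_of_dvd fun t ht h1 h2 => hkπ t ht h2 (hcπ t ht h1))]
    exact hrd.mul_left _
  obtain ⟨L', hL', hrσ⟩ := hcov r hr (hrz.trans (Subgroup.orderOf_dvd_natCard Z hz.1))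
  rw [← hL.inf hG hL' fun h => hkπ r hr hrd (h ▸ hrσ)]
  exact ⟨hmem hL q hq hqd hqσ, hmem hL' r hr hrz hrσ⟩

/-- The cores of distinct nodes have disjoint covered sets, which miss the conjugates of the spread. -/
theorem tilde_spread (hG : IsMinSimpleOddOrder G) (hL : Node Z L) {z g : G} (hz : z ∈ spread Z) :
    g * z * g⁻¹ ∉ tildeOf L ((sigmaCore L : Set G) \ {1}) := by
  rintro ⟨a, ⟨ha, ha1 : a ≠ 1⟩, r, hr, y, he⟩
  obtain ⟨c, k, hzc, hck, hcσ, -, hfix, hcπ, hkπ⟩ := hL.parts hG hz.1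
  set h := y⁻¹ * g with hh
  have ho : ∀ b : G, orderOf (h * b * h⁻¹) = orderOf b := fun b =>
    orderOf_injective (MulAut.conj h).toMonoidHom (MulAut.conj h).injective b
  have he' : (h * c * h⁻¹) * (h * k * h⁻¹) = a * r := by
    calc (h * c * h⁻¹) * (h * k * h⁻¹) = y⁻¹ * (g * (c * k) * g⁻¹) * y := by rw [hh]; group
      _ = a * r := by rw [← hzc, he]; group
  have hcm : Commute (h * c * h⁻¹) (h * k * h⁻¹) := by
    show _ = _
    rw [conj_mul, conj_mul, hck.eq]
  obtain ⟨h1, h2⟩ := Support.parts_unique (sigma L) hcm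
    ((Support.supportR_mem hG hL.1 ha ha1 hr).1 : r * a = a * r).symm (by rw [ho]; exact hcπ)
    (Support.mem_pi hG hL.1 ha) (fun t ht htd => hkπ t ht (ho k ▸ htd))
    (Support.supportR_pi hG hL.1 ha ha1 hr) he'
  have hc1 : c ≠ 1 := fun h0 => ha1 (by rw [← h1, h0, mul_one, mul_inv_cancel])
  obtain ⟨hC, hconj⟩ := hfix hc1
  have hhL : h ∈ L := by
    have h3 : h⁻¹ ∈ L := hconj h⁻¹ (by
      refine Fusion.mem_cj.2 ?_
      rw [inv_inv, h1]
      exact (Subgroup.map_subtype_le _ : sigmaCore L ≤ L) ha)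
    exact inv_mem_iff.1 h3
  have hCa : Subgroup.centralizer ({a} : Set G) ≤ L := by
    intro w hw
    rw [Subgroup.mem_centralizer_singleton_iff] at hw
    have h4 : h⁻¹ * w * h ∈ Subgroup.centralizer ({c} : Set G) := by
      rw [Subgroup.mem_centralizer_singleton_iff]
      calc h⁻¹ * w * h * c = h⁻¹ * (w * (h * c * h⁻¹)) * h := by group
        _ = h⁻¹ * ((h * c * h⁻¹) * w) * h := by rw [h1, hw]
        _ = c * (h⁻¹ * w * h) := by group
    have h5 := L.mul_mem (L.mul_mem hhL (hC h4)) (L.inv_mem hhL)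
    rwa [show h * (h⁻¹ * w * h) * h⁻¹ = w by group] at h5
  rw [Support.supportR_bot hCa, Subgroup.mem_bot] at hr
  rw [hr] at h2
  exact hz.2 L hL (by rw [hzc, conj_eq_one_iff.1 h2, mul_one]; exact hcσ)

/-- The covered sets of two nodes are disjoint. -/
theorem tilde_disjoint (hG : IsMinSimpleOddOrder G) (hL : Node Z L) (hL' : Node Z L') (hne : L' ≠ L) :
    Disjoint (tildeOf L ((sigmaCore L : Set G) \ {1})) (tildeOf L' ((sigmaCore L' : Set G) \ {1})) := by
  rw [Set.disjoint_left]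
  rintro w ⟨a, ⟨ha, ha1 : a ≠ 1⟩, r, hr, y, rfl⟩ ⟨a', ⟨ha', ha1' : a' ≠ 1⟩, r', hr', y', he⟩
  have hx : y * a * y⁻¹ ∈ sigmaCore (cj L y) := by
    rw [Support.sigmaCore_cj hG hL.1]
    exact Fusion.conj_mem_cj ha
  have hx' : y' * a' * y'⁻¹ ∈ sigmaCore (cj L' y') := by
    rw [Support.sigmaCore_cj hG hL'.1]
    exact Fusion.conj_mem_cj ha'
  have hs : y * r * y⁻¹ ∈ supportR (cj L y) (y * a * y⁻¹) := by
    rw [Support.supportR_cj hG hL.1 ha ha1]
    exact Fusion.conj_mem_cj hr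
  have hs' : y' * r' * y'⁻¹ ∈ supportR (cj L' y') (y' * a' * y'⁻¹) := by
    rw [Support.supportR_cj hG hL'.1 ha' ha1']
    exact Fusion.conj_mem_cj hr'
  refine Support.coset_disjoint hG (isCoatom_cj hL.1 y) (isCoatom_cj hL'.1 y') hx hx'
    (fun h => ha1 (conj_eq_one_iff.1 h)) (fun h => ha1' (conj_eq_one_iff.1 h)) (fun h => ?_) hs hs' ?_
  · obtain ⟨q, hq, hqd⟩ := Nat.exists_prime_and_dvd fun h' => ha1 (orderOf_eq_one_iff.1 h')
    refine hne (hL.sigma_eq hG hL' hq (Support.mem_pi hG hL.1 ha q hq hqd) (Support.mem_pi hG hL'.1 ha' q hq ?_))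
    have h3 : orderOf (y * a * y⁻¹) = orderOf (y' * a' * y'⁻¹) := by rw [h]
    rw [show orderOf (y * a * y⁻¹) = orderOf a from
      orderOf_injective (MulAut.conj y).toMonoidHom (MulAut.conj y).injective a,
      show orderOf (y' * a' * y'⁻¹) = orderOf a' from
      orderOf_injective (MulAut.conj y').toMonoidHom (MulAut.conj y').injective a'] at h3
    rwa [← h3]
  · rw [conj_mul, conj_mul, he]

theorem one_not_tilde (hG : IsMinSimpleOddOrder G) (hL : IsCoatom L) :
    (1 : G) ∉ tildeOf L ((sigmaCore L : Set G) \ {1}) := by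
  rintro ⟨a, ⟨ha, ha1 : a ≠ 1⟩, r, hr, y, he⟩
  have h1 : a * r = 1 := conj_eq_one_iff.1 he.symm
  obtain ⟨q, hq, hqd⟩ := Nat.exists_prime_and_dvd fun h' => ha1 (orderOf_eq_one_iff.1 h')
  refine Support.supportR_pi hG hL ha ha1 hr q hq ?_ (Support.mem_pi hG hL ha q hq hqd)
  rwa [← inv_eq_of_mul_eq_one_right h1, orderOf_inv]

/-- There are not two nodes with primes covering those of `Z`. -/
theorem no_two_nodes (hG : IsMinSimpleOddOrder G) {A B : Subgroup G} (hA : Node Z A) (hB : Node Z B) (hAB : B ≠ A)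
    (hcov : ∀ q : ℕ, q.Prime → q ∣ Nat.card Z → ∃ L : Subgroup G, Node Z L ∧ q ∈ sigma L) : False := by
  classical
  haveI := Fintype.ofFinite G
  haveI : Fintype (Subgroup G) := Fintype.ofFinite _
  set F : Finset (Subgroup G) := Finset.univ.filter (Node Z) with hF
  have hmem : ∀ {L}, L ∈ F ↔ Node Z L := fun {L} => by simp [hF]
  have hcard : 2 ≤ F.card := Finset.one_lt_card.2 ⟨A, hmem.2 hA, B, hmem.2 hB, hAB.symm⟩
  -- the spread
  set P : Subgroup G → Finset G := fun L => Finset.univ.filter fun x => x ∈ sigmaCore L ⊓ Z ∧ x ≠ 1 with hP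
  set W : Finset G := Finset.univ.filter fun x => x ∈ spread Z with hW
  have hPc : ∀ L, (P L).card + 1 = Nat.card ↥(sigmaCore L ⊓ Z) := fun L => by
    rw [Nat.card_eq_fintype_card, Fintype.card_subtype, hP]
    have h : (Finset.univ.filter fun x => x ∈ sigmaCore L ⊓ Z) =
        insert 1 (Finset.univ.filter fun x => x ∈ sigmaCore L ⊓ Z ∧ x ≠ 1) := by
      ext x
      by_cases hx : x = 1
      · subst hx; simp [one_mem]
      · simp [hx]
    rw [h, Finset.card_insert_of_notMem (by simp)]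
  have hZc : W.card + ∑ L ∈ F, (P L).card + 1 = Nat.card Z := by
    have hd : Set.PairwiseDisjoint (F : Set (Subgroup G)) P := by
      intro L hL L' hL' hne
      refine Finset.disjoint_left.2 fun x hx hx' => hne ?_
      simp only [hP, Finset.mem_filter] at hx hx'
      obtain ⟨q, hq, hqd⟩ := Nat.exists_prime_and_dvd fun h' => hx.2.2 (orderOf_eq_one_iff.1 h')
      exact ((hmem.1 hL).sigma_eq hG (hmem.1 hL') hq (Support.mem_pi hG (hmem.1 hL).1 hx.2.1.1 q hq hqd)
        (Support.mem_pi hG (hmem.1 hL').1 hx'.2.1.1 q hq hqd)).symm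
    have hd1 : Disjoint W (F.biUnion P) := Finset.disjoint_left.2 fun x hx hx' => by
      simp only [Finset.mem_biUnion, hP, Finset.mem_filter] at hx'
      obtain ⟨L, hL, -, hxL, -⟩ := hx'
      exact (Finset.mem_filter.1 hx).2.2 L (hmem.1 hL) hxL.1
    rw [Nat.card_eq_fintype_card, Fintype.card_subtype, ← Finset.card_biUnion hd, ← Finset.card_union_of_disjoint hd1,
      ← Finset.card_insert_of_notMem (a := (1 : G))]
    · congr 1
      ext x
      simp only [Finset.mem_insert, Finset.mem_union, Finset.mem_biUnion, hP, hW, Finset.mem_filter,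
        Finset.mem_univ, true_and]
      constructor
      · rintro (rfl | h | ⟨L, -, h, -⟩)
        · exact one_mem _
        · exact h.1
        · exact h.2
      · intro hx
        by_cases hx1 : x = 1
        · exact Or.inl hx1
        by_cases hs : x ∈ spread Z
        · exact Or.inr (Or.inl hs)
        simp only [spread, Set.mem_setOf_eq, not_and, not_forall, not_not] at hs
        obtain ⟨L, hL, hxL⟩ := hs hx
        exact Or.inr (Or.inr ⟨L, hmem.2 hL, ⟨hxL, hx⟩, hx1⟩)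
    · simp only [Finset.mem_union, Finset.mem_biUnion, hP, hW, Finset.mem_filter, Finset.mem_univ, true_and,
        ne_eq, not_true, and_false, exists_false, or_false]
      exact fun h => h.2 A hA (one_mem _)
  -- the conjugates of the spread
  set S : Finset G := ((Finset.univ : Finset (G ⧸ Z)) ×ˢ W).image fun p => p.1.out * p.2 * p.1.out⁻¹ with hS
  have hSc : S.card = Z.index * W.card := by
    rw [hS, Finset.card_image_of_injOn, Finset.card_product, Finset.card_univ, Subgroup.index,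
      Nat.card_eq_fintype_card]
    rintro ⟨a, w⟩ hp ⟨a', w'⟩ hp' he
    have hw : w ∈ spread Z := (Finset.mem_filter.1 (Finset.mem_product.1 hp).2).2
    have hw' : w' ∈ spread Z := (Finset.mem_filter.1 (Finset.mem_product.1 hp').2).2
    have he' : a.out * w * a.out⁻¹ = a'.out * w' * a'.out⁻¹ := he
    have h1 : (a'.out⁻¹ * a.out) * w * (a'.out⁻¹ * a.out)⁻¹ = w' := by
      calc _ = a'.out⁻¹ * (a.out * w * a.out⁻¹) * a'.out := by group
        _ = w' := by rw [he']; group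
    have h2 : a = a' := by
      rw [← QuotientGroup.out_eq' a, ← QuotientGroup.out_eq' a']
      exact (QuotientGroup.eq.2 (spread_ti hG ⟨A, hA⟩ hcov hw (by rw [h1]; exact hw'))).symm
    subst h2
    rw [inv_mul_cancel, one_mul, inv_one, mul_one] at h1
    rw [h1]
  -- the covered sets
  set T : Subgroup G → Finset G := fun L => (tildeOf L ((sigmaCore L : Set G) \ {1})).toFinset with hT
  have hTc : ∀ L ∈ F, (T L).card + L.index = L.index * Nat.card (sigmaCore L) := fun L hL => by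
    rw [hT, ← Set.ncard_eq_toFinset_card', Support.card_tilde hG (hmem.1 hL).1, mul_comm _ L.index,
      ← Nat.mul_succ, Nat.succ_eq_add_one, Nat.sub_add_cancel Nat.card_pos]
  have hTd : Set.PairwiseDisjoint (F : Set (Subgroup G)) T := by
    intro L hL L' hL' hne
    exact Set.disjoint_toFinset.2 (tilde_disjoint hG (hmem.1 hL) (hmem.1 hL') hne.symm)
  have htot : S.card + (F.biUnion T).card + 1 ≤ Nat.card G := by
    have hd : Disjoint S (F.biUnion T) := Finset.disjoint_left.2 fun x hx hx' => by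
      simp only [hS, Finset.mem_image, Finset.mem_product] at hx
      obtain ⟨⟨a, w⟩, ⟨-, hw⟩, rfl⟩ := hx
      obtain ⟨L, hL, hxL⟩ := Finset.mem_biUnion.1 hx'
      exact tilde_spread hG (hmem.1 hL) (Finset.mem_filter.1 hw).2 (Set.mem_toFinset.1 hxL)
    rw [← Finset.card_union_of_disjoint hd, Nat.card_eq_fintype_card, ← Finset.card_univ,
      ← Finset.card_insert_of_notMem (a := (1 : G))]
    · exact Finset.card_le_univ _
    · intro h
      rcases Finset.mem_union.1 h with h | h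
      · simp only [hS, Finset.mem_image, Finset.mem_product] at h
        obtain ⟨⟨a, w⟩, ⟨-, hw⟩, he⟩ := h
        rw [show w = 1 from conj_eq_one_iff.1 he] at hw
        exact (Finset.mem_filter.1 hw).2.2 A hA (one_mem _)
      · obtain ⟨L, hL, hxL⟩ := Finset.mem_biUnion.1 h
        exact one_not_tilde hG (hmem.1 hL).1 (Set.mem_toFinset.1 hxL)
  rw [Finset.card_biUnion hTd, hSc, ← Z.index_mul_card, ← hZc] at htot
  have h1 : ∑ L ∈ F, (T L).card + ∑ L ∈ F, L.index = Z.index * (∑ L ∈ F, (P L).card) + F.card * Z.index := by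
    rw [← Finset.sum_add_distrib, Finset.mul_sum, ← smul_eq_mul F.card, ← Finset.sum_const,
      ← Finset.sum_add_distrib]
    refine Finset.sum_congr rfl fun L hL => ?_
    rw [hTc L hL, (hmem.1 hL).index_mul hG, ← hPc L]
    ring
  have h2 : 3 * ∑ L ∈ F, L.index ≤ F.card * Z.index := by
    rw [Finset.mul_sum]
    exact (Finset.sum_le_card_nsmul F _ _ fun L hL => (hmem.1 hL).index_le hG).trans_eq (smul_eq_mul _ _)
  rw [mul_add, mul_add, mul_one] at htot
  have h3 : 0 < Z.index := Nat.pos_of_ne_zero Subgroup.index_ne_zero_of_finite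
  have h4 : 2 * Z.index ≤ F.card * Z.index := Nat.mul_le_mul_right _ hcard
  omega

/-- Some maximal subgroup over the normaliser of a line of `K` has a nontrivial factor, if `U` is trivial. -/
theorem exists_partner_factor (hG : IsMinSimpleOddOrder G) (hM : IsCoatom M) (hK : IsPiHallOf (kappa M) K M)
    (hF : Frame M K E ⊥) (hK1 : K ≠ ⊥) :
    ∃ A KA EA UA : Subgroup G, IsCoatom A ∧ IsPiHallOf (kappa A) KA A ∧ KA ≠ ⊥ ∧ Frame A KA EA UA ∧ UA ≠ ⊥ ∧
      sigmaCore M ⊓ Subgroup.centralizer (K : Set G) ≤ KA ∧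
      sigmaCore A ⊓ Subgroup.centralizer (KA : Set G) ≤ K ∧
      M ⊓ A = K ⊔ (sigmaCore M ⊓ Subgroup.centralizer (K : Set G)) ∧
      KA ⊔ (sigmaCore A ⊓ Subgroup.centralizer (KA : Set G)) =
        K ⊔ (sigmaCore M ⊓ Subgroup.centralizer (K : Set G)) := by
  by_contra hno
  push Not at hno
  set C := sigmaCore M ⊓ Subgroup.centralizer (K : Set G) with hC
  have hMn : Node (K ⊔ C) M := ⟨hM, K, E, hK, hK1, hF, rfl⟩
  have hpart : ∀ {x : G} {t : ℕ}, t.Prime → x ∈ K → orderOf x = t →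
      ∃ A : Subgroup G, Node (K ⊔ C) A ∧ t ∈ sigma A ∧ A ≠ M := by
    intro x t ht hx hxo
    haveI := Fact.mk ht
    obtain ⟨A, hA, hNA, -⟩ := exists_over hG hxo
    obtain ⟨KA, EA, UA, hKA, hKA1, hFA, hAM, htA, -, h1, h2, h3, h4⟩ := exists_partner hG hM hK hF hx hxo hA hNA
    refine ⟨A, ⟨hA, KA, EA, hKA, hKA1, ?_, h4.symm⟩, htA, fun h => hAM 1 (by rw [Fusion.cj_one, h])⟩
    by_cases hUA : UA = ⊥
    · rwa [← hUA]
    exact absurd h4 (hno A KA EA UA hA hKA hKA1 hFA hUA h1 h2 h3)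
  obtain ⟨k, hk, hk1⟩ := exists_ne_one hK1
  obtain ⟨t, i, ht, -, hxo⟩ := exists_prime_power_order hk1
  obtain ⟨A, hA, -, hne⟩ := hpart ht (pow_mem hk i) hxo
  refine no_two_nodes hG hMn hA hne fun q hq hqd => ?_
  haveI := Fact.mk hq
  have h1 := Solv.card_sup_mul_card_inf' K C (inf_le_right.trans (Subgroup.centralizer_le_normalizer _))
  rcases (Nat.Prime.dvd_mul hq).1 (h1 ▸ hqd.mul_right _ : q ∣ Nat.card K * Nat.card C) with h | h
  · obtain ⟨⟨w, hw⟩, hwo⟩ := exists_prime_orderOf_dvd_card' q h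
    rw [Subgroup.orderOf_mk] at hwo
    obtain ⟨B, hB, hqB, -⟩ := hpart hq hw hwo
    exact ⟨B, hB, hqB⟩
  · exact ⟨M, hMn, (sigmaCore_hall hG hM).1.2.1 q hq (h.trans (Subgroup.card_dvd_of_le inf_le_left))⟩

end Cfsg.Agent.OddLocal.Kappa
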