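import Cfsg.Agent.Lib.OddLocal.KappaPrime
import Cfsg.Agent.Lib.Solv.Hall

/-!
The maximal subgroups over the normalisers of the lines of a Hall `κ(M)`-subgroup.
-/

set_option autoImplicit false
set_option linter.style.haveILetI false

namespace Cfsg.Agent.OddLocal.Kappa

open scoped Pointwise commutatorElement
open Cfsg
open Cfsg.Agent.Fusion (SylIn cj cj_cj cj_eq_self cj_mono card_cj mem_normalizer_of_cj_le exists_sylIn_ge)
open Cfsg.Agent.OddLocal.Uniq
open Cfsg.Agent.OddLocal.Sig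
open Cfsg.Agent.OddLocal.RankTwo
open Cfsg.Agent.OddLocal.TauTwo
open Cfsg.Agent.OddLocal.Prime
open Cfsg.Agent.OddLocal.Disjoint (mem_centralizer_zpowers zpowers_card mem_zpowers_of_order conjugate_of_sigma)

universe u

variable {G : Type u} [Group G] [Finite G] {M A E K U : Subgroup G}

/-- A `π`-subgroup of a proper subgroup lies in a Hall `π`-subgroup. -/
theorem exists_hall_ge (hG : IsMinSimpleOddOrder G) (hM : M ≠ ⊤) (π : Set ℕ) {Y : Subgroup G} (hYM : Y ≤ M)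
    (hY : ∀ p : ℕ, p.Prime → p ∣ Nat.card Y → p ∈ π) :
    ∃ H : Subgroup G, IsPiHallOf π H M ∧ Y ≤ H := by
  obtain ⟨m, n, hmn, hco, hm, hn⟩ := Solv.exists_pi_split π (Nat.card M) Nat.card_pos.ne'
  obtain ⟨H₀, hH₀⟩ := Solv.hall_exists (hG.2.2.2 M hM) hmn hco
  obtain ⟨g, hg⟩ := Solv.hall_contain (hG.2.2.2 M hM) hmn hco (Y.subgroupOf M) H₀ (by
    rw [Solv.card_subgroupOf hYM]
    exact Solv.coprime_of_pi hY hn) hH₀
  set H := (MulAut.conj g • H₀).map M.subtype with hH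
  have hHM : H ≤ M := Subgroup.map_subtype_le _
  have hHc : Nat.card H = m := by
    rw [hH, Subgroup.card_map_of_injective M.subtype_injective, Solv.card_conj_smul, hH₀]
  refine ⟨H, ⟨hHM, fun p hp hd => hm p hp (hHc ▸ hd), fun p hp hπ hd => hn p hp ?_ hπ⟩, ?_⟩
  · have h1 := Subgroup.relIndex_mul_relIndex ⊥ H M bot_le hHM
    rw [Subgroup.relIndex_bot_left, Subgroup.relIndex_bot_left, hHc, hmn] at h1
    exact Nat.eq_of_mul_eq_mul_left (hHc ▸ Nat.card_pos) h1 ▸ hd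
  · rw [← Subgroup.map_subgroupOf_eq_of_le hYM]
    exact Subgroup.map_mono hg

/-- An element with a fixed point, whose centralizer lies in another maximal subgroup, is a `κ`-element. -/
theorem fixed_kappa (hG : IsMinSimpleOddOrder G) (hA : IsCoatom A) (hM : IsCoatom M) (hne : M ≠ A) {z x : G} {r : ℕ}
    [hr : Fact r.Prime] (hzA : z ∈ A) (hzo : orderOf z = r) (hσ : r ∉ sigma A) (hx : x ∈ sigmaCore A) (hx1 : x ≠ 1)
    (hzx : z * x = x * z) (hC : Subgroup.centralizer ({z} : Set G) ≤ M) : r ∈ kappa A := by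
  rcases fixed_class hG hA hzA hx hx1 hzx hr.out (hzo ▸ dvd_rfl) hσ with h | h
  · exact h.1
  obtain ⟨E, hE⟩ := exists_compl hG hA
  obtain ⟨-, hu⟩ := element_unique hG hA hE hzA (ne_one_of_order hzo) (fun t ht htd => by
    rw [hzo] at htd
    rw [(Nat.prime_dvd_prime_iff_eq ht hr.out).1 htd]
    exact h) hx hx1 hzx
  exact absurd (hu M hM hC) hne

/-- The normaliser of a line of `K^*` lies in `M`. -/
theorem star_normalizer_le (hG : IsMinSimpleOddOrder G) (hM : IsCoatom M) (hK : IsPiHallOf (kappa M) K M)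
    (hK1 : K ≠ ⊥) {Y : Subgroup G} (hY : Y ≤ sigmaCore M ⊓ Subgroup.centralizer (K : Set G)) (hY1 : Y ≠ ⊥) :
    Subgroup.normalizer (Y : Set G) ≤ M := by
  intro g hg
  obtain ⟨y, hy, hy1⟩ := exists_ne_one hY1
  by_contra hgM
  have hz : g * y * g⁻¹ ∈ Y := (Subgroup.mem_normalizer_iff.1 hg y).1 hy
  exact hy1 (conj_eq_one_iff.1 (Subgroup.mem_bot.1 (star_inf_conj hG hM hK hK1 hgM ▸
    Subgroup.mem_inf.2 ⟨hY hz, Fusion.conj_mem_cj ((Subgroup.map_subtype_le _ : sigmaCore M ≤ M) (hY hy).1)⟩)))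

/-- The maximal subgroup over the normaliser of a line of `K` holds a Hall `κ`-subgroup over `K^*`. -/
theorem exists_partner (hG : IsMinSimpleOddOrder G) (hM : IsCoatom M) (hK : IsPiHallOf (kappa M) K M)
    (hF : Frame M K E U) {x : G} {t : ℕ} [ht : Fact t.Prime] (hx : x ∈ K) (hxo : orderOf x = t)
    (hA : IsCoatom A) (hNA : Subgroup.normalizer (Subgroup.zpowers x : Set G) ≤ A) :
    ∃ KA EA UA : Subgroup G, IsPiHallOf (kappa A) KA A ∧ KA ≠ ⊥ ∧ Frame A KA EA UA ∧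
      (∀ g : G, A ≠ cj M g) ∧ t ∈ sigma A ∧
      x ∈ sigmaCore A ⊓ Subgroup.centralizer (KA : Set G) ∧
      sigmaCore M ⊓ Subgroup.centralizer (K : Set G) ≤ KA ∧
      sigmaCore A ⊓ Subgroup.centralizer (KA : Set G) ≤ K ∧
      M ⊓ A = K ⊔ (sigmaCore M ⊓ Subgroup.centralizer (K : Set G)) ∧
      KA ⊔ (sigmaCore A ⊓ Subgroup.centralizer (KA : Set G)) =
        K ⊔ (sigmaCore M ⊓ Subgroup.centralizer (K : Set G)) := by
  have hσM : sigmaCore M ≤ M := Subgroup.map_subtype_le _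
  have hσA : sigmaCore A ≤ A := Subgroup.map_subtype_le _
  have hK1 : K ≠ ⊥ := fun h => ne_one_of_order hxo (Subgroup.mem_bot.1 (h ▸ hx))
  have hκ : t ∈ kappa M := prime_mem hG hM hK hF.compl hx ht.out (hxo ▸ dvd_rfl)
  have ht1 := rank_one hG hM hκ
  have hxM : x ∈ M := hK.1 hx
  obtain ⟨r₀, c₀, hr₀, hc₀, hc₀o, hxc₀⟩ := exists_fixed hκ hxM hxo
  haveI := Fact.mk hr₀
  have htA : t ∈ sigma A := sigma_over hG hM hxM hxo hκ.2.2.1 ht1 hc₀ hc₀o hxc₀ hA hNA
  have hAM : ∀ g : G, A ≠ cj M g := over_not_conj hG hκ.2.2.1 ht1 hA hxo hNA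
  have hne : M ≠ A := fun h => hAM 1 (by rw [Fusion.cj_one, h])
  have hxA : x ∈ A := hNA (Subgroup.le_normalizer (Subgroup.mem_zpowers x))
  have hxσ : x ∈ sigmaCore A := mem_sigmaCore hG hA hxA (k := 1) (by rw [pow_one, hxo]) htA
  have hKA : K ≤ A := (hF.line x hx (hxo ▸ ht.out)).trans hNA
  set C := sigmaCore M ⊓ Subgroup.centralizer (K : Set G) with hC
  have hCA : C ≤ A := fun c hc => hNA (Subgroup.centralizer_le_normalizer _
    (mem_centralizer_zpowers.2 (Subgroup.mem_centralizer_iff.1 hc.2 x hx)))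
  have hMA : sigmaCore M ⊓ A = C := by
    refine le_antisymm (fun c hc => ?_) (le_inf inf_le_left hCA)
    rw [hC, ← prime_action hG hM hK hx (ne_one_of_order hxo)]
    exact ⟨hc.1, Subgroup.mem_centralizer_singleton_iff.2 (cores_commute hG hM hA hAM hc.1 hc.2 hxσ hxM)⟩
  -- `K^*` is a `κ(A)`-group
  obtain ⟨KA, hKA', hCKA⟩ := exists_hall_ge hG hA.1 (kappa A) hCA fun r hr hrd => by
    haveI := Fact.mk hr
    obtain ⟨⟨z, hz⟩, hzo⟩ := exists_prime_orderOf_dvd_card' r hrd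
    rw [Subgroup.orderOf_mk] at hzo
    refine fixed_kappa hG hA hM hne (hCA hz) hzo (fun h => ?_) hxσ (ne_one_of_order hxo)
      (Subgroup.mem_centralizer_iff.1 hz.2 x hx).symm (star_centralizer_le hG hM hK hK1 hz (ne_one_of_order hzo))
    obtain ⟨g, hg⟩ := conjugate_of_sigma hG hM hA
      ((sigmaCore_hall hG hM).1.2.1 r hr (hzo ▸ Subgroup.orderOf_dvd_natCard _ hz.1)) h
    exact hAM g hg
  have hC1 : C ≠ ⊥ := star_ne_bot hG hM hK hK1
  have hKA1 : KA ≠ ⊥ := fun h => hC1 (le_bot_iff.1 (h ▸ hCKA))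
  obtain ⟨EA, UA, hFA⟩ := exists_frame hG hA hKA' hKA1
  set CA := sigmaCore A ⊓ Subgroup.centralizer (KA : Set G) with hCA'
  obtain ⟨y₀, hy₀, hy₀1⟩ := exists_ne_one hC1
  obtain ⟨r, n, hr, -, hyo⟩ := exists_prime_power_order hy₀1
  haveI := Fact.mk hr
  set y := y₀ ^ n
  have hy : y ∈ C := pow_mem hy₀ n
  have hy1 : y ≠ 1 := ne_one_of_order hyo
  have hyM : y ∈ M := hσM hy.1
  have hline := hFA.line y (hCKA hy) (hyo ▸ hr)
  have hNY : Subgroup.normalizer (Subgroup.zpowers y : Set G) ≤ M :=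
    star_normalizer_le hG hM hK hK1 (Subgroup.zpowers_le.2 hy) fun h => hy1 (Subgroup.zpowers_eq_bot.1 h)
  have hle : KA ⊔ CA ≤ M ⊓ A := by
    rw [← normalizer_eq hG hA hKA' hFA (Subgroup.zpowers_le.2 (hCKA hy))
      (fun h => hy1 (Subgroup.zpowers_eq_bot.1 h)) hline, inf_comm A]
    exact le_inf (inf_le_left.trans hNY) inf_le_right
  have hAMσ : sigmaCore A ⊓ M = CA := by
    refine le_antisymm (fun z hz => ?_) (le_inf inf_le_left ((le_sup_right.trans hle).trans inf_le_left))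
    rw [hCA', ← prime_action hG hA hKA' (hCKA hy) hy1]
    exact ⟨hz.1, Subgroup.mem_centralizer_singleton_iff.2
      (cores_commute hG hM hA hAM hy.1 (hCA hy) hz.1 hz.2).symm⟩
  have hxCA : x ∈ CA := hAMσ ▸ Subgroup.mem_inf.2 ⟨hxσ, hxM⟩
  have hnA : M ⊓ A ≤ Subgroup.normalizer (CA : Set G) := fun m hm => mem_normalizer_of_cj_le (by
    rw [← hAMσ, Fusion.cj_inf, cj_eq_self (H := sigmaCore A) (le_normalizer_piCoreOf hm.2),
      Fusion.cj_eq_self_of_mem hm.1])
  have hnM : M ⊓ A ≤ Subgroup.normalizer (C : Set G) := fun m hm => mem_normalizer_of_cj_le (by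
    rw [← hMA, Fusion.cj_inf, cj_eq_self (H := sigmaCore M) (le_normalizer_piCoreOf hm.1),
      Fusion.cj_eq_self_of_mem hm.2])
  -- the fixed points of `K_A` lie in `K`
  have hCAM : CA ≤ M := (le_sup_right.trans hle).trans inf_le_left
  have hCAκ : ∀ q : ℕ, q.Prime → q ∣ Nat.card CA → q ∈ kappa M := by
    intro q hq hqd
    haveI := Fact.mk hq
    obtain ⟨⟨z, hz⟩, hzo⟩ := exists_prime_orderOf_dvd_card' q hqd
    rw [Subgroup.orderOf_mk] at hzo
    refine fixed_kappa hG hM hA hne.symm (hCAM hz) hzo (fun h => ?_) hy.1 hy1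
      (Subgroup.mem_centralizer_iff.1 hz.2 y (hCKA hy)).symm
      (star_centralizer_le hG hA hKA' hKA1 hz (ne_one_of_order hzo))
    obtain ⟨g, hg⟩ := conjugate_of_sigma hG hM hA h
      ((sigmaCore_hall hG hA).1.2.1 q hq (hzo ▸ Subgroup.orderOf_dvd_natCard _ hz.1))
    exact hAM g hg
  have hKMA : K ≤ M ⊓ A := le_inf hK.1 hKA
  have hCAK : CA ≤ K := by
    refine le_sup_right.trans (Subgroup.relIndex_eq_one.1 ?_ : K ⊔ CA ≤ K)
    by_contra hne'
    obtain ⟨q, hq, hd⟩ := Nat.exists_prime_and_dvd hne'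
    have h1 := Solv.card_sup_mul_card_inf' CA K (hKMA.trans hnA)
    have h2 : q ∣ Nat.card CA * Nat.card K := by
      rw [← h1, sup_comm]
      exact (hd.trans (Subgroup.relIndex_dvd_card _ _)).mul_right _
    have hqκ : q ∈ kappa M := ((Nat.Prime.dvd_mul hq).1 h2).elim (hCAκ q hq) (hK.2.1 q hq)
    exact hK.2.2 q hq hqκ (dvd_relIndex_trans le_sup_left (sup_le hK.1 hCAM) hd)
  have hD : M ⊓ A = K ⊔ C := by
    refine le_antisymm ?_ (sup_le hKMA (le_inf (inf_le_left.trans hσM) hCA))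
    rw [← normalizer_eq hG hM hK hF hCAK (fun h => ne_one_of_order hxo (Subgroup.mem_bot.1 (h ▸ hxCA)))
      (hKMA.trans hnA)]
    exact le_inf inf_le_left hnA
  refine ⟨KA, EA, UA, hKA', hKA1, hFA, hAM, htA, hxCA, hCKA, hCAK, hD, le_antisymm (hle.trans hD.le) ?_⟩
  rw [← hD, ← normalizer_eq hG hA hKA' hFA hCKA hC1 ((le_sup_left.trans hle).trans hnM)]
  exact le_inf inf_le_right hnM

/-- In the case of a partner with nontrivial factor, `K` is the fixed point group of `K^*`. -/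
theorem partner_prime (hG : IsMinSimpleOddOrder G) {KA EA UA : Subgroup G}
    (hM : IsCoatom M) (hK : IsPiHallOf (kappa M) K M) (hK1 : K ≠ ⊥) (hA : IsCoatom A)
    (hKA : IsPiHallOf (kappa A) KA A) (hFA : Frame A KA EA UA) (hKA1 : KA ≠ ⊥) (hUA : UA ≠ ⊥)
    (hCKA : sigmaCore M ⊓ Subgroup.centralizer (K : Set G) ≤ KA)
    (hCAK : sigmaCore A ⊓ Subgroup.centralizer (KA : Set G) ≤ K)
    (hZ : KA ⊔ (sigmaCore A ⊓ Subgroup.centralizer (KA : Set G)) =
        K ⊔ (sigmaCore M ⊓ Subgroup.centralizer (K : Set G))) :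
    KA = sigmaCore M ⊓ Subgroup.centralizer (K : Set G) ∧
      K = sigmaCore A ⊓ Subgroup.centralizer (KA : Set G) ∧ IsCyclic ↥K := by
  have hp := prime_card hG hA hKA hFA hKA1 hUA
  set C := sigmaCore M ⊓ Subgroup.centralizer (K : Set G) with hC
  set CA := sigmaCore A ⊓ Subgroup.centralizer (KA : Set G) with hCA
  have hKAC : KA = C := by
    refine (Subgroup.eq_of_le_of_card_ge hCKA (le_of_eq ?_)).symm
    exact ((Nat.dvd_prime hp).1 (Subgroup.card_dvd_of_le hCKA)).elim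
      (fun h => absurd (Subgroup.card_eq_one.1 h) (star_ne_bot hG hM hK hK1)) fun h => h.symm
  have hKC : K ⊓ C = ⊥ := Solv.coprime_inf (Nat.coprime_of_dvd fun q hq h1 h2 =>
    (hK.2.1 q hq h1).2.2.1 ((sigmaCore_hall hG hM).1.2.1 q hq (h2.trans (Subgroup.card_dvd_of_le inf_le_left))))
  have hKeq : K = CA := by
    refine le_antisymm (fun k hk => ?_) hCAK
    have h : k ∈ ((KA ⊔ CA : Subgroup G) : Set G) := by
      rw [hZ]
      exact Subgroup.mem_sup_left hk
    rw [Subgroup.coe_mul_of_right_le_normalizer_left _ _ ((inf_le_right.trans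
      (Subgroup.centralizer_le_normalizer _)) : CA ≤ Subgroup.normalizer (KA : Set G))] at h
    obtain ⟨y, hy, z, hz, rfl⟩ := h
    have h1 : y ∈ K ⊓ C := ⟨by simpa using K.mul_mem hk (K.inv_mem (hCAK hz)), hKAC ▸ hy⟩
    rw [hKC, Subgroup.mem_bot] at h1
    show y * z ∈ CA
    rw [h1, one_mul]
    exact hz
  refine ⟨hKAC, hKeq, ?_⟩
  -- a Z-group inside a nilpotent group
  obtain ⟨q, hq, hqd⟩ := Nat.exists_prime_and_dvd fun h => hUA (Subgroup.card_eq_one.1 h)
  haveI := Fact.mk hq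
  have hqU := hFA.hall.2.1 q hq hqd
  have hqA : q ∣ Nat.card A := hqd.trans (Subgroup.card_dvd_of_le hFA.hall.1)
  obtain ⟨Q⟩ : Nonempty (Sylow q ↥A) := inferInstance
  have hnil := (Cfsg.Agent.S1429.result hG A hA (fun h => hqU.2.1 (h q hq hqA hqU.2.2)) q hqA
    (fun h => h.elim hqU.2.2 hqU.2.1) Q).2.2
  have hKσ : K ≤ sigmaCore A := hKeq.le.trans inf_le_left
  haveI : Group.IsNilpotent ↥K := by
    haveI := hnil
    exact Group.nilpotent_of_mulEquiv (Subgroup.subgroupOfEquivOfLe hKσ)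
  haveI : IsZGroup ↥K := ⟨fun p hp P => by
    haveI := Fact.mk hp
    set S := (P : Subgroup ↥K).map K.subtype with hS
    have hSK : S ≤ K := Subgroup.map_subtype_le _
    by_cases hpK : p ∣ Nat.card K
    · haveI : IsCyclic ↥S := Disjoint.cyclic_of_prank hG (P.isPGroup'.map K.subtype) (hSK.trans hK.1)
        (rank_one hG hM (hK.2.1 p hp hpK))
      exact isCyclic_of_surjective ((P : Subgroup ↥K).equivMapOfInjective K.subtype K.subtype_injective).symm
        (MulEquiv.surjective _)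
    · have h0 : (P : Subgroup ↥K) = ⊥ := by
        refine Subgroup.card_eq_one.1 ?_
        obtain ⟨j, hj⟩ := IsPGroup.iff_card.1 P.isPGroup'
        rcases Nat.eq_zero_or_pos j with h | h
        · rw [hj, h, pow_zero]
        · exact absurd ((dvd_pow_self p h.ne').trans (hj ▸ Subgroup.card_subgroup_dvd_card _)) hpK
      rw [h0]
      infer_instance⟩
  infer_instance

end Cfsg.Agent.OddLocal.Kappa
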