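import Cfsg.Agent.Lib.OddLocal.CNFrob
import Cfsg.Agent.Lib.Fusion.Cores

/-!
The shape of nilpotent fixed-point-free groups; coprime fixed-point-freeness in CN-groups.
-/

set_option autoImplicit false
open Cfsg
open Cfsg.Agent.Perm.Fpf

namespace Cfsg.Agent.OddLocal.CN

universe u v w

/-- nilpotent fixed-point-free groups are cyclic or odd cyclic times quaternion -/
theorem nilpotent_structure {E : Type w} [Group E] [Finite E] (hf : HasFpf E) (hnil : Group.IsNilpotent E) :
    IsCyclic E ∨ ∃ C Q : Subgroup E, C ⊔ Q = ⊤ ∧ (∀ a ∈ C, ∀ b ∈ Q, a * b = b * a) ∧ IsCyclic C ∧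
      Odd (Nat.card C) ∧ ∃ n : ℕ, Nonempty (↥Q ≃* QuaternionGroup (2 ^ n)) := by
  refine hf.elim fun ρ hρ => ?_
  haveI := hnil
  haveI := Fact.mk Nat.prime_two
  obtain ⟨Q⟩ : Nonempty (Sylow 2 E) := inferInstance
  rcases hρ.isCyclic_or_quaternion (Q : Subgroup E) Q.isPGroup' with hc | ⟨-, n, hn⟩
  · left
    haveI : IsZGroup E := ⟨fun p hp P => by
      haveI := Fact.mk hp
      rcases hρ.isCyclic_or_quaternion (P : Subgroup E) P.isPGroup' with h | ⟨rfl, -⟩
      · exact h
      · obtain ⟨x, hx⟩ := MulAction.exists_smul_eq E Q P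
        rw [← hx, Sylow.smul_def, Sylow.pointwise_smul_def]
        haveI := hc
        exact isCyclic_of_surjective (Subgroup.equivSMul (MulAut.conj x) (Q : Subgroup E)).toMonoidHom
          (Subgroup.equivSMul (MulAut.conj x) (Q : Subgroup E)).surjective⟩
    infer_instance
  · right
    haveI hQn := Cfsg.Agent.Perm.sylow_normal_of_nilpotent hnil Q
    obtain ⟨C, hC⟩ := Subgroup.exists_right_complement'_of_coprime (N := (Q : Subgroup E)) Q.card_coprime_index
    have hodd : Odd (Nat.card ↥C) := by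
      rw [← hC.symm.index_eq_card, ← Nat.not_even_iff_odd, even_iff_two_dvd]
      exact Q.not_dvd_index
    have hcyc : IsCyclic ↥C := by
      haveI : IsZGroup ↥C := hρ.isZGroup_of_odd (fun h => Nat.not_even_iff_odd.2 hodd (even_iff_two_dvd.2 h))
      infer_instance
    refine ⟨C, Q, by rw [sup_comm]; exact hC.sup_eq_top, fun a ha b hb => ?_, hcyc, hodd, n, hn⟩
    obtain ⟨k, hk⟩ := Q.isPGroup' ⟨b, hb⟩
    have hcop : (orderOf a).Coprime 2 := by
      refine Nat.Coprime.coprime_dvd_left (Subgroup.orderOf_mk a ha ▸ orderOf_dvd_natCard (⟨a, ha⟩ : ↥C)) ?_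
      exact Nat.coprime_two_right.2 hodd
    -- `C` centralises `Q`
    have key : ∀ c ∈ C, c ∈ Subgroup.centralizer ({b} : Set E) := by
      intro c hc
      have h : (Subgroup.centralizer ({b} : Set E)).relIndex C = 1 := by
        rw [Subgroup.relIndex, Nat.eq_one_iff_not_exists_prime_dvd]
        intro q hq hd
        haveI := Fact.mk hq
        obtain ⟨S⟩ : Nonempty (Sylow q ↥C) := inferInstance
        refine S.not_dvd_index (hd.trans (Subgroup.index_dvd_of_le fun s hs => ?_))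
        rw [Subgroup.mem_subgroupOf, Subgroup.mem_centralizer_singleton_iff]
        obtain ⟨l, hl⟩ := S.isPGroup' ⟨s, hs⟩
        rcases eq_or_ne q 2 with rfl | hq2
        · have h2 : (s : E) = 1 := by
            rw [← orderOf_eq_one_iff]
            refine Nat.eq_one_of_dvd_coprimes ((Nat.coprime_two_right.2 hodd).pow_right l) ?_
              (orderOf_dvd_of_pow_eq_one (congrArg (fun z => ((z : ↥C) : E)) (congrArg Subtype.val hl)))
            exact (Subgroup.orderOf_coe s).symm ▸ orderOf_dvd_natCard s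
          rw [h2, one_mul, mul_one]
        · exact commute_in (Cfsg.Agent.Solv.isNilpotent_of_le (H := (⊤ : Subgroup E)) le_rfl inferInstance) hq2
            (Subgroup.mem_top _) (Subgroup.mem_top _) ⟨l, congrArg (fun z => ((z : ↥C) : E)) (congrArg Subtype.val hl)⟩
            ⟨k, congrArg Subtype.val hk⟩
      exact Subgroup.relIndex_eq_one.1 h hc
    exact Subgroup.mem_centralizer_singleton_iff.1 (key a ha)

variable {G : Type u} [Group G] [Finite G]

/-- in a CN-group, subgroups of order prime to `p` act fixed-point-freely on a normal `p`-subgroup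
containing its centraliser -/
theorem fpf_on_pcore (hCN : IsCNGroup G) {p : ℕ} [Fact p.Prime] (P : Subgroup G) [P.Normal]
    (hPp : IsPGroup p P) (hcent : Subgroup.centralizer (P : Set G) ≤ P) (B : Subgroup G)
    (hB : (Nat.card B).Coprime p) : ∀ b ∈ B, b ≠ 1 → P ⊓ Subgroup.centralizer ({b} : Set G) = ⊥ := by
  intro b hb hb1
  rw [eq_bot_iff]
  rintro x ⟨hxP, hxb⟩
  rw [Subgroup.mem_bot]
  by_contra hx1
  obtain ⟨q, hq, hqd⟩ := Nat.exists_prime_and_dvd (mt orderOf_eq_one_iff.1 hb1)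
  haveI := Fact.mk hq
  set b' := b ^ (orderOf b / q) with hb'
  have hbo : orderOf b' = q := orderOf_pow_orderOf_div (orderOf_pos b).ne' hqd
  have hqp : q ≠ p := fun h => hq.ne_one (Nat.eq_one_of_dvd_coprimes hB
    (hqd.trans (Subgroup.orderOf_mk b hb ▸ orderOf_dvd_natCard (⟨b, hb⟩ : ↥B))) (h ▸ dvd_rfl))
  have hbq : ∃ k : ℕ, b' ^ q ^ k = 1 := ⟨1, by rw [pow_one, ← hbo, pow_orderOf_eq_one]⟩
  have hxb' : b' * x = x * b' := ((show Commute x b from Subgroup.mem_centralizer_singleton_iff.1 hxb).pow_right _).symm.eq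
  obtain ⟨z, -, hz1, hzc⟩ := Cfsg.Agent.Fusion.exists_central_of_normal hPp (⊤ : Subgroup ↥P) (by
    intro h
    exact hx1 (congrArg Subtype.val (Subgroup.eq_bot_iff_forall _ |>.1 h ⟨x, hxP⟩ (Subgroup.mem_top _))))
  have hz1' : (z : G) ≠ 1 := fun h => hz1 (Subtype.ext h)
  have hzP : ∀ s ∈ P, s * (z : G) = (z : G) * s := fun s hs =>
    congrArg Subtype.val (Subgroup.mem_center_iff.1 hzc ⟨s, hs⟩)
  have hpp : ∀ s ∈ P, ∃ k : ℕ, s ^ p ^ k = 1 := fun s hs => by
    obtain ⟨k, hk⟩ := hPp ⟨s, hs⟩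
    exact ⟨k, congrArg Subtype.val hk⟩
  have hbz : b' * (z : G) = (z : G) * b' := commute_in (hCN x hx1) hqp
    (Subgroup.mem_centralizer_singleton_iff.2 hxb')
    (Subgroup.mem_centralizer_singleton_iff.2 (hzP x hxP).symm) hbq (hpp _ z.2)
  have hbP : b' ∈ P := hcent (Subgroup.mem_centralizer_iff.2 fun s hs => (commute_in (hCN _ hz1') hqp
    (Subgroup.mem_centralizer_singleton_iff.2 hbz)
    (Subgroup.mem_centralizer_singleton_iff.2 (hzP s hs)) hbq (hpp s hs)).symm)
  obtain ⟨k, hk⟩ := hPp ⟨b', hbP⟩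
  refine hqp ((Nat.prime_dvd_prime_iff_eq hq Fact.out).1 (hq.dvd_of_dvd_pow (m := p) (n := k) ?_))
  exact hbo ▸ orderOf_dvd_of_pow_eq_one (congrArg Subtype.val hk)

/-- the same, as a fixed-point-free representation -/
theorem hasFpf_on_pcore (hCN : IsCNGroup G) {p : ℕ} [Fact p.Prime] (P : Subgroup G) [P.Normal]
    (hPp : IsPGroup p P) (hP1 : P ≠ ⊥) (hcent : Subgroup.centralizer (P : Set G) ≤ P) (B : Subgroup G)
    (hB : (Nat.card B).Coprime p) : HasFpf ↥B := by
  obtain ⟨x, hx, hx1, hxc⟩ := Cfsg.Agent.Fusion.exists_central_of_normal hPp (⊤ : Subgroup ↥P) (fun h => hP1 (by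
    rw [Subgroup.eq_bot_iff_forall] at h ⊢
    exact fun y hy => congrArg Subtype.val (h ⟨y, hy⟩ (Subgroup.mem_top _))))
  obtain ⟨W, hW⟩ : ∃ W, W = (Subgroup.center ↥P).map P.subtype := ⟨_, rfl⟩
  haveI : W.Normal := hW ▸ ConjAct.normal_of_characteristic_of_normal
  haveI : IsMulCommutative ↥W := ⟨⟨fun a b => Subtype.ext (by
    obtain ⟨a', ha', ea⟩ := hW.le a.2
    obtain ⟨b', hb', eb⟩ := hW.le b.2
    show (a : G) * b = b * a
    rw [← ea, ← eb, ← map_mul, ← map_mul, Subgroup.mem_center_iff.1 hb' a'])⟩⟩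
  have hWP : W ≤ P := hW ▸ Subgroup.map_subtype_le _
  refine hasFpf_of_conj (W := W) (fun h => hx1 ?_) (by rw [Subgroup.normalizer_eq_top]; exact le_top) ?_
  · have : (x : G) ∈ W := hW ▸ Subgroup.mem_map_of_mem P.subtype hxc
    rw [h, Subgroup.mem_bot] at this
    exact Subtype.ext this
  · intro b hb hb1
    exact le_bot_iff.1 ((inf_le_inf_right _ hWP).trans (fpf_on_pcore hCN P hPp hcent B hB b hb hb1).le)

end Cfsg.Agent.OddLocal.CN
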