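import Cfsg.Agent.Lib.OddLocal.CN
import Cfsg.Agent.Lib.Perm.Fpf.Structure
import Cfsg.Agent.Lib.Perm.Fpf.Entry

/-!
Frobenius complements inside CN-groups are nilpotent.
-/

set_option autoImplicit false
open Cfsg
open Cfsg.Agent.Perm.Fpf

namespace Cfsg.Agent.OddLocal.CN

universe u v w

section rep

variable {K : Type u} [Field K] {V : Type v} [AddCommGroup V] [Module K V]
  {G : Type w} [Group G] [Finite G] {ρ : G →* Module.End K V}

/-- in a fixed-point-free group, elements of prime order commute with the cyclic prime-order subgroups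
of another prime which they normalise -/
theorem commute_of_normalizes (h : IsFpf ρ) [Nontrivial V] {a b : G} {r q : ℕ} [Fact r.Prime]
    [Fact q.Prime] (ha : orderOf a = r) (hb : orderOf b = q) (hn : b * a * b⁻¹ ∈ Subgroup.zpowers a) :
    b * a = a * b := by
  by_contra hne
  have ha1 : a ≠ 1 := fun e => (Fact.out : r.Prime).ne_one (by rw [← ha, e, orderOf_one])
  have hb1 : b ≠ 1 := fun e => (Fact.out : q.Prime).ne_one (by rw [← hb, e, orderOf_one])
  have hmem : ∀ k : ℕ, b ^ k * a⁻¹ * (b ^ k)⁻¹ ∈ Subgroup.zpowers a := by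
    intro k
    induction k with
    | zero => simp
    | succ k ih =>
      obtain ⟨l, hl⟩ := ih
      obtain ⟨m, hm⟩ := hn
      have e : b ^ (k + 1) * a⁻¹ * (b ^ (k + 1))⁻¹ = b * (b ^ k * a⁻¹ * (b ^ k)⁻¹) * b⁻¹ := by
        rw [pow_succ']; group
      rw [e, ← hl]
      show b * a ^ l * b⁻¹ ∈ _
      rw [← conj_zpow, ← hm]
      exact Subgroup.zpow_mem _ (Subgroup.zpow_mem _ (Subgroup.mem_zpowers a) m) l
  have hterm : ∀ k ∈ Finset.range q, k ≠ 0 →
      ∑ t ∈ Finset.range r, ρ (a ^ t * b * (a ^ t)⁻¹) ^ k = 0 := by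
    intro k hk hk0
    obtain ⟨c, hc⟩ : ∃ c, c = a * (b ^ k * a⁻¹ * (b ^ k)⁻¹) := ⟨_, rfl⟩
    obtain ⟨l, hl⟩ := hmem k
    have hcomm : Commute a (b ^ k * a⁻¹ * (b ^ k)⁻¹) := hl ▸ Commute.self_zpow a l
    have har : a ^ r = 1 := ha ▸ pow_orderOf_eq_one a
    have hcr : c ^ r = 1 := by
      rw [hc, hcomm.mul_pow, conj_pow, inv_pow, har, inv_one, mul_one, mul_inv_cancel, one_mul]
    have hc1 : c ≠ 1 := by
      intro e
      rw [hc] at e
      have hbk : Commute (b ^ k) a := by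
        show b ^ k * a = a * b ^ k
        calc b ^ k * a = (a * (b ^ k * a⁻¹ * (b ^ k)⁻¹)) * (b ^ k * a) := by rw [e, one_mul]
          _ = a * b ^ k := by group
      have hord : orderOf (b ^ k) = orderOf b := by
        rw [hb]
        refine orderOf_eq_prime (by rw [← pow_mul, mul_comm, pow_mul, ← hb, pow_orderOf_eq_one, one_pow]) fun h1 => ?_
        exact absurd (Nat.le_of_dvd (Nat.pos_of_ne_zero hk0) (hb ▸ orderOf_dvd_of_pow_eq_one h1))
          (not_le.2 (Finset.mem_range.1 hk))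
      have hbz : b ∈ Subgroup.zpowers (b ^ k) := by
        rw [Subgroup.eq_of_le_of_card_ge (Subgroup.zpowers_le.2 (Subgroup.npow_mem_zpowers b k))
          (by rw [Nat.card_zpowers, Nat.card_zpowers, hord])]
        exact Subgroup.mem_zpowers b
      obtain ⟨j, hj⟩ := hbz
      exact hne (hj ▸ (hbk.zpow_left j).eq)
    have e : ∀ t : ℕ, ρ (a ^ t * b * (a ^ t)⁻¹) ^ k = ρ c ^ t * ρ (b ^ k) := by
      intro t
      rw [← map_pow, ← map_pow, ← map_mul, conj_pow]
      congr 1
      rw [hc, hcomm.mul_pow, conj_pow, inv_pow]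
      group
    simp only [e, ← Finset.sum_mul]
    rw [h.geom_sum_zero hc1 hcr, zero_mul]
  have hsum : ∑ k ∈ Finset.range q, ∑ t ∈ Finset.range r, ρ (a ^ t * b * (a ^ t)⁻¹) ^ k = 0 := by
    rw [Finset.sum_comm]
    refine Finset.sum_eq_zero fun t _ => h.geom_sum_zero ?_ ?_
    · exact fun e => hb1 (conj_eq_one_iff.1 e)
    · rw [conj_pow, ← hb, pow_orderOf_eq_one, mul_one, mul_inv_cancel]
  rw [Finset.sum_eq_single 0 hterm
    (fun h0 => absurd (Finset.mem_range.2 (Fact.out : q.Prime).pos) h0)] at hsum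
  simp only [pow_zero, Finset.sum_const, Finset.card_range, nsmul_eq_mul, mul_one] at hsum
  rw [← map_natCast (algebraMap K (Module.End K V)), ← map_zero (algebraMap K (Module.End K V))] at hsum
  exact h.prime_ne_zero ha ((algebraMap K (Module.End K V)).injective hsum)

/-- a nontrivial fixed-point-free group has a normal subgroup of prime order -/
theorem exists_normal_prime (h : IsFpf ρ) [Nontrivial V] [Nontrivial G] :
    ∃ a : G, ∃ r : ℕ, r.Prime ∧ orderOf a = r ∧ (Subgroup.zpowers a).Normal := by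
  by_cases h2 : 2 ∣ Nat.card G
  · obtain ⟨z, hz⟩ := exists_prime_orderOf_dvd_card' 2 h2
    have hz1 : z ≠ 1 := fun e => by rw [e, orderOf_one] at hz; exact absurd hz (by norm_num)
    have hzc := h.involution_central hz1 (hz ▸ pow_orderOf_eq_one z)
    refine ⟨z, 2, Nat.prime_two, hz, ⟨fun n hn g => ?_⟩⟩
    obtain ⟨j, rfl⟩ := hn
    show g * z ^ j * g⁻¹ ∈ _
    rw [(Commute.zpow_right (hzc g) j).eq, mul_inv_cancel_right]
    exact Subgroup.zpow_mem _ (Subgroup.mem_zpowers z) j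
  · haveI : IsZGroup ↥(⊤ : Subgroup G) := h.isZGroup_of_odd (by rwa [Subgroup.card_top])
    haveI hsol : Group.IsSolvable ↥(⊤ : Subgroup G) := inferInstance
    obtain ⟨N, hNn, hN1, hNmin⟩ := Cfsg.Agent.Solv.exists_minimal_normal (G := G)
    obtain ⟨hab, r, hr, hexp, -⟩ := Cfsg.Agent.Solv.minimal_normal_elementaryAbelian N
      (Cfsg.Agent.Solv.isSolvable_of_le le_top hsol) hN1 hNmin
    haveI := Fact.mk hr
    obtain ⟨⟨a, haN⟩, ha1⟩ := Subgroup.ne_bot_iff_exists_ne_one.1 hN1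
    have ha1' : a ≠ 1 := fun e => ha1 (Subtype.ext e)
    have hNeq : N = Subgroup.zpowers a := by
      refine le_antisymm (fun x hx => ?_) (Subgroup.zpowers_le.2 haN)
      exact h.commute_mem_zpowers (hexp x hx) (hexp a haN) ha1'
        (congrArg Subtype.val (hab.is_comm.comm ⟨x, hx⟩ ⟨a, haN⟩))
    exact ⟨a, r, hr, orderOf_eq_prime (hexp a haN) ha1', hNeq ▸ hNn⟩

theorem commute_prime_power {p : ℕ} (hp : p.Prime) {x : G} (hx : ∃ k : ℕ, x ^ p ^ k = 1) (hx1 : x ≠ 1) :
    ∃ m : ℕ, orderOf (x ^ m) = p := by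
  obtain ⟨k, hk⟩ := hx
  obtain ⟨j, -, hj⟩ := (Nat.dvd_prime_pow hp).1 (orderOf_dvd_of_pow_eq_one hk)
  rcases j with _ | j
  · exact absurd (orderOf_eq_one_iff.1 (by simpa using hj)) hx1
  refine ⟨p ^ j, ?_⟩
  rw [orderOf_pow' _ (pow_ne_zero _ hp.ne_zero), hj, Nat.gcd_eq_right (pow_dvd_pow p (Nat.le_succ j)),
    pow_succ, Nat.mul_div_cancel_left _ (pow_pos hp.pos j)]

/-- a CN-group with a fixed-point-free representation is nilpotent -/
theorem nilpotent_of_isFpf (h : IsFpf ρ) [Nontrivial V] (hCN : IsCNGroup G) :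
    Group.IsNilpotent (⊤ : Subgroup G) := by
  rcases subsingleton_or_nontrivial G with hs | hn
  · exact nilpotent_of_commute fun _ _ _ _ _ a _ b _ _ _ => Subsingleton.elim _ _
  obtain ⟨a₀, r, hr, ha₀, hnorm⟩ := exists_normal_prime h
  haveI := Fact.mk hr
  have ha1 : a₀ ≠ 1 := fun e => hr.ne_one (by rw [← ha₀, e, orderOf_one])
  have hcent : ∀ b : G, ∀ q : ℕ, q.Prime → orderOf b = q → b ∈ Subgroup.centralizer ({a₀} : Set G) := by
    intro b q hq hb
    haveI := Fact.mk hq
    exact Subgroup.mem_centralizer_singleton_iff.2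
      (commute_of_normalizes h ha₀ hb (hnorm.conj_mem a₀ (Subgroup.mem_zpowers a₀) b))
  refine nilpotent_of_commute fun p q hp hq hpq x _ y _ hx hy => ?_
  rcases eq_or_ne x 1 with rfl | hx1
  · simp
  rcases eq_or_ne y 1 with rfl | hy1
  · simp
  haveI := Fact.mk hp
  haveI := Fact.mk hq
  obtain ⟨m, hm⟩ := commute_prime_power hp hx hx1
  obtain ⟨n, hn'⟩ := commute_prime_power hq hy hy1
  have hbp : ∃ k : ℕ, (x ^ m) ^ p ^ k = 1 := ⟨1, by rw [pow_one, ← hm, pow_orderOf_eq_one]⟩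
  have hcq : ∃ k : ℕ, (y ^ n) ^ q ^ k = 1 := ⟨1, by rw [pow_one, ← hn', pow_orderOf_eq_one]⟩
  have hbc : x ^ m * y ^ n = y ^ n * x ^ m :=
    commute_in (hCN a₀ ha1) hpq (hcent _ p hp hm) (hcent _ q hq hn') hbp hcq
  have hb1 : x ^ m ≠ 1 := fun e => hp.ne_one (by rw [← hm, e, orderOf_one])
  have hc1 : y ^ n ≠ 1 := fun e => hq.ne_one (by rw [← hn', e, orderOf_one])
  have hxc : x * y ^ n = y ^ n * x :=
    commute_in (hCN _ hb1) hpq (Subgroup.mem_centralizer_singleton_iff.2 (Commute.self_pow x m).eq)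
      (Subgroup.mem_centralizer_singleton_iff.2 hbc.symm) hx hcq
  exact commute_in (hCN _ hc1) hpq (Subgroup.mem_centralizer_singleton_iff.2 hxc)
    (Subgroup.mem_centralizer_singleton_iff.2 (Commute.self_pow y n).eq) hx hy

end rep

variable {G : Type u} [Group G] [Finite G]

omit [Finite G] in
theorem subgroup (hCN : IsCNGroup G) (E : Subgroup G) : IsCNGroup ↥E := by
  intro g hg
  have h := hCN (g : G) (fun e => hg (Subtype.ext e))
  have hle : (Subgroup.centralizer ({g} : Set ↥E)).map E.subtype ≤ Subgroup.centralizer ({(g : G)} : Set G) := by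
    rintro _ ⟨c, hc, rfl⟩
    exact Subgroup.mem_centralizer_singleton_iff.2
      (congrArg Subtype.val (Subgroup.mem_centralizer_singleton_iff.1 hc))
  haveI := Cfsg.Agent.Solv.isNilpotent_of_le hle h
  exact Group.nilpotent_of_mulEquiv (Subgroup.equivMapOfInjective _ _ E.subtype_injective).symm

/-- Frobenius complements in CN-groups are nilpotent -/
theorem nilpotent_complement (hCN : IsCNGroup G) {E : Subgroup G} (hE : IsFrobeniusComplement E) :
    Group.IsNilpotent ↥E :=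
  (hasFpf_of_frobenius hE).elim fun _ρ hρ => by
    haveI := nilpotent_of_isFpf hρ (subgroup hCN E)
    exact Group.nilpotent_of_mulEquiv Subgroup.topEquiv

end Cfsg.Agent.OddLocal.CN
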