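import Cfsg.Prelude.Def_OddOrder
import Cfsg.Agent.S1458
import Cfsg.Agent.S1476
import Cfsg.Agent.Lib.OddLocal.CNStructure
import Cfsg.Agent.Lib.Fusion.ZJControl
import Cfsg.Agent.Lib.Fusion.Focal
import Cfsg.Agent.Lib.Fusion.NPC
import Cfsg.Agent.Lib.SSF.HU
import Cfsg.Agent.Lib.Solv.FrobeniusFPF
import Cfsg.Agent.Lib.Solv.ThompsonFPF
import Cfsg.Agent.Lib.Local.TypePBasic

/-!
Maximal subgroups of a minimal simple CN-group of odd order.
-/

set_option autoImplicit false

namespace Cfsg.Agent.OddLocal.CNMin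

open Cfsg
open scoped commutatorElement
open Cfsg.Agent.Fusion (SylIn cj exists_sylIn_ge sylIn_top sylIn_map mem_normalizer_iff_cj)

universe u

section Abstract

variable {X : Type u} [Group X] [Finite X]

theorem false_of_le_commutator {S M : Subgroup X} [M.Normal] (hM : M ≠ ⊤) (hsol : Group.IsSolvable X)
    (hsup : S ⊔ M = ⊤) (hS : S ≤ commutator X) : False := by
  haveI := hsol
  haveI : Nontrivial (X ⧸ M) := QuotientGroup.nontrivial_iff.2 hM
  haveI : Group.IsSolvable (X ⧸ M) := solvable_of_surjective (QuotientGroup.mk'_surjective M)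
  have h1 : (commutator X).map (QuotientGroup.mk' M) = ⊤ := by
    refine eq_top_iff.2 ?_
    rw [← Subgroup.map_top_of_surjective _ (QuotientGroup.mk'_surjective M), ← hsup, Subgroup.map_sup,
      QuotientGroup.map_mk'_self, sup_bot_eq]
    exact Subgroup.map_mono hS
  rw [commutator_def, Subgroup.map_commutator, Subgroup.map_top_of_surjective _ (QuotientGroup.mk'_surjective M),
    ← commutator_def] at h1
  haveI : Group.IsPerfect (X ⧸ M) := ⟨h1⟩
  exact Group.IsPerfect.not_isSolvable (G := X ⧸ M) inferInstance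

theorem exists_central {R : Subgroup X} {p : ℕ} [Fact p.Prime] (hR : IsPGroup p R) (hne : R ≠ ⊥) :
    ∃ z ∈ R, z ≠ 1 ∧ ∀ r ∈ R, r * z = z * r := by
  obtain ⟨z, -, hz1, hzc⟩ := Fusion.exists_central_of_normal hR (⊤ : Subgroup R) (fun h => hne (by
    rw [Subgroup.eq_bot_iff_forall] at h ⊢
    exact fun y hy => congrArg Subtype.val (h ⟨y, hy⟩ (Subgroup.mem_top _))))
  exact ⟨z, z.2, fun h => hz1 (Subtype.ext h), fun r hr =>
    congrArg Subtype.val (Subgroup.mem_center_iff.1 hzc ⟨r, hr⟩)⟩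

theorem nilpotent_center {K : Subgroup X} (hK : Group.IsNilpotent K) (hne : K ≠ ⊥) :
    ∃ z ∈ K, z ≠ 1 ∧ ∀ r ∈ K, r * z = z * r := by
  haveI := hK
  haveI : Nontrivial K := (Subgroup.nontrivial_iff_ne_bot K).2 hne
  haveI : Nontrivial ↥(Subgroup.center K) := (Subgroup.nontrivial_iff_ne_bot _).2 (Group.IsNilpotent.center_ne_bot _)
  obtain ⟨⟨z, hz⟩, hz1⟩ := exists_ne (1 : ↥(Subgroup.center K))
  exact ⟨z, z.2, fun h => hz1 (Subtype.ext (Subtype.ext h)), fun r hr =>
    congrArg Subtype.val (Subgroup.mem_center_iff.1 hz ⟨r, hr⟩)⟩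

variable {p : ℕ} [hp : Fact p.Prime]

theorem threeStep_core (h : IsThreeStepGroup p X) : pPrimeCore p X = ⊥ := by
  obtain ⟨hR, A, -, -, -, -, hn, -, ⟨n, hidx⟩, hfpf, -⟩ := h
  rw [eq_bot_iff]
  intro y hy
  rw [Subgroup.mem_bot]
  haveI := hn
  have hyM : y ∈ pCore p X ⊔ A := by
    rw [← QuotientGroup.eq_one_iff, ← orderOf_eq_one_iff]
    refine Nat.eq_one_of_dvd_coprimes ((Fusion.mem_pPrimeCore_orderOf hy).pow_right n)
      (orderOf_map_dvd (QuotientGroup.mk' (pCore p X ⊔ A)) y) ?_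
    rw [← hidx, Subgroup.index_eq_card]
    exact orderOf_dvd_natCard _
  haveI : (pCore p X).Normal := Solv.pCore_normal p
  obtain ⟨r, hr, a, ha, rfl⟩ := Subgroup.mem_sup_of_normal_left.1 hyM
  obtain ⟨z, hzR, hz1, hzc⟩ := exists_central (Fusion.isPGroup_pCore p X) hR
  have hc : z * (r * a) = (r * a) * z := Subgroup.mem_centralizer_iff.1 (Fusion.pPrimeCore_commutes_pCore hy) z hzR
  have ha1 : a = 1 := by
    by_contra ha1
    refine hz1 (Subgroup.mem_bot.1 (hfpf a ha ha1 ▸ ⟨hzR, Subgroup.mem_centralizer_singleton_iff.2 ?_⟩))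
    have h2 : r * (z * a) = r * (a * z) := by rw [← mul_assoc, hzc r hr, mul_assoc, hc, mul_assoc]
    exact mul_left_cancel h2
  subst ha1
  rw [mul_one] at hy ⊢
  exact Subgroup.mem_bot.1 (Fusion.pPrimeCore_inf_pCore (p := p) (G := X) ▸ ⟨hy, hr⟩)

theorem threeStep_not_normal (h : IsThreeStepGroup p X) (S : Sylow p X) : ¬ (S : Subgroup X).Normal := by
  intro hn'
  obtain ⟨-, A, -, -, -, -, -, hne, ⟨n, hidx⟩, -, -⟩ := h
  haveI := hn'
  have hle : (S : Subgroup X) ≤ pCore p X ⊔ A := (Fusion.le_pCore S.isPGroup').trans le_sup_left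
  refine hne (Subgroup.index_eq_one.1 ?_)
  have hd := Subgroup.index_dvd_of_le hle
  rw [hidx] at hd ⊢
  rcases n with _ | n
  · rfl
  · exact absurd ((dvd_pow_self p (Nat.succ_ne_zero n)).trans hd) S.not_dvd_index

theorem threeStep_not_le_commutator (hsol : Group.IsSolvable X) (h : IsThreeStepGroup p X) (S : Sylow p X)
    (hS : (S : Subgroup X) ≤ commutator X) : False := by
  obtain ⟨-, A, -, -, -, -, hn, hne, ⟨n, hidx⟩, -, -⟩ := h
  haveI := hn
  refine false_of_le_commutator hne hsol (Subgroup.index_eq_one.1 ?_) hS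
  refine Nat.eq_one_of_dvd_coprimes ((hp.out.coprime_iff_not_dvd.2 S.not_dvd_index).symm.pow_right n)
    (Subgroup.index_dvd_of_le le_sup_left) ?_
  rw [← hidx]
  exact Subgroup.index_dvd_of_le le_sup_right

omit hp in
/-- The three shapes of a solvable CN-group of odd order. -/
theorem solvable_shape (hsol : Group.IsSolvable X) (hodd : Odd (Nat.card X)) (hCN : IsCNGroup X) :
    Group.IsNilpotent X ∨ (∃ q : ℕ, q.Prime ∧ IsThreeStepGroup q X) ∨
      ∃ K E : Subgroup X, K.Normal ∧ Subgroup.IsComplement' K E ∧ Group.IsNilpotent K ∧ K ≠ ⊥ ∧ E ≠ ⊥ ∧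
        (∀ e ∈ E, e ≠ 1 → K ⊓ Subgroup.centralizer ({e} : Set X) = ⊥) ∧
        (Nat.card K).Coprime (Nat.card E) ∧ commutator X ≤ K := by
  haveI := hsol
  rcases S1476.result hCN with h | ⟨K, E, hK, hc, hfr, hE⟩ | h
  · exact Or.inl h
  · refine Or.inr (Or.inr ⟨K, E, hK, hc, ?_⟩)
    have hcyc : IsCyclic E := by
      refine hE.resolve_right ?_
      rintro ⟨C, Q, -, -, -, -, n, ⟨e⟩⟩
      have hdvd : Nat.card ↥Q ∣ Nat.card X := Subgroup.card_subgroup_dvd_card Q
      rw [Nat.card_congr e.toEquiv, Nat.card_eq_fintype_card, QuaternionGroup.card] at hdvd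
      exact Nat.not_even_iff_odd.2 hodd (even_iff_two_dvd.2 ((dvd_mul_right 2 2).trans
          ((dvd_mul_right 4 _).trans hdvd)))
    have hfpf : ∀ e ∈ E, e ≠ 1 → K ⊓ Subgroup.centralizer ({e} : Set X) = ⊥ := fun e he he1 =>
      Solv.frob_fpf hfr hc.disjoint.eq_bot he he1
    obtain ⟨r, hr, hrd⟩ := Nat.exists_prime_and_dvd (show Nat.card E ≠ 1 from fun h1 => hfr.1 (Subgroup.card_eq_one.1 h1))
    haveI := Fact.mk hr
    obtain ⟨x, hx⟩ := exists_prime_orderOf_dvd_card' (G := E) r hrd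
    have hxr : (x : X) ^ r = 1 := by rw [← SubmonoidClass.coe_pow, ← hx, pow_orderOf_eq_one]; rfl
    have hx1 : (x : X) ≠ 1 := fun h1 => hr.ne_one (by rw [← hx, ← Subgroup.orderOf_coe, h1, orderOf_one])
    refine ⟨Solv.fpf_nilpotent K x hr hxr (by rw [Subgroup.normalizer_eq_top]; trivial) (hfpf x x.2 hx1), ?_, hfr.1,
      hfpf, ?_, ?_⟩
    · intro h1
      subst h1
      exact hfr.2.1 (Subgroup.isComplement'_bot_left.1 hc)
    · rw [← hc.index_eq_card]
      exact (Solv.frob_coprime hfr).symm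
    · haveI := hK
      haveI := hcyc
      have hlift : ∀ a : X, ∃ e ∈ E, QuotientGroup.mk' K a = QuotientGroup.mk' K e := fun a => by
        obtain ⟨⟨k, e⟩, hke, -⟩ := hc.existsUnique a
        refine ⟨e, e.2, ?_⟩
        rw [← show (k : X) * e = a from hke, map_mul,
          show QuotientGroup.mk' K (k : X) = 1 from (QuotientGroup.eq_one_iff _).2 k.2, one_mul]
      rw [commutator_def, Subgroup.commutator_le]
      intro a _ b _
      obtain ⟨e, he, hea⟩ := hlift a
      obtain ⟨f, hf, hfb⟩ := hlift b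
      refine (QuotientGroup.eq_one_iff _).1 ?_
      show QuotientGroup.mk' K ⁅a, b⁆ = 1
      rw [map_commutatorElement, hea, hfb, ← map_commutatorElement,
        commutatorElement_eq_one_iff_mul_comm.2 (congrArg Subtype.val (IsCyclic.commGroup.mul_comm (⟨e, he⟩ : E) ⟨f, hf⟩)), map_one]
  · exact Or.inr (Or.inl h)

omit hp in
/-- A normal subgroup inside a nilpotent normal subgroup meets its centre. -/
theorem meets_center {K R : Subgroup X} [R.Normal] (hK : Group.IsNilpotent K) (hne : R ⊓ K ≠ ⊥) :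
    ∃ z ∈ R ⊓ K, z ≠ 1 ∧ ∀ k ∈ K, k * z = z * k := by
  classical
  haveI := hK
  have hN : (R.subgroupOf K).Normal := inferInstance
  obtain ⟨y, hy, hy1⟩ := (Subgroup.bot_or_exists_ne_one _).resolve_left hne
  have hex : ∃ n, ∃ w : K, (w : X) ∈ R ∧ w ≠ 1 ∧ w ∈ Subgroup.upperCentralSeries K n :=
    ⟨Group.nilpotencyClass K, ⟨y, hy.2⟩, hy.1, fun h => hy1 (congrArg Subtype.val h),
      by rw [Subgroup.upperCentralSeries_nilpotencyClass]; trivial⟩
  obtain ⟨w, hwR, hw1, hwn⟩ := Nat.find_spec hex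
  obtain ⟨m, hm⟩ : ∃ m, Nat.find hex = m + 1 := by
    refine ⟨Nat.find hex - 1, ?_⟩
    have : Nat.find hex ≠ 0 := fun h0 => hw1 (by rw [h0, Subgroup.upperCentralSeries_zero] at hwn; exact Subgroup.mem_bot.1 hwn)
    omega
  rw [hm, Subgroup.mem_upperCentralSeries_succ_iff] at hwn
  refine ⟨w, ⟨hwR, w.2⟩, fun h => hw1 (Subtype.ext h), fun k hk => ?_⟩
  have h1 : ⁅w, (⟨k, hk⟩ : K)⁆ ∈ Subgroup.upperCentralSeries K m := hwn ⟨k, hk⟩
  have h2 : ⁅w, (⟨k, hk⟩ : K)⁆ = 1 := by
    by_contra h2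
    refine Nat.find_min hex (show m < Nat.find hex by omega) ⟨_, ?_, h2, h1⟩
    show (w : X) * k * (w : X)⁻¹ * k⁻¹ ∈ R
    rw [mul_assoc, mul_assoc]
    refine R.mul_mem hwR ?_
    rw [← mul_assoc]
    exact (inferInstance : R.Normal).conj_mem _ (R.inv_mem hwR) k
  exact (congrArg Subtype.val (commutatorElement_eq_one_iff_mul_comm.1 h2)).symm

end Abstract

variable {G : Type u} [Group G] [Finite G]

/-- A Frobenius decomposition of the subgroup `M` with kernel `K`. -/
structure IsKernel (M K : Subgroup G) : Prop where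
  le : K ≤ M
  norm : M ≤ Subgroup.normalizer (K : Set G)
  nilp : Group.IsNilpotent K
  ne_bot : K ≠ ⊥
  compl : ∃ E : Subgroup G, IsComplIn K E M ∧ E ≠ ⊥ ∧
    (∀ e ∈ E, e ≠ 1 → K ⊓ Subgroup.centralizer ({e} : Set G) = ⊥) ∧ (Nat.card K).Coprime (Nat.card E)
  comm : ⁅M, M⁆ ≤ K

theorem IsKernel.mem_of_commute {M K : Subgroup G} (h : IsKernel M K) {z : G} (hz : z ∈ K) (hz1 : z ≠ 1)
    (hzc : ∀ k ∈ K, k * z = z * k) {m : G} (hm : m ∈ M) (hc : m * z = z * m) : m ∈ K := by
  obtain ⟨E, ⟨-, -, -, hdec⟩, -, hfpf, -⟩ := h.compl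
  obtain ⟨k, hk, e, he, rfl⟩ := hdec m hm
  have he1 : e = 1 := by
    by_contra he1
    refine hz1 (Subgroup.mem_bot.1 (hfpf e he he1 ▸ ⟨hz, Subgroup.mem_centralizer_singleton_iff.2 ?_⟩))
    have h2 : k * (z * e) = k * (e * z) := by rw [← mul_assoc, hzc k hk, mul_assoc, ← hc, mul_assoc]
    exact mul_left_cancel h2
  rw [he1, mul_one]; exact hk

theorem IsKernel.not_dvd {M K : Subgroup G} (h : IsKernel M K) {p : ℕ} [hp : Fact p.Prime] (hd : p ∣ Nat.card K)
    {x : G} (hx : x ∈ M) {k : ℕ} (hxp : x ^ p ^ k = 1) : x ∈ K := by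
  obtain ⟨E, ⟨hKM, hEM, hKE, hdec⟩, -, -, hco⟩ := h.compl
  haveI : (K.subgroupOf M).Normal := (Subgroup.normal_subgroupOf_iff_le_normalizer hKM).2 h.norm
  obtain ⟨a, ha, e, he, rfl⟩ := hdec x hx
  have he1 : e = 1 := by
    have h1 : (⟨a * e, hx⟩ : M) = (⟨a, hKM ha⟩ : M) * ⟨e, hEM he⟩ := rfl
    have h2 : QuotientGroup.mk' (K.subgroupOf M) (⟨a * e, hx⟩ : M) = QuotientGroup.mk' (K.subgroupOf M) ⟨e, hEM he⟩ := by
      rw [h1, map_mul, show QuotientGroup.mk' (K.subgroupOf M) (⟨a, hKM ha⟩ : M) = 1 from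
        (QuotientGroup.eq_one_iff _).2 ha, one_mul]
    have h3 : QuotientGroup.mk' (K.subgroupOf M) (⟨e, hEM he⟩ : M) ^ p ^ k = 1 := by
      rw [← h2, ← map_pow, show (⟨a * e, hx⟩ : M) ^ p ^ k = 1 from Subtype.ext hxp, map_one]
    rw [← map_pow, QuotientGroup.mk'_apply, QuotientGroup.eq_one_iff] at h3
    have h4 : e ^ p ^ k = 1 := Subgroup.mem_bot.1 (hKE ▸ ⟨h3, pow_mem he _⟩)
    rw [← orderOf_eq_one_iff]
    exact Nat.eq_one_of_dvd_coprimes (((hp.out.coprime_iff_not_dvd.2 fun hdE =>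
        hp.out.ne_one (Nat.eq_one_of_dvd_coprimes hco hd hdE)).symm).pow_right k)
      (Subgroup.orderOf_mk e he ▸ orderOf_dvd_natCard (⟨e, he⟩ : E)) (orderOf_dvd_of_pow_eq_one h4)
  rw [he1, mul_one]; exact ha

theorem subgroup_shape {M : Subgroup G} (hsol : Group.IsSolvable M) (hodd : Odd (Nat.card G))
    (hCN : IsCNGroup G) :
    Group.IsNilpotent M ∨ (∃ q : ℕ, q.Prime ∧ IsThreeStepGroup q M) ∨ ∃ K, IsKernel M K := by
  rcases solvable_shape hsol (Odd.of_dvd_nat hodd (Subgroup.card_subgroup_dvd_card M))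
      (CN.subgroup hCN M) with h | h | ⟨K, E, hK, hc, hKn, hK1, hE1, hfpf, hco, hcomm⟩
  · exact Or.inl h
  · exact Or.inr (Or.inl h)
  refine Or.inr (Or.inr ⟨K.map M.subtype, Subgroup.map_subtype_le K, ?_, ?_, ?_, ⟨E.map M.subtype, ⟨?_, ?_, ?_, ?_⟩, ?_, ?_, ?_⟩, ?_⟩)
  · intro m hm
    haveI := hK
    exact (Subgroup.le_normalizer_map M.subtype) ⟨⟨m, hm⟩, by rw [Subgroup.normalizer_eq_top]; trivial, rfl⟩
  · haveI := hKn
    exact (Group.isNilpotent_congr (K.equivMapOfInjective M.subtype M.subtype_injective)).1 hKn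
  · rwa [Ne, Subgroup.map_eq_bot_iff_of_injective _ M.subtype_injective]
  · exact Subgroup.map_subtype_le K
  · exact Subgroup.map_subtype_le E
  · rw [← Subgroup.map_inf _ _ _ M.subtype_injective, hc.disjoint.eq_bot, Subgroup.map_bot]
  · intro m hm
    obtain ⟨⟨k, e⟩, hke, -⟩ := (hc.existsUnique (⟨m, hm⟩ : M))
    exact ⟨_, ⟨(k : M), k.2, rfl⟩, _, ⟨(e : M), e.2, rfl⟩, (congrArg Subtype.val hke).symm⟩
  · rwa [Ne, Subgroup.map_eq_bot_iff_of_injective _ M.subtype_injective]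
  · rintro _ ⟨e, he, rfl⟩ he1
    rw [eq_bot_iff]
    rintro _ ⟨⟨k, hk, rfl⟩, hkc⟩
    have h1 : k ∈ K ⊓ Subgroup.centralizer ({e} : Set M) := ⟨hk, Subgroup.mem_centralizer_singleton_iff.2
      (Subtype.ext (Subgroup.mem_centralizer_singleton_iff.1 hkc))⟩
    rw [hfpf e he (fun h => he1 (by rw [h]; rfl)), Subgroup.mem_bot] at h1
    rw [h1, map_one]; exact one_mem _
  · rwa [Subgroup.card_map_of_injective M.subtype_injective, Subgroup.card_map_of_injective M.subtype_injective]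
  · have h1 := Subgroup.map_mono (f := M.subtype) hcomm
    rwa [commutator_def, Subgroup.map_commutator, ← MonoidHom.range_eq_map, Subgroup.range_subtype] at h1

/-- The centre of the Thompson subgroup. -/
def zj (p : ℕ) (T : Subgroup G) : Subgroup G := inducedFunctor (Fusion.wZE p) T

variable (hG : IsMinSimpleOddOrder G) (hCN : IsCNGroup G)
variable {p : ℕ} [hp : Fact p.Prime]

include hG

theorem ne_two (hd : p ∣ Nat.card G) : p ≠ 2 := by
  rintro rfl
  exact Nat.not_even_iff_odd.2 hG.1 (even_iff_two_dvd.2 hd)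

theorem not_normal_of_ne_bot {H : Subgroup G} (hne : H ≠ ⊥) (htop : H ≠ ⊤) :
    Subgroup.normalizer (H : Set G) ≠ ⊤ := by
  intro h
  haveI := Subgroup.normalizer_eq_top_iff.1 h
  haveI := hG.2.1
  rcases (inferInstance : H.Normal).eq_bot_or_eq_top with h1 | h1
  exacts [hne h1, htop h1]

theorem nilpotent_ne_top {H : Subgroup G} (hH : Group.IsNilpotent H) : H ≠ ⊤ := by
  rintro rfl
  haveI : Group.IsNilpotent G := Group.nilpotent_of_mulEquiv Subgroup.topEquiv
  haveI := hG.2.1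
  exact hG.2.2.1 ⟨⟨fun a b => IsSimpleGroup.comm_iff_isSolvable.2 inferInstance a b⟩⟩

theorem zj_facts {T : Subgroup G} (hT : IsPGroup p T) (hne : T ≠ ⊥) :
    zj p T ≤ T ∧ zj p T ≠ ⊥ ∧ Subgroup.normalizer (T : Set G) ≤ Subgroup.normalizer (zj p T : Set G) ∧
      Subgroup.normalizer (zj p T : Set G) ≠ ⊤ := by
  obtain ⟨h1, h2, h3⟩ := Fusion.isConjugacyFunctor_induced (G := G) (Fusion.isCharPFunctor_wZE (p := p)) T hT
  refine ⟨h1, h2 hne, fun g hg => ?_, not_normal_of_ne_bot hG (h2 hne) fun h => ?_⟩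
  · refine mem_normalizer_iff_cj.2 ?_
    show (inducedFunctor (Fusion.wZE p) T).map (MulAut.conj g).toMonoidHom = _
    rw [← h3 g, show T.map (MulAut.conj g).toMonoidHom = T from Fusion.cj_eq_self hg]
    rfl
  · exact nilpotent_ne_top hG hT.isNilpotent (eq_top_iff.2 (h.ge.trans h1))

theorem sylow_le_commutator (S : Sylow p G) (hS : (S : Subgroup G) ≠ ⊥) :
    (S : Subgroup G) ≤ ⁅Subgroup.normalizer (zj p (S : Subgroup G) : Set G),
      Subgroup.normalizer (zj p (S : Subgroup G) : Set G)⁆ := by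
  have hd : p ∣ Nat.card G := by
    obtain ⟨n, hn⟩ := IsPGroup.iff_card.1 S.isPGroup'
    refine dvd_trans ?_ (Subgroup.card_subgroup_dvd_card (S : Subgroup G))
    rw [hn]
    exact dvd_pow_self p fun h => hS (Subgroup.eq_bot_of_card_eq _ (by rw [hn, h, pow_zero]))
  have hp2 := ne_two hG hd
  have hcom : commutator G = ⊤ := by
    haveI := hG.2.1
    refine ((inferInstance : (commutator G).Normal).eq_bot_or_eq_top).resolve_left fun h => hG.2.2.1 ⟨⟨fun a b => ?_⟩⟩
    exact commutatorElement_eq_one_iff_mul_comm.1 (Subgroup.mem_bot.1 (h ▸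
      Subgroup.commutator_mem_commutator (Subgroup.mem_top a) (Subgroup.mem_top b)))
  have h1 : (S : Subgroup G) = Fusion.focalIn (S : Subgroup G) ⊤ := by
    rw [← Fusion.inf_commutator_eq_focalIn_top (sylIn_top S), hcom, inf_top_eq]
  obtain ⟨N, hN⟩ : ∃ N, N = Subgroup.normalizer (zj p (S : Subgroup G) : Set G) := ⟨_, rfl⟩
  rw [← hN]
  have hSN : (S : Subgroup G) ≤ N := hN ▸ Subgroup.le_normalizer.trans (zj_facts hG S.isPGroup' hS).2.2.1
  refine h1.le.trans (le_trans ?_ (Fusion.focalIn_le_commutator hSN))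
  refine (Subgroup.closure_le _).2 ?_
  rintro _ ⟨x, hx, h, -, hxh, rfl⟩
  obtain ⟨n, hn, he⟩ := Fusion.controlsFusion_of_stable_normal Fusion.isCharPFunctor_wZE
    (fun X _ _ hc hst T => Fusion.centerThompsonOf_normal hp2 hc hst T)
    (fun X _ _ hX _ P _ hP => Fusion.isPStableOn_of_qd_free hp2 (fun hinv =>
      (Nat.not_even_iff_odd.2 (Odd.of_dvd_nat hG.1 (SSF.involves_card_dvd hX))) (even_iff_two_dvd.2
        ((SSF.even_card_qd hp2).trans (SSF.involves_card_dvd hinv)))) P hP)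
    S {x} (Set.singleton_subset_iff.2 hx) h (by rintro _ ⟨_, rfl, rfl⟩; exact hxh)
  rw [he x rfl] at hxh ⊢
  exact Fusion.mem_focalIn hx (show n ∈ N from hN ▸ hn) hxh

include hCN

/-- The normaliser of a Sylow subgroup is Frobenius. -/
theorem sylow_normalizer (S : Sylow p G) (hS : (S : Subgroup G) ≠ ⊥) :
    Subgroup.normalizer (zj p (S : Subgroup G) : Set G) = Subgroup.normalizer ((S : Subgroup G) : Set G) ∧
      ¬ Group.IsNilpotent ↥(Subgroup.normalizer ((S : Subgroup G) : Set G)) ∧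
      ∃ K, IsKernel (Subgroup.normalizer ((S : Subgroup G) : Set G)) K ∧ (S : Subgroup G) ≤ K := by
  obtain ⟨hZle, hZne, hNZ, hproper⟩ := zj_facts hG S.isPGroup' hS
  obtain ⟨N, hN⟩ : ∃ N, N = Subgroup.normalizer (zj p (S : Subgroup G) : Set G) := ⟨_, rfl⟩
  have hcomm := sylow_le_commutator hG S hS
  rw [← hN] at hcomm hNZ hproper ⊢
  have hsol := hG.2.2.2 N hproper
  have hSN : (S : Subgroup G) ≤ N := Subgroup.le_normalizer.trans hNZ
  have hcomm' : (S.subtype hSN : Subgroup N) ≤ commutator N := by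
    rw [Sylow.coe_subtype, ← Subgroup.map_le_map_iff_of_injective N.subtype_injective, commutator_def,
      Subgroup.map_commutator, Subgroup.map_subgroupOf_eq_of_le hSN, ← MonoidHom.range_eq_map, Subgroup.range_subtype]
    exact hcomm
  have hnn : ¬ Group.IsNilpotent N := by
    intro h
    haveI := h
    haveI := hsol
    obtain ⟨P, M, hM, hc⟩ := Fusion.hnpc_of_isNilpotent (G := N) (p := p)
    haveI := hM
    haveI := Perm.sylow_normal_of_nilpotent h P
    haveI := Sylow.unique_of_normal P (Perm.sylow_normal_of_nilpotent h P)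
    refine false_of_le_commutator (S := (P : Subgroup N)) (M := M) ?_ hsol (by rw [sup_comm]; exact hc.sup_eq_top)
      (by rw [Subsingleton.elim P (S.subtype hSN)]; exact hcomm')
    intro htop
    subst htop
    have h1 := Subgroup.isComplement'_top_left.1 hc
    rw [Subsingleton.elim P (S.subtype hSN), Sylow.coe_subtype, Subgroup.subgroupOf_eq_bot,
      disjoint_iff, inf_eq_left.2 hSN] at h1
    exact hS h1
  rcases subgroup_shape hsol hG.1 hCN with h | ⟨q, hq, h⟩ | ⟨K, hK⟩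
  · exact absurd h hnn
  · exfalso
    haveI := Fact.mk hq
    rcases eq_or_ne q p with rfl | hqp
    · exact threeStep_not_le_commutator hsol h _ hcomm'
    have hcore := threeStep_core h
    haveI : ((zj p (S : Subgroup G)).subgroupOf N).Normal :=
      (Subgroup.normal_subgroupOf_iff_le_normalizer (hZle.trans hSN)).2 (le_of_eq hN)
    have hco : (Nat.card ((zj p (S : Subgroup G)).subgroupOf N)).Coprime q := by
      rw [Nat.card_congr (Subgroup.subgroupOfEquivOfLe (hZle.trans hSN)).toEquiv]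
      obtain ⟨n, hn⟩ := IsPGroup.iff_card.1 (S.isPGroup'.to_le hZle)
      rw [hn]
      exact ((Nat.coprime_primes hp.out hq).2 (Ne.symm hqp)).pow_left n
    have h1 := (Fusion.le_pPrimeCore hco).trans hcore.le
    rw [le_bot_iff, Subgroup.subgroupOf_eq_bot, disjoint_iff, inf_eq_left.2 (hZle.trans hSN)] at h1
    exact hZne h1
  · have hSK : (S : Subgroup G) ≤ K := hcomm.trans hK.comm
    have hnormS : N ≤ Subgroup.normalizer ((S : Subgroup G) : Set G) := by
      haveI := hK.nilp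
      intro g hg
      refine Fusion.mem_normalizer_of_cj_le ?_
      have hle : cj (S : Subgroup G) g ≤ K := (Fusion.cj_mono hSK g).trans (Fusion.cj_eq_self (hK.norm hg)).le
      have := Sylow.unique_of_normal (S.subtype hSK) (Perm.sylow_normal_of_nilpotent hK.nilp _)
      obtain ⟨P, hP⟩ := ((Fusion.isPGroup_cj S.isPGroup' g).comap_subtype (K := K)).exists_le_sylow
      intro x hx
      have := hP (show (⟨x, hle hx⟩ : K) ∈ (cj (S : Subgroup G) g).comap K.subtype from hx)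
      rwa [Subsingleton.elim P (S.subtype hSK)] at this
    have heq : N = Subgroup.normalizer ((S : Subgroup G) : Set G) := le_antisymm hnormS hNZ
    exact ⟨heq, heq ▸ hnn, K, heq ▸ hK, hSK⟩

omit hG in
theorem sylow_of_subtype {M : Subgroup G} {T : Subgroup G} (hT : SylIn p T M)
    (hmax : Subgroup.normalizer (T : Set G) ≤ M) : ∃ S : Sylow p G, (S : Subgroup G) = T := by
  obtain ⟨S, hTS⟩ := hT.isPGroup.exists_le_sylow
  refine ⟨S, ?_⟩
  by_contra hne
  obtain ⟨x, hx, hxT⟩ := SetLike.exists_of_lt (SylIn.normalizer_growth hTS (Ne.symm hne) S.isPGroup')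
  have h1 : (S : Subgroup G) ⊓ Subgroup.normalizer (T : Set G) = T :=
    hT.eq_of_le (S.isPGroup'.to_inf_left) (le_inf hTS Subgroup.le_normalizer) (inf_le_right.trans hmax)
  exact hxT (h1 ▸ hx)

/-- There are no three-step groups. -/
theorem no_threeStep (H : Subgroup G) : ¬ IsThreeStepGroup p H := by
  suffices ∀ (n : ℕ) (H : Subgroup G) (T : Subgroup G), Nat.card G - Nat.card T = n → SylIn p T H →
      ¬ IsThreeStepGroup p H by
    obtain ⟨T, hT⟩ := Fusion.exists_sylIn (p := p) H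
    exact this _ H T rfl hT
  intro n
  induction n using Nat.strong_induction_on with
  | _ n ih =>
  intro H T hn hT h3
  obtain ⟨T', hT'⟩ := hT.exists_sylow_subgroupOf
  have hTne : T ≠ ⊥ := by
    intro h0
    refine h3.1 (le_bot_iff.1 ?_)
    refine (Fusion.pCore_le_sylow T').trans ?_
    rw [hT', h0, Subgroup.bot_subgroupOf]
  have hHtop : H ≠ ⊤ := by
    intro htop
    subst htop
    obtain ⟨-, A, -, -, -, -, hn', hne, -, -, -⟩ := id h3
    haveI := hn'
    haveI : (pCore p ↥(⊤ : Subgroup G) ⊔ A).Normal := hn'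
    haveI := hG.2.1
    haveI : IsSimpleGroup ↥(⊤ : Subgroup G) := Subgroup.topEquiv.isSimpleGroup_congr.2 hG.2.1
    rcases (inferInstance : (pCore p ↥(⊤ : Subgroup G) ⊔ A).Normal).eq_bot_or_eq_top with h1 | h1
    · exact h3.1 (le_bot_iff.1 (h1 ▸ le_sup_left))
    · exact hne h1
  have hsolH := hG.2.2.2 H hHtop
  obtain ⟨hZle, hZne, hNZ, hproper⟩ := zj_facts hG hT.isPGroup hTne
  have hHN : H ≤ Subgroup.normalizer (zj p T : Set G) := by
    haveI := hsolH
    have h1 := S1458.result (G := H) (Odd.of_dvd_nat hG.1 (Subgroup.card_subgroup_dvd_card H)) p T'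
    rw [threeStep_core h3, sup_bot_eq, ← Fusion.inducedFunctor_wZE] at h1
    have h2 : (inducedFunctor (Fusion.wZE p) (T' : Subgroup H)).map H.subtype = zj p T := by
      rw [← Fusion.inducedFunctor_map_of_injOn Fusion.isCharPFunctor_wZE H.subtype H.subtype_injective.injOn
        T'.isPGroup', hT', Subgroup.map_subgroupOf_eq_of_le hT.le]
      rfl
    rw [← h2]
    intro g hg
    haveI := h1
    exact (Subgroup.le_normalizer_map H.subtype) ⟨⟨g, hg⟩, by rw [Subgroup.normalizer_eq_top]; trivial, rfl⟩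
  have hnnT : ¬ H ≤ Subgroup.normalizer (T : Set G) := by
    intro h1
    refine threeStep_not_normal h3 T' ?_
    rw [hT']
    exact (Subgroup.normal_subgroupOf_iff_le_normalizer hT.le).2 h1
  obtain ⟨S, hTS⟩ := hT.isPGroup.exists_le_sylow
  have hTS' : T ≠ (S : Subgroup G) := by
    rintro rfl
    exact hnnT (hHN.trans (sylow_normalizer hG hCN S hTne).1.le)
  have hlt := SylIn.normalizer_growth hTS hTS' S.isPGroup'
  obtain ⟨L, hL⟩ : ∃ L, L = Subgroup.normalizer (zj p T : Set G) := ⟨_, rfl⟩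
  rw [← hL] at hHN hproper
  have hgrow : T < (S : Subgroup G) ⊓ L := lt_of_lt_of_le hlt (inf_le_inf_left _ (hL ▸ hNZ))
  rcases subgroup_shape (hG.2.2.2 L hproper) hG.1 hCN with h | ⟨q, hq, h⟩ | ⟨K, hK⟩
  · haveI := Solv.isNilpotent_of_le hHN h
    exact threeStep_not_normal h3 T' (Perm.sylow_normal_of_nilpotent inferInstance T')
  · haveI := Fact.mk hq
    rcases eq_or_ne q p with rfl | hqp
    · obtain ⟨T2, hT2, hle2⟩ := exists_sylIn_ge (p := q) (S.isPGroup'.to_inf_left (K := L))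
        (inf_le_right : (S : Subgroup G) ⊓ L ≤ L)
      have hc : Nat.card T < Nat.card T2 := by
        refine lt_of_lt_of_le ?_ (Subgroup.card_le_of_le hle2)
        refine lt_of_le_of_ne (Subgroup.card_le_of_le hgrow.le) fun he => hgrow.ne ?_
        exact Subgroup.eq_of_le_of_card_ge hgrow.le he.ge
      have := Subgroup.card_le_card_group T2
      exact ih (Nat.card G - Nat.card T2) (by omega) L T2 rfl hT2 h
    have hcore := threeStep_core h
    have hZL : zj p T ≤ L := hL ▸ Subgroup.le_normalizer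
    haveI : ((zj p T).subgroupOf L).Normal :=
      (Subgroup.normal_subgroupOf_iff_le_normalizer hZL).2 (le_of_eq hL)
    have hco : (Nat.card ((zj p T).subgroupOf L)).Coprime q := by
      rw [Nat.card_congr (Subgroup.subgroupOfEquivOfLe hZL).toEquiv]
      obtain ⟨n, hn⟩ := IsPGroup.iff_card.1 (hT.isPGroup.to_le hZle)
      rw [hn]
      exact ((Nat.coprime_primes hp.out hq).2 (Ne.symm hqp)).pow_left n
    have h1 := (Fusion.le_pPrimeCore hco).trans hcore.le
    rw [le_bot_iff, Subgroup.subgroupOf_eq_bot, disjoint_iff, inf_eq_left.2 hZL] at h1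
    exact hZne h1
  · by_cases hd : p ∣ Nat.card K
    · -- the Sylow subgroup of the kernel is normal
      have hTK : ∀ t ∈ T, t ∈ K := fun t ht => by
        obtain ⟨k, hk⟩ := hT.isPGroup ⟨t, ht⟩
        exact hK.not_dvd hd (hHN (hT.le ht)) (k := k) (congrArg Subtype.val hk)
      refine hnnT fun g hg => Fusion.mem_normalizer_of_cj_le ?_
      haveI := hK.nilp
      have hJ : IsPGroup p ↥(T ⊔ cj T g) := by
        have hgT : cj T g ≤ K := (Fusion.cj_mono hTK g).trans (Fusion.cj_eq_self (hK.norm (hHN hg))).le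
        obtain ⟨P, hP⟩ := (hT.isPGroup.comap_subtype (K := K)).exists_le_sylow
        obtain ⟨P', hP'⟩ := ((Fusion.isPGroup_cj hT.isPGroup g).comap_subtype (K := K)).exists_le_sylow
        have := Sylow.unique_of_normal P (Perm.sylow_normal_of_nilpotent hK.nilp _)
        rw [Subsingleton.elim P' P] at hP'
        refine (P.isPGroup'.map K.subtype).to_le (sup_le (fun t ht => ?_) fun t ht => ?_)
        · exact ⟨⟨t, hTK t ht⟩, hP ht, rfl⟩
        · exact ⟨⟨t, hgT ht⟩, hP' ht, rfl⟩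
      have h1 : T ⊔ cj T g = T := hT.eq_of_le hJ le_sup_left (sup_le hT.le
        ((Fusion.cj_mono hT.le g).trans (Fusion.cj_eq_self_of_mem hg).le))
      exact le_sup_right.trans h1.le
    · obtain ⟨z, hzK, hz1, hzc⟩ := nilpotent_center hK.nilp hK.ne_bot
      have hcop : (Nat.card K).Coprime p := (hp.out.coprime_iff_not_dvd.2 hd).symm
      have hbot := Fusion.coprime_inf_pGroup hcop (hT.isPGroup.to_le hZle)
      obtain ⟨w, hwZ, hw1⟩ := (Subgroup.bot_or_exists_ne_one _).resolve_left hZne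
      have hwL : w ∈ L := hL ▸ Subgroup.le_normalizer hwZ
      have hzL : z ∈ L := hK.le hzK
      have hc : w * z = z * w := by
        have h1 : w * z * w⁻¹ * z⁻¹ ∈ K ⊓ zj p T := ⟨K.mul_mem ((Subgroup.mem_normalizer_iff.1 (hK.norm hwL) z).1 hzK)
            (K.inv_mem hzK), by
          rw [mul_assoc, mul_assoc]
          refine (zj p T).mul_mem hwZ ?_
          rw [← mul_assoc]
          exact (Subgroup.mem_normalizer_iff.1 (show z ∈ Subgroup.normalizer (zj p T : Set G) from hL ▸ hzL) w⁻¹).1 (inv_mem hwZ)⟩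
        rw [hbot, Subgroup.mem_bot, mul_inv_eq_one, mul_inv_eq_iff_eq_mul] at h1
        exact h1
      have hwK : w ∈ K := hK.mem_of_commute hzK hz1 hzc hwL hc
      exact hw1 (Subgroup.mem_bot.1 (hbot ▸ ⟨hwK, hwZ⟩))

omit hp in
/-- There are no three-step groups for any natural number. -/
theorem no_threeStep_nat (H : Subgroup G) (n : ℕ) : ¬ IsThreeStepGroup n H := by
  intro h3
  have h3' := h3
  obtain ⟨hR, A, hA1, -, -, hAn, hn, hne, -, hfpf, hlast⟩ := h3
  obtain ⟨R, hRdef⟩ : ∃ R, R = pCore n H := ⟨_, rfl⟩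
  rw [← hRdef] at hR hn hne hfpf hlast
  haveI hRn : R.Normal := hRdef ▸ Solv.pCore_normal n
  have hHtop : H ≠ ⊤ := by
    intro htop
    subst htop
    haveI := hn
    haveI : IsSimpleGroup ↥(⊤ : Subgroup G) := Subgroup.topEquiv.isSimpleGroup_congr.2 hG.2.1
    rcases (inferInstance : (R ⊔ A).Normal).eq_bot_or_eq_top with h1 | h1
    · exact hR (le_bot_iff.1 (h1 ▸ le_sup_left))
    · exact hne h1
  have hsol := hG.2.2.2 H hHtop
  have hcop : ∀ r ∈ R, ∀ a ∈ A, (orderOf r).Coprime (orderOf a) := by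
    intro r hr a ha
    obtain ⟨k, hk⟩ := Fusion.isPGroup_pCore n H ⟨r, hRdef ▸ hr⟩
    refine Nat.Coprime.coprime_dvd_left (orderOf_dvd_of_pow_eq_one (congrArg Subtype.val hk)) ?_
    exact ((hAn.coprime_dvd_left (Subgroup.orderOf_mk a ha ▸ orderOf_dvd_natCard (⟨a, ha⟩ : A))).symm).pow_left k
  obtain ⟨a, ha, ha1⟩ := (Subgroup.bot_or_exists_ne_one _).resolve_left hA1
  rcases solvable_shape hsol (Odd.of_dvd_nat hG.1 (Subgroup.card_subgroup_dvd_card H))
      (CN.subgroup hCN H) with h | ⟨q, hq, h⟩ | ⟨K, E, hK, hc, hKn, hK1, hE1, hKE, hco, hcomm⟩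
  · haveI := h
    obtain ⟨r, hr, hr1⟩ := (Subgroup.bot_or_exists_ne_one _).resolve_left hR
    exact hr1 (Subgroup.mem_bot.1 (hfpf a ha ha1 ▸
      ⟨hr, Subgroup.mem_centralizer_singleton_iff.2 (TypePBasic.commute_of_coprime (hcop r hr a ha)).eq⟩))
  · haveI := Fact.mk hq
    exact no_threeStep (p := q) hG hCN H h
  haveI := hK
  -- `R` is nilpotent
  have hRnil : Group.IsNilpotent R := by
    obtain ⟨r, hr, hrd⟩ := Nat.exists_prime_and_dvd (show Nat.card A ≠ 1 from fun h1 => hA1 (Subgroup.card_eq_one.1 h1))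
    haveI := Fact.mk hr
    obtain ⟨x, hx⟩ := exists_prime_orderOf_dvd_card' (G := A) r hrd
    refine Solv.fpf_nilpotent R (x : H) hr ?_ (by rw [Subgroup.normalizer_eq_top]; trivial)
      (hfpf x x.2 fun h1 => hr.ne_one (by rw [← hx, ← Subgroup.orderOf_coe, h1, orderOf_one]))
    rw [← SubmonoidClass.coe_pow, ← hx, pow_orderOf_eq_one]; rfl
  have hmem : ∀ z ∈ K, z ≠ 1 → (∀ k ∈ K, k * z = z * k) → ∀ m : H, m * z = z * m → m ∈ K := by
    intro z hz hz1 hzc m hm
    obtain ⟨⟨k, e⟩, hke, -⟩ := hc.existsUnique m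
    have hke' : (k : H) * e = m := hke
    subst hke'
    have he1 : (e : H) = 1 := by
      by_contra he1
      refine hz1 (Subgroup.mem_bot.1 (hKE e e.2 he1 ▸ ⟨hz, Subgroup.mem_centralizer_singleton_iff.2 ?_⟩))
      have h2 : (k : H) * (z * e) = k * (e * z) := by rw [← mul_assoc, hzc k k.2, mul_assoc, ← hm, mul_assoc]
      exact mul_left_cancel h2
    rw [he1, mul_one]; exact k.2
  have hRK1 : R ⊓ K ≠ ⊥ := by
    intro h0
    obtain ⟨z, hz, hz1, hzc⟩ := nilpotent_center hKn hK1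
    obtain ⟨r, hr, hr1⟩ := (Subgroup.bot_or_exists_ne_one _).resolve_left hR
    refine hr1 (Subgroup.mem_bot.1 (h0 ▸ ⟨hr, hmem z hz hz1 hzc r ?_⟩))
    exact (Subgroup.commute_of_normal_of_disjoint R K inferInstance hK (disjoint_iff.2 h0) r z hr hz).eq
  obtain ⟨z, hz, hz1, hzc⟩ := meets_center hKn hRK1
  have hprime : ∀ (s : ℕ) [Fact s.Prime], ∀ r ∈ R, ∀ k : ℕ, r ^ s ^ k = 1 → r ∈ K := by
    intro s hs r hr k hrk
    by_contra hrK
    -- such an element has order prime to `|K|`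
    have hsK : ¬ s ∣ Nat.card K := by
      intro hd
      refine hrK ((QuotientGroup.eq_one_iff r).1 (orderOf_eq_one_iff.1 ?_))
      refine Nat.eq_one_of_dvd_coprimes (((hs.out.coprime_iff_not_dvd.2 fun hdE =>
          hs.out.ne_one (Nat.eq_one_of_dvd_coprimes hco hd hdE)).symm).pow_right k) ?_
        (orderOf_dvd_of_pow_eq_one (by
          show QuotientGroup.mk' K r ^ s ^ k = 1
          rw [← map_pow, hrk, map_one]))
      rw [← hc.symm.index_eq_card, Subgroup.index_eq_card]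
      exact orderOf_dvd_natCard _
    have hcp : (orderOf r).Coprime (orderOf z) := by
      refine Nat.Coprime.coprime_dvd_left (orderOf_dvd_of_pow_eq_one hrk) (Nat.Coprime.coprime_dvd_right
        (Subgroup.orderOf_mk z hz.2 ▸ orderOf_dvd_natCard (⟨z, hz.2⟩ : K)) ?_)
      exact ((hs.out.coprime_iff_not_dvd.2 hsK)).pow_left k
    haveI := hRnil
    have h1 := TypePBasic.commute_of_coprime (x := (⟨r, hr⟩ : R)) (y := ⟨z, hz.1⟩)
      (by simpa only [Subgroup.orderOf_mk] using hcp)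
    exact hrK (hmem z hz.2 hz1 hzc r (congrArg Subtype.val h1.eq))
  have hRK : R ≤ K := by
    rw [← Subgroup.relIndex_eq_one, Subgroup.relIndex, Nat.eq_one_iff_not_exists_prime_dvd]
    intro s hs hd
    haveI := Fact.mk hs
    obtain ⟨P⟩ : Nonempty (Sylow s R) := inferInstance
    refine P.not_dvd_index (hd.trans (Subgroup.index_dvd_of_le fun r hr => ?_))
    obtain ⟨k, hk⟩ := P.isPGroup' ⟨r, hr⟩
    exact hprime s r r.2 k (congrArg (fun w => ((w : R) : H)) (congrArg Subtype.val hk))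
  have hAK : ∀ b ∈ A, b ∈ K → b = 1 := by
    intro b hb hbK
    by_contra hb1
    haveI := hKn
    have h1 := TypePBasic.commute_of_coprime (x := (⟨z, hz.2⟩ : K)) (y := ⟨b, hbK⟩)
      (by simpa only [Subgroup.orderOf_mk] using hcop z hz.1 b hb)
    exact hz1 (Subgroup.mem_bot.1 (hfpf b hb hb1 ▸
      ⟨hz.1, Subgroup.mem_centralizer_singleton_iff.2 (congrArg Subtype.val h1.eq)⟩))
  obtain ⟨x, -, hx⟩ := SetLike.exists_of_lt (lt_top_iff_ne_top.2 hne)
  refine hlast x hx a ha ha1 ?_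
  haveI := hn
  have hy : x * a * x⁻¹ * a⁻¹ ∈ R ⊔ A := mul_mem (hn.conj_mem a (Subgroup.mem_sup_right ha) x)
    (inv_mem (Subgroup.mem_sup_right ha))
  have hyK : x * a * x⁻¹ * a⁻¹ ∈ K := hcomm (by
    rw [commutator_def, ← commutatorElement_def]
    exact Subgroup.commutator_mem_commutator (Subgroup.mem_top x) (Subgroup.mem_top a))
  obtain ⟨r, hr, b, hb, hrb⟩ := Subgroup.mem_sup_of_normal_left.1 hy
  have hb1 : b = 1 := hAK b hb (by
    have h2 : b = r⁻¹ * (x * a * x⁻¹ * a⁻¹) := by rw [← hrb, inv_mul_cancel_left]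
    rw [h2]; exact K.mul_mem (K.inv_mem (hRK hr)) hyK)
  rw [hb1, mul_one] at hrb
  exact hrb ▸ hr

end Cfsg.Agent.OddLocal.CNMin
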