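import Cfsg.Agent.Lib.OddLocal.UniquenessWeights
import Cfsg.Agent.Lib.OddLocal.CNMinimal

/-!
The uniqueness theorem for minimal simple groups of odd order.
-/

set_option autoImplicit false

namespace Cfsg.Agent.OddLocal.Uniq

open Cfsg
open Geo (IsCube IsLine)

universe u

variable {G : Type u} [Group G] [Finite G] {p : ℕ} [hp : Fact p.Prime] {P : Sylow p G} {A E : Subgroup G}

/-- The pencil points of two weights in one node. -/
theorem centre_mem (c : Ctx P A E) {M D : Subgroup G} {q : ℕ} (n : Nd p A M q D) {B₁ B₂ : Subgroup G}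
    {v₁ v₂ c₁ c₂ : G} (K₁ : Centre p E M D B₁ v₁ c₁) (K₂ : Centre p E M D B₂ v₂ c₂) : c₂ ∈ B₁ := by
  by_contra hnot
  have hc₁E := K₁.line.le K₁.mem
  have hc₂E := K₂.line.le K₂.mem
  have hc12 : c₁ ∉ Subgroup.zpowers c₂ := fun h =>
    hnot ((Subgroup.zpowers_le.2 K₁.mem) (c.cube.mem_zpowers_symm hc₂E h K₁.ne))
  have hℓ := c.cube.isLine_join hc₂E K₂.ne hc₁E hc12
  obtain ⟨a, ha, hc₂a, haB₂, haℓ, -⟩ := c.cube.exists_line_through K₂.line hℓ hℓ K₂.mem K₂.ne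
  obtain ⟨a', ha', hc₂a', ha'B₂, ha'ℓ, ha'a⟩ := c.cube.exists_line_through K₂.line hℓ ha K₂.mem K₂.ne
  have key : ∀ a : Subgroup G, IsLine p E a → c₂ ∈ a → a ≠ B₂ →
      a ≠ Subgroup.zpowers c₂ ⊔ Subgroup.zpowers c₁ →
      ∃ u ∈ D ⊓ Subgroup.centralizer (a : Set G),
        u * v₂ ≠ v₂ * u ∧ u ∈ D ⊓ Subgroup.centralizer ({v₁} : Set G) := by
    intro a ha hca hne hnℓ
    obtain ⟨u, hu, huv⟩ := K₂.pencil a ha hca hne
    refine ⟨u, hu, huv, hu.1, Subgroup.mem_centralizer_singleton_iff.2 ?_⟩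
    obtain ⟨y, hya, hyB, hy1⟩ := c.cube.exists_common ha K₁.line
    refine K₁.rest y hyB (fun hy => hnℓ ?_) u
      ⟨hu.1, Subgroup.mem_centralizer_singleton_iff.2 (Subgroup.mem_centralizer_iff.1 hu.2 y hya).symm⟩
    exact c.cube.line_eq_join ha hca K₂.ne
      ((Subgroup.zpowers_le.2 hya) (c.cube.mem_zpowers_symm hc₁E hy hy1)) hc12
  obtain ⟨u, hu, huv, huC⟩ := key a ha hc₂a haB₂ haℓ
  obtain ⟨u', hu', hu'v, hu'C⟩ := key a' ha' hc₂a' ha'B₂ ha'ℓ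
  have hmem := n.cyclic_mem inf_le_left K₁.cyc huC (fun h => huv (by rw [h, one_mul, mul_one])) hu'C
  obtain ⟨i, hi⟩ := Subgroup.mem_zpowers_iff.1 hmem
  have hu'1 : u' = 1 := n.not_fixed c hu'.1 fun x hx => by
    rw [← c.cube.sup_eq ha ha' (Ne.symm ha'a)] at hx
    refine Geo.commute_of_sup (fun b hb => ?_) (fun b hb => Subgroup.mem_centralizer_iff.1 hu'.2 b hb) x hx
    rw [← hi]
    exact ((show Commute b u from Subgroup.mem_centralizer_iff.1 hu.2 b hb).zpow_right i).eq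
  exact hu'v (by rw [hu'1, one_mul, mul_one])

omit hp in
/-- Elements normalising a cyclic group commute in their action on it. -/
theorem commute_of_cyclic_normalised {r : ℕ} (hr : r.Prime) {v e z : G} (hv : orderOf v = r)
    (hvz : v ∈ Subgroup.normalizer (Subgroup.zpowers z : Set G))
    (hez : e ∈ Subgroup.normalizer (Subgroup.zpowers z : Set G))
    (hev : e * v * e⁻¹ ∈ Subgroup.zpowers v) (hne : e * v ≠ v * e) : v * z = z * v := by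
  obtain ⟨i, hi⟩ := Subgroup.mem_zpowers_iff.1
    ((Subgroup.mem_normalizer_iff.1 hvz z).1 (Subgroup.mem_zpowers z))
  obtain ⟨k, hk⟩ := Subgroup.mem_zpowers_iff.1
    ((Subgroup.mem_normalizer_iff.1 (inv_mem hez) z).1 (Subgroup.mem_zpowers z))
  rw [inv_inv] at hk
  have h1 : (e * v * e⁻¹) * z * (e * v * e⁻¹)⁻¹ = z ^ i := by
    calc (e * v * e⁻¹) * z * (e * v * e⁻¹)⁻¹ = e * (v * (e⁻¹ * z * e) * v⁻¹) * e⁻¹ := by group
      _ = e * (v * z ^ k * v⁻¹) * e⁻¹ := by rw [← hk]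
      _ = e * (z ^ i) ^ k * e⁻¹ := by rw [← conj_zpow, ← hi]
      _ = e * (e⁻¹ * z * e) ^ i * e⁻¹ := by rw [← zpow_mul, mul_comm, zpow_mul, hk]
      _ = (e * (e⁻¹ * z * e) * e⁻¹) ^ i := by rw [conj_zpow]
      _ = z ^ i := by group
  obtain ⟨w, hw⟩ : ∃ w, w = v⁻¹ * (e * v * e⁻¹) := ⟨_, rfl⟩
  have hwv : w ∈ Subgroup.zpowers v := hw ▸ mul_mem (inv_mem (Subgroup.mem_zpowers v)) hev
  have hw1 : w ≠ 1 := fun h => hne (by
    rw [hw, inv_mul_eq_one] at h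
    exact mul_inv_eq_iff_eq_mul.1 h.symm)
  have hwz : w * z = z * w := by
    rw [← mul_inv_eq_iff_eq_mul]
    calc w * z * w⁻¹ = v⁻¹ * ((e * v * e⁻¹) * z * (e * v * e⁻¹)⁻¹) * v := by rw [hw]; group
      _ = v⁻¹ * (v * z * v⁻¹) * v := by rw [h1, hi]
      _ = z := by group
  obtain ⟨j, hj⟩ := Subgroup.mem_zpowers_iff.1
    (show v ∈ Subgroup.zpowers w by rw [Geo.zpowers_eq_of_prime hr hv hwv hw1]; exact Subgroup.mem_zpowers v)
  rw [← hj]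
  exact ((show Commute w z from hwz).zpow_left j).eq

theorem pencil_exponent (c : Ctx P A E) {M D : Subgroup G} {q : ℕ} (n : Nd p A M q D) {ℓ : Subgroup G}
    {w c₀ : G} {r : ℕ} (wt : Wt p E ℓ w r) (hrq : r ≠ q) (K : Centre p E M D ℓ w c₀)
    (hab : IsMulCommutative D) {y : G} (hy : y ∈ ℓ) {a b : Subgroup G} (ha : IsLine p E a) (hca : c₀ ∈ a)
    (haℓ : a ≠ ℓ) (hb : IsLine p E b) (hcb : c₀ ∈ b) (hbℓ : b ≠ ℓ) {u : G}
    (hu : u ∈ D ⊓ Subgroup.centralizer (a : Set G)) (hu1 : u ≠ 1) {k : ℤ} (hk : y * u * y⁻¹ = u ^ k) :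
    ∀ u' ∈ D ⊓ Subgroup.centralizer (b : Set G), y * u' * y⁻¹ = u' ^ k := by
  haveI := Fact.mk n.node.prime
  have hcomm : ∀ {x z : G}, x ∈ D → z ∈ D → Commute x z := fun {x z} hx hz =>
    congrArg Subtype.val (hab.is_comm.comm (⟨x, hx⟩ : D) ⟨z, hz⟩)
  let X : Subgroup G :=
    { carrier := {x | x ∈ D ∧ c₀ * x = x * c₀ ∧ y * x * y⁻¹ = x ^ k}
      one_mem' := ⟨one_mem D, by rw [mul_one, one_mul], by rw [mul_one, mul_inv_cancel, one_zpow]⟩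
      mul_mem' := fun {x z} hx hz => ⟨mul_mem hx.1 hz.1,
        ((show Commute c₀ x from hx.2.1).mul_right hz.2.1).eq, by
          rw [(hcomm hx.1 hz.1).mul_zpow, ← hx.2.2, ← hz.2.2]; group⟩
      inv_mem' := fun {x} hx => ⟨inv_mem hx.1, (show Commute c₀ x from hx.2.1).inv_right.eq, by
        rw [inv_zpow, ← hx.2.2]; group⟩ }
  have hXD : X ≤ D := fun x hx => hx.1
  have hnorm : ∀ g : G, g ∈ Subgroup.normalizer (D : Set G) → Commute g c₀ → Commute g y →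
      g ∈ Subgroup.normalizer (X : Set G) := fun g hg hgc hgy => Fusion.mem_normalizer_of_cj_le (by
    rintro _ ⟨x, hx, rfl⟩
    refine ⟨(Subgroup.mem_normalizer_iff.1 hg x).1 hx.1,
      ((hgc.symm.mul_right (show Commute c₀ x from hx.2.1)).mul_right hgc.symm.inv_right).eq, ?_⟩
    show y * (g * x * g⁻¹) * y⁻¹ = (g * x * g⁻¹) ^ k
    rw [conj_zpow, ← hx.2.2]
    calc y * (g * x * g⁻¹) * y⁻¹ = (y * g) * x * (g⁻¹ * y⁻¹) := by group
      _ = (g * y) * x * (y⁻¹ * g⁻¹) := by rw [hgy.eq, (hgy.inv_inv).eq]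
      _ = g * (y * x * y⁻¹) * g⁻¹ := by group)
  have hcE := K.line.le K.mem
  have huX : u ∈ X := ⟨hu.1, Subgroup.mem_centralizer_iff.1 hu.2 c₀ hca, hk⟩
  have huw : u * w ≠ w * u := by
    obtain ⟨u₀, hu₀, hu₀w⟩ := K.pencil a ha hca haℓ
    intro hh
    obtain ⟨i, hi⟩ := Subgroup.mem_zpowers_iff.1
      (n.cyclic_mem inf_le_left (n.line_cyclic c ha) hu hu1 hu₀)
    exact hu₀w (hi ▸ ((show Commute u w from hh).zpow_left i).eq)
  intro u' hu'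
  obtain ⟨e, heb, heℓ⟩ := Geo.exists_not_mem_line K.line hb (Ne.symm hbℓ)
  obtain ⟨x, hxX, hex, hxw⟩ : ∃ x ∈ X, e * x = x * e ∧ x * w ≠ w * x := by
    by_contra hno
    push Not at hno
    refine huw (Wt.frob c.cube wt (c.hG.2.2.2 X (pgroup_ne_top c.hG (n.pgroup.to_le hXD)))
      (fun h => n.not_dvd (h.trans (Subgroup.card_dvd_of_le hXD))) (fun h => ?_)
      (hnorm w (n.node.inv K.inv) (wt.comm c₀ K.mem).symm (wt.comm y hy).symm) (hb.le heb) heℓ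
      (hnorm e (n.E_le c (hb.le heb)) (c.cube.comm (hb.le heb) hcE) (c.cube.comm (hb.le heb) (K.line.le hy)))
      hno u huX)
    obtain ⟨j, hj⟩ := IsPGroup.iff_card.1 (n.pgroup.to_le hXD)
    rw [hj] at h
    exact hrq ((Nat.prime_dvd_prime_iff_eq wt.prime n.node.prime).1 (wt.prime.dvd_of_dvd_pow h))
  have hxb : x ∈ D ⊓ Subgroup.centralizer (b : Set G) := by
    refine ⟨hxX.1, Subgroup.mem_centralizer_iff.2 fun t ht => ?_⟩
    rw [c.cube.line_eq_join hb hcb K.ne heb (fun hh => heℓ ((Subgroup.zpowers_le.2 K.mem) hh))] at ht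
    refine Geo.commute_of_sup (fun t ht => ?_) (fun t ht => ?_) t ht
    · obtain ⟨i, rfl⟩ := Subgroup.mem_zpowers_iff.1 ht
      exact ((show Commute c₀ x from hxX.2.1).zpow_left i).eq
    · obtain ⟨i, rfl⟩ := Subgroup.mem_zpowers_iff.1 ht
      exact ((show Commute e x from hex).zpow_left i).eq
  obtain ⟨i, rfl⟩ := Subgroup.mem_zpowers_iff.1 (n.cyclic_mem inf_le_left (n.line_cyclic c hb) hxb
    (fun h => hxw (by rw [h, one_mul, mul_one])) hu')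
  rw [← conj_zpow, hxX.2.2, ← zpow_mul, ← zpow_mul, mul_comm]

/-- Two weights with a common centre are impossible. -/
theorem common_centre (c : Ctx P A E) {M D : Subgroup G} {q : ℕ} (n : Nd p A M q D) {ℓ₁ ℓ₂ : Subgroup G}
    {w₁ w₂ c₁ c₂ : G} {r₁ r₂ : ℕ} (wt₁ : Wt p E ℓ₁ w₁ r₁) (wt₂ : Wt p E ℓ₂ w₂ r₂) (h₁q : r₁ ≠ q)
    (h₂q : r₂ ≠ q) (K₁ : Centre p E M D ℓ₁ w₁ c₁) (K₂ : Centre p E M D ℓ₂ w₂ c₂) (hne : ℓ₁ ≠ ℓ₂)
    (hc : c₂ ∈ Subgroup.zpowers c₁) : False := by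
  haveI := Fact.mk n.node.prime
  have hc₁E := K₁.line.le K₁.mem
  have hc' : c₁ ∈ Subgroup.zpowers c₂ := c.cube.mem_zpowers_symm hc₁E hc K₂.ne
  have h12 : ∀ {a : Subgroup G}, c₁ ∈ a → c₂ ∈ a := fun {a} h => (Subgroup.zpowers_le.2 h) hc
  have hc₁ℓ₂ : c₁ ∈ ℓ₂ := (Subgroup.zpowers_le.2 K₂.mem) hc'
  obtain ⟨u₁, hu₁, hu₁w₂⟩ := K₂.pencil ℓ₁ K₁.line (h12 K₁.mem) hne
  obtain ⟨u₂, hu₂, hu₂w₁⟩ := K₁.pencil ℓ₂ K₂.line hc₁ℓ₂ (Ne.symm hne)
  have fix_self : ∀ {ℓ : Subgroup G} {w c₀ u : G}, Centre p E M D ℓ w c₀ →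
      u ∈ D ⊓ Subgroup.centralizer (ℓ : Set G) → u * w = w * u := by
    intro ℓ w c₀ u K hu
    obtain ⟨y, hy, hyc⟩ := c.cube.exists_second_point K.line K.mem
    exact K.rest y hy hyc u
      ⟨hu.1, Subgroup.mem_centralizer_singleton_iff.2 (Subgroup.mem_centralizer_iff.1 hu.2 y hy).symm⟩
  rcases n.node.shape with hab | ⟨z, hzD, hz1, hzM⟩
  swap
  · have hzw : ∀ {ℓ : Subgroup G} {w c₀ : G} {r : ℕ}, Wt p E ℓ w r → Centre p E M D ℓ w c₀ →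
        z ∈ D ⊓ Subgroup.centralizer ({w} : Set G) := by
      intro ℓ w c₀ r wt K
      obtain ⟨e, he, heℓ, -, -⟩ := c.cube.exists_avoid K.line K.line K.line
      refine ⟨hzD, Subgroup.mem_centralizer_singleton_iff.2 ?_⟩
      exact (commute_of_cyclic_normalised wt.prime wt.ord (hzM K.inv) (hzM ((c.le.trans n.hA) he))
        ((Subgroup.mem_normalizer_iff.1 (wt.norm he) w).1 (Subgroup.mem_zpowers w))
        (wt.moved e he heℓ)).symm
    have hu₁1 : u₁ ≠ 1 := fun h => hu₁w₂ (by rw [h, one_mul, mul_one])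
    have hu₂1 : u₂ ≠ 1 := fun h => hu₂w₁ (by rw [h, one_mul, mul_one])
    have m₁ : z ∈ Subgroup.zpowers u₁ := n.cyclic_mem inf_le_left K₁.cyc
      ⟨hu₁.1, Subgroup.mem_centralizer_singleton_iff.2 (fix_self K₁ hu₁)⟩ hu₁1 (hzw wt₁ K₁)
    have m₂ : z ∈ Subgroup.zpowers u₂ := n.cyclic_mem inf_le_left K₂.cyc
      ⟨hu₂.1, Subgroup.mem_centralizer_singleton_iff.2 (fix_self K₂ hu₂)⟩ hu₂1 (hzw wt₂ K₂)
    obtain ⟨i, hi⟩ := Subgroup.mem_zpowers_iff.1 m₁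
    obtain ⟨j, hj⟩ := Subgroup.mem_zpowers_iff.1 m₂
    refine hz1 (n.not_fixed c hzD fun x hx => ?_)
    rw [← c.cube.sup_eq K₁.line K₂.line hne] at hx
    refine Geo.commute_of_sup (fun b hb => ?_) (fun b hb => ?_) x hx
    · rw [← hi]
      exact ((show Commute b u₁ from Subgroup.mem_centralizer_iff.1 hu₁.2 b hb).zpow_right i).eq
    · rw [← hj]
      exact ((show Commute b u₂ from Subgroup.mem_centralizer_iff.1 hu₂.2 b hb).zpow_right j).eq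
  obtain ⟨a, ha, hca, haℓ₁, haℓ₂, -⟩ :=
    c.cube.exists_line_through K₁.line K₂.line K₂.line K₁.mem K₁.ne
  obtain ⟨b, hb, hcb, hbℓ₁, hbℓ₂, hba⟩ := c.cube.exists_line_through K₁.line K₂.line ha K₁.mem K₁.ne
  obtain ⟨ua, hua, huaw⟩ := K₁.pencil a ha hca haℓ₁
  obtain ⟨ub, hub, hubw⟩ := K₁.pencil b hb hcb hbℓ₁
  have hua1 : ua ≠ 1 := fun h => huaw (by rw [h, one_mul, mul_one])
  have hub1 : ub ≠ 1 := fun h => hubw (by rw [h, one_mul, mul_one])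
  have hexp : ∀ {y : G}, y ∈ E → ∃ k : ℤ, y * ua * y⁻¹ = ua ^ k := fun {y} hy => by
    obtain ⟨k, hk⟩ := Subgroup.mem_zpowers_iff.1 (n.cyclic_mem inf_le_left (n.line_cyclic c ha) hua hua1
      (n.conj_mem c ha.le hy hua))
    exact ⟨k, hk.symm⟩
  refine hub1 (n.not_fixed c hub.1 fun x hx => ?_)
  have hfixa : ∀ t ∈ a, t * ub = ub * t := by
    intro t ht
    have ht' : t ∈ ℓ₁ ⊔ ℓ₂ := (c.cube.sup_eq K₁.line K₂.line hne).symm ▸ ha.le ht
    rw [← SetLike.mem_coe, Subgroup.coe_mul_of_right_le_normalizer_left ℓ₁ ℓ₂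
      (K₂.line.le.trans (c.cube.le_normalizer K₁.line.le))] at ht'
    obtain ⟨a₁, ha₁, a₂, ha₂, rfl⟩ := ht'
    obtain ⟨k₁, hk₁⟩ := hexp (K₁.line.le ha₁)
    obtain ⟨k₂, hk₂⟩ := hexp (K₂.line.le ha₂)
    have hb₁ := pencil_exponent c n wt₁ h₁q K₁ hab ha₁ ha hca haℓ₁ hb hcb hbℓ₁ hua hua1 hk₁ ub hub
    have hb₂ := pencil_exponent c n wt₂ h₂q K₂ hab ha₂ ha (h12 hca) haℓ₂ hb (h12 hcb) hbℓ₂ hua hua1 hk₂
      ub hub
    have hprod : ∀ u : G, a₁ * u * a₁⁻¹ = u ^ k₁ → a₂ * u * a₂⁻¹ = u ^ k₂ →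
        a₁ * a₂ * u * (a₁ * a₂)⁻¹ = u ^ (k₁ * k₂) := by
      intro u h1 h2
      calc a₁ * a₂ * u * (a₁ * a₂)⁻¹ = a₁ * (a₂ * u * a₂⁻¹) * a₁⁻¹ := by group
        _ = a₁ * u ^ k₂ * a₁⁻¹ := by rw [h2]
        _ = (u ^ k₁) ^ k₂ := by rw [← conj_zpow, h1]
        _ = u ^ (k₁ * k₂) := by rw [← zpow_mul]
    have e₁ := hprod ua hk₁ hk₂
    have e₂ := hprod ub hb₁ hb₂
    have hfix : a₁ * a₂ * ua * (a₁ * a₂)⁻¹ = ua := by
      rw [Subgroup.mem_centralizer_iff.1 hua.2 (a₁ * a₂) ht, mul_inv_cancel_right]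
    rw [hfix] at e₁
    have h3 : ua ^ (k₁ * k₂ - 1) = 1 := by rw [zpow_sub_one, ← e₁, mul_inv_cancel]
    rw [← orderOf_dvd_iff_zpow_eq_one, n.order hua.1 hua1] at h3
    have h4 : ub ^ (k₁ * k₂ - 1) = 1 := by
      rw [← orderOf_dvd_iff_zpow_eq_one, n.order hub.1 hub1]; exact h3
    rw [zpow_sub_one, mul_inv_eq_one] at h4
    rw [h4] at e₂
    exact mul_inv_eq_iff_eq_mul.1 e₂
  rw [← c.cube.sup_eq ha hb (Ne.symm hba)] at hx
  exact Geo.commute_of_sup hfixa (fun t ht => Subgroup.mem_centralizer_iff.1 hub.2 t ht) x hx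

theorem exists_bad (c : Ctx P A E) {M D : Subgroup G} {q : ℕ} (n : Nd p A M q D) {B : Subgroup G}
    (hB : IsLine p E B) :
    ∃ b ∈ B, ∃ L : Subgroup G, IsCoatom L ∧ L ≠ M ∧ Subgroup.centralizer ({b} : Set G) ≤ L := by
  by_contra hno
  push Not at hno
  refine c.line_not_iu hB (elementary_criterion c.hG n.node.coatom ((hB.le.trans c.le).trans n.hA)
    (elab_mono c.cube.el hB.le) (noncyclic_of_card (elab_mono c.cube.el hB.le) hB.card.ge)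
    (Or.inl fun b hb hb1 => ?_))
  obtain ⟨L, hL, hbL⟩ := exists_coatom _ (Transit.centralizer_ne_top c.hG.2 hb1)
  by_cases hLM : L = M
  · exact hLM ▸ hbL
  · exact absurd hbL (hno b hb L hL hLM)

theorem cyc_of_foreign (c : Ctx P A E) {M D M' D' : Subgroup G} {q q' : ℕ} (n : Nd p A M q D)
    (n' : Nd p A M' q' D') (hne : M' ≠ M) {v : G} (hv : v ∈ D) (hv1 : v ≠ 1) :
    IsCyclic ↥(D' ⊓ Subgroup.centralizer ({v} : Set G)) := by
  by_contra hnc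
  exact hne (n'.eq_of_le inf_le_left hnc n.node.coatom (inf_le_right.trans (n.elem_cent_le c hv hv1))).symm

theorem first_node (c : Ctx P A E) :
    ∃ (M : Subgroup G) (q : ℕ) (D : Subgroup G), Nd p A M q D := by
  have hG := c.hG
  have hPne : (P : Subgroup G) ≠ ⊥ := fun h => by
    have h1 := Subgroup.card_le_of_le (c.le.trans (c.scn.1.trans h.le))
    rw [Subgroup.card_bot, c.cube.card] at h1
    exact absurd h1 (not_le.2 (Nat.one_lt_pow (by omega) hp.out.one_lt))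
  obtain ⟨-, -, hNZ, hproper⟩ := CNMin.zj_facts hG P.isPGroup' hPne
  obtain ⟨M, hM, hNM⟩ := exists_coatom _ hproper
  have hPM : (P : Subgroup G) ≤ M := (Subgroup.le_normalizer.trans hNZ).trans hNM
  have hAM : A ≤ M := c.scn.1.trans hPM
  by_cases hrk : ∃ q : ℕ, q.Prime ∧ ¬ PRankLE q 2 ↥(fittingOf M)
  · obtain ⟨q, hq, hqr⟩ := hrk
    haveI := Fact.mk hq
    obtain ⟨D, hD⟩ := exists_node hG hM hqr
    exact ⟨M, q, D, hD, fun h => by subst h; exact hqr (c.fitting_rank hM), hAM⟩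
  exfalso
  push Not at hrk
  haveI := hG.2.2.2 M hM.1
  have h1 := Solv.RankTwo.commutator_le_fitting (G := ↥M) (odd_subgroup hG M)
    (Solv.RankTwo.narrow_of_fitting_rank fun r hr => by
      haveI := Fact.mk hr
      exact Solv.RankTwo.prankLE_mulEquiv
        (((fittingSubgroup ↥M).equivMapOfInjective M.subtype M.subtype_injective)).symm (hrk r hr))
  have h2 := Subgroup.map_mono (f := M.subtype) h1
  rw [commutator_def, Subgroup.map_commutator, ← MonoidHom.range_eq_map, Subgroup.range_subtype] at h2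
  have hPF : (P : Subgroup G) ≤ fittingOf M :=
    ((CNMin.sylow_le_commutator hG P hPne).trans (Subgroup.commutator_mono hNM hNM)).trans h2
  exact not_prankLE_of_elab (c.le.trans (c.scn.1.trans hPF)) c.cube.el c.cube.card.ge (c.fitting_rank hM)

theorem false_of_ctx (c : Ctx P A E) : False := by
  obtain ⟨M, q, D, n⟩ := first_node c
  obtain ⟨B₁, hB₁, v, hv, hv1⟩ := n.exists_weight c
  obtain ⟨b, hb, L, hL, hLM, hbL⟩ := exists_bad c n hB₁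
  obtain ⟨hvL, s, DL, nL, hsq⟩ := n.enter c hB₁ hv hv1 hb hL hLM hbL
  obtain ⟨c₀, K⟩ := exists_centre c nL (n.wt c hB₁ hv hv1) hsq.symm hvL (cyc_of_foreign c n nL hLM hv.1 hv1)
  obtain ⟨a, ha, hca, haB, -, -⟩ := c.cube.exists_line_through hB₁ hB₁ hB₁ K.mem K.ne
  obtain ⟨a', ha', hca', ha'B, ha'a, -⟩ := c.cube.exists_line_through hB₁ ha ha K.mem K.ne
  obtain ⟨wx, hwx, hwxv⟩ := K.pencil a ha hca haB
  obtain ⟨wx', hwx', hwx'v⟩ := K.pencil a' ha' hca' ha'B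
  have hwx1 : wx ≠ 1 := fun h => hwxv (by rw [h, one_mul, mul_one])
  have hwx'1 : wx' ≠ 1 := fun h => hwx'v (by rw [h, one_mul, mul_one])
  obtain ⟨z, hz, L₂, hL₂, hL₂L, hzL₂⟩ := exists_bad c nL ha
  obtain ⟨hwxL₂, s₂, D₂, n₂, hs₂⟩ := nL.enter c ha hwx hwx1 hz hL₂ hL₂L hzL₂
  obtain ⟨c₂, K₂⟩ := exists_centre c n₂ (nL.wt c ha hwx hwx1) hs₂.symm hwxL₂
    (cyc_of_foreign c nL n₂ hL₂L hwx.1 hwx1)
  obtain ⟨z', hz', L₂', hL₂', hL₂'L, hz'L₂'⟩ := exists_bad c nL ha'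
  obtain ⟨hwx'L₂', s₂', D₂', n₂', hs₂'⟩ := nL.enter c ha' hwx' hwx'1 hz' hL₂' hL₂'L hz'L₂'
  -- a centre in the first centre is absurd
  have hnotc : ∀ {M' D' : Subgroup G} {q' : ℕ}, Nd p A M' q' D' → M' ≠ L →
      ∀ {d : G}, ¬ IsCyclic ↥(D' ⊓ Subgroup.centralizer ({d} : Set G)) → d ≠ 1 →
        d ∉ Subgroup.zpowers c₀ := by
    intro M' D' q' n' hne d hbig hd1 hd
    obtain ⟨i, hi⟩ := Subgroup.mem_zpowers_iff.1 hd
    have hle : Subgroup.centralizer ({c₀} : Set G) ≤ Subgroup.centralizer ({d} : Set G) := fun x hx =>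
      Subgroup.mem_centralizer_singleton_iff.2
        (hi ▸ ((show Commute x c₀ from Subgroup.mem_centralizer_singleton_iff.1 hx).zpow_right i).eq)
    exact hne (nL.eq_of_le inf_le_left K.big n'.node.coatom
      (inf_le_right.trans (hle.trans (n'.cent_le c hd1 hbig))))
  have hinter : ∀ {d : G}, d ∈ a → d ∈ a' → d ∈ Subgroup.zpowers c₀ := fun {d} h h' =>
    c.cube.mem_zpowers_of_two_lines ha ha' (Ne.symm ha'a) K.ne hca h hca' h'
  by_cases hsame : L₂' = L₂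
  · obtain ⟨c₂', K₂'⟩ := exists_centre c n₂ (nL.wt c ha' hwx' hwx'1) hs₂.symm (hsame ▸ hwx'L₂')
      (cyc_of_foreign c nL n₂ hL₂L hwx'.1 hwx'1)
    exact hnotc n₂ hL₂L K₂.big K₂.ne (hinter K₂.mem (centre_mem c n₂ K₂' K₂))
  obtain ⟨c₂', K₂'⟩ := exists_centre c n₂' (nL.wt c ha' hwx' hwx'1) hs₂'.symm hwx'L₂'
    (cyc_of_foreign c nL n₂' hL₂'L hwx'.1 hwx'1)
  have hc₂a' : c₂ ∉ a' := fun h => hnotc n₂ hL₂L K₂.big K₂.ne (hinter K₂.mem h)
  have hc₂'a : c₂' ∉ a := fun h => hnotc n₂' hL₂'L K₂'.big K₂'.ne (hinter h K₂'.mem)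
  have hc22 : c₂' ∉ Subgroup.zpowers c₂ := fun h => hc₂'a ((Subgroup.zpowers_le.2 K₂.mem) h)
  obtain ⟨ℓ, hℓdef⟩ : ∃ ℓ, ℓ = Subgroup.zpowers c₂ ⊔ Subgroup.zpowers c₂' := ⟨_, rfl⟩
  have hℓ : IsLine p E ℓ := hℓdef ▸ c.cube.isLine_join (ha.le K₂.mem) K₂.ne (ha'.le K₂'.mem) hc22
  have hc₂ℓ : c₂ ∈ ℓ := hℓdef ▸ Subgroup.mem_sup_left (Subgroup.mem_zpowers c₂)
  have hc₂'ℓ : c₂' ∈ ℓ := hℓdef ▸ Subgroup.mem_sup_right (Subgroup.mem_zpowers c₂')
  have hℓa : ℓ ≠ a := fun h => hc₂'a (h ▸ hc₂'ℓ)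
  have hℓa' : ℓ ≠ a' := fun h => hc₂a' (h ▸ hc₂ℓ)
  obtain ⟨w, hw, hwv⟩ := K₂.pencil ℓ hℓ hc₂ℓ hℓa
  have hw1 : w ≠ 1 := fun h => hwv (by rw [h, one_mul, mul_one])
  have hwt := n₂.wt c hℓ hw hw1
  have hwL : w ∈ L₂' := n₂'.cent_le c K₂'.ne K₂'.big
    (Subgroup.mem_centralizer_singleton_iff.2 (Subgroup.mem_centralizer_iff.1 hw.2 c₂' hc₂'ℓ).symm)
  have hss : s₂ ≠ s₂' := fun h => hsame (by subst h; exact n₂.same_prime c n₂')
  obtain ⟨d, Kd⟩ := exists_centre c n₂' hwt hss hwL (cyc_of_foreign c n₂ n₂' hsame hw.1 hw1)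
  have hd : d ∈ Subgroup.zpowers c₂' := c.cube.mem_zpowers_of_two_lines hℓ ha' hℓa' K₂'.ne hc₂'ℓ Kd.mem
    K₂'.mem (centre_mem c n₂' K₂' Kd)
  exact common_centre c n₂' (nL.wt c ha' hwx' hwx'1) hwt hs₂'.symm hss K₂' Kd (Ne.symm hℓa') hd

/-- Self-centralizing normal abelian subgroups of rank three are uniqueness subgroups. -/
theorem scn_three_iu (hG : IsMinSimpleOddOrder G) (P : Sylow p G) {A : Subgroup G}
    (hA : IsSCN (P : Subgroup G) A) (hA3 : ¬ PRankLE p 2 ↥A) : InUniqueMaximal A := by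
  by_contra hnot
  obtain ⟨E₀, hE₀A, hE₀e, hE₀⟩ := exists_elab_of_prank hA3
  obtain ⟨j, hj⟩ := IsPGroup.iff_card.1 (Fusion.elab_isPGroup hE₀e)
  have hj3 : 2 + 1 ≤ j := (Nat.pow_le_pow_iff_right hp.out.one_lt).1 (hj ▸ hE₀)
  obtain ⟨S, hS⟩ := Sylow.exists_subgroup_card_pow_prime p (G := ↥E₀) (n := 3) (hj ▸ pow_dvd_pow p hj3)
  have hle : S.map E₀.subtype ≤ E₀ := Subgroup.map_subtype_le S
  have hp2 := ne_two_of_elab hG hE₀e ((Nat.pow_le_pow_right hp.out.pos (show 2 ≤ 2 + 1 by omega)).trans hE₀)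
  exact false_of_ctx (P := P) (A := A) (E := S.map E₀.subtype)
    ⟨hG, hA, hle.trans hE₀A,
      ⟨elab_mono hE₀e hle, by rw [Subgroup.card_map_of_injective E₀.subtype_injective, hS], hp2⟩,
      fun h => hnot (iu_mono h (hle.trans hE₀A) (pgroup_ne_top hG (P.isPGroup'.to_le hA.1)))⟩

/-- Every elementary abelian subgroup of order at least `p³` is a uniqueness subgroup. -/
theorem rank_three_iu (hG : IsMinSimpleOddOrder G) {F : Subgroup G} (hFe : IsElementaryAbelian p F)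
    (hF : p ^ 3 ≤ Nat.card F) : InUniqueMaximal F := by
  have h2 : p ^ 2 ≤ p ^ 3 := Nat.pow_le_pow_right hp.out.pos (by omega)
  obtain ⟨P, hFP⟩ := (Fusion.elab_isPGroup hFe).exists_le_sylow
  obtain ⟨A₀, hA₀n, hA₀C, hA₀r⟩ := Fact2.exists_scn_three (ne_two_of_elab hG hFe (h2.trans hF)) P.isPGroup'
    (not_prankLE_of_elab hFP hFe hF)
  have hscn : IsSCN (P : Subgroup G) (A₀.map (P : Subgroup G).subtype) := by
    haveI := hA₀n
    refine ⟨Subgroup.map_subtype_le A₀, Bender.le_normalizer_map A₀, le_antisymm ?_ ?_⟩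
    · rintro x ⟨hxT, hxC⟩
      refine ⟨⟨x, hxT⟩, ?_, rfl⟩
      show (⟨x, hxT⟩ : ↥(P : Subgroup G)) ∈ A₀
      rw [← hA₀C]
      exact Subgroup.mem_centralizer_iff.2 fun a ha =>
        Subtype.ext (Subgroup.mem_centralizer_iff.1 hxC _ ⟨a, ha, rfl⟩)
    · refine le_inf (Subgroup.map_subtype_le A₀) ?_
      rintro _ ⟨a, ha, rfl⟩
      refine Subgroup.mem_centralizer_iff.2 ?_
      rintro _ ⟨b, hb, rfl⟩
      exact congrArg Subtype.val (Subgroup.mem_centralizer_iff.1 (hA₀C.ge ha) b hb)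
  have hA3 : ¬ PRankLE p 2 ↥(A₀.map (P : Subgroup G).subtype) := fun h => hA₀r
    (Solv.RankTwo.prankLE_mulEquiv (A₀.equivMapOfInjective _ (Subgroup.subtype_injective _)).symm h)
  obtain ⟨E₁, hE₁A, hE₁e, hE₁⟩ := exists_elab_of_prank hA3
  have hE₁U : InUniqueMaximal E₁ := iu_of_commute' hG (scn_three_iu hG P hscn hA3)
    (hE₁A.trans (hscn.2.2.ge.trans inf_le_right)) hE₁e
    ((Nat.pow_le_pow_right hp.out.pos (show 2 ≤ 2 + 1 by omega)).trans hE₁)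
  exact rank_three_all hG hE₁e hE₁ hE₁U hFe hF

omit hp in
/-- The uniqueness theorem. -/
theorem uniqueness_theorem (hG : IsMinSimpleOddOrder G) {K : Subgroup G} (hK : K ≠ ⊤) (hK2 : ¬ RankLE 1 ↥K)
    (hK3 : ¬ RankLE 2 ↥K ∨ ¬ RankLE 2 ↥(Subgroup.centralizer (K : Set G))) : InUniqueMaximal K := by
  have key : ∀ Z : Subgroup G, ¬ RankLE 2 ↥Z → ∃ F, F ≤ Z ∧ InUniqueMaximal F := by
    intro Z hZ
    rw [RankLE] at hZ
    push Not at hZ
    obtain ⟨r, hr, hrr⟩ := hZ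
    haveI := Fact.mk hr
    obtain ⟨F, hFZ, hFe, hF⟩ := exists_elab_of_prank hrr
    exact ⟨F, hFZ, rank_three_iu hG hFe hF⟩
  rcases hK3 with h | h
  · obtain ⟨F, hFK, hFU⟩ := key K h
    exact iu_mono hFU hFK hK
  · obtain ⟨F, hFC, hFU⟩ := key _ h
    exact iu_of_commute hG hFU (Subgroup.le_centralizer_iff.1 hFC) hK2

end Cfsg.Agent.OddLocal.Uniq
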