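import Cfsg.Agent.Lib.OddLocal.SylowStructure
import Cfsg.Agent.Lib.Fusion.NPC
import Cfsg.Agent.Lib.Fusion.NPCFunctor
import Cfsg.Agent.Lib.Solv.NarrowBasic
import Cfsg.Agent.S1455

/-!
The core for the ideal primes of large rank.
-/

set_option autoImplicit false

namespace Cfsg.Agent.OddLocal.Sig

open Cfsg
open Cfsg.Agent.Fusion (SylIn cj cj_cj cj_eq_self cj_mono card_cj sylIn_map sylIn_top exists_sylIn_ge hnpc_iff
  hnpc_mem_iff hnpc_sub hnpc_of_equiv isPGroup_quotient_pResidual)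
open Cfsg.Agent.OddLocal.Uniq

universe u

variable {G : Type u} [Group G] [Finite G] {p : ℕ} [hp : Fact p.Prime] {M : Subgroup G}

omit hp in
/-- A group with normal complements for all primes is nilpotent. -/
theorem nilpotent_of_hnpc {X : Type u} [Group X] [Finite X]
    (h : ∀ q : ℕ, ∀ [Fact q.Prime], q ∣ Nat.card X → HasNormalPComplement q X) : Group.IsNilpotent X := by
  classical
  let ι := {q // q ∈ (Nat.card X).primeFactors}
  haveI : ∀ q : ι, Fact q.1.Prime := fun q => ⟨Nat.prime_of_mem_primeFactors q.2⟩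
  let φ : X →* ∀ q : ι, X ⧸ pResidual q.1 X := MonoidHom.pi fun q => QuotientGroup.mk' (pResidual q.1 X)
  haveI : ∀ q : ι, Group.IsNilpotent (X ⧸ pResidual q.1 X) := fun q =>
    (isPGroup_quotient_pResidual (G := X) (p := q.1)).isNilpotent
  have hinj : Function.Injective φ := by
    rw [injective_iff_map_eq_one]
    intro x hx
    by_contra hne
    obtain ⟨q, hq, hd⟩ := Nat.exists_prime_and_dvd (fun h : orderOf x = 1 => hne (orderOf_eq_one_iff.1 h))
    haveI := Fact.mk hq
    have hqX := hd.trans (orderOf_dvd_natCard x)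
    have hmem : x ∈ pResidual q X := (QuotientGroup.eq_one_iff x).1
      (congrFun hx ⟨q, Nat.mem_primeFactors.2 ⟨hq, hqX, Nat.card_pos.ne'⟩⟩)
    exact (Nat.Prime.coprime_iff_not_dvd hq).1 ((hnpc_mem_iff (h q hqX)).1 hmem).symm hd
  exact Group.nilpotent_of_mulEquiv (MonoidHom.ofInjective hinj).symm

/-- Conclusions for a prime outside `β(M)`. -/
theorem not_beta_facts (hG : IsMinSimpleOddOrder G) (hM : IsCoatom M) (hpM : p ∣ Nat.card M)
    (hβ : p ∉ beta M) :
    HasNormalPComplement p ↥(commutator M) ∧ ∀ q : ℕ, q.Prime → q ∣ (pPrimeCore p ↥M).index → q ≤ p := by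
  haveI := hG.2.2.2 M hM.1
  by_cases hr : PRankLE p 2 ↥M
  · have h := Cfsg.Agent.S1450.result (odd_subgroup hG M) p hpM hr
    exact ⟨h.2.2.1, h.1⟩
  have hα : p ∈ alpha M := ⟨hp.out, hr⟩
  obtain ⟨S⟩ : Nonempty (Sylow p M) := inferInstance
  have hS := sylIn_map M S
  obtain ⟨hStop, -, -⟩ := sigma_sylow (alpha_subset_sigma hG hM hα) hS
  obtain ⟨P, hP⟩ := hStop.exists_sylow
  have hnid : ¬ IsIdealPrime p G := fun h => hβ ⟨hα, h⟩
  have hrG : ¬ PRankLE p 2 G := fun h =>
    hr (Solv.RankTwo.prankLE_of_injective M.subtype M.subtype_injective h)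
  rw [IsIdealPrime] at hnid
  push Not at hnid
  obtain ⟨Q, A, hAQ, hAe, hA, hmax⟩ := hnid hp.out hrG
  have hQr : ¬ PRankLE p 2 ↥(Q : Subgroup G) := fun h => by
    obtain ⟨F, -, hFe, hF⟩ := exists_elab_of_prank hr
    obtain ⟨x, -, hx⟩ := (sylIn_top Q).conj_le (Fusion.elab_isPGroup hFe) le_top
    refine not_prankLE_of_elab (k := 2) hx ⟨haveI := hFe.1; Subgroup.map_isMulCommutative F _, ?_⟩
      (by rw [card_cj]; exact hF) h
    rintro _ ⟨f, hf, rfl⟩
    rw [← map_pow, hFe.2 f hf, map_one]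
  haveI hAc := hAe.1
  have hnarQ : IsNarrow p ↥(Q : Subgroup G) := by
    have hEe : IsElementaryAbelian p (A.subgroupOf (Q : Subgroup G)) :=
      ⟨⟨⟨fun u v => by
        have h := congrArg Subtype.val (hAc.is_comm.comm (⟨u.1.1, u.2⟩ : A) ⟨v.1.1, v.2⟩)
        exact Subtype.ext (Subtype.ext h)⟩⟩,
        fun a ha => Subtype.ext (hAe.2 _ ha)⟩
    refine (Solv.NarrowBasic.structure_maximal (ne_two_of_elab hG hAe hA.ge) Q.isPGroup' hQr
      (A.subgroupOf (Q : Subgroup G)) hEe (by rw [Solv.card_subgroupOf hAQ, hA]) ?_ _ rfl _ rfl).2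
    intro B hBe hAB
    by_contra hne
    refine hmax (B.map (Q : Subgroup G).subtype) (Subgroup.map_subtype_le B)
      ⟨haveI := hBe.1; Subgroup.map_isMulCommutative B _, ?_⟩ ?_
    · rintro _ ⟨b, hb, rfl⟩
      rw [← map_pow, hBe.2 b hb, map_one]
    · rw [← Subgroup.map_subgroupOf_eq_of_le hAQ]
      exact lt_of_le_of_ne (Subgroup.map_mono hAB)
        fun e => hne (Subgroup.map_injective (Subgroup.subtype_injective _) e).symm
  have hnarS : IsNarrow p ↥(S : Subgroup M) := by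
    refine Solv.RankTwo.isNarrow_mulEquiv ?_ hnarQ
    exact (Sylow.equiv Q P).trans ((MulEquiv.subgroupCongr hP).trans
      ((S : Subgroup M).equivMapOfInjective M.subtype M.subtype_injective).symm)
  have h := Cfsg.Agent.S1455.result (odd_subgroup hG M) p hpM S hnarS fun _ => pLengthLE_one hG hM.1
  exact ⟨h.2.2.1, h.1⟩

omit hp in
theorem beta_subset_alpha : beta M ⊆ alpha M := fun _ h => h.1

omit hp in
/-- Sylow subgroups for primes in `β(M)` lie in `M_β`. -/
theorem sylow_le_betaCore (hG : IsMinSimpleOddOrder G) (hM : IsCoatom M) (hβ : p ∈ beta M) [Fact p.Prime]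
    (S : Sylow p M) : (S : Subgroup M) ≤ piCore (beta M) M := by
  classical
  let K : Subgroup ↥(commutator M) := ⨅ q ∈ {q : ℕ | q.Prime ∧ q ∣ Nat.card M ∧ q ∉ beta M}, pResidual q ↥(commutator M)
  haveI hKc : K.Characteristic := by
    refine Subgroup.characteristic_iff_comap_eq.2 fun φ => ?_
    simp only [K, Subgroup.comap_iInf]
    refine iInf_congr fun q => iInf_congr fun _ => ?_
    exact Subgroup.characteristic_iff_comap_eq.1 (Fusion.pResidual_characteristic (p := q)) φ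
  have hKπ : PiNum (beta M) (Nat.card (K.map (commutator M).subtype)) := by
    intro q hq hd
    haveI := Fact.mk hq
    rw [Subgroup.card_map_of_injective (Subgroup.subtype_injective _)] at hd
    have hqM : q ∣ Nat.card M :=
      (hd.trans (Subgroup.card_subgroup_dvd_card K)).trans (Subgroup.card_subgroup_dvd_card _)
    by_contra hqβ
    have hle : K ≤ pResidual q ↥(commutator M) := iInf₂_le q ⟨hq, hqM, hqβ⟩
    exact (Nat.Prime.coprime_iff_not_dvd hq).1
      (hnpc_iff.1 (not_beta_facts hG hM hqM hqβ).1).symm (hd.trans (Subgroup.card_dvd_of_le hle))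
  refine le_trans (fun x hx => ?_) (le_piCore (K.map (commutator M).subtype) hKπ)
  have hxC : x ∈ commutator M := sylow_le_derived hG hM (alpha_subset_sigma hG hM hβ.1) S hx
  refine ⟨⟨x, hxC⟩, ?_, rfl⟩
  simp only [K, SetLike.mem_coe, Subgroup.mem_iInf]
  rintro q ⟨hq, hqM, hqβ⟩
  haveI := Fact.mk hq
  refine (hnpc_mem_iff (not_beta_facts hG hM hqM hqβ).1).2 ?_
  obtain ⟨k, hk⟩ := IsPGroup.iff_orderOf.1 S.isPGroup' ⟨x, hx⟩
  rw [Subgroup.orderOf_mk] at hk ⊢
  rw [hk]
  exact Nat.Coprime.pow_left k ((Nat.coprime_primes Fact.out hq).2 fun e => hqβ (e ▸ hβ))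

omit hp in
theorem betaCore_hall (hG : IsMinSimpleOddOrder G) (hM : IsCoatom M) :
    IsPiHallOf (beta M) (piCoreOf (beta M) M) M ∧ IsPiHall (beta M) (piCoreOf (beta M) M) :=
  piCoreOf_hall (beta_subset_alpha.trans (alpha_subset_sigma hG hM)) fun _ _ hq P => sylow_le_betaCore hG hM hq P

/-- Normal complements in `M'` and `M_σ`. -/
theorem hnpc_derived (hG : IsMinSimpleOddOrder G) (hM : IsCoatom M) (hpM : p ∣ Nat.card M) (hβ : p ∉ beta M) :
    HasNormalPComplement p ↥⁅M, M⁆ ∧ HasNormalPComplement p ↥(sigmaCore M) := by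
  have h1 : HasNormalPComplement p ↥⁅M, M⁆ := hnpc_of_equiv
    (((commutator M).equivMapOfInjective M.subtype M.subtype_injective).trans
      (MulEquiv.subgroupCongr (Subgroup.map_subtype_commutator M))) (not_beta_facts hG hM hpM hβ).1
  refine ⟨h1, hnpc_sub ?_ h1⟩
  rw [← Subgroup.map_subtype_commutator]
  exact Subgroup.map_mono (sigmaCore_le_derived hG hM)

omit hp in
/-- Nilpotent Hall subgroups for the primes outside `β(M)`. -/
theorem exists_nilpotent_hall (hG : IsMinSimpleOddOrder G) (hM : IsCoatom M) {D : Subgroup G} (hDM : D ≤ M)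
    (hBD : piCoreOf (beta M) M ≤ D)
    (hD : ∀ q : ℕ, ∀ [Fact q.Prime], q ∣ Nat.card M → q ∉ beta M → HasNormalPComplement q ↥D) :
    ∃ H : Subgroup G, IsPiHallOf {q | q.Prime ∧ q ∉ beta M} H D ∧ Group.IsNilpotent H := by
  obtain ⟨⟨hBM, hBπ, hBi⟩, -⟩ := betaCore_hall hG hM
  set B := piCoreOf (beta M) M
  haveI : (B.subgroupOf D).Normal :=
    Subgroup.normal_subgroupOf_of_le_normalizer (hDM.trans le_normalizer_piCoreOf)
  have hidx : ∀ q : ℕ, q.Prime → q ∣ (B.subgroupOf D).index → q ∉ beta M := fun q hq hd hβ =>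
    hBi q hq hβ (hd.trans ⟨D.relIndex M, (Subgroup.relIndex_mul_relIndex B D M hBD hDM).symm⟩)
  obtain ⟨K, hK⟩ := Subgroup.exists_right_complement'_of_coprime (N := B.subgroupOf D)
    (Nat.coprime_of_dvd fun q hq h1 h2 => hidx q hq h2 (hBπ q hq (by rwa [Solv.card_subgroupOf hBD] at h1)))
  have hKq : ∀ q : ℕ, q.Prime → q ∣ Nat.card (K.map D.subtype) → q ∉ beta M := fun q hq hd => by
    rw [Subgroup.card_map_of_injective D.subtype_injective, ← hK.symm.index_eq_card] at hd
    exact hidx q hq hd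
  refine ⟨K.map D.subtype, ⟨Subgroup.map_subtype_le K, fun q hq hd => ⟨hq, hKq q hq hd⟩, ?_⟩, ?_⟩
  · rintro q hq ⟨-, hqβ⟩ hd
    rw [Subgroup.relIndex, Subgroup.subgroupOf, Subgroup.comap_map_eq_self_of_injective D.subtype_injective,
      hK.index_eq_card, Solv.card_subgroupOf hBD] at hd
    exact hqβ (hBπ q hq hd)
  · refine nilpotent_of_hnpc fun q _ hd => hnpc_sub (Subgroup.map_subtype_le K) (hD q ?_ (hKq q Fact.out hd))
    exact hd.trans (Subgroup.card_dvd_of_le ((Subgroup.map_subtype_le K).trans hDM))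

omit hp in
/-- The structure given by the primes of `β(M)`. -/
theorem beta_structure (hG : IsMinSimpleOddOrder G) (hM : IsCoatom M) :
    IsPiHallOf (beta M) (piCoreOf (beta M) M) M ∧ IsPiHall (beta M) (piCoreOf (beta M) M) ∧
      (∃ H : Subgroup G, IsPiHallOf {q | q.Prime ∧ q ∉ beta M} H ⁅M, M⁆ ∧ Group.IsNilpotent H) ∧
      (∃ H : Subgroup G, IsPiHallOf {q | q.Prime ∧ q ∉ beta M} H (sigmaCore M) ∧ Group.IsNilpotent H) ∧
      ∀ q : ℕ, q.Prime → q ∣ Nat.card M → q ∉ beta M →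
        HasNormalPComplement q ↥⁅M, M⁆ ∧ HasNormalPComplement q ↥(sigmaCore M) ∧
        ∀ r : ℕ, r.Prime → r ∣ (pPrimeCore q ↥M).index → r ≤ q := by
  have hle : piCoreOf (beta M) M ≤ sigmaCore M :=
    Subgroup.map_mono (piCore_mono (beta_subset_alpha.trans (alpha_subset_sigma hG hM)))
  have hσd : sigmaCore M ≤ ⁅M, M⁆ := by
    rw [← Subgroup.map_subtype_commutator]
    exact Subgroup.map_mono (sigmaCore_le_derived hG hM)
  refine ⟨(betaCore_hall hG hM).1, (betaCore_hall hG hM).2,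
    exists_nilpotent_hall hG hM (Subgroup.commutator_le_self M) (hle.trans hσd) fun q _ h1 h2 => (hnpc_derived hG hM h1 h2).1,
    exists_nilpotent_hall hG hM (Subgroup.map_subtype_le _) hle fun q _ h1 h2 => (hnpc_derived hG hM h1 h2).2,
    fun q hq h1 h2 => ?_⟩
  haveI := Fact.mk hq
  exact ⟨(hnpc_derived hG hM h1 h2).1, (hnpc_derived hG hM h1 h2).2, (not_beta_facts hG hM h1 h2).2⟩

end Cfsg.Agent.OddLocal.Sig
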