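import Cfsg.Agent.Lib.OddLocal.TauTwoBasic
import Cfsg.Agent.Lib.OddLocal.BetaCore
import Cfsg.Agent.Lib.Solv.PLengthFixed

/-!
`M_σ A` is normal in `M`.
-/

set_option autoImplicit false
set_option linter.style.haveILetI false

namespace Cfsg.Agent.OddLocal.TauTwo

open Cfsg
open scoped commutatorElement
open Cfsg.Agent.Fusion (SylIn cj cj_cj cj_eq_self cj_mono card_cj isPGroup_cj sylIn_map sylIn_top exists_sylIn_ge
  mem_normalizer_of_cj_le)
open Cfsg.Agent.OddLocal.Uniq
open Cfsg.Agent.OddLocal.Sig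
open Cfsg.Agent.OddLocal.RankTwo
open Cfsg.Agent.OddLocal.Bender (coreP le_normalizer_coreP)

universe u

variable {G : Type u} [Group G] [Finite G] {p : ℕ} [hp : Fact p.Prime] {M A : Subgroup G}

theorem setup_of_tau2 (hG : IsMinSimpleOddOrder G) (hM : IsCoatom M) (hp2 : p ∈ tau2 M) (hAM : A ≤ M)
    (hAe : IsElementaryAbelian p A) (hA : Nat.card A = p ^ 2) : Setup p M A :=
  ⟨hG, hM, hp2.2.1, hAM, hAe, hA⟩

/-- An elementary subgroup of order `p²` in a noncyclic subgroup. -/
theorem exists_elab_sq (hp2 : p ≠ 2) {R : Subgroup G} (hR : IsPGroup p R) (hnc : ¬ IsCyclic R) :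
    ∃ B : Subgroup G, B ≤ R ∧ IsElementaryAbelian p B ∧ Nat.card B = p ^ 2 := by
  obtain ⟨E, hEn, hEe, hEc⟩ := Solv.exists_normal_elementary_sq hp2 hR hnc
  exact ⟨E.map R.subtype, Subgroup.map_subtype_le E, ⟨haveI := hEe.1; Subgroup.map_isMulCommutative E _, by
    rintro _ ⟨e, he, rfl⟩; rw [← map_pow, hEe.2 e he, map_one]⟩,
    by rw [Subgroup.card_map_of_injective R.subtype_injective, hEc]⟩

/-- Subgroups of prime power order outside `σ(M)` are abelian. -/
theorem pgroup_abelian (hG : IsMinSimpleOddOrder G) (hM : IsCoatom M) (hσ : p ∉ sigma M) {R : Subgroup G}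
    (hR : IsPGroup p R) (hRM : R ≤ M) : IsMulCommutative ↥R := by
  obtain ⟨S, hS, hRS⟩ := exists_sylIn_ge hR hRM
  suffices h : IsMulCommutative ↥S from
    ⟨⟨fun u v => Subtype.ext (congrArg Subtype.val (h.is_comm.comm (⟨u, hRS u.2⟩ : S) ⟨v, hRS v.2⟩) :)⟩⟩
  by_cases hc : IsCyclic ↥S
  · haveI := hc
    exact ⟨⟨fun u v => (IsCyclic.commGroup (α := ↥S)).mul_comm u v⟩⟩
  have hp2 : p ≠ 2 := Uniq.ne_two hG hS.isPGroup fun h => hc (by rw [h]; infer_instance)
  obtain ⟨B, hBS, hBe, hBc⟩ := exists_elab_sq hp2 hS.isPGroup hc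
  exact sylow_abelian (⟨hG, hM, hσ, hBS.trans hS.le, hBe, hBc⟩ : Setup p M B) hS hBS

/-- A subgroup moved without fixed points by `A` centralizes `M_σ`. -/
theorem centralizes_core (s : Setup p M A) {r : ℕ} [hr : Fact r.Prime] (hrp : r ≠ p) (hrσ : r ∉ sigma M)
    {Z : Subgroup G} (hZ : IsPGroup r Z) (hZM : Z ≤ M) (hAZ : A ≤ Subgroup.normalizer (Z : Set G))
    (hZC : Z ⊓ Subgroup.centralizer (A : Set G) = ⊥) : Z ≤ Subgroup.centralizer (sigmaCore M : Set G) := by
  have hall := (sigmaCore_hall s.minSimple s.coatom).1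
  have hAab := s.elem.1
  refine (Solv.gen_eq A Z hAab hAZ (coprime_pgroup hrp hZ (Fusion.elab_isPGroup s.elem)).symm).ge.trans
    (iSup₂_le fun B hB => ?_)
  obtain ⟨b, hbB, hb1⟩ := exists_ne_one (X := B) fun h0 => by
    have hle := Fusion.card_le_mul_of_cycQuot s.elem hB
    rw [h0, Subgroup.card_bot, mul_one, s.card, pow_two] at hle
    have : p * 2 ≤ p * p := Nat.mul_le_mul_left p hp.out.two_le
    have := hp.out.two_le
    omega
  refine (inf_le_inf_left _ (centralizer_le_of_le (Subgroup.zpowers_le.2 hbB))).trans ?_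
  set c := Subgroup.zpowers b with hc
  have hcA : c ≤ A := Subgroup.zpowers_le.2 (hB.1 hbB)
  have hcc : Nat.card c = p := card_zpowers_elab s.elem (hB.1 hbB) hb1
  set U := Z ⊓ Subgroup.centralizer (c : Set G) with hU
  by_contra hno
  have hσM : sigmaCore M ≤ M := Subgroup.map_subtype_le _
  have hfix : ∀ d : Subgroup G, d ≤ A → Nat.card d = p → d ≠ c → Good p M A d := by
    intro d hdA hdc hne
    refine good_of_fixed s hdA hdc fun h0 => hno ?_
    have hUZ : U ≤ Z := inf_le_left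
    have hn : U ⊔ d ≤ Subgroup.normalizer (sigmaCore M : Set G) :=
      (sup_le (hUZ.trans hZM) (hdA.trans s.le)).trans le_normalizer_piCoreOf
    have hdU : d ≤ Subgroup.normalizer (U : Set G) := hdA.trans (normalizes_fixed hAab hAZ hcA)
    have hfpf : ∀ e ∈ d, e ≠ 1 → ∀ u ∈ U, e * u = u * e → u = 1 := by
      intro e he he1 u hu heu
      refine Subgroup.mem_bot.1 (hZC ▸ Subgroup.mem_inf.2 ⟨hUZ hu, ?_⟩)
      have hde : d = Subgroup.zpowers e := (Subgroup.eq_of_le_of_card_ge (Subgroup.zpowers_le.2 he)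
        (by rw [hdc, card_zpowers_elab s.elem (hdA he) he1])).symm
      have h1 : A ≤ Subgroup.centralizer ({u} : Set G) := by
        rw [← line_sup s.card hcA hdA hcc hdc hne]
        refine sup_le (fun y hy => ?_) (hde ▸ Subgroup.zpowers_le.2
          (Subgroup.mem_centralizer_singleton_iff.2 heu))
        exact Subgroup.mem_centralizer_singleton_iff.2
          (Subgroup.mem_centralizer_iff.1 (Subgroup.mem_inf.1 hu).2 y hy)
      exact Subgroup.mem_centralizer_iff.2 fun y hy => Subgroup.mem_centralizer_singleton_iff.1 (h1 hy)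
    have hco : (Nat.card (sigmaCore M)).Coprime (Nat.card ↥(U ⊔ d)) := by
      have h1 := Solv.card_sup_mul_card_inf' U d hdU
      have hdv : Nat.card ↥(U ⊔ d) ∣ Nat.card U * Nat.card d := ⟨_, h1.symm⟩
      refine Nat.coprime_of_dvd fun t ht h2 h3 => ?_
      obtain ⟨j, hj⟩ := IsPGroup.iff_card.1 (hZ.to_le hUZ)
      rcases ht.dvd_mul.1 (h3.trans hdv) with h4 | h4
      · rw [hj] at h4
        exact hrσ ((Nat.prime_dvd_prime_iff_eq ht hr.out).1 (ht.dvd_of_dvd_pow h4) ▸ hall.2.1 t ht h2)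
      · rw [hdc] at h4
        exact s.not_sigma ((Nat.prime_dvd_prime_iff_eq ht hp.out).1 h4 ▸ hall.2.1 t ht h2)
    have hf := Solv.FrobFix.formula (sigmaCore M) U d
      (s.minSimple.2.2.2 _ fun h => s.coatom.1 (eq_top_iff.2 (h ▸ hσM))) hn hdU hfpf hco
    rw [h0] at hf
    have h1 : sigmaCore M ⊓ Subgroup.centralizer ((U ⊔ d : Subgroup G) : Set G) = ⊥ :=
      le_bot_iff.1 (h0 ▸ inf_le_inf_left _ (centralizer_le_of_le le_sup_right))
    rw [h1, Subgroup.card_bot, one_pow, one_mul, one_mul] at hf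
    refine Subgroup.le_centralizer_iff.1 fun t ht => ?_
    exact ((Subgroup.eq_of_le_of_card_ge inf_le_left hf.le).ge ht).2
  refine s.normalizer_not_le fun g hg => ?_
  obtain ⟨a, ha, hac, hag⟩ := exists_avoid s.card hcc (show Nat.card (cj c g⁻¹) = p by rw [card_cj, hcc])
  have ha1 : a ≠ 1 := fun h => hac (h ▸ one_mem _)
  have hd := hfix _ (Subgroup.zpowers_le.2 ha) (card_zpowers_elab s.elem ha ha1)
    fun h => hac (h ▸ Subgroup.mem_zpowers a)
  refine mem_of_good_conj s (g := g) (e := Subgroup.zpowers a) (hfix _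
    ((cj_mono (Subgroup.zpowers_le.2 ha) g).trans (cj_eq_self hg).le)
    (by rw [card_cj, card_zpowers_elab s.elem ha ha1]) fun h => hag ?_) hd
  rw [← h, Fusion.cj_cj_inv]
  exact Subgroup.mem_zpowers a

/-- The derived subgroup has no commutator between elements for different non-ideal primes. -/
theorem commutator_eq_one (hG : IsMinSimpleOddOrder G) {H : Subgroup G} (hH : IsCoatom H) {r : ℕ}
    [hr : Fact r.Prime] (hrp : r ≠ p) (hpb : p ∉ beta H) (hrb : r ∉ beta H) {a z : G} (ha : a ∈ ⁅H, H⁆)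
    (hz : z ∈ ⁅H, H⁆) (hap : a ^ p = 1) (hzr : IsPGroup r ↥(Subgroup.zpowers z))
    (hn : a * z * a⁻¹ ∈ Subgroup.zpowers z) : a * z * a⁻¹ = z := by
  by_contra hne
  have hpd : p ∣ Nat.card H := by
    have h1 := orderOf_eq_prime hap (fun h => hne (by rw [h, one_mul, inv_one, mul_one]))
    exact h1 ▸ (Subgroup.orderOf_dvd_natCard _ ha).trans (Subgroup.card_dvd_of_le (Subgroup.commutator_le_self H))
  have hrd : r ∣ Nat.card H := by
    obtain ⟨j, hj⟩ := IsPGroup.iff_card.1 hzr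
    rw [Nat.card_zpowers] at hj
    have hj0 : j ≠ 0 := fun h => hne (by
      rw [orderOf_eq_one_iff.1 (by rw [hj, h, pow_zero] : orderOf z = 1), mul_one, mul_inv_cancel])
    exact (dvd_pow_self r hj0).trans (hj ▸ (Subgroup.orderOf_dvd_natCard _ hz).trans
      (Subgroup.card_dvd_of_le (Subgroup.commutator_le_self H)))
  obtain ⟨-, -, -, -, hb⟩ := beta_structure hG hH
  obtain ⟨P, N, hNn, hNc⟩ := (hb p hp.out hpd hpb).1
  obtain ⟨R, K, hKn, hKc⟩ := (hb r hr.out hrd hrb).1
  haveI := hNn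
  haveI := hKn
  -- an element of order prime to the index lies in the normal subgroup
  have hmem : ∀ {t : ℕ} [Fact t.Prime] (S : Sylow t ↥(⁅H, H⁆ : Subgroup G)) (L : Subgroup ↥(⁅H, H⁆ : Subgroup G))
      [L.Normal], L.IsComplement' (S : Subgroup _) → ∀ x : ↥(⁅H, H⁆ : Subgroup G), (orderOf x).Coprime t → x ∈ L := by
    intro t _ S L _ hc x hx
    refine (QuotientGroup.eq_one_iff x).1 (orderOf_eq_one_iff.1 (Nat.eq_one_of_dvd_coprimes ?_
      (orderOf_map_dvd (QuotientGroup.mk' L) x) ((orderOf_dvd_natCard _).trans (Subgroup.index_eq_card L).symm.dvd)))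
    obtain ⟨j, hj⟩ := IsPGroup.iff_card.1 S.isPGroup'
    rw [hc.symm.index_eq_card, hj]
    exact hx.pow_right j
  obtain ⟨i, hi⟩ := IsPGroup.iff_card.1 hzr
  rw [Nat.card_zpowers] at hi
  set z' : ↥(⁅H, H⁆ : Subgroup G) := ⟨z, hz⟩ with hz'
  set a' : ↥(⁅H, H⁆ : Subgroup G) := ⟨a, ha⟩ with ha'
  have hzN : z' ∈ N := hmem P N hNc z' (by
    rw [Subgroup.orderOf_mk, hi]; exact ((Nat.coprime_primes hr.out hp.out).2 hrp).pow_left i)
  have haK : a' ∈ K := hmem R K hKc a' (by
    rw [Subgroup.orderOf_mk]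
    exact Nat.Coprime.coprime_dvd_left (orderOf_dvd_of_pow_eq_one hap)
      ((Nat.coprime_primes hp.out hr.out).2 (Ne.symm hrp)))
  have hcK : a' * z' * a'⁻¹ * z'⁻¹ ∈ K := by
    rw [show a' * z' * a'⁻¹ * z'⁻¹ = a' * (z' * a'⁻¹ * z'⁻¹) by group]
    exact mul_mem haK (hKn.conj_mem _ (inv_mem haK) z')
  have hcz : a * z * a⁻¹ * z⁻¹ ∈ Subgroup.zpowers z := mul_mem hn (inv_mem (Subgroup.mem_zpowers z))
  -- `K` has order prime to `r`
  have hKr : ¬ r ∣ Nat.card K := fun h => R.not_dvd_index (by rw [hKc.index_eq_card]; exact h)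
  refine hne (mul_inv_eq_one.1 (orderOf_eq_one_iff.1 (Nat.eq_one_of_dvd_coprimes
    (((Nat.Prime.coprime_iff_not_dvd hr.out).2 hKr).pow_left i) ?_ ?_)))
  · have h := Subgroup.orderOf_dvd_natCard _ hcz
    rwa [Nat.card_zpowers, hi] at h
  · have := Subgroup.orderOf_dvd_natCard K hcK
    rwa [← Subgroup.orderOf_coe] at this

omit hp in
theorem isIdealPrime_of_beta {H : Subgroup G} {t : ℕ} (h : t ∈ beta H) : IsIdealPrime t G := h.2

/-- `A` centralizes the invariant subgroups of prime power order outside `σ(M)`. -/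
theorem commutator_trivial (s : Setup p M A) {r : ℕ} [hr : Fact r.Prime] (hrp : r ≠ p) (hrσ : r ∉ sigma M)
    {R : Subgroup G} (hR : IsPGroup r R) (hRM : R ≤ M) (hAR : A ≤ Subgroup.normalizer (R : Set G)) :
    R ≤ Subgroup.centralizer (A : Set G) := by
  have hG := s.minSimple
  have hM := s.coatom
  have hRab := pgroup_abelian hG hM hrσ hR hRM
  have hco := (coprime_pgroup hrp hR (Fusion.elab_isPGroup s.elem)).symm
  obtain ⟨hR1, -, hAR1⟩ := Solv.commutator_normal_in hAR
  set R₁ := (⁅R, A⁆ : Subgroup G) with hR₁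
  suffices hbot : R₁ = ⊥ from Subgroup.commutator_eq_bot_iff_le_centralizer.1 hbot
  by_contra hne
  set Z := omz r R₁ with hZd
  have hZR : Z ≤ R₁ := omz_le R₁
  have hZr : IsPGroup r Z := hR.to_le (hZR.trans hR1)
  have hZM : Z ≤ M := (hZR.trans hR1).trans hRM
  have hAZ : A ≤ Subgroup.normalizer (Z : Set G) := hAR1.trans (normalizer_le_omz R₁)
  have hZC : Z ⊓ Subgroup.centralizer (A : Set G) = ⊥ :=
    le_bot_iff.1 ((inf_le_inf_right _ hZR).trans (Solv.PLenFix.commutator_inf_centralizer R A hRab hAR hco).le)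
  have hZ1 : Z ≠ ⊥ := omz_ne_bot (hR.to_le hR1) hne
  have hcen := centralizes_core s hrp hrσ hZr hZM hAZ hZC
  have hσ1 := sigmaCore_ne_bot s
  have hr2 : r ≠ 2 := Uniq.ne_two hG hZr hZ1
  -- Z has order r
  have hZc : Nat.card Z = r := by
    obtain ⟨j, hj⟩ := IsPGroup.iff_card.1 hZr
    rcases Nat.lt_or_ge j 2 with h | h
    · interval_cases j
      · exact absurd (Subgroup.card_eq_one.1 (by rw [hj, pow_zero])) hZ1
      · rw [hj, pow_one]
    exfalso
    have hj2 : j ≤ 2 := by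
      by_contra h3
      exact not_prankLE_of_elab (k := 2) hZM (omz_elab R₁)
        (hj ▸ Nat.pow_le_pow_right hr.out.pos (by omega))
        (prankLE_of_not_alpha hr.out (not_alpha_of_not_sigma hG hM hrσ))
    have sZ : Setup r M Z := ⟨hG, hM, hrσ, hZM, omz_elab R₁, by rw [hj]; congr 1; omega⟩
    exact hσ1 (le_bot_iff.1 ((le_inf le_rfl (Subgroup.le_centralizer_iff.1 hcen)).trans
      (sigmaCore_inf_centralizer sZ).le))
  have hmin : ∀ L : Subgroup G, IsCoatom L → Subgroup.centralizer (Z : Set G) ≤ L → A ≤ L → L = M := by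
    intro L hL hCL hAL
    by_contra hLM
    exact hσ1 (le_bot_iff.1 ((le_inf le_rfl ((Subgroup.le_centralizer_iff.1 hcen).trans hCL)).trans
      (sigmaCore_inf_coatom s hL hLM hAL).le))
  obtain ⟨L, hL, hNL⟩ := exists_coatom _ (normalizer_pgroup_ne_top hG hZr hZ1)
  have hNZ : Subgroup.normalizer (Z : Set G) ≤ M :=
    hmin L hL ((Subgroup.centralizer_le_normalizer _).trans hNL) (hAZ.trans hNL) ▸ hNL
  -- p < r
  obtain ⟨w, hwZ, hw1⟩ := exists_ne_one hZ1
  have hwo : orderOf w = r := orderOf_eq_prime (hwZ.2.2) hw1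
  have hZw : Z = Subgroup.zpowers w := (Subgroup.eq_of_le_of_card_ge (Subgroup.zpowers_le.2 hwZ)
    (by rw [hZc, Nat.card_zpowers, hwo])).symm
  obtain ⟨a, haA, hamove⟩ : ∃ a ∈ A, a * w * a⁻¹ ≠ w := by
    by_contra h
    push Not at h
    have h1 : w ∈ Z ⊓ Subgroup.centralizer (A : Set G) :=
      ⟨hwZ, Subgroup.mem_centralizer_iff.2 fun y hy => mul_inv_eq_iff_eq_mul.1 (h y hy)⟩
    rw [hZC, Subgroup.mem_bot] at h1
    exact hw1 h1
  have hlt : p < r := by
    obtain ⟨i, hi⟩ := Subgroup.mem_zpowers_iff.1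
      (hZw ▸ (Subgroup.mem_normalizer_iff.1 (hAZ haA) w).1 hwZ)
    have hpow : ∀ k : ℕ, a ^ k * w * (a ^ k)⁻¹ = w ^ (i ^ k) := by
      intro k
      induction k with
      | zero => simp
      | succ k ih =>
        calc a ^ (k + 1) * w * (a ^ (k + 1))⁻¹ = a * (a ^ k * w * (a ^ k)⁻¹) * a⁻¹ := by rw [pow_succ']; group
          _ = (a * w * a⁻¹) ^ (i ^ k) := by rw [ih, conj_zpow]
          _ = w ^ (i ^ (k + 1)) := by rw [← hi, ← zpow_mul, pow_succ']
    have hp1 := hpow p
    rw [s.elem.2 a haA, one_mul, inv_one, mul_one] at hp1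
    have h1 : ((i : ZMod r)) ^ p = 1 := by
      have h2 : (r : ℤ) ∣ i ^ p - 1 := by
        rw [← hwo, orderOf_dvd_iff_zpow_eq_one, zpow_sub, zpow_one, ← hp1, mul_inv_cancel]
      have h3 := (ZMod.intCast_zmod_eq_zero_iff_dvd (i ^ p - 1) r).2 h2
      rw [Int.cast_sub, Int.cast_pow, Int.cast_one, sub_eq_zero] at h3
      exact h3
    have h4 : (i : ZMod r) ≠ 1 := fun h => hamove (by
      rw [← hi]
      have h2 : (r : ℤ) ∣ i - 1 := (ZMod.intCast_zmod_eq_zero_iff_dvd (i - 1) r).1 (by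
        rw [Int.cast_sub, Int.cast_one, h, sub_self])
      rw [← hwo, orderOf_dvd_iff_zpow_eq_one, zpow_sub, zpow_one, mul_inv_eq_one] at h2
      exact h2)
    have hne0 : (i : ZMod r) ≠ 0 := fun h => by
      rw [h, zero_pow hp.out.ne_zero] at h1
      exact zero_ne_one h1
    have h5 : orderOf (i : ZMod r) = p := orderOf_eq_prime h1 h4
    have h6 : p ∣ r - 1 := h5 ▸ ZMod.orderOf_dvd_card_sub_one hne0
    have := Nat.le_of_dvd (by have := hr.out.two_le; omega) h6
    omega
  -- an invariant Sylow subgroup for r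
  haveI := hG.2.2.2 M hM.1
  have hrank : RankLE 2 (↥M ⧸ piCore (sigma M) ↥M) := rankLE_quotient
    (fun q hq hqσ => by
      haveI := Fact.mk hq
      obtain ⟨S⟩ : Nonempty (Sylow q ↥M) := inferInstance
      exact not_dvd_index_piCore S (sylow_le_sigmaCore hG hM hqσ S))
    fun q hq hqσ => by
      haveI := Fact.mk hq
      exact prankLE_of_not_alpha hq (not_alpha_of_not_sigma hG hM hqσ)
  obtain ⟨N, hNc, hN1, hN2⟩ := (Cfsg.Agent.S1451.result (Odd.of_dvd_nat (odd_subgroup hG M)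
    (Subgroup.card_quotient_dvd_card _)) (Or.inl hrank)).2.2 p
  haveI := hNc
  set K₀ := N.comap (QuotientGroup.mk' (piCore (sigma M) ↥M)) with hK₀
  set K := K₀.map M.subtype with hK
  have hAK : A ≤ Subgroup.normalizer (K : Set G) := s.le.trans (Bender.le_normalizer_map K₀)
  have hKi : ¬ r ∣ K₀.index := by
    rw [Subgroup.index_comap_of_surjective _ (QuotientGroup.mk'_surjective _)]
    exact hN2 r hr.out ⟨hr.out, hlt⟩
  have hKp : ¬ p ∣ Nat.card K := by
    rw [Subgroup.card_map_of_injective M.subtype_injective]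
    intro hd
    have h1 := Subgroup.relIndex_mul_relIndex ⊥ (piCore (sigma M) ↥M) K₀ bot_le
      (fun x hx => by
        show QuotientGroup.mk' (piCore (sigma M) ↥M) x ∈ N
        rw [show QuotientGroup.mk' (piCore (sigma M) ↥M) x = 1 from (QuotientGroup.eq_one_iff x).2 hx]
        exact one_mem N)
    rw [Subgroup.relIndex_bot_left, Subgroup.relIndex_bot_left] at h1
    rw [← h1] at hd
    rcases hp.out.dvd_mul.1 hd with h | h
    · exact s.not_sigma (piCore_pi p hp.out h)
    · have h2 := Subgroup.relIndex_ker (K := K₀) (QuotientGroup.mk' (piCore (sigma M) ↥M))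
      rw [QuotientGroup.ker_mk', hK₀,
        Subgroup.map_comap_eq_self_of_surjective (QuotientGroup.mk'_surjective _)] at h2
      rw [h2] at h
      exact lt_irrefl p (hN1 p hp.out h).2
  have hcoK : (Nat.card A).Coprime (Nat.card K) := by
    rw [s.card]; exact ((Nat.Prime.coprime_iff_not_dvd hp.out).2 hKp).pow_left 2
  have hZK : Z ≤ K := fun x hx => by
    refine ⟨⟨x, hZM hx⟩, ?_, rfl⟩
    refine (QuotientGroup.eq_one_iff (N := K₀) _).1 (orderOf_eq_one_iff.1 (Nat.eq_one_of_dvd_coprimes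
      (((Nat.Prime.coprime_iff_not_dvd hr.out).2 hKi).pow_left 1) ?_
      ((orderOf_dvd_natCard _).trans (Subgroup.index_eq_card K₀).symm.dvd)))
    refine (orderOf_map_dvd (QuotientGroup.mk' K₀) _).trans ?_
    rw [Subgroup.orderOf_mk, pow_one]
    exact orderOf_dvd_of_pow_eq_one hx.2.2
  obtain ⟨T, hT₀, hZT, hAT⟩ := Solv.exists_invariant_sylow_ge (p := r) hAK hcoK
    (Or.inl (hG.2.2.2 A s.hyp.2.1)) Z hZK hZr hAZ
  have hKM : K ≤ M := Subgroup.map_subtype_le _
  have hT : SylIn r T M := ⟨hT₀.1.trans hKM, hT₀.isPGroup, by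
    rw [← Subgroup.relIndex_mul_relIndex T K M hT₀.1 hKM]
    refine hr.out.prime.not_dvd_mul (sylIn_of_isSylIn hT₀).not_dvd ?_
    rwa [Subgroup.relIndex, Subgroup.subgroupOf, hK,
      Subgroup.comap_map_eq_self_of_injective M.subtype_injective]⟩
  have hTc : ¬ IsCyclic ↥T := fun hc => hrσ (by
    obtain ⟨S, hS⟩ := exists_sylow hT
    refine ⟨hr.out, hZc ▸ Subgroup.card_dvd_of_le hZM, S, ?_⟩
    rw [hS]
    refine le_trans (fun g hg => mem_normalizer_of_cj_le (le_of_eq ?_)) hNZ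
    exact cyclic_eq (p := r) hc ((cj_mono hZT g).trans (cj_eq_self hg).le) hZT (by rw [card_cj, hZc]) hZc)
  obtain ⟨B, hBT, hBe, hBc⟩ := exists_elab_sq hr2 hT.isPGroup hTc
  have sB : Setup r M B := ⟨hG, hM, hrσ, hBT.trans hT.le, hBe, hBc⟩
  have hAB : A ≤ Subgroup.normalizer (B : Set G) := by
    rw [← omz_eq sB hT hBT]; exact hAT.trans (normalizer_le_omz T)
  have hZB : Z ≤ B := fun x hx => (omega_iff sB hT hBT x (hZT hx)).1 hx.2.2
  obtain ⟨H, hH, hNH⟩ := exists_coatom _ (normalizer_pgroup_ne_top hG (Fusion.elab_isPGroup hBe) sB.ne_bot)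
  have hHM : H ≠ M := fun h => sB.normalizer_not_le (h ▸ hNH)
  have hAH : A ≤ H := hAB.trans hNH
  have hBH : B ≤ H := Subgroup.le_normalizer.trans hNH
  by_cases hpH : p ∈ sigma H
  · have hAd : A ≤ ⁅H, H⁆ := fun x hx => by
      obtain ⟨S⟩ : Nonempty (Sylow p ↥H) := inferInstance
      obtain ⟨h, hh, hxS⟩ := (sylIn_map H S).conj_le (Fusion.elab_isPGroup s.elem) hAH
      have h1 : h * x * h⁻¹ ∈ (⁅H, H⁆ : Subgroup G) := Subgroup.map_subtype_commutator H ▸
        Subgroup.map_mono (sylow_le_derived hG hH hpH S) (hxS ⟨x, hx, rfl⟩)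
      have hn : h ∈ Subgroup.normalizer ((⁅H, H⁆ : Subgroup G) : Set G) := mem_normalizer_of_cj_le (by
        rw [Fusion.cj_commutator, Fusion.cj_eq_self_of_mem hh])
      exact (Subgroup.mem_normalizer_iff.1 hn x).2 h1
    have hZd' : Z ≤ ⁅H, H⁆ := le_commutator_of_fixed s.elem.1 hAZ
      (coprime_pgroup hrp hZr (Fusion.elab_isPGroup s.elem)).symm hZC (hZB.trans hBH) hAH
    refine hamove (commutator_eq_one hG hH hrp
      (fun h => (not_ideal hG hM s.rank s.rank_one).1 (isIdealPrime_of_beta h))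
      (fun h => (not_ideal hG hM sB.rank sB.rank_one).1 (isIdealPrime_of_beta h))
      (hAd haA) (hZd' hwZ) (s.elem.2 a haA) ?_ ?_)
    · rw [← hZw]; exact hZr
    · rw [← hZw]; exact (Subgroup.mem_normalizer_iff.1 (hAZ haA) w).1 hwZ
  have sH : Setup p H A := ⟨hG, hH, hpH, hAH, s.elem, s.card⟩
  by_cases hrH : r ∈ sigma H
  · refine hZ1 (le_bot_iff.1 ?_)
    rw [← sigmaCore_inf_coatom sH hM (Ne.symm hHM) s.le]
    exact le_inf (le_of_hall (sigmaCore_hall hG hH).1 le_normalizer_piCoreOf (hZB.trans hBH)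
      (piNum_of_pgroup hZr hrH)) hZM
  · have h1 := centralizes_core sH hrp hrH hZr (hZB.trans hBH) hAZ hZC
    refine sigmaCore_ne_bot sH (le_bot_iff.1 ?_)
    rw [← sigmaCore_inf_coatom sH hM (Ne.symm hHM) s.le]
    exact le_inf le_rfl ((Subgroup.le_centralizer_iff.1 h1).trans
      ((Subgroup.centralizer_le_normalizer _).trans hNZ))

/-- `M_σ A` is normal in `M`. -/
theorem sigmaCore_sup_normal (s : Setup p M A) :
    M ≤ Subgroup.normalizer ((sigmaCore M ⊔ A : Subgroup G) : Set G) := by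
  have hG := s.minSimple
  have hM := s.coatom
  obtain ⟨P, hP, hAP⟩ := exists_sylIn_ge (Fusion.elab_isPGroup s.elem) s.le
  obtain ⟨T, hT⟩ := exists_sylow hP
  have hσM : sigmaCore M ≤ M := Subgroup.map_subtype_le _
  have hσn : M ≤ Subgroup.normalizer (sigmaCore M : Set G) := le_normalizer_piCoreOf
  set O := coreP p M with hO
  have hOM : O ≤ M := Subgroup.map_subtype_le _
  have hOn : M ≤ Subgroup.normalizer (O : Set G) := le_normalizer_coreP M
  have hcoO : (Nat.card A).Coprime (Nat.card O) := by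
    rw [s.card, hO, coreP, Subgroup.card_map_of_injective M.subtype_injective]
    exact ((Fusion.card_pPrimeCore_coprime p ↥M).symm.pow_left 2)
  set X := sigmaCore M ⊔ (M ⊓ Subgroup.centralizer (A : Set G)) with hX
  have hOX : O ≤ X := by
    have hcard : Nat.card O ≤ Nat.card (O ⊓ X : Subgroup G) := by
      refine Nat.le_of_dvd Nat.card_pos ?_
      have hrel : (O ⊓ X).relIndex O = 1 := by
        by_contra hne
        obtain ⟨r, hr, hd⟩ := Nat.exists_prime_and_dvd hne
        haveI := Fact.mk hr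
        have hrp : r ≠ p := by
          rintro rfl
          rw [s.card] at hcoO
          exact (Nat.Prime.coprime_iff_not_dvd hr).1 (hcoO.coprime_dvd_left (dvd_pow_self r two_ne_zero))
            (hd.trans (Subgroup.relIndex_dvd_card _ _))
        obtain ⟨R, hR, hAR⟩ := Solv.exists_invariant_sylow (s.le.trans hOn) hcoO
          (Or.inl (hG.2.2.2 A s.hyp.2.1)) r
        have hR' := sylIn_of_isSylIn hR
        have hRX : R ≤ X := by
          by_cases hrσ : r ∈ sigma M
          · exact (le_of_hall (sigmaCore_hall hG hM).1 hσn (hR.1.trans hOM)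
              (piNum_of_pgroup hR.isPGroup hrσ)).trans le_sup_left
          · exact (le_inf (hR.1.trans hOM) (commutator_trivial s hrp hrσ hR.isPGroup (hR.1.trans hOM) hAR)).trans
              le_sup_right
        refine hR'.not_dvd (hd.trans ?_)
        exact Subgroup.relIndex_dvd_of_le_left O (le_inf hR.1 hRX)
      have h1 := Subgroup.relIndex_mul_relIndex ⊥ (O ⊓ X) O bot_le inf_le_left
      rw [Subgroup.relIndex_bot_left, Subgroup.relIndex_bot_left, hrel, mul_one] at h1
      rw [h1]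
    exact (Subgroup.eq_of_le_of_card_ge inf_le_left hcard).ge.trans inf_le_right
  have hXn : X ≤ Subgroup.normalizer ((sigmaCore M ⊔ A : Subgroup G) : Set G) := by
    refine sup_le (le_sup_left.trans Subgroup.le_normalizer) fun c hc => mem_normalizer_of_cj_le ?_
    rw [cj, Subgroup.map_sup]
    exact sup_le ((cj_eq_self (hσn hc.1)).le.trans le_sup_left)
      ((cj_eq_self (Subgroup.centralizer_le_normalizer _ hc.2)).le.trans le_sup_right)
  have htop := Fact2.rank_two_factor (hG.2.2.2 M hM.1) (odd_subgroup hG M) T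
    (Solv.RankTwo.prankLE_of_injective (T : Subgroup M).subtype (T : Subgroup M).subtype_injective s.rank)
  intro m hm
  obtain ⟨k, hk, n, hn, hkn⟩ := Subgroup.mem_sup_of_normal_left.1 (htop ▸ Subgroup.mem_top (⟨m, hm⟩ : M))
  have hn' : (n : G) ∈ Subgroup.normalizer (P : Set G) := hT ▸
    (map_normalizer_le (T : Subgroup M) (Subgroup.mem_map_of_mem M.subtype hn)).2
  have hnA : (n : G) ∈ Subgroup.normalizer (A : Set G) := by
    rw [← omz_eq s hP hAP]; exact normalizer_le_omz P hn'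
  have hnX : (n : G) ∈ Subgroup.normalizer ((sigmaCore M ⊔ A : Subgroup G) : Set G) := by
    refine mem_normalizer_of_cj_le ?_
    rw [cj, Subgroup.map_sup]
    exact sup_le ((cj_eq_self (hσn n.2)).le.trans le_sup_left) ((cj_eq_self hnA).le.trans le_sup_right)
  rw [show m = (k : G) * n from (congrArg Subtype.val hkn).symm]
  exact mul_mem (hXn (hOX ⟨k, hk, rfl⟩)) hnX

end Cfsg.Agent.OddLocal.TauTwo
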