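import Cfsg.Agent.Lib.OddLocal.KappaFittingEq

/-!
The primes of `τ₂(M)` lie below the primes of `σ(M)` which belong to some `τ₂(N)`.
-/

set_option autoImplicit false
set_option linter.style.haveILetI false

namespace Cfsg.Agent.OddLocal.Kappa

open scoped Pointwise commutatorElement
open Cfsg
open Cfsg.Agent.Fusion (SylIn cj cj_eq_self cj_mono card_cj exists_sylIn exists_sylIn_ge)
open Cfsg.Agent.OddLocal.Uniq
open Cfsg.Agent.OddLocal.Sig
open Cfsg.Agent.OddLocal.RankTwo
open Cfsg.Agent.OddLocal.TauTwo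
open Cfsg.Agent.OddLocal.Prime
open Cfsg.Agent.OddLocal.Disjoint (mem_centralizer_zpowers zpowers_card elab_cj)

universe u

variable {G : Type u} [Group G] [Finite G] {M N : Subgroup G}

/-- A moving element of odd prime order on a group of order `r` or `r²` has order less than `r`. -/
theorem lt_of_move {r t : ℕ} [hr : Fact r.Prime] [ht : Fact t.Prime] (ht2 : t ≠ 2) (hr2 : r ≠ 2) (hrt : t ≠ r)
    {W : Subgroup G} (hW : Nat.card W ∣ r ^ 2) {a : G} (hao : orderOf a = t)
    (hn : a ∈ Subgroup.normalizer (W : Set G)) (hm : ¬ W ≤ Subgroup.centralizer ({a} : Set G)) : t < r := by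
  have hle : Subgroup.zpowers a ≤ Subgroup.normalizer (W : Set G) := Subgroup.zpowers_le.2 hn
  letI : MulAction ↥(Subgroup.zpowers a) ↥W :=
    MulAction.compHom _ ((Subgroup.normalizerMonoidHom W).comp (Subgroup.inclusion hle))
  have hfix : MulAction.fixedPoints ↥(Subgroup.zpowers a) ↥W =
      (((Subgroup.centralizer ({a} : Set G)).subgroupOf W : Subgroup ↥W) : Set ↥W) := by
    ext w
    constructor
    · intro h
      have h1 : a * (w : G) * a⁻¹ = w := congrArg Subtype.val (h ⟨a, Subgroup.mem_zpowers a⟩)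
      exact Subgroup.mem_subgroupOf.2 (Subgroup.mem_centralizer_singleton_iff.2 (mul_inv_eq_iff_eq_mul.1 h1).symm)
    · intro h g
      refine Subtype.ext ?_
      show (g : G) * (w : G) * (g : G)⁻¹ = w
      obtain ⟨i, hi⟩ := Subgroup.mem_zpowers_iff.1 g.2
      have h1 : Commute a (w : G) := (Subgroup.mem_centralizer_singleton_iff.1 (Subgroup.mem_subgroupOf.1 h)).symm
      rw [← hi, (h1.zpow_left i).eq, mul_inv_cancel_right]
  have hmod := (IsPGroup.of_card (n := 1) (by rw [Nat.card_zpowers, hao, pow_one]) :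
    IsPGroup t ↥(Subgroup.zpowers a)).card_modEq_card_fixedPoints ↥W
  rw [show Nat.card ↥(MulAction.fixedPoints ↥(Subgroup.zpowers a) ↥W) =
    Nat.card ↥((Subgroup.centralizer ({a} : Set G)).subgroupOf W) by rw [hfix]; rfl] at hmod
  set C := (Subgroup.centralizer ({a} : Set G)).subgroupOf W
  have hCd : Nat.card C ∣ Nat.card W := Subgroup.card_subgroup_dvd_card C
  have hCne : Nat.card C ≠ Nat.card W := fun h => hm fun w hw => by
    have h1 : C = ⊤ := Subgroup.eq_top_of_card_eq C h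
    exact Subgroup.mem_subgroupOf.1 (h1.symm ▸ Subgroup.mem_top (⟨w, hw⟩ : W) : (⟨w, hw⟩ : W) ∈ C)
  obtain ⟨i, hi, hiW⟩ := (Nat.dvd_prime_pow hr.out).1 hW
  obtain ⟨j, hj, hjC⟩ := (Nat.dvd_prime_pow hr.out).1 (hiW ▸ hCd)
  rw [hiW, hjC] at hmod hCne
  have hji : j < i := lt_of_le_of_ne hj fun h => hCne (h ▸ rfl)
  have hd : t ∣ r ^ j * (r ^ (i - j) - 1) := by
    have h := (Nat.modEq_iff_dvd' (Nat.pow_le_pow_right hr.out.pos hji.le)).1 hmod.symm
    rwa [Nat.mul_sub, mul_one, ← pow_add, Nat.add_sub_cancel' hji.le]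
  have hd2 : t ∣ r ^ (i - j) - 1 := ((ht.out.dvd_mul).1 hd).resolve_left fun h =>
    hrt ((Nat.prime_dvd_prime_iff_eq ht.out hr.out).1 (ht.out.dvd_of_dvd_pow h))
  have hr3 : 3 ≤ r := lt_of_le_of_ne hr.out.two_le (Ne.symm hr2)
  have hd3 : t ∣ (r - 1) * (r + 1) := by
    rcases (show i - j = 1 ∨ i - j = 2 by omega) with h | h
    · rw [h, pow_one] at hd2
      exact hd2.mul_right _
    · rw [h] at hd2
      rwa [mul_comm, ← Nat.sq_sub_sq r 1, one_pow]
  rcases (ht.out.dvd_mul).1 hd3 with h | h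
  · have := Nat.le_of_dvd (by omega) h
    omega
  · have h1 := Nat.le_of_dvd (by omega) h
    by_contra hlt
    have h2 : t = r + 1 := by omega
    obtain ⟨k, hk⟩ := hr.out.odd_of_ne_two hr2
    exact ht2 ((Nat.prime_dvd_prime_iff_eq Nat.prime_two ht.out).1 ⟨k + 1, by omega⟩).symm

theorem Setup.cj {p : ℕ} [Fact p.Prime] {A : Subgroup G} (s : Setup p M A) (g : G) :
    Setup p (Fusion.cj M g) (Fusion.cj A g) :=
  ⟨s.minSimple, isCoatom_cj s.coatom g, fun h => s.not_sigma (sigma_of_cj h), cj_mono s.le g, elab_cj s.elem g,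
    by rw [card_cj, s.card]⟩

/-- A prime of `τ₂(M)` is smaller than a prime of `σ(M)` lying in `τ₂(N)`. -/
theorem tau2_lt (hG : IsMinSimpleOddOrder G) (hM : IsCoatom M) (hN : IsCoatom N) {r t : ℕ} (hrσ : r ∈ sigma M)
    (hr : r ∈ tau2 N) (ht : t ∈ tau2 M) : t < r := by
  haveI := Fact.mk hr.1
  haveI := Fact.mk ht.1
  obtain ⟨E, hE⟩ := exists_compl hG hM
  obtain ⟨A, -, sA⟩ := exists_setup_in_compl hG hM hE ht
  obtain ⟨R, hR⟩ := exists_sylIn (p := r) M
  obtain ⟨hRG, hR1, -⟩ := sigma_sylow hrσ hR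
  have hRσ : R ≤ sigmaCore M := le_of_hall (sigmaCore_hall hG hM).1 le_normalizer_piCoreOf hR.le
    (piNum_of_pgroup hR.isPGroup hrσ)
  have hMR : M ≤ Subgroup.normalizer (R : Set G) := SigmaSubgroups.sylow_of_nilpotent_normal
    (sigmaCore_nilpotent sA) le_normalizer_piCoreOf (hR.mono hRσ (Subgroup.map_subtype_le _))
  obtain ⟨F, hF⟩ := exists_compl hG hN
  obtain ⟨B, -, sB⟩ := exists_setup_in_compl hG hN hF hr
  obtain ⟨g, -, hg⟩ := hRG.conj_le (Fusion.elab_isPGroup sB.elem) le_top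
  set W := omz r R with hW
  have hWB : W ≤ cj B g := fun x hx =>
    (Setup.cj sB g).full x (centralizer_le_of_le hg hx.2.1) hx.2.2
  have hWc : Nat.card W ∣ r ^ 2 := by rw [← sB.card, ← card_cj B g]; exact Subgroup.card_dvd_of_le hWB
  obtain ⟨a, ha, hm⟩ : ∃ a ∈ A, ¬ W ≤ Subgroup.centralizer ({a} : Set G) := by
    by_contra hno
    push Not at hno
    refine omz_ne_bot hR.isPGroup hR1 (le_bot_iff.1 (le_trans (le_inf ((omz_le R).trans hRσ) fun w hw => ?_)
      (sigmaCore_inf_centralizer sA).le))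
    exact Subgroup.mem_centralizer_iff.2 fun a ha => (Subgroup.mem_centralizer_singleton_iff.1 (hno a ha hw)).symm
  have hao : orderOf a = t := orderOf_eq_prime (sA.elem.2 a ha) fun h => hm fun w _ =>
    Subgroup.mem_centralizer_singleton_iff.2 (by rw [h, one_mul, mul_one])
  exact lt_of_move (Uniq.ne_two hG (Fusion.elab_isPGroup sA.elem) sA.ne_bot) (Uniq.ne_two hG hR.isPGroup hR1)
    (fun h => sA.not_sigma (h ▸ hrσ)) hWc hao ((hMR.trans (normalizer_le_omz R)) (sA.le ha)) hm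

end Cfsg.Agent.OddLocal.Kappa
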