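import Cfsg.Agent.Lib.OddLocal.TauTwoNormal

/-!
The structure theorems for primes in `τ₂(M)`.
-/

set_option autoImplicit false

namespace Cfsg.Agent.OddLocal.TauTwo

open Cfsg
open Cfsg.Agent.Fusion (SylIn cj cj_cj cj_eq_self cj_mono card_cj isPGroup_cj sylIn_map sylIn_top exists_sylIn_ge
  mem_normalizer_of_cj_le)
open Cfsg.Agent.OddLocal.Uniq
open Cfsg.Agent.OddLocal.Sig
open Cfsg.Agent.OddLocal.RankTwo

universe u

variable {G : Type u} [Group G] [Finite G] {p : ℕ} [hp : Fact p.Prime] {M A E : Subgroup G}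

/-- The main structure theorem for `A`. -/
theorem structure_tau2 (s : Setup p M A) :
    Group.IsNilpotent (sigmaCore M) ∧
      (∀ P : Sylow p M, IsMulCommutative (P : Subgroup M) ∧
        (A ≤ (P : Subgroup M).map M.subtype →
          (∀ x ∈ (P : Subgroup M).map M.subtype, x ^ p = 1 ↔ x ∈ A) ∧
          ¬ Subgroup.normalizer ((((P : Subgroup M).map M.subtype : Subgroup G)) : Set G) ≤ M)) ∧
      M ≤ Subgroup.normalizer ((sigmaCore M ⊔ A : Subgroup G) : Set G) ∧
      sigmaCore M ⊓ Subgroup.centralizer (A : Set G) = ⊥ ∧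
      (∀ Mstar : Subgroup G, IsCoatom Mstar → Mstar ≠ M → A ≤ Mstar → sigmaCore M ⊓ Mstar = ⊥) ∧
      ∃ A₁ : Subgroup G, A₁ ≤ A ∧ Nat.card A₁ = p ∧ sigmaCore M ⊓ Subgroup.centralizer (A₁ : Set G) = ⊥ := by
  refine ⟨sigmaCore_nilpotent s, fun P => ?_, sigmaCore_sup_normal s, sigmaCore_inf_centralizer s,
    fun L hL hne hAL => sigmaCore_inf_coatom s hL hne hAL, exists_fpf_line s⟩
  have hP := sylIn_map M P
  refine ⟨?_, fun hAP => ⟨fun x hx => omega_iff s hP hAP x hx, s.sylow_normalizer hP⟩⟩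
  have h := pgroup_abelian s.minSimple s.coatom s.not_sigma hP.isPGroup hP.le
  exact ⟨⟨fun u v => Subtype.ext (Subtype.ext (congrArg Subtype.val
    (h.is_comm.comm ⟨_, Subgroup.mem_map_of_mem M.subtype u.2⟩ ⟨_, Subgroup.mem_map_of_mem M.subtype v.2⟩) :))⟩⟩

/-- The structure of a complement containing `A`. -/
theorem complement_tau2 (s : Setup p M A) (hE : IsComplIn E (sigmaCore M) M) (hAE : A ≤ E) :
    (E ≤ Subgroup.normalizer (A : Set G) ∧ ∀ X : Subgroup G, X ≤ E → Nat.card X = p → X ≤ A) ∧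
      (Subgroup.centralizer (A : Set G) ≤ M ⊓ Subgroup.normalizer (A : Set G) ∧ M ⊓ Subgroup.normalizer (A : Set G) = E ∧
        ¬ Subgroup.normalizer (A : Set G) ≤ M) ∧
      ∀ X : Subgroup G, X ≤ A → Nat.card X = p → sigmaCore M ⊓ Subgroup.centralizer (X : Set G) ≠ ⊥ →
        (Subgroup.centralizer (X : Set G) ≤ M ∧
          ∀ L : Subgroup G, IsCoatom L → Subgroup.centralizer (X : Set G) ≤ L → L = M) := by
  obtain ⟨hEM, hSM, hinf, hmul⟩ := hE
  have hσn : M ≤ Subgroup.normalizer (sigmaCore M : Set G) := le_normalizer_piCoreOf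
  have hsup : (sigmaCore M ⊔ A) ⊓ E ≤ A := by
    intro x hx'
    obtain ⟨hx, hxE⟩ := Subgroup.mem_inf.1 hx'
    rw [← SetLike.mem_coe, Subgroup.coe_mul_of_right_le_normalizer_left _ _ (s.le.trans hσn)] at hx
    obtain ⟨m, hm, a, ha, rfl⟩ := hx
    have h1 : m ∈ E ⊓ sigmaCore M := ⟨by simpa using mul_mem hxE (inv_mem (hAE ha)), hm⟩
    rw [hinf, Subgroup.mem_bot] at h1
    simpa [h1] using ha
  have hEN : E ≤ Subgroup.normalizer (A : Set G) := fun e he => by
    refine mem_normalizer_of_cj_le (le_trans (le_inf ?_ ?_) hsup)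
    · exact (cj_mono le_sup_right e).trans (cj_eq_self (sigmaCore_sup_normal s (hEM he))).le
    · exact (cj_mono hAE e).trans (Fusion.cj_eq_self_of_mem he).le
  refine ⟨⟨hEN, fun X hXE hX => ?_⟩, ⟨le_inf s.centralizer_le (Subgroup.centralizer_le_normalizer _),
    le_antisymm (fun g hg => ?_) (le_inf hEM hEN), s.normalizer_not_le⟩,
    fun X hXA hX hfix => centralizer_unique_of_fixed s hXA hX hfix⟩
  · have hXp : IsPGroup p X := isPGroup_of_card hX
    obtain ⟨P, hP, hle⟩ := exists_sylIn_ge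
      (hXp.to_sup_of_normal_right' (Fusion.elab_isPGroup s.elem) (hXE.trans hEN)) (sup_le (hXE.trans hEM) s.le)
    intro x hx
    refine (omega_iff s hP (le_sup_right.trans hle) x (hle (Subgroup.mem_sup_left hx))).1 ?_
    have h1 := pow_card_eq_one' (x := (⟨x, hx⟩ : X))
    rw [hX] at h1
    exact congrArg Subtype.val h1
  · obtain ⟨hgM, hgA⟩ := hg
    obtain ⟨e, he, m, hm, rfl⟩ := hmul g hgM
    have hmA : m ∈ Subgroup.normalizer (A : Set G) := by
      simpa using mul_mem (inv_mem (hEN he)) hgA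
    have h1 : m ∈ sigmaCore M ⊓ Subgroup.centralizer (A : Set G) := ⟨hm, Subgroup.mem_centralizer_iff.2 fun a ha => by
      have h2 : m * a * m⁻¹ * a⁻¹ ∈ E ⊓ sigmaCore M := by
        refine ⟨hAE (mul_mem ((Subgroup.mem_normalizer_iff.1 hmA a).1 ha) (inv_mem ha)), ?_⟩
        rw [show m * a * m⁻¹ * a⁻¹ = m * (a * m⁻¹ * a⁻¹) by group]
        exact mul_mem hm ((Subgroup.mem_normalizer_iff.1 (hσn (s.le ha)) _).1 (inv_mem hm))
      rw [hinf, Subgroup.mem_bot, mul_inv_eq_one, mul_inv_eq_iff_eq_mul] at h2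
      exact h2.symm⟩
    rw [sigmaCore_inf_centralizer s, Subgroup.mem_bot] at h1
    rw [h1, mul_one]
    exact he

end Cfsg.Agent.OddLocal.TauTwo
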