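import Cfsg.Agent.Lib.OddLocal.SigmaPairFinal

/-!
The sets `σ(M)` of nonconjugate maximal subgroups are disjoint.
-/

set_option autoImplicit false
set_option linter.style.haveILetI false

namespace Cfsg.Agent.OddLocal.Disjoint

open Cfsg
open Cfsg.Agent.Fusion (SylIn cj cj_cj cj_eq_self cj_mono card_cj isPGroup_cj exists_sylIn_ge exists_sylIn)
open Cfsg.Agent.OddLocal.Sig
open Cfsg.Agent.OddLocal.TauTwo

universe u

variable {G : Type u} [Group G] [Finite G] {p : ℕ} [hp : Fact p.Prime] {M L : Subgroup G}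

/-- Maximal subgroups with a common prime in their `σ`-sets are conjugate. -/
theorem conjugate_of_sigma (hG : IsMinSimpleOddOrder G) (hM : IsCoatom M) (hL : IsCoatom L) (hσM : p ∈ sigma M)
    (hσL : p ∈ sigma L) : ∃ g : G, L = cj M g := by
  obtain ⟨S, hS⟩ := exists_sylIn (p := p) M
  obtain ⟨R, hR⟩ := exists_sylIn (p := p) L
  by_cases hαL : p ∈ alpha L
  · exact SigmaSubgroups.conjugate_of_shared hG hM hL hσM hσL hR (Or.inl hαL)
  by_cases hαM : p ∈ alpha M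
  · obtain ⟨g, hg⟩ := SigmaSubgroups.conjugate_of_shared hG hL hM hσL hσM hS (Or.inl hαM)
    exact ⟨g⁻¹, by rw [hg, Fusion.cj_cj_inv]⟩
  obtain ⟨g, -, hg⟩ := (sigma_sylow hσL hR).1.conj_eq (sigma_sylow hσM hS).1
  by_contra hno
  have hne : M ≠ cj L g := fun h => hno ⟨g⁻¹, by rw [h, Fusion.cj_cj_inv]⟩
  have hσ' : p ∈ sigma (cj L g) := sigma_of_cj (g := g⁻¹) (by rw [Fusion.cj_cj_inv]; exact hσL)
  refine Pair.contradiction (M := M) (L := cj L g) (S := S)
    ⟨hG, hM, (OrderIso.isCoatom_iff (MulEquiv.mapSubgroup (MulAut.conj g)) L).2 hL, hne, hσM, hσ', hαM, fun h => ?_,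
      (sigma_sylow hσM hS).1, hS.le, hg ▸ cj_mono hR.le g⟩
  obtain ⟨F, hF, hFe, hFc⟩ := Uniq.exists_elab_of_prank h.2
  refine hαL ⟨hp.out, Uniq.not_prankLE_of_elab ?_ (elab_cj hFe g⁻¹) (by rw [card_cj]; exact hFc)⟩
  exact (cj_mono hF _).trans (Fusion.cj_cj_inv L g).le

end Cfsg.Agent.OddLocal.Disjoint
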