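import Cfsg.Agent.Lib.OddLocal.TauTwoNormal

/-!
Nonabelian subgroups of prime power order lie in a unique maximal subgroup.
-/

set_option autoImplicit false
set_option linter.style.haveILetI false

namespace Cfsg.Agent.OddLocal.Nonabelian

open Cfsg
open Cfsg.Agent.Fusion (SylIn cj cj_cj cj_eq_self cj_mono card_cj isPGroup_cj sylIn_map sylIn_top exists_sylIn_ge
  mem_normalizer_of_cj_le)
open Cfsg.Agent.OddLocal.Uniq
open Cfsg.Agent.OddLocal.Sig
open Cfsg.Agent.OddLocal.RankTwo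

universe u

variable {G : Type u} [Group G] [Finite G] {p : ℕ} [hp : Fact p.Prime]

omit hp in
/-- Generation by fixed points of a group that is noncyclic abelian modulo a central subgroup. -/
theorem le_of_quotient_fixed {R W Z L : Subgroup G} (hZR : Z ≤ R) (hRZ : R ≤ Subgroup.centralizer (Z : Set G))
    (hWZ : W ≤ Subgroup.centralizer (Z : Set G)) (hRW : R ≤ Subgroup.normalizer (W : Set G))
    (hco : (Nat.card R).Coprime (Nat.card W)) (hder : ∀ a ∈ R, ∀ b ∈ R, a * b * a⁻¹ * b⁻¹ ∈ Z)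
    (hnc : ∀ y ∈ R, ¬ R ≤ Z ⊔ Subgroup.zpowers y) (hZL : Z ≤ L)
    (hfix : ∀ y ∈ R, y ∉ Z → W ⊓ Subgroup.centralizer ({y} : Set G) ≤ L) : W ≤ L := by
  set X := R ⊔ W with hX
  have hRX : R ≤ X := le_sup_left
  have hWX : W ≤ X := le_sup_right
  have hXZ : X ≤ Subgroup.centralizer (Z : Set G) := sup_le hRZ hWZ
  haveI : (Z.subgroupOf X).Normal :=
    Subgroup.normal_subgroupOf_of_le_normalizer (hXZ.trans (Subgroup.centralizer_le_normalizer _))
  set π := QuotientGroup.mk' (Z.subgroupOf X) with hπ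
  set A' := (R.subgroupOf X).map π with hA'
  set K := (W.subgroupOf X).map π with hK
  have hA'c : IsMulCommutative ↥A' := ⟨⟨fun u v => by
    obtain ⟨a, ha, hau⟩ := u.2
    obtain ⟨b, hb, hbv⟩ := v.2
    refine Subtype.ext (show (u : ↥X ⧸ Z.subgroupOf X) * v = v * u from ?_)
    rw [← hau, ← hbv, ← commutatorElement_eq_one_iff_mul_comm, ← map_commutatorElement]
    exact (QuotientGroup.eq_one_iff _).2 (show (a : G) * b * (a : G)⁻¹ * (b : G)⁻¹ ∈ Z from hder a ha b hb)⟩⟩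
  have hA'K : A' ≤ Subgroup.normalizer (K : Set (↥X ⧸ Z.subgroupOf X)) := by
    refine (Subgroup.map_mono ?_).trans (Subgroup.le_normalizer_map π)
    rw [← Subgroup.subgroupOf_normalizer_eq hWX]
    exact fun x hx => hRW hx
  have hco' : (Nat.card A').Coprime (Nat.card K) :=
    (hco.coprime_dvd_left ((Subgroup.card_map_dvd _ _).trans (by rw [Solv.card_subgroupOf hRX]))).coprime_dvd_right
      ((Subgroup.card_map_dvd _ _).trans (by rw [Solv.card_subgroupOf hWX]))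
  have hle : K ≤ ((L ⊓ W).subgroupOf X).map π := by
    refine (Solv.gen_eq A' K hA'c hA'K hco').ge.trans (iSup₂_le fun B hB => ?_)
    obtain ⟨hBA, a, ha, hgen⟩ := hB
    obtain ⟨b, hb, hb1⟩ : ∃ b ∈ B, b ≠ 1 := by
      by_contra hno
      push Not at hno
      rw [(Subgroup.eq_bot_iff_forall B).2 hno, bot_sup_eq] at hgen
      obtain ⟨y, hy, rfl⟩ := ha
      refine hnc y hy fun r hr => ?_
      obtain ⟨i, hi⟩ := Subgroup.mem_zpowers_iff.1 (hgen.ge ⟨⟨r, hRX hr⟩, hr, rfl⟩)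
      rw [← map_zpow] at hi
      have h1 : ((y ^ i : X) : G)⁻¹ * r ∈ Z := (QuotientGroup.eq (s := Z.subgroupOf X)).1 hi
      rw [show r = ((y ^ i : X) : G) * (((y ^ i : X) : G)⁻¹ * r) by group]
      refine mul_mem (Subgroup.mem_sup_right ?_) (Subgroup.mem_sup_left h1)
      rw [Subgroup.coe_zpow]
      exact Subgroup.zpow_mem_zpowers _ i
    obtain ⟨y, hy, rfl⟩ := hBA hb
    have hyZ : (y : G) ∉ Z := fun h => hb1 ((QuotientGroup.eq_one_iff _).2 h)
    rintro _ ⟨⟨x, hx, rfl⟩, hxB⟩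
    refine ⟨x, ⟨hfix y hy hyZ ⟨hx, Subgroup.mem_centralizer_singleton_iff.2 ?_⟩, hx⟩, rfl⟩
    have h1 : π y * π x = π x * π y := Subgroup.mem_centralizer_iff.1 hxB _ hb
    rw [← commutatorElement_eq_one_iff_mul_comm, ← map_commutatorElement] at h1
    have h2 : (y : G) * x * (y : G)⁻¹ * (x : G)⁻¹ ∈ Z := (QuotientGroup.eq_one_iff (N := Z.subgroupOf X) _).1 h1
    have h3 : (y : G) * x * (y : G)⁻¹ * (x : G)⁻¹ ∈ W :=
      mul_mem ((Subgroup.mem_normalizer_iff.1 (hRW hy) _).1 hx) (inv_mem hx)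
    have h4 : Z ⊓ W = ⊥ := Solv.coprime_inf (hco.coprime_dvd_left (Subgroup.card_dvd_of_le hZR))
    have h5 : (y : G) * x * (y : G)⁻¹ * (x : G)⁻¹ = 1 := Subgroup.mem_bot.1 (h4 ▸ Subgroup.mem_inf.2 ⟨h2, h3⟩)
    rw [mul_inv_eq_one, mul_inv_eq_iff_eq_mul] at h5
    exact h5.symm
  intro x hx
  obtain ⟨y, hy, hyx⟩ := hle ⟨⟨x, hWX hx⟩, hx, rfl⟩
  have h1 : (y : G)⁻¹ * x ∈ Z := (QuotientGroup.eq (s := Z.subgroupOf X)).1 hyx
  rw [show x = (y : G) * ((y : G)⁻¹ * x) by group]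
  exact mul_mem hy.1 (hZL h1)

/-- Two maximal subgroups over the normaliser of a nonabelian Sylow subgroup coincide. -/
theorem coatom_unique (hG : IsMinSimpleOddOrder G) {S M L : Subgroup G} (hS : SylIn p S ⊤)
    (hna : ¬ IsMulCommutative ↥S) (hM : IsCoatom M) (hL : IsCoatom L)
    (hNM : Subgroup.normalizer (S : Set G) ≤ M) (hNL : Subgroup.normalizer (S : Set G) ≤ L) : L = M := by
  by_cases hr : PRankLE p 2 ↥S
  swap
  · obtain ⟨F, hFS, hFe, hF⟩ := exists_elab_of_prank hr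
    obtain ⟨M', -, hu⟩ := rank_three_iu hG hFe hF
    exact (hu L ⟨hL, (hFS.trans Subgroup.le_normalizer).trans hNL⟩).trans
      (hu M ⟨hM, (hFS.trans Subgroup.le_normalizer).trans hNM⟩).symm
  obtain ⟨S', hS'⟩ := hS.exists_sylow
  rcases sylow_rank_two hG S' (by rw [hS']; exact hr) with h | ⟨P₁, P₂, h1, h2, h3, h4, h5, h6, h7⟩
  · rw [hS'] at h; exact absurd h hna
  rw [hS'] at h1
  by_contra hne
  have hP₁S : P₁ ≤ S := le_sup_left.trans h1.le
  set Z₀ := P₁ ⊓ Subgroup.centralizer (P₁ : Set G) with hZ₀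
  have hder : ⁅P₁, P₁⁆ = Z₀ := derived_eq_centre h3 h4
  have hZ₀P : Z₀ ≤ P₁ := inf_le_left
  have hpow : ∀ a ∈ P₁, a ^ p = 1 := fun a ha => by
    have h := Monoid.pow_exponent_eq_one (⟨a, ha⟩ : P₁)
    rw [h5] at h
    exact congrArg Subtype.val h
  have hP₁p : IsPGroup p ↥P₁ := IsPGroup.of_card h4
  have hp2 : p ≠ 2 := Uniq.ne_two hG hP₁p fun h => by
    rw [h, Subgroup.card_bot] at h4
    exact absurd h4 (Nat.one_lt_pow (by omega) hp.out.one_lt).ne
  -- the centre has order p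
  have hZ₀e : IsElementaryAbelian p Z₀ := ⟨⟨⟨fun u v => Subtype.ext
    (Subgroup.mem_centralizer_iff.1 v.2.2 u u.2.1)⟩⟩, fun a ha => hpow a ha.1⟩
  have hZ₀c : Nat.card Z₀ = p := by
    obtain ⟨j, hj⟩ := IsPGroup.iff_card.1 (Fusion.elab_isPGroup hZ₀e)
    have hj0 : j ≠ 0 := fun h => h3 ⟨⟨fun a b => Subtype.ext (by
      have hbot : Z₀ = ⊥ := Subgroup.card_eq_one.1 (by rw [hj, h, pow_zero])
      exact commutatorElement_eq_one_iff_mul_comm.1 (Subgroup.mem_bot.1 (hbot ▸ hder ▸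
        Subgroup.commutator_mem_commutator a.2 b.2)))⟩⟩
    have hj2 : j < 2 := by
      by_contra hge
      push Not at hge
      obtain ⟨b, hb, hbZ⟩ : ∃ b ∈ P₁, b ∉ Z₀ := by
        by_contra hno
        push Not at hno
        exact h3 ⟨⟨fun u v => Subtype.ext (Subgroup.mem_centralizer_iff.1 (hno v v.2).2 u u.2)⟩⟩
      have hB := elab_sup hZ₀e (Subgroup.mem_centralizer_iff.2 fun y hy =>
        (Subgroup.mem_centralizer_iff.1 hy.2 b hb).symm) (hpow b hb)
      obtain ⟨i, hi⟩ := IsPGroup.iff_card.1 (Fusion.elab_isPGroup hB)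
      have hlt : Z₀ < Z₀ ⊔ Subgroup.zpowers b := lt_of_le_of_ne le_sup_left fun h =>
        hbZ (h.symm ▸ Subgroup.mem_sup_right (Subgroup.mem_zpowers b))
      have h8 := Solv.card_lt_of_lt hlt
      rw [hj, hi] at h8
      have h9 := (Nat.pow_lt_pow_iff_right hp.out.one_lt).1 h8
      exact not_prankLE_of_elab (k := 2) ((sup_le hZ₀P (Subgroup.zpowers_le.2 hb)).trans hP₁S) hB
        (hi ▸ Nat.pow_le_pow_right hp.out.pos (by omega)) hr
    rw [hj, show j = 1 by omega, pow_one]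
  have hσ : ∀ H : Subgroup G, IsCoatom H → Subgroup.normalizer (S : Set G) ≤ H →
      p ∈ sigma H ∧ SylIn p S H := by
    intro H hH hNH
    have hSH : SylIn p S H := hS.mono (Subgroup.le_normalizer.trans hNH) le_top
    obtain ⟨T, hT⟩ := exists_sylow hSH
    refine ⟨⟨hp.out, ?_, T, by rw [hT]; exact hNH⟩, hSH⟩
    refine dvd_trans ?_ (Subgroup.card_dvd_of_le (hP₁S.trans hSH.le))
    rw [h4]; exact dvd_pow_self p (by omega)
  have hsq : ∀ y ∈ P₁, y ∉ Z₀ → IsElementaryAbelian p (Z₀ ⊔ Subgroup.zpowers y : Subgroup G) ∧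
      Nat.card ↥(Z₀ ⊔ Subgroup.zpowers y : Subgroup G) = p ^ 2 ∧ (Z₀ ⊔ Subgroup.zpowers y) ≤ P₁ := by
    intro y hy hyZ
    have hle : Z₀ ⊔ Subgroup.zpowers y ≤ P₁ := sup_le hZ₀P (Subgroup.zpowers_le.2 hy)
    have hB := elab_sup hZ₀e (Subgroup.mem_centralizer_iff.2 fun z (hz : z ∈ Z₀) =>
      (Subgroup.mem_centralizer_iff.1 hz.2 y hy).symm) (hpow y hy)
    obtain ⟨i, hi⟩ := IsPGroup.iff_card.1 (Fusion.elab_isPGroup hB)
    have hlt : Z₀ < Z₀ ⊔ Subgroup.zpowers y := lt_of_le_of_ne le_sup_left fun h =>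
      hyZ (h.symm ▸ Subgroup.mem_sup_right (Subgroup.mem_zpowers y))
    have h8 := Solv.card_lt_of_lt hlt
    rw [hZ₀c, hi] at h8
    have h9 : 1 < i := (Nat.pow_lt_pow_iff_right hp.out.one_lt).1 (by rwa [pow_one])
    have h10 : i ≤ 2 := by
      by_contra h
      exact not_prankLE_of_elab (k := 2) (hle.trans hP₁S) hB (hi ▸ Nat.pow_le_pow_right hp.out.pos (by omega)) hr
    exact ⟨hB, by rw [hi, show i = 2 by omega], hle⟩
  -- lines other than the centre are conjugate inside each elementary subgroup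
  have hconj : ∀ (B : Subgroup G), IsElementaryAbelian p B → Nat.card B = p ^ 2 → B ≤ P₁ → Z₀ ≤ B →
      ∀ x ∈ B, x ∉ Z₀ → ∀ y ∈ B, y ∉ Z₀ →
      ∃ b ∈ P₁, Subgroup.zpowers y = cj (Subgroup.zpowers x) b := by
    intro B hBe hBc hBP hZB x hxB hxZ y hyB' hyZ
    have hxP : x ∈ P₁ := hBP hxB
    have hx1 : x ≠ 1 := fun h => hxZ (h ▸ one_mem _)
    have hy1 : y ≠ 1 := fun h => hyZ (h ▸ one_mem _)
    obtain ⟨b, hb, hbx⟩ : ∃ b ∈ P₁, b * x * b⁻¹ * x⁻¹ ≠ 1 := by
      by_contra hno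
      push Not at hno
      exact hxZ ⟨hxP, Subgroup.mem_centralizer_iff.2 fun w hw =>
        mul_inv_eq_iff_eq_mul.1 (mul_inv_eq_one.1 (hno w hw))⟩
    set c := b * x * b⁻¹ * x⁻¹ with hc
    have hcZ : c ∈ Z₀ := hder ▸ Subgroup.commutator_mem_commutator hb hxP
    have hgen : Z₀ = Subgroup.zpowers c := (Subgroup.eq_of_le_of_card_ge (Subgroup.zpowers_le.2 hcZ)
      (by rw [hZ₀c, card_zpowers_elab hZ₀e hcZ hbx])).symm
    have hB2 : Subgroup.zpowers x ⊔ Z₀ = B := line_sup hBc (Subgroup.zpowers_le.2 hxB) hZB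
      (card_zpowers_elab hBe hxB hx1) hZ₀c fun h => hxZ (h.symm ▸ Subgroup.mem_zpowers x)
    have hyB : y ∈ Subgroup.zpowers x ⊔ Z₀ := hB2.ge hyB'
    rw [← SetLike.mem_coe, Subgroup.coe_mul_of_left_le_normalizer_right _ _ (Subgroup.zpowers_le.2
      (Subgroup.centralizer_le_normalizer _ (Subgroup.mem_centralizer_iff.2 fun z (hz : z ∈ Z₀) =>
        (Subgroup.mem_centralizer_iff.1 hz.2 x hxP).symm)))] at hyB
    obtain ⟨_, ⟨i, rfl⟩, z, hz, hyz⟩ := hyB
    simp only at hyz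
    have hi : ¬ (p : ℤ) ∣ i := fun hd => hyZ (by
      have h1 : x ^ i = 1 := orderOf_dvd_iff_zpow_eq_one.1
        (orderOf_eq_prime (hpow x hxP) hx1 ▸ hd)
      rw [← hyz, h1, one_mul]; exact hz)
    obtain ⟨k, hk⟩ := Subgroup.mem_zpowers_iff.1 (hgen ▸ hz)
    obtain ⟨u, v, huv⟩ : IsCoprime i (p : ℤ) :=
      ((Nat.prime_iff_prime_int.1 hp.out).coprime_iff_not_dvd.2 hi).symm
    have hcomm : ∀ w ∈ P₁, Commute w c := fun w hw => Subgroup.mem_centralizer_iff.1 hcZ.2 w hw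
    have hpowb : ∀ j : ℕ, b ^ j * x * (b ^ j)⁻¹ = x * c ^ j := by
      intro j
      induction j with
      | zero => simp
      | succ j ih =>
        calc b ^ (j + 1) * x * (b ^ (j + 1))⁻¹ = b * (b ^ j * x * (b ^ j)⁻¹) * b⁻¹ := by rw [pow_succ']; group
          _ = (b * x * b⁻¹) * (b * c * b⁻¹) ^ j := by rw [ih, conj_pow]; group
          _ = (c * x) * c ^ j := by
            rw [(hcomm b hb).eq, mul_inv_cancel_right, hc]; group
          _ = x * c ^ (j + 1) := by rw [← (hcomm x hxP).eq, mul_assoc, ← pow_succ']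
    obtain ⟨m, hm⟩ := mem_powers_iff_mem_zpowers.2 (Subgroup.zpow_mem_zpowers c (k * u))
    simp only at hm
    have hyu : y ^ u = x * c ^ m := by
      rw [← hyz, ← hk, ((hcomm x hxP).zpow_zpow i k).mul_zpow, ← zpow_mul, ← zpow_mul, ← hm]
      congr 1
      rw [show i * u = 1 - v * p by linarith, zpow_sub, zpow_one, mul_comm v, zpow_mul, zpow_natCast,
        hpow x hxP, one_zpow, inv_one, mul_one]
    refine ⟨b ^ m, pow_mem hb m, ?_⟩
    rw [cj_zpowers, hpowb m, ← hyu]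
    refine (Subgroup.eq_of_le_of_card_ge (Subgroup.zpowers_le.2 (Subgroup.zpow_mem_zpowers y u)) ?_).symm
    have hne1 : y ^ u ≠ 1 := fun h => hxZ (by
      rw [hyu, mul_eq_one_iff_eq_inv] at h
      exact h ▸ inv_mem (pow_mem hcZ m))
    rw [card_zpowers_elab hBe (zpow_mem hyB' u) hne1, card_zpowers_elab hBe hyB' hy1]
  -- a maximal subgroup over the normaliser has a good line in each elementary subgroup
  have hex : ∀ H K : Subgroup G, IsCoatom H → IsCoatom K → Subgroup.normalizer (S : Set G) ≤ H →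
      Subgroup.normalizer (S : Set G) ≤ K → K ≠ H →
      alphaCore H ≠ ⊥ ∧ ∀ y ∈ P₁, y ∉ Z₀ → Good p H (Z₀ ⊔ Subgroup.zpowers y) Z₀ ∨
        Good p H (Z₀ ⊔ Subgroup.zpowers y) (Subgroup.zpowers y) := by
    intro H K hH hK hNH hNK hne
    obtain ⟨hσH, hSH⟩ := hσ H hH hNH
    have hα : alphaCore H ≠ ⊥ := fun hα => by
      have hnil := derived_nilpotent hG hH hα
      obtain ⟨T, hT⟩ := exists_sylow hSH
      have hSd : S ≤ ⁅H, H⁆ := hT ▸ Subgroup.map_subtype_commutator H ▸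
        Subgroup.map_mono (sylow_le_derived hG hH hσH T)
      have hMS := sylow_derived_normal hnil (hSH.mono hSd (Subgroup.commutator_le_self H))
      exact hne (((hH.le_iff).1 (hMS.trans hNK)).resolve_left hK.1)
    refine ⟨hα, fun y hy hyZ => ?_⟩
    obtain ⟨hBe, hBc, hBP⟩ := hsq y hy hyZ
    set B := Z₀ ⊔ Subgroup.zpowers y with hBdef
    have hBH : B ≤ H := (hBP.trans hP₁S).trans hSH.le
    obtain ⟨e, he⟩ : ∃ e, Good p H B e := by
      by_contra h
      push Not at h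
      exact hα ((rank_two_lemma hG hH hBH hBe hBc).2 fun e he hec hh => h e ⟨he, hec, hh.2⟩).2.1
    by_cases he0 : e = Z₀
    · exact Or.inl (he0 ▸ he)
    refine Or.inr ?_
    obtain ⟨x, hxe, hx1⟩ := exists_ne_one (ne_bot_of_card he.2.1)
    have hexe : e = Subgroup.zpowers x := (Subgroup.eq_of_le_of_card_ge (Subgroup.zpowers_le.2 hxe)
      (by rw [he.2.1, card_zpowers_elab hBe (he.1 hxe) hx1])).symm
    have hxZ : x ∉ Z₀ := fun h => he0 (Subgroup.eq_of_le_of_card_ge (hexe ▸ Subgroup.zpowers_le.2 h)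
      (by rw [hZ₀c, he.2.1]))
    obtain ⟨b, hb, hbe⟩ := hconj B hBe hBc hBP le_sup_left x (he.1 hxe) hxZ y
      (Subgroup.mem_sup_right (Subgroup.mem_zpowers y)) hyZ
    rw [hbe, ← hexe]
    exact TauTwo.good_cj (hSH.le (hP₁S hb)) he (hexe.symm ▸ hbe ▸ le_sup_right)
  -- the key step
  have key : ∀ M L : Subgroup G, IsCoatom M → IsCoatom L → Subgroup.normalizer (S : Set G) ≤ M →
      Subgroup.normalizer (S : Set G) ≤ L → L ≠ M → Subgroup.normalizer (Z₀ : Set G) ≤ M →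
      (∀ H : Subgroup G, IsCoatom H → Subgroup.normalizer (Z₀ : Set G) ≤ H → H = M) → False := by
    intro M L hM hL hNM hNL hne hZM hZu
    obtain ⟨hσM, hSM⟩ := hσ M hM hNM
    obtain ⟨hσL, hSL⟩ := hσ L hL hNL
    have hrkM : PRankLE p 2 ↥M := fun B hBc hBe => by
      obtain ⟨x, -, hx⟩ := hSM.conj_le (Fusion.elab_isPGroup (A := B.map M.subtype) ⟨haveI := hBc;
        Subgroup.map_isMulCommutative B _, by rintro _ ⟨b, hb, rfl⟩; rw [← map_pow, hBe b hb, map_one]⟩)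
        (Subgroup.map_subtype_le B)
      by_contra hgt
      push Not at hgt
      refine not_prankLE_of_elab (k := 2) hx ⟨haveI := hBc; haveI := Subgroup.map_isMulCommutative B M.subtype;
        Subgroup.map_isMulCommutative _ _, ?_⟩ ?_ hr
      · rintro _ ⟨_, ⟨b, hb, rfl⟩, rfl⟩
        rw [← map_pow, ← map_pow, hBe b hb, map_one, map_one]
      · rw [card_cj, Subgroup.card_map_of_injective M.subtype_injective]
        obtain ⟨j, hj⟩ := IsPGroup.iff_card.1 (show IsPGroup p ↥B from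
          fun b => ⟨1, Subtype.ext (by rw [pow_one]; exact hBe b b.2)⟩)
        rw [hj] at hgt ⊢
        exact Nat.pow_le_pow_right hp.out.pos ((Nat.pow_lt_pow_iff_right hp.out.one_lt).1 hgt)
    have hpα : p ∉ alpha M := fun h => h.2 hrkM
    have hα := (hex M L hM hL hNM hNL hne).1
    -- an invariant Sylow subgroup of the α-core
    obtain ⟨r, hr', hrd⟩ := Nat.exists_prime_and_dvd (fun h => hα (Subgroup.card_eq_one.1 h))
    haveI := Fact.mk hr'
    have hall := (alphaCore_hall hG hM).1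
    have hrα := hall.2.1 r hr' hrd
    have hrp : r ≠ p := fun h => hpα (h ▸ hrα)
    have hαM : alphaCore M ≤ M := Subgroup.map_subtype_le _
    have hco : (Nat.card P₁).Coprime (Nat.card (alphaCore M)) := Nat.coprime_of_dvd fun t ht h1 h2 => by
      rw [h4] at h1
      exact hpα ((Nat.prime_dvd_prime_iff_eq ht hp.out).1 (ht.dvd_of_dvd_pow h1) ▸ hall.2.1 t ht h2)
    have hP₁M : P₁ ≤ M := hP₁S.trans hSM.le
    obtain ⟨T, hT₀, hPT⟩ := Solv.exists_invariant_sylow (hP₁M.trans le_normalizer_piCoreOf) hco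
      (Or.inl (hG.2.2.2 P₁ fun h => hM.1 (eq_top_iff.2 (h ▸ hP₁M)))) r
    have hT : SylIn r T M := ⟨hT₀.1.trans hαM, hT₀.isPGroup, by
      rw [← Subgroup.relIndex_mul_relIndex T (alphaCore M) M hT₀.1 hαM]
      exact hr'.prime.not_dvd_mul (sylIn_of_isSylIn hT₀).not_dvd (hall.2.2 r hr' hrα)⟩
    have hTL : ¬ T ≤ L := fun h => by
      obtain ⟨F, hFM, hFe, hF⟩ := exists_elab_of_prank hrα.2
      obtain ⟨x, -, hxT⟩ := hT.conj_le (Fusion.elab_isPGroup hFe) hFM
      obtain ⟨M', -, hu⟩ := iu_mono (iu_conj (rank_three_iu hG hFe hF) x) hxT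
        fun h' => hM.1 (eq_top_iff.2 (h' ▸ hT.le))
      exact hne ((hu L ⟨hL, h⟩).trans (hu M ⟨hM, hT.le⟩).symm)
    -- fixed points of lines other than the centre lie in L
    have hgoodL : ∀ y ∈ P₁, y ∉ Z₀ → Subgroup.centralizer ({y} : Set G) ≤ L := by
      intro y hy hyZ
      rcases (hex L M hL hM hNL hNM (Ne.symm hne)).2 y hy hyZ with h | h
      · exact absurd (hZu L hL (h.normalizer_le hG)) hne
      · rw [← centralizer_zpowers]
        exact (Subgroup.centralizer_le_normalizer _).trans (h.normalizer_le hG)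
    obtain ⟨y₀, hy₀, hy₀Z⟩ : ∃ y ∈ P₁, y ∉ Z₀ := by
      by_contra hno
      push Not at hno
      exact h3 ⟨⟨fun u v => Subtype.ext (Subgroup.mem_centralizer_iff.1 (hno v v.2).2 u u.2)⟩⟩
    obtain ⟨hBe, hBc, hBP⟩ := hsq y₀ hy₀ hy₀Z
    refine hTL ?_
    refine (Solv.gen_eq (Z₀ ⊔ Subgroup.zpowers y₀ : Subgroup G) T hBe.1 (hBP.trans hPT)
      (coprime_pgroup hrp hT.isPGroup (Fusion.elab_isPGroup hBe)).symm).ge.trans (iSup₂_le fun B hB => ?_)
    obtain ⟨b, hbB, hb1⟩ := exists_ne_one (X := B) fun h0 => by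
      have hle := Fusion.card_le_mul_of_cycQuot hBe hB
      rw [h0, Subgroup.card_bot, mul_one, hBc, pow_two] at hle
      have : p * 2 ≤ p * p := Nat.mul_le_mul_left p hp.out.two_le
      have := hp.out.two_le
      omega
    have hbP : b ∈ P₁ := hBP (hB.1 hbB)
    refine (inf_le_inf_left _ (Subgroup.centralizer_le (Set.singleton_subset_iff.2 hbB))).trans ?_
    by_cases hbZ : b ∈ Z₀
    swap
    · exact inf_le_right.trans (hgoodL b hbP hbZ)
    have hZb : Z₀ = Subgroup.zpowers b := (Subgroup.eq_of_le_of_card_ge (Subgroup.zpowers_le.2 hbZ)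
      (by rw [hZ₀c, card_zpowers_elab hZ₀e hbZ hb1])).symm
    refine le_of_quotient_fixed (Z := Z₀) hZ₀P
      (Subgroup.le_centralizer_iff.1 inf_le_right) ?_ ?_
      ((hco.coprime_dvd_right (Subgroup.card_dvd_of_le (inf_le_left.trans hT₀.1))))
      (fun a ha a' ha' => hder ▸ Subgroup.commutator_mem_commutator ha ha') (fun y hy hle => ?_)
      ((hZ₀P.trans hP₁S).trans hSL.le) fun y hy hyZ => inf_le_right.trans (hgoodL y hy hyZ)
    · rw [hZb, centralizer_zpowers]; exact inf_le_right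
    · intro a ha
      refine mem_normalizer_of_cj_le ?_
      rw [Fusion.cj_inf, cj_eq_self (hPT ha), ← centralizer_zpowers, ← hZb, Fusion.cj_centralizer,
        cj_eq_self (Subgroup.centralizer_le_normalizer _ (Subgroup.le_centralizer_iff.1 inf_le_right ha))]
    · by_cases hyZ : y ∈ Z₀
      · have h11 := Subgroup.card_le_of_le (hle.trans (sup_le le_rfl (Subgroup.zpowers_le.2 hyZ)))
        rw [h4, hZ₀c] at h11
        have := Nat.pow_le_pow_right hp.out.pos (show 2 ≤ 3 by omega)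
        have := (Nat.pow_lt_pow_iff_right hp.out.one_lt).2 (show 1 < 2 by omega)
        rw [pow_one] at this
        omega
      · have h11 := Subgroup.card_le_of_le hle
        rw [h4, (hsq y hy hyZ).2.1, Nat.pow_le_pow_iff_right hp.out.one_lt] at h11
        omega
  obtain ⟨y₀, hy₀, hy₀Z⟩ : ∃ y ∈ P₁, y ∉ Z₀ := by
    by_contra hno
    push Not at hno
    exact h3 ⟨⟨fun u v => Subtype.ext (Subgroup.mem_centralizer_iff.1 (hno v v.2).2 u u.2)⟩⟩
  rcases (hex M L hM hL hNM hNL hne).2 y₀ hy₀ hy₀Z with h | h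
  · exact key M L hM hL hNM hNL hne (h.normalizer_le hG) h.2.2
  rcases (hex L M hL hM hNL hNM (Ne.symm hne)).2 y₀ hy₀ hy₀Z with h' | h'
  · exact key L M hL hM hNL hNM (Ne.symm hne) (h'.normalizer_le hG) h'.2.2
  exact hne (h.2.2 L hL (h'.normalizer_le hG))

/-- Nonabelian subgroups of prime power order lie in a unique maximal subgroup. -/
theorem inUniqueMaximal (hG : IsMinSimpleOddOrder G) {P : Subgroup G} (hP : IsPGroup p P)
    (hna : ¬ IsMulCommutative ↥P) : InUniqueMaximal P := by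
  have hP1 : P ≠ ⊥ := fun h => hna (by
    rw [h]
    exact ⟨⟨fun a b => Subsingleton.elim _ _⟩⟩)
  have hp2 : p ≠ 2 := Uniq.ne_two hG hP hP1
  have hnc : ¬ IsCyclic ↥P := fun h => hna (by
    haveI := h
    exact ⟨⟨fun a b => (IsCyclic.commGroup (α := ↥P)).mul_comm a b⟩⟩)
  obtain ⟨B, hBP, hBe, hBc⟩ := TauTwo.exists_elab_sq hp2 hP hnc
  obtain ⟨S, hS, hPS⟩ := exists_sylIn_ge hP (le_top (a := P))
  have hnaS : ¬ IsMulCommutative ↥S := fun h => hna
    ⟨⟨fun u v => Subtype.ext (congrArg Subtype.val (h.is_comm.comm (⟨u, hPS u.2⟩ : S) ⟨v, hPS v.2⟩) :)⟩⟩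
  obtain ⟨M, hM, hPM⟩ := exists_coatom P (pgroup_ne_top hG hP)
  have hall : ∀ H : Subgroup G, IsCoatom H → P ≤ H → Subgroup.normalizer (S : Set G) ≤ H := by
    intro H hH hPH
    have hσ : p ∈ sigma H := by
      by_contra h
      exact hna (TauTwo.pgroup_abelian hG hH h hP hPH)
    exact (normalizer_le_of_centralizer hG hσ hH hPS hS.isPGroup hP1 hPH
      ((centralizer_le_of_le hBP).trans (rank_two_lemma hG hH (hBP.trans hPH) hBe hBc).1)).2
  exact ⟨M, ⟨hM, hPM⟩, fun L hL => coatom_unique hG hS hnaS hM hL.1 (hall M hM hPM) (hall L hL.1 hL.2)⟩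

end Cfsg.Agent.OddLocal.Nonabelian
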