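import Cfsg.Agent.Lib.OddLocal.SigmaEmbedding
import Cfsg.Agent.Lib.OddLocal.NonabelianUniqueness

/-!
Every subgroup whose primes lie in `σ(M)` is conjugate into `M_σ`.
-/

set_option autoImplicit false
set_option linter.style.haveILetI false

namespace Cfsg.Agent.OddLocal.SigmaSubgroups

open Cfsg
open Cfsg.Agent.Fusion (SylIn cj cj_cj cj_eq_self cj_mono card_cj isPGroup_cj sylIn_map sylIn_top exists_sylIn_ge
  mem_normalizer_of_cj_le)
open Cfsg.Agent.OddLocal.Uniq
open Cfsg.Agent.OddLocal.Sig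
open Cfsg.Agent.OddLocal.RankTwo

universe u

variable {G : Type u} [Group G] [Finite G]

/-- Sylow subgroups of a normalised nilpotent subgroup are normalised. -/
theorem sylow_of_nilpotent_normal {p : ℕ} [Fact p.Prime] {M K S : Subgroup G} (hnil : Group.IsNilpotent ↥K)
    (hK : M ≤ Subgroup.normalizer (K : Set G)) (hS : SylIn p S K) : M ≤ Subgroup.normalizer (S : Set G) := by
  haveI := hnil
  obtain ⟨T, hT⟩ := hS.exists_sylow_subgroupOf
  haveI hTn : (T : Subgroup ↥K).Normal :=
    Sylow.normal_of_normalizerCondition Group.normalizerCondition_of_isNilpotent T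
  have hself : K ≤ Subgroup.normalizer (S : Set G) :=
    (Subgroup.normal_subgroupOf_iff_le_normalizer hS.le).1 (hT ▸ hTn)
  intro m hm
  obtain ⟨l, hl, hle⟩ := hS.conj_eq (hS.cj' (hK hm))
  refine mem_normalizer_of_cj_le (le_of_eq ?_)
  rw [← hle, cj_eq_self (hself hl)]

/-- Coprime subgroups of `K N₁` are conjugate into `N₁`. -/
theorem conj_into {H K N₁ Y : Subgroup G} (hH : Group.IsSolvable ↥H) (hKH : K ≤ H)
    (hHK : H ≤ Subgroup.normalizer (K : Set G)) (hN : N₁ ≤ H) (hsup : H ≤ K ⊔ N₁) (hYH : Y ≤ H)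
    (hco : (Nat.card K).Coprime (Nat.card Y)) : ∃ g : G, cj Y g ≤ N₁ := by
  set W := K ⊔ Y with hW
  have hWH : W ≤ H := sup_le hKH hYH
  set D₀ := W ⊓ N₁ with hD₀
  set L := K ⊓ D₀ with hL
  have hD₀K : D₀ ≤ Subgroup.normalizer (K : Set G) := (inf_le_left.trans hWH).trans hHK
  have hWD : K ⊔ D₀ = W := by
    refine le_antisymm (sup_le le_sup_left inf_le_left) (fun w hw => ?_)
    have h1 : w ∈ K ⊔ N₁ := hsup (hWH hw)
    rw [← SetLike.mem_coe, Subgroup.coe_mul_of_right_le_normalizer_left _ _ (hN.trans hHK)] at h1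
    obtain ⟨k, hk, n, hn, rfl⟩ := h1
    refine Subgroup.mul_mem _ (Subgroup.mem_sup_left hk) (Subgroup.mem_sup_right ⟨?_, hn⟩)
    simpa using mul_mem (inv_mem (Subgroup.mem_sup_left hk : k ∈ W)) hw
  have hYK : Y ≤ Subgroup.normalizer (K : Set G) := hYH.trans hHK
  have hcard : Nat.card D₀ = Nat.card Y * Nat.card L := by
    have h1 := Solv.card_sup_mul_card_inf' K D₀ hD₀K
    have h2 := Solv.card_sup_mul_card_inf' K Y hYK
    rw [Solv.coprime_inf hco, Subgroup.card_bot, mul_one] at h2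
    rw [hWD, hW, h2] at h1
    refine Nat.eq_of_mul_eq_mul_left (Nat.card_pos (α := K)) ?_
    rw [← h1]; ring
  haveI : (L.subgroupOf D₀).Normal :=
    Subgroup.normal_subgroupOf_of_le_normalizer fun d hd => mem_normalizer_of_cj_le (by
      rw [hL, Fusion.cj_inf, cj_eq_self (hD₀K hd), Fusion.cj_eq_self_of_mem hd])
  have hidx : (L.subgroupOf D₀).index = Nat.card Y := by
    have h := (L.subgroupOf D₀).card_mul_index
    rw [Solv.card_subgroupOf inf_le_right, hcard, mul_comm (Nat.card Y)] at h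
    exact Nat.eq_of_mul_eq_mul_left Nat.card_pos h
  obtain ⟨D, hD⟩ := Subgroup.exists_right_complement'_of_coprime (N := L.subgroupOf D₀)
    (by rw [hidx, Solv.card_subgroupOf inf_le_right]
        exact hco.coprime_dvd_left (Subgroup.card_dvd_of_le inf_le_left))
  have hDc : Nat.card (D.map D₀.subtype) = Nat.card Y := by
    rw [Solv.card_map_subtype, ← hidx, ← hD.symm.index_eq_card]
  obtain ⟨g, -, hg⟩ := Solv.sz_conj_rel K Y (D.map D₀.subtype) hYK
    ((Subgroup.map_subtype_le D).trans inf_le_left) hco hDc (Or.inl (Solv.isSolvable_of_le hKH hH))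
  refine ⟨g, le_trans ?_ ((Subgroup.map_subtype_le D).trans inf_le_right)⟩
  rw [← hg, Solv.conj_smul_eq_map]

variable {q : ℕ} [hq : Fact q.Prime] {M L : Subgroup G}

/-- A second maximal subgroup sharing a large or normal Sylow subgroup for a prime of `σ(M)` is conjugate. -/
theorem conjugate_of_shared (hG : IsMinSimpleOddOrder G) (hM : IsCoatom M) (hL : IsCoatom L)
    (hσ : q ∈ sigma M) (hσL : q ∈ sigma L) {R : Subgroup G} (hR : SylIn q R L)
    (h : q ∈ alpha L ∨ L ≤ Subgroup.normalizer (R : Set G)) : ∃ g : G, L = cj M g := by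
  obtain ⟨P, hP⟩ := Fusion.exists_sylIn (p := q) M
  obtain ⟨g, -, hg⟩ := (sigma_sylow hσ hP).1.conj_le hR.isPGroup le_top
  have hR' : SylIn q (cj R g) M := hP.of_card_ge (isPGroup_cj hR.isPGroup g) (hg.trans hP.le) (by
    rw [card_cj]
    exact (sigma_sylow hσL hR).1.card_le hP.isPGroup le_top)
  have hL' : IsCoatom (cj L g) := (OrderIso.isCoatom_iff (MulEquiv.mapSubgroup (MulAut.conj g)) L).2 hL
  suffices he : cj L g = M from ⟨g⁻¹, by rw [← he, Fusion.cj_cj_inv]⟩
  rcases h with h | h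
  · obtain ⟨F, hFL, hFe, hF⟩ := exists_elab_of_prank h.2
    obtain ⟨x, -, hx⟩ := hR.conj_le (Fusion.elab_isPGroup hFe) hFL
    obtain ⟨M', -, hu⟩ := iu_conj (iu_mono (iu_conj (rank_three_iu hG hFe hF) x) hx
      fun h' => hL.1 (eq_top_iff.2 (h' ▸ hR.le))) g
    exact (hu _ ⟨hL', cj_mono hR.le g⟩).trans (hu M ⟨hM, hR'.le⟩).symm
  · have h1 : cj L g ≤ M := by
      refine le_trans ?_ (sigma_sylow hσ hR').2.2
      rw [← Fusion.cj_normalizer]
      exact cj_mono h g
    exact (((hL'.le_iff).1 h1).resolve_left hM.1).symm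

/-- The case of a subgroup normalising a subgroup of prime power order inside `M`. -/
theorem conj_le_of_normalizes (hG : IsMinSimpleOddOrder G) (hM : IsCoatom M) (hσ : q ∈ sigma M) {X Y : Subgroup G}
    (hXq : IsPGroup q X) (hX1 : X ≠ ⊥) (hXM : X ≤ M) (hYX : Y ≤ Subgroup.normalizer (X : Set G))
    (hY : ∀ p : ℕ, p.Prime → p ∣ Nat.card Y → p ∈ sigma M) : ∃ g : G, cj Y g ≤ M := by
  by_cases hNX : Subgroup.normalizer (X : Set G) ≤ M
  · exact ⟨1, by rw [Fusion.cj_one]; exact hYX.trans hNX⟩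
  have hq2 : q ≠ 2 := Uniq.ne_two hG hXq hX1
  obtain ⟨L, hL, hNL⟩ := exists_coatom _ (normalizer_pgroup_ne_top hG hXq hX1)
  have hLM : L ≠ M := fun h => hNX (h ▸ hNL)
  obtain ⟨S, hS, hXS⟩ := exists_sylIn_ge hXq (le_inf hXM (Subgroup.le_normalizer.trans hNL))
  obtain ⟨hconj, hNS, hidx⟩ := sigma_embedding hG hM hσ hXq hX1 hXM hLM hNL hS hXS
  have hSM : S ≤ M := hS.le.trans inf_le_left
  have hSL : SylIn q S L := ⟨hS.le.trans inf_le_right, hS.isPGroup, hidx⟩
  have hShr : ∀ U : Subgroup G, InUniqueMaximal U → U ≤ S → False := fun U hU hUS => by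
    obtain ⟨M', -, hu⟩ := hU
    exact hLM ((hu L ⟨hL, hUS.trans hSL.le⟩).trans (hu M ⟨hM, hUS.trans hSM⟩).symm)
  have hSab : IsMulCommutative ↥S := by
    by_contra h
    exact hShr S (Nonabelian.inUniqueMaximal hG hS.isPGroup h) le_rfl
  -- a normal subgroup with a supplement inside M
  obtain ⟨K, N₁, π, hKL, hLK, hN₁L, hN₁M, hsup, hKπ, hπ⟩ : ∃ (K N₁ : Subgroup G) (π : Set ℕ), K ≤ L ∧
      L ≤ Subgroup.normalizer (K : Set G) ∧ N₁ ≤ L ∧ N₁ ≤ M ∧ L ≤ K ⊔ N₁ ∧
      (∀ r : ℕ, r.Prime → r ∣ Nat.card K → r ∈ π) ∧ ∀ r ∈ π, r ∉ sigma M := by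
    by_cases hσL : q ∈ sigma L
    · have hqα : q ∉ alpha L := fun h => by
        obtain ⟨F, hFL, hFe, hF⟩ := exists_elab_of_prank h.2
        obtain ⟨x, -, hx⟩ := hSL.conj_le (Fusion.elab_isPGroup hFe) hFL
        exact hShr _ (iu_conj (rank_three_iu hG hFe hF) x) hx
      refine ⟨alphaCore L, L ⊓ Subgroup.normalizer (S : Set G), alpha L, Subgroup.map_subtype_le _,
        le_normalizer_piCoreOf, inf_le_left, inf_le_right.trans hNS, ?_, (alphaCore_hall hG hL).1.2.1, ?_⟩
      · obtain ⟨T, hT⟩ := exists_sylow hSL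
        haveI := alpha_nilpotent hG hL
        set π := QuotientGroup.mk' (piCore (alpha L) ↥L) with hπ
        have hsurj : Function.Surjective π := QuotientGroup.mk'_surjective _
        have hTd : (T.mapSurjective hsurj : Subgroup (↥L ⧸ piCore (alpha L) ↥L)) ≤ commutator _ := by
          rw [Sylow.coe_mapSurjective]
          refine (Subgroup.map_mono (sylow_le_derived hG hL hσL T)).trans ?_
          rw [commutator_def, Subgroup.map_commutator]
          exact Subgroup.commutator_mono le_top le_top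
        have hTn : ((T.mapSurjective hsurj : Subgroup (↥L ⧸ piCore (alpha L) ↥L))).Normal := by
          refine Subgroup.normalizer_eq_top_iff.1 (eq_top_iff.2 ?_)
          exact sylow_of_nilpotent_normal inferInstance (le_of_eq (Subgroup.normalizer_eq_top _).symm)
            ((sylIn_top (T.mapSurjective hsurj)).mono hTd le_top)
        have hcon : ∀ h ∈ L, cj S h ≤ alphaCore L ⊔ S := by
          intro h hh
          rw [← hT]
          rintro _ ⟨_, ⟨t, ht, rfl⟩, rfl⟩
          have h1 : π (⟨h, hh⟩ * t * ⟨h, hh⟩⁻¹) ∈ (T : Subgroup ↥L).map π := by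
            rw [map_mul, map_mul, map_inv, ← Sylow.coe_mapSurjective hsurj]
            exact hTn.conj_mem _ (by rw [Sylow.coe_mapSurjective]; exact ⟨t, ht, rfl⟩) _
          obtain ⟨t', ht', hte⟩ := h1
          have h2 := (QuotientGroup.eq (s := piCore (alpha L) ↥L)).1 hte
          show h * (t : G) * h⁻¹ ∈ _
          rw [show h * (t : G) * h⁻¹ = (t' : G) * ((t' : G)⁻¹ * (h * (t : G) * h⁻¹)) by group]
          exact mul_mem (Subgroup.mem_sup_right ⟨t', ht', rfl⟩) (Subgroup.mem_sup_left ⟨_, h2, rfl⟩)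
        set KS := alphaCore L ⊔ S with hKS
        have hKSL : KS ≤ L := sup_le (Subgroup.map_subtype_le _) hSL.le
        have hn : L ≤ Subgroup.normalizer (KS : Set G) := fun h hh => mem_normalizer_of_cj_le (by
          rw [hKS, cj, Subgroup.map_sup]
          exact sup_le ((cj_eq_self (le_normalizer_piCoreOf (π := alpha L) hh : h ∈
            Subgroup.normalizer (alphaCore L : Set G))).le.trans le_sup_left) (hcon h hh))
        intro h hh
        obtain ⟨n, hn', hnh⟩ := Fusion.frattini_conj (hSL.mono le_sup_right hKSL) hn hh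
        have h3 : n * h ∈ alphaCore L ⊔ (L ⊓ Subgroup.normalizer (S : Set G)) :=
          Subgroup.mem_sup_right ⟨mul_mem (hKSL hn') hh, hnh⟩
        have h4 : n ∈ alphaCore L ⊔ (L ⊓ Subgroup.normalizer (S : Set G)) :=
          sup_le_sup_left (le_inf hSL.le Subgroup.le_normalizer) _ hn'
        simpa using mul_mem (inv_mem h4) h3
      · intro r hr hrM
        haveI := Fact.mk hr.1
        obtain ⟨R, hR⟩ := Fusion.exists_sylIn (p := r) L
        obtain ⟨g, hg⟩ := conjugate_of_shared hG hM hL hrM (alpha_subset_sigma hG hL hr) hR (Or.inl hr)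
        exact hconj g hg
    · have hSc : ¬ IsCyclic ↥S := fun hc => by
        haveI := hc
        have hXn : Subgroup.normalizer (S : Set G) ≤ Subgroup.normalizer (X : Set G) := fun g hg => by
          refine mem_normalizer_of_cj_le (le_of_eq ?_)
          have h1 : cj X g ≤ S := (cj_mono hXS g).trans (cj_eq_self hg).le
          letI : CommGroup ↥S := IsCyclic.commGroup
          have key : ∀ K : Subgroup ↥S, K = (powMonoidHom (Nat.card K) : ↥S →* ↥S).ker := fun K =>
            Subgroup.eq_of_le_of_card_ge (fun x hx => MonoidHom.mem_ker.2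
              ((SubmonoidClass.coe_pow (⟨x, hx⟩ : K) _).symm.trans (congrArg Subtype.val pow_card_eq_one')))
              (by rw [IsCyclic.card_powMonoidHom_ker]; exact Nat.le_of_dvd Nat.card_pos (Nat.gcd_dvd_right _ _))
          have h2 : (cj X g).subgroupOf S = X.subgroupOf S := by
            rw [key ((cj X g).subgroupOf S), key (X.subgroupOf S), Solv.card_subgroupOf h1,
              Solv.card_subgroupOf hXS, card_cj]
          rw [← Subgroup.map_subgroupOf_eq_of_le h1, h2, Subgroup.map_subgroupOf_eq_of_le hXS]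
        obtain ⟨T, hT⟩ := exists_sylow hSL
        refine hσL ⟨hq.out, ?_, T, by rw [hT]; exact hXn.trans hNL⟩
        obtain ⟨j, hj⟩ := IsPGroup.iff_card.1 hXq
        refine dvd_trans ?_ (Subgroup.card_dvd_of_le (Subgroup.le_normalizer.trans hNL))
        rw [hj]
        exact dvd_pow_self q fun h0 => hX1 (Subgroup.card_eq_one.1 (by rw [hj, h0, pow_zero]))
      obtain ⟨B, hBS, hBe, hBc⟩ := TauTwo.exists_elab_sq hq2 hS.isPGroup hSc
      have sB : TauTwo.Setup q L B := ⟨hG, hL, hσL, hBS.trans hSL.le, hBe, hBc⟩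
      have hall := (sigmaCore_hall hG hL).1
      have hKL : sigmaCore L ≤ L := Subgroup.map_subtype_le _
      have hNB : Subgroup.normalizer (B : Set G) ≤ M :=
        (normalizer_le_of_centralizer hG hσ hM le_rfl (Fusion.elab_isPGroup hBe) sB.ne_bot (hBS.trans hSM)
          (rank_two_lemma hG hM (hBS.trans hSM) hBe hBc).1).2
      refine ⟨sigmaCore L, L ⊓ Subgroup.normalizer (B : Set G), sigma L, hKL, le_normalizer_piCoreOf,
        inf_le_left, inf_le_right.trans hNB, ?_, hall.2.1, ?_⟩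
      · have hBK : SylIn q B (sigmaCore L ⊔ B) := by
          refine ⟨le_sup_right, Fusion.elab_isPGroup hBe, fun hd => hσL ?_⟩
          have h1 := Solv.card_sup_mul_card_inf' (sigmaCore L) B (sB.le.trans le_normalizer_piCoreOf)
          have h2 := Subgroup.relIndex_mul_relIndex ⊥ B (sigmaCore L ⊔ B) bot_le le_sup_right
          rw [Subgroup.relIndex_bot_left, Subgroup.relIndex_bot_left] at h2
          have h3 : B.relIndex (sigmaCore L ⊔ B) * Nat.card (sigmaCore L ⊓ B : Subgroup G) =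
              Nat.card (sigmaCore L) := by
            refine Nat.eq_of_mul_eq_mul_left (Nat.card_pos (α := B)) ?_
            rw [← mul_assoc, h2, h1, mul_comm]
          exact hall.2.1 q hq.out (h3 ▸ hd.mul_right _)
        intro h hh
        obtain ⟨n, hn', hnh⟩ := Fusion.frattini_conj hBK (TauTwo.sigmaCore_sup_normal sB) hh
        have h3 : n * h ∈ sigmaCore L ⊔ (L ⊓ Subgroup.normalizer (B : Set G)) :=
          Subgroup.mem_sup_right ⟨mul_mem (sup_le hKL sB.le hn') hh, hnh⟩
        have h4 : n ∈ sigmaCore L ⊔ (L ⊓ Subgroup.normalizer (B : Set G)) :=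
          sup_le_sup_left (le_inf sB.le Subgroup.le_normalizer) _ hn'
        simpa using mul_mem (inv_mem h4) h3
      · intro r hr hrM
        haveI := Fact.mk hr.1
        obtain ⟨T⟩ : Nonempty (Sylow r ↥L) := inferInstance
        have hR := sylIn_map L T
        have hRK : (T : Subgroup ↥L).map L.subtype ≤ sigmaCore L :=
          Subgroup.map_mono (sylow_le_sigmaCore hG hL hr T)
        obtain ⟨g, hg⟩ := conjugate_of_shared hG hM hL hrM hr hR (Or.inr
          (sylow_of_nilpotent_normal (TauTwo.sigmaCore_nilpotent sB) le_normalizer_piCoreOf (hR.mono hRK hKL)))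
        exact hconj g hg
  obtain ⟨g, hg⟩ := conj_into (hG.2.2.2 L hL.1) hKL hLK hN₁L hsup (hYX.trans hNL)
    (Nat.coprime_of_dvd fun r hr h1 h2 => hπ r (hKπ r hr h1) (hY r hr h2))
  exact ⟨g, hg.trans hN₁M⟩

/-- Subgroups with primes in `σ(M)` are conjugate into `M_σ`. -/
theorem exists_conj_le (hG : IsMinSimpleOddOrder G) (hM : IsCoatom M) {Y : Subgroup G} (hY1 : Y ≠ ⊥)
    (hY : ∀ p : ℕ, p.Prime → p ∣ Nat.card Y → p ∈ sigma M) : ∃ g : G, cj Y g ≤ sigmaCore M := by
  suffices h : ∃ g : G, cj Y g ≤ M by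
    obtain ⟨g, hg⟩ := h
    exact ⟨g, le_of_hall (sigmaCore_hall hG hM).1 le_normalizer_piCoreOf hg
      fun p hp hd => hY p hp (card_cj Y g ▸ hd)⟩
  have hYt : Y ≠ ⊤ := fun h => by
    have hM1 : M ≠ ⊥ := fun h0 => by
      have h2 := normalizer_coatom hG hM
      haveI : Nontrivial G := hG.2.1.toNontrivial
      rw [h0] at h2
      exact bot_ne_top (h2.symm.trans (Subgroup.normalizer_eq_top_iff.2 inferInstance))
    obtain ⟨r, hr, hrd, hrσ⟩ := exists_not_sigma hG hM hM1
    refine hrσ (hY r hr ?_)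
    rw [h, Subgroup.card_top]
    exact hrd.trans (Subgroup.card_subgroup_dvd_card M)
  haveI := hG.2.2.2 Y hYt
  haveI : Nontrivial ↥Y := (Subgroup.nontrivial_iff_ne_bot Y).2 hY1
  obtain ⟨N, hNn, hN1, hNmin⟩ := Solv.exists_minimal_normal (G := ↥Y)
  haveI := hNn
  haveI : Nontrivial ↥N := (Subgroup.nontrivial_iff_ne_bot N).2 hN1
  have hNab : ⁅N, N⁆ = ⊥ := by
    refine (hNmin ⁅N, N⁆ inferInstance (Subgroup.commutator_le_self N)).resolve_right fun h => ?_
    refine (Group.IsSolvable.commutator_lt_top_of_nontrivial ↥N).ne ?_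
    apply Subgroup.map_injective N.subtype_injective
    rw [Subgroup.map_subtype_commutator, h, ← MonoidHom.range_eq_map, Subgroup.range_subtype]
  obtain ⟨q, hq, hqd⟩ := Nat.exists_prime_and_dvd (fun h => hN1 (Subgroup.card_eq_one.1 h))
  haveI := Fact.mk hq
  set A := N.map Y.subtype with hA
  set X := omz q A with hX
  have hAc : A ≤ Subgroup.centralizer (A : Set G) := by
    rw [← Subgroup.commutator_eq_bot_iff_le_centralizer, hA, ← Subgroup.map_commutator, hNab, Subgroup.map_bot]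
  have hYX : Y ≤ Subgroup.normalizer (X : Set G) := (Bender.le_normalizer_map N).trans (normalizer_le_omz A)
  have hXq : IsPGroup q X := Fusion.elab_isPGroup (omz_elab A)
  have hX1 : X ≠ ⊥ := fun h => by
    obtain ⟨⟨a, ha⟩, hao⟩ := exists_prime_orderOf_dvd_card' (G := ↥A) q
      (by rw [hA, Subgroup.card_map_of_injective Y.subtype_injective]; exact hqd)
    rw [Subgroup.orderOf_mk] at hao
    have h1 : a ∈ X := ⟨ha, hAc ha, hao ▸ pow_orderOf_eq_one a⟩
    rw [h, Subgroup.mem_bot] at h1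
    rw [h1, orderOf_one] at hao
    exact hq.ne_one hao.symm
  have hqσ : q ∈ sigma M := hY q hq (hqd.trans (Subgroup.card_subgroup_dvd_card N))
  obtain ⟨P, hP⟩ := Fusion.exists_sylIn (p := q) M
  obtain ⟨g, -, hg⟩ := (sigma_sylow hqσ hP).1.conj_le hXq le_top
  obtain ⟨g', hg'⟩ := conj_le_of_normalizes hG hM hqσ (isPGroup_cj hXq g)
    (fun h => hX1 ((Subgroup.map_eq_bot_iff_of_injective _ (MulAut.conj g).injective).1 h)) (hg.trans hP.le)
    (Y := cj Y g) (by rw [← Fusion.cj_normalizer]; exact cj_mono hYX g)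
    fun p hp hd => hY p hp (card_cj Y g ▸ hd)
  exact ⟨g' * g, by rw [← cj_cj]; exact hg'⟩

end Cfsg.Agent.OddLocal.SigmaSubgroups
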