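import Cfsg.Agent.Lib.OddLocal.KappaBeta
import Cfsg.Agent.Lib.OddLocal.KappaCount
import Cfsg.Agent.Lib.OddLocal.KappaDerived
import Cfsg.Agent.Lib.Solv.FPFFitting
import Cfsg.Agent.Lib.Solv.PConj

/-!
`K^*` lies in `M_F`: when `U = 1` the Sylow `q`-subgroup of `M_σ`, `q = |K^*|`, is normal in `M`.
-/

set_option autoImplicit false
set_option linter.style.haveILetI false

namespace Cfsg.Agent.OddLocal.Kappa

open scoped Pointwise commutatorElement
open Cfsg
open Cfsg.Agent.Fusion (SylIn cj cj_cj cj_eq_self cj_mono card_cj exists_sylIn)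
open Cfsg.Agent.OddLocal.Uniq
open Cfsg.Agent.OddLocal.Sig
open Cfsg.Agent.OddLocal.RankTwo
open Cfsg.Agent.OddLocal.TauTwo
open Cfsg.Agent.OddLocal.Prime

universe u

variable {G : Type u} [Group G] [Finite G] {M E K U : Subgroup G}

/-- `|K^*|` is a prime when `U = 1`. -/
theorem star_prime (hG : IsMinSimpleOddOrder G) (hM : IsCoatom M) (hKU : IsSigmaDecomposition M K U)
    (hK1 : K ≠ ⊥) (hU : U = ⊥) : (Nat.card ↥(sigmaCore M ⊓ Subgroup.centralizer (K : Set G))).Prime := by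
  have hF := frame_of_decomp hG hM hKU hK1
  subst hU
  obtain ⟨A, KA, EA, UA, hA, hKA, hKA1, hFA, hUA, hCKA, hCAK, -, hZ⟩ := exists_partner_factor hG hM hKU.hall hF hK1
  obtain ⟨he, -, -⟩ := partner_prime hG hM hKU.hall hK1 hA hKA hFA hKA1 hUA hCKA hCAK hZ
  rw [← he]
  exact prime_card hG hA hKA hFA hKA1 hUA

omit [Finite G] in
theorem fittingHall_nilpotent_le {X : Type u} [Group X] (N : Subgroup X) [hN : N.Normal] (hnil : Group.IsNilpotent ↥N)
    (hco : (Nat.card N).Coprime N.index) : N ≤ fittingHall X := le_sSup ⟨hN, hnil, hco⟩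

/-- With `U = 1`: a normal Sylow subgroup containing `K^*`, and `K^*` lies in `M_F`. -/
theorem star_le_fittingHall_of_bot (hG : IsMinSimpleOddOrder G) (hM : IsCoatom M)
    (hKU : IsSigmaDecomposition M K U) (hK1 : K ≠ ⊥) (hU : U = ⊥) :
    ∃ Q : Subgroup G, SylIn (Nat.card ↥(sigmaCore M ⊓ Subgroup.centralizer (K : Set G))) Q M ∧
      M ≤ Subgroup.normalizer (Q : Set G) ∧ Q ≤ fittingHallOf M ∧
      sigmaCore M ⊓ Subgroup.centralizer (K : Set G) ≤ Q ∧
      ∀ D : Subgroup G, IsComplIn Q D (sigmaCore M) → Group.IsNilpotent ↥D := by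
  classical
  have hprime := star_prime hG hM hKU hK1 hU
  set C := sigmaCore M ⊓ Subgroup.centralizer (K : Set G) with hCdef
  set q := Nat.card ↥C with hq
  haveI := Fact.mk hprime
  have hE : IsComplIn K (sigmaCore M) M := by
    have h := Decomp.compl hG hM hKU
    rwa [hU, bot_sup_eq] at h
  have hσM : sigmaCore M ≤ M := Subgroup.map_subtype_le _
  set H : Subgroup ↥M := piCore (sigma M) ↥M with hHdef
  haveI hHn : H.Normal := inferInstance
  have hHmem : ∀ h : ↥M, h ∈ H ↔ (h : G) ∈ sigmaCore M := fun h =>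
    ⟨fun hh => ⟨h, hh, rfl⟩, fun ⟨y, hy, e⟩ => by rwa [← Subtype.ext (e : (y : G) = h)]⟩
  have hHc : Nat.card H = Nat.card (sigmaCore M) :=
    (Subgroup.card_map_of_injective M.subtype_injective).symm
  have hqσ : q ∈ sigma M := (sigmaCore_hall hG hM).1.2.1 q hprime (Subgroup.card_dvd_of_le inf_le_left)
  set N : Subgroup ↥M := (pCore q ↥H).map H.subtype with hN
  haveI hNn : N.Normal := Solv.map_subtype_normal_of_characteristic H _
  have hNH : N ≤ H := Subgroup.map_subtype_le _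
  have hNp : IsPGroup q ↥N := (Fusion.isPGroup_pCore q _).map _
  let π := QuotientGroup.mk' N
  have hπ : Function.Surjective π := QuotientGroup.mk'_surjective N
  haveI hHbn : (H.map π).Normal := Subgroup.Normal.map inferInstance π hπ
  obtain ⟨k, hk, hk1⟩ := exists_ne_one hK1
  obtain ⟨t, i, ht, -, hko'⟩ := exists_prime_power_order hk1
  haveI := Fact.mk ht
  set k₀ : ↥M := ⟨k ^ i, hKU.hall.1 (pow_mem hk i)⟩ with hk₀
  have hk₀o : orderOf (k₀ : G) = t := hko'
  have hk₀K : (k₀ : G) ∈ K := pow_mem hk i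
  have hk₀1 : (k₀ : G) ≠ 1 := fun h => ht.ne_one (by rw [← hk₀o, h, orderOf_one])
  have htκ : t ∈ kappa M := hKU.hall.2.1 t ht (hk₀o ▸ Subgroup.orderOf_dvd_natCard K hk₀K)
  have htσ : ¬ t ∣ Nat.card H := fun hd => htκ.2.2.1 ((sigmaCore_hall hG hM).1.2.1 t ht (hHc ▸ hd))
  have hfixH : ∀ h ∈ H, Commute k₀ h → (h : G) ∈ C := fun h hh hc => by
    rw [hCdef, ← prime_action hG hM hKU.hall hk₀K hk₀1]
    exact ⟨(hHmem h).1 hh, Subgroup.mem_centralizer_singleton_iff.2 (congrArg Subtype.val hc.symm.eq)⟩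
  have hcoH : (Nat.card (Subgroup.zpowers k₀)).Coprime (Nat.card H) := by
    rw [Nat.card_zpowers, ← Subgroup.orderOf_coe, hk₀o]
    exact ht.coprime_iff_not_dvd.2 htσ
  have hsolH : Group.IsSolvable ↥H := by
    haveI := hG.2.2.2 M hM.1
    infer_instance
  set F : Subgroup (↥M ⧸ N) := fittingOf (H.map π) with hFdef
  haveI hFn : F.Normal := by
    rw [hFdef, fittingOf]
    haveI : (fittingSubgroup ↥(H.map π)).Characteristic := Solv.fitting_characteristic
    exact Solv.map_subtype_normal_of_characteristic _ _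
  have hFH : F ≤ H.map π := Subgroup.map_subtype_le _
  haveI hFnil : Group.IsNilpotent ↥F := TypePBasic.fittingOf_nilpotent _
  -- the Fitting subgroup of the quotient has order prime to `q`
  have hFq : ¬ q ∣ Nat.card ↥F := by
    intro hd
    obtain ⟨S⟩ : Nonempty (Sylow q ↥F) := inferInstance
    haveI hSn : (S : Subgroup ↥F).Normal := Sylow.normal_of_normalizerCondition Group.normalizerCondition_of_isNilpotent S
    haveI : (S : Subgroup ↥F).Characteristic := S.characteristic_of_normal hSn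
    set T := (S : Subgroup ↥F).map F.subtype with hT
    haveI : T.Normal := Solv.map_subtype_normal_of_characteristic F _
    have h1 : T.comap π ≤ H := by
      intro x hx
      obtain ⟨h, hh, e⟩ := hFH ((Subgroup.map_subtype_le _ : T ≤ F) hx)
      have h2 : h⁻¹ * x ∈ N := QuotientGroup.eq.1 e
      simpa using H.mul_mem hh (hNH h2)
    haveI : (T.comap π).Normal := Subgroup.Normal.comap inferInstance π
    have h3 : (T.comap π).subgroupOf H ≤ pCore q ↥H := by
      refine Fusion.le_pCore ?_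
      have h4 : IsPGroup q ↥(T.comap π) := (S.2.map _).comap_of_ker_isPGroup π (by rw [QuotientGroup.ker_mk']; exact hNp)
      exact h4.of_injective (Subgroup.subgroupOfEquivOfLe h1).toMonoidHom (MulEquiv.injective _)
    have h5 : T.comap π ≤ N := fun x hx => ⟨⟨x, h1 hx⟩, h3 hx, rfl⟩
    have h6 : T = ⊥ := by
      refine le_bot_iff.1 fun y hy => ?_
      obtain ⟨x, rfl⟩ := hπ y
      exact Subgroup.mem_bot.2 ((QuotientGroup.eq_one_iff x).2 (h5 hy))
    rw [hT, Subgroup.map_eq_bot_iff_of_injective _ F.subtype_injective] at h6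
    exact S.ne_bot_of_dvd_card hd h6
  have hxo : orderOf (π k₀) = t := by
    refine orderOf_eq_prime ?_ fun h => ?_
    · rw [← map_pow, show k₀ ^ t = 1 from Subtype.ext (by rw [← hk₀o]; exact pow_orderOf_eq_one (k₀ : G)), map_one]
    · have h1 : k₀ ∈ H := hNH ((QuotientGroup.eq_one_iff k₀).1 h)
      refine htσ (?_)
      rw [← hk₀o, Subgroup.orderOf_coe]
      exact Subgroup.orderOf_dvd_natCard H h1
  have hcoQ : (Nat.card ↥(H.map π)).Coprime t :=
    Nat.Coprime.coprime_dvd_left (Subgroup.card_map_dvd _ _) ((ht.coprime_iff_not_dvd.2 htσ).symm)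
  have hlift : ∀ h ∈ H, ∀ D : Subgroup ↥M, N ≤ D → D ≤ H → Subgroup.zpowers k₀ ≤ Subgroup.normalizer (D : Set ↥M) →
      (∀ a ∈ Subgroup.zpowers k₀, h⁻¹ * (a * h * a⁻¹) ∈ D) → ∃ c : ↥M, (c : G) ∈ C ∧ h⁻¹ * c ∈ D := by
    intro h hh D _ hDH hn hx
    obtain ⟨c, hc, hcd⟩ := Solv.exists_fixed_in_coset' (Subgroup.zpowers k₀) H D
      (fun y _ => by rw [Subgroup.normalizer_eq_top]; exact Subgroup.mem_top y) hcoH (Or.inr hsolH) hDH hn hh hx
    exact ⟨c, hfixH c hc.1 (Subgroup.mem_centralizer_iff.1 hc.2 k₀ (Subgroup.mem_zpowers k₀)), hcd⟩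
  have hfix : F ⊓ Subgroup.centralizer {π k₀} = ⊥ := by
    refine le_bot_iff.1 ?_
    rintro z ⟨hzF, hzc⟩
    obtain ⟨h, hh, rfl⟩ := hFH hzF
    have hmove : ∀ a ∈ Subgroup.zpowers k₀, h⁻¹ * (a * h * a⁻¹) ∈ N := by
      rintro _ ⟨j, rfl⟩
      have hc : Commute (π k₀ ^ j) (π h) :=
        (show Commute (π k₀) (π h) from (Subgroup.mem_centralizer_singleton_iff.1 hzc).symm).zpow_left j
      rw [← QuotientGroup.eq_one_iff]
      show (π h)⁻¹ * (π (k₀ ^ j) * π h * (π (k₀ ^ j))⁻¹) = 1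
      rw [map_zpow, hc.eq]
      group
    obtain ⟨c, hc, hcd⟩ := hlift h hh N le_rfl hNH
      (fun y _ => by rw [Subgroup.normalizer_eq_top]; exact Subgroup.mem_top y) hmove
    have he : π h = π c := QuotientGroup.eq.2 hcd
    rw [Subgroup.mem_bot, he]
    have h1 : orderOf (π c) ∣ q := (orderOf_map_dvd π c).trans (by
      rw [← Subgroup.orderOf_coe]
      exact Subgroup.orderOf_dvd_natCard C hc)
    refine orderOf_eq_one_iff.1 ((Nat.dvd_prime hprime).1 h1 |>.resolve_right fun h2 => hFq ?_)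
    rw [← h2, ← he]
    exact Subgroup.orderOf_dvd_natCard F hzF
  have hodd : Odd (Nat.card ↥(H.map π)) :=
    Odd.of_dvd_nat (odd_subgroup hG (sigmaCore M)) (hHc ▸ Subgroup.card_map_dvd _ _)
  have hcomm := Solv.FPFFit.commutator_le_fitting (p := t) (H.map π) (Solv.isSolvable_map π hsolH) hodd (π k₀) hxo
    hcoQ hfix
  set F₁ : Subgroup ↥M := F.comap π with hF₁
  haveI hF₁n : F₁.Normal := Subgroup.Normal.comap hFn π
  have hNF₁ : N ≤ F₁ := fun x hx => by
    rw [hF₁, Subgroup.mem_comap, show π x = 1 from (QuotientGroup.eq_one_iff x).2 hx]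
    exact one_mem _
  have hF₁H : F₁ ≤ H := fun x hx => by
    obtain ⟨h, hh, e⟩ := hFH hx
    have h2 : h⁻¹ * x ∈ N := QuotientGroup.eq.1 e
    simpa using H.mul_mem hh (hNH h2)
  have hcov : ∀ h ∈ H, ∃ c : ↥M, (c : G) ∈ C ∧ h⁻¹ * c ∈ F₁ := fun h hh =>
    hlift h hh F₁ hNF₁ hF₁H (fun y _ => by rw [Subgroup.normalizer_eq_top]; exact Subgroup.mem_top y) fun a ha => by
      show π (h⁻¹ * (a * h * a⁻¹)) ∈ F
      have h1 : ⁅(π h)⁻¹, π a⁆ ∈ F := hcomm (Subgroup.commutator_mem_commutator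
        (Subgroup.inv_mem _ (Subgroup.mem_map_of_mem π hh)) (by
          rw [← MonoidHom.map_zpowers]
          exact Subgroup.mem_map_of_mem π ha))
      rw [commutatorElement_def, inv_inv] at h1
      simpa [map_mul, map_inv, mul_assoc] using h1
  -- the quotient is the image of the Fitting part
  have hall : ∀ h ∈ H, h ∈ F₁ := by
    intro h₀ hh₀
    have h1 : (h₀ : G) ∈ ⁅sigmaCore M, K⁆ := by
      rw [SigmaTI.commutator_compl hG hM hE]
      exact (hHmem h₀).1 hh₀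
    have h2 : ⁅sigmaCore M, K⁆ ≤ F₁.map M.subtype := by
      rw [Subgroup.commutator_le]
      intro h hh e he
      obtain ⟨c, hc, hcf⟩ := hcov ⟨h, hσM hh⟩ ((hHmem _).2 hh)
      set h' : ↥M := ⟨h, hσM hh⟩
      set e' : ↥M := ⟨e, hKU.hall.1 he⟩
      have hce : e' * c⁻¹ * e'⁻¹ = c⁻¹ := Subtype.ext (by
        show e * (c : G)⁻¹ * e⁻¹ = (c : G)⁻¹
        rw [show e * (c : G)⁻¹ * e⁻¹ = (e * c * e⁻¹)⁻¹ by group, Subgroup.mem_centralizer_iff.1 hc.2 e he,
          mul_inv_cancel_right])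
      refine ⟨⁅h', e'⁆, ?_, rfl⟩
      set f := h'⁻¹ * c with hf
      have h3 : ⁅h', e'⁆ = c * (f⁻¹ * (e' * f * e'⁻¹)) * c⁻¹ := by
        calc ⁅h', e'⁆ = c * f⁻¹ * (e' * f * e'⁻¹) * (e' * c⁻¹ * e'⁻¹) := by rw [hf, commutatorElement_def]; group
          _ = _ := by rw [hce]; group
      rw [h3]
      exact hF₁n.conj_mem _ (F₁.mul_mem (F₁.inv_mem hcf) (hF₁n.conj_mem f hcf e')) c
    obtain ⟨x, hx, e⟩ := h2 h1
    rwa [← Subtype.ext (e : (x : G) = h₀)]
  have hHF : H.map π ≤ F := by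
    rintro _ ⟨h, hh, rfl⟩
    exact hall h hh
  have hidx : ¬ q ∣ N.index := by
    rw [← Subgroup.relIndex_mul_index hNH]
    intro hd
    rcases (Nat.Prime.dvd_mul hprime).1 hd with h1 | h1
    · refine hFq ?_
      rw [← le_antisymm hHF hFH]
      rwa [← Subgroup.relIndex_bot_left, ← Subgroup.relIndex_comap, MonoidHom.comap_bot, QuotientGroup.ker_mk']
    · refine (sigmaCore_hall hG hM).1.2.2 q hprime hqσ ?_
      have h2 : (sigmaCore M).subgroupOf M = H := by
        rw [sigmaCore, Subgroup.subgroupOf, Subgroup.comap_map_eq_self_of_injective M.subtype_injective]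
      rwa [Subgroup.relIndex, h2]
  have hNc : (Nat.card N).Coprime N.index := by
    obtain ⟨j, hj⟩ := IsPGroup.iff_card.1 hNp
    rw [hj]
    exact ((hprime.coprime_iff_not_dvd).2 hidx).pow_left j
  set Q := N.map M.subtype with hQ
  have hQM : Q ≤ M := Subgroup.map_subtype_le _
  have hQs : SylIn q Q M := ⟨hQM, hNp.map _, by
    rwa [hQ, Subgroup.relIndex, Subgroup.subgroupOf, Subgroup.comap_map_eq_self_of_injective M.subtype_injective]⟩
  have hQn : M ≤ Subgroup.normalizer (Q : Set G) := Bender.le_normalizer_map _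
  refine ⟨Q, hQs, hQn, Subgroup.map_mono (fittingHall_nilpotent_le N hNp.isNilpotent hNc), ?_, ?_⟩
  · exact le_of_hall (π := {q}) (N := Q) ⟨hQM, fun r hr hrd => by
      obtain ⟨j, hj⟩ := IsPGroup.iff_card.1 hQs.isPGroup
      exact (Nat.prime_dvd_prime_iff_eq hr hprime).1 (hr.dvd_of_dvd_pow (hj ▸ hrd)),
      fun r _ (hrq : r = q) hd => hQs.not_dvd (hrq ▸ hd)⟩ hQn (inf_le_left.trans hσM)
      fun r hr hrd => (Nat.prime_dvd_prime_iff_eq hr hprime).1 hrd
  · intro D hD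
    have hDH : ∀ d : ↥D, (⟨d, hσM (hD.2.1 d.2)⟩ : ↥M) ∈ H := fun d => (hHmem _).2 (hD.2.1 d.2)
    let φ : ↥D →* ↥F := (π.comp (Subgroup.inclusion (hD.2.1.trans hσM))).codRestrict F fun d => hall _ (hDH d)
    refine Subgroup.isNilpotent_of_ker_le_center φ ?_
    intro d hd
    rw [show d = 1 from ?_]
    · exact one_mem _
    have h1 : π (Subgroup.inclusion (hD.2.1.trans hσM) d) = 1 := congrArg Subtype.val hd
    have h2 : (d : G) ∈ Q ⊓ D := ⟨⟨_, (QuotientGroup.eq_one_iff _).1 h1, rfl⟩, d.2⟩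
    rw [hD.2.2.1, Subgroup.mem_bot] at h2
    exact Subtype.ext h2

/-- `K^*` lies in `M_F`. -/
theorem star_le_fittingHall (hG : IsMinSimpleOddOrder G) (hM : IsCoatom M) (hKU : IsSigmaDecomposition M K U)
    (hK1 : K ≠ ⊥) : sigmaCore M ⊓ Subgroup.centralizer (K : Set G) ≤ fittingHallOf M := by
  by_cases hU : U = ⊥
  · obtain ⟨Q, -, -, hQF, hCQ, -⟩ := star_le_fittingHall_of_bot hG hM hKU hK1 hU
    exact hCQ.trans hQF
  · exact inf_le_left.trans (Support.fittingHallOf_eq hG hM (core_nilpotent_of_U hG hM hKU hU)).le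

/-- `M_F` is not cyclic. -/
theorem fittingHall_not_cyclic (hG : IsMinSimpleOddOrder G) (hM : IsCoatom M) (hKU : IsSigmaDecomposition M K U)
    (hK1 : K ≠ ⊥) : ¬ IsCyclic ↥(fittingHallOf M) := by
  intro hcyc
  have hF := frame_of_decomp hG hM hKU hK1
  have hCF := star_le_fittingHall hG hM hKU hK1
  have hFσ := Support.fittingHallOf_le hG hM
  obtain ⟨c, hc, hc1⟩ := exists_ne_one (star_ne_bot hG hM hKU.hall hK1)
  obtain ⟨q, i, hq, -, hco⟩ := exists_prime_power_order hc1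
  haveI := Fact.mk hq
  have hqσ : q ∈ sigma M := Support.mem_pi hG hM (pow_mem hc.1 i) q hq hco.symm.dvd
  obtain ⟨Q, hQ, hcQ⟩ := Fusion.exists_sylIn_ge (IsPGroup.of_card (n := 1) (by
    rw [Nat.card_zpowers, hco, pow_one]) : IsPGroup q ↥(Subgroup.zpowers (c ^ i)))
    (Subgroup.zpowers_le.2 (hCF (pow_mem hc i)))
  have hqd : q ∣ Nat.card (fittingHallOf M) := hco ▸ Subgroup.orderOf_dvd_natCard _ (hCF (pow_mem hc i))
  have hFM : fittingHallOf M ≤ M := Subgroup.map_subtype_le _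
  have hQM : SylIn q Q M := ⟨hQ.le.trans hFM, hQ.isPGroup, fun hd => by
    rw [← Subgroup.relIndex_mul_relIndex Q (fittingHallOf M) M hQ.le hFM] at hd
    rcases (Nat.Prime.dvd_mul hq).1 hd with h | h
    · exact hQ.not_dvd h
    · exact hq.ne_one (Nat.eq_one_of_dvd_coprimes (TypePBasic.fittingHallOf_hall M) hqd h)⟩
  haveI := hcyc
  have hQc : IsCyclic ↥Q := isCyclic_of_injective (Subgroup.inclusion hQ.le) (Subgroup.inclusion_injective _)
  have hnil : Group.IsNilpotent ↥(fittingHallOf M) :=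
    @CommGroup.isNilpotent _ IsCyclic.commGroup
  have hQn : M ≤ Subgroup.normalizer (Q : Set G) :=
    SigmaSubgroups.sylow_of_nilpotent_normal hnil (Bender.le_normalizer_map _) hQ
  refine sylow_not_le_star hG hM hKU.hall hF hK1 hqσ hQM fun x hx => ⟨(hQ.le.trans hFσ) hx, ?_⟩
  refine Subgroup.mem_centralizer_iff.2 fun k hk => ?_
  exact Solv.centralizes_cyclic hQ.isPGroup hQc (hQn (hKU.hall.1 hk)) ((hq.coprime_iff_not_dvd.2 fun hd =>
    (hKU.hall.2.1 q hq (hd.trans (Subgroup.orderOf_dvd_natCard K hk))).2.2.1 hqσ).symm)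
    (hcQ (Subgroup.mem_zpowers _)) (fun h => hq.ne_one (by rw [← hco, h, orderOf_one]))
    (Subgroup.mem_centralizer_iff.1 (pow_mem hc.2 i) k hk) x hx

end Cfsg.Agent.OddLocal.Kappa
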