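import Cfsg.Agent.Lib.OddLocal.TauTwoFixed

/-!
Elementary consequences of a standard factorisation `M = K U M_σ`.
-/

set_option autoImplicit false

namespace Cfsg.Agent.OddLocal.Decomp

open scoped Pointwise
open Cfsg
open Cfsg.Agent.Fusion (SylIn)
open Cfsg.Agent.OddLocal.Sig
open Cfsg.Agent.OddLocal.TauTwo
open Cfsg.Agent.OddLocal.Uniq
open Cfsg.Agent.OddLocal.RankTwo

universe u

variable {G : Type u} [Group G] [Finite G] {M K U : Subgroup G}

omit [Finite G] in
theorem kappa_not_sigma {q : ℕ} (h : q ∈ kappa M) : q ∉ sigma M := h.2.2.1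

variable (hG : IsMinSimpleOddOrder G) (hM : IsCoatom M) (hKU : IsSigmaDecomposition M K U)

include hKU in
omit [Finite G] in
theorem U_le : U ≤ M := hKU.compl.1

include hKU in
omit [Finite G] in
theorem K_le : K ≤ M := hKU.hall.1

include hG hM hKU in
theorem K_inf_sigmaCore : K ⊓ sigmaCore M = ⊥ :=
  Solv.coprime_inf (Nat.coprime_of_dvd fun q hq h1 h2 =>
    kappa_not_sigma (hKU.hall.2.1 q hq h1) ((sigmaCore_hall hG hM).1.2.1 q hq h2))

include hKU in
theorem coe_sup : ((K ⊔ sigmaCore M : Subgroup G) : Set G) = (K : Set G) * (sigmaCore M : Set G) :=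
  Subgroup.coe_mul_of_left_le_normalizer_right _ _ ((K_le hKU).trans le_normalizer_piCoreOf)

include hG hM hKU in
/-- `U K` is a complement of `M_σ`. -/
theorem compl : IsComplIn (U ⊔ K) (sigmaCore M) M := by
  obtain ⟨hUM, -, hinf, hmul⟩ := hKU.compl
  have hσM : sigmaCore M ≤ M := Subgroup.map_subtype_le _
  refine ⟨sup_le hUM (K_le hKU), hσM, eq_bot_iff.2 ?_, fun m hm => ?_⟩
  · rintro x ⟨hx', hxσ⟩
    have hx : x ∈ ((U ⊔ K : Subgroup G) : Set G) := hx'
    rw [Subgroup.coe_mul_of_right_le_normalizer_left _ _ hKU.normal] at hx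
    obtain ⟨u, hu, k, hk, rfl⟩ := hx
    have h1 : u ∈ U ⊓ (K ⊔ sigmaCore M) := ⟨hu, by
      have := Subgroup.mul_mem _ (Subgroup.mem_sup_right hxσ : u * k ∈ K ⊔ sigmaCore M)
        (Subgroup.inv_mem _ (Subgroup.mem_sup_left hk))
      simpa using this⟩
    rw [hinf, Subgroup.mem_bot] at h1
    subst h1
    have h2 : k ∈ K ⊓ sigmaCore M := ⟨hk, by simpa using hxσ⟩
    rw [K_inf_sigmaCore hG hM hKU, Subgroup.mem_bot] at h2
    simp [h2]
  · obtain ⟨u, hu, b, hb, rfl⟩ := hmul m hm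
    rw [← SetLike.mem_coe, coe_sup hKU] at hb
    obtain ⟨k, hk, s, hs, rfl⟩ := hb
    exact ⟨u * k, Subgroup.mul_mem _ (Subgroup.mem_sup_left hu) (Subgroup.mem_sup_right hk), s, hs,
      (mul_assoc u k s).symm⟩

include hKU in
theorem card_U : Nat.card U = (K ⊔ sigmaCore M).relIndex M := by
  obtain ⟨hUM, hKM, hinf, hmul⟩ := hKU.compl
  have hc : Subgroup.IsComplement' (U.subgroupOf M) ((K ⊔ sigmaCore M).subgroupOf M) := by
    refine Subgroup.isComplement'_of_disjoint_and_mul_eq_univ ?_ ?_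
    · rw [disjoint_iff, eq_bot_iff]
      intro x hx
      exact Subgroup.mem_bot.2 (Subtype.ext (Subgroup.mem_bot.1 (hinf ▸ ⟨hx.1, hx.2⟩ : (x : G) ∈ (⊥ : Subgroup G))))
    · refine Set.eq_univ_of_forall fun x => ?_
      obtain ⟨a, ha, b, hb, e⟩ := hmul x x.2
      exact ⟨⟨a, hUM ha⟩, ha, ⟨b, hKM hb⟩, hb, Subtype.ext e.symm⟩
  exact (Solv.card_subgroupOf hUM).symm.trans hc.index_eq_card.symm

include hG hM hKU in
/-- The primes of `U` avoid `σ(M)` and `κ(M)`. -/
theorem U_pi {q : ℕ} (hq : q.Prime) (hd : q ∣ Nat.card U) : q ∉ sigma M ∧ q ∉ kappa M := by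
  rw [card_U hKU] at hd
  refine ⟨fun h => ?_, fun h => ?_⟩
  · refine (sigmaCore_hall hG hM).1.2.2 q hq h (hd.trans ?_)
    rw [← Subgroup.relIndex_mul_relIndex (sigmaCore M) (K ⊔ sigmaCore M) M le_sup_right hKU.compl.2.1]
    exact dvd_mul_left _ _
  · refine hKU.hall.2.2 q hq h (hd.trans ?_)
    rw [← Subgroup.relIndex_mul_relIndex K (K ⊔ sigmaCore M) M le_sup_left hKU.compl.2.1]
    exact dvd_mul_left _ _

omit hKU in
include hG hM in
/-- A rank one prime of an element with a fixed point on `M_σ` lies in `κ(M)`. -/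
theorem kappa_of_fixed {q : ℕ} (hq : q.Prime) (hσ : q ∉ sigma M) (hdM : q ∣ Nat.card M)
    (hr : PRankLE q 1 ↥M) {y x : G} (hy : y ∈ M) (hd : q ∣ orderOf y) (hx : x ∈ sigmaCore M) (hx1 : x ≠ 1)
    (hxy : y * x = x * y) : q ∈ kappa M := by
  haveI := Fact.mk hq
  refine ⟨hq, hdM, hσ, fun P => ?_⟩
  have hq2 : q ≠ 2 := by
    rintro rfl
    exact Nat.not_even_iff_odd.2 hG.1 (even_iff_two_dvd.2 (hdM.trans (Subgroup.card_subgroup_dvd_card _)))
  set w := y ^ (orderOf y / q)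
  have hwo : orderOf w = q := orderOf_pow_orderOf_div (orderOf_pos y).ne' hd
  have hwM : w ∈ M := pow_mem hy _
  set wM : M := ⟨w, hwM⟩ with hwMdef
  have hwMo : orderOf wM = q := by rw [← hwo, ← Subgroup.orderOf_coe]
  obtain ⟨Q, hQ⟩ := (IsPGroup.of_card (n := 1) (by rw [Nat.card_zpowers, hwMo, pow_one]) :
    IsPGroup q ↥(Subgroup.zpowers wM)).exists_le_sylow
  obtain ⟨g, hg⟩ := MulAction.exists_smul_eq M Q P
  have hcyc : IsCyclic ↥(P : Subgroup M) := by
    by_contra hnc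
    obtain ⟨F, hFS, hFe, hF⟩ := exists_elab_noncyclic hq2 (P.isPGroup'.map M.subtype) (fun h => hnc (by
      haveI := h
      exact isCyclic_of_surjective ((P : Subgroup ↥M).equivMapOfInjective M.subtype M.subtype_injective).symm
        (MulEquiv.surjective _)))
    exact not_prankLE_of_elab (hFS.trans (Subgroup.map_subtype_le _)) hFe hF hr
  refine ⟨hcyc, g * wM * g⁻¹, ?_, ?_, (g : G) * x * (g : G)⁻¹, ?_, ?_, ?_⟩
  · rw [← hg, Sylow.smul_def]
    show g * wM * g⁻¹ ∈ (Q : Subgroup M).map (MulAut.conj g).toMonoidHom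
    exact Subgroup.mem_map.2 ⟨wM, hQ (Subgroup.mem_zpowers _), by simp⟩
  · intro h0
    rw [conj_eq_one_iff] at h0
    exact hq.ne_one (by rw [← hwMo, h0, orderOf_one])
  · exact (Subgroup.mem_normalizer_iff.1 (le_normalizer_piCoreOf g.2) x).1 hx
  · rwa [Ne, conj_eq_one_iff]
  · have h' : w * x = x * w := ((show Commute y x from hxy).pow_left _).eq
    push_cast
    calc (g : G) * w * (g : G)⁻¹ * ((g : G) * x * (g : G)⁻¹) = g * (w * x) * (g : G)⁻¹ := by group
      _ = g * (x * w) * (g : G)⁻¹ := by rw [h']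
      _ = _ := by rw [show ((wM : M) : G) = w from rfl]; group

end Cfsg.Agent.OddLocal.Decomp
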