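import Cfsg.Agent.Lib.OddLocal.KappaSecond
import Cfsg.Agent.S1359

/-!
`F(M) = M_F C_M(M_F)`.
-/

set_option autoImplicit false
set_option linter.style.haveILetI false

namespace Cfsg.Agent.OddLocal.Kappa

open scoped Pointwise commutatorElement
open Cfsg
open Cfsg.Agent.Fusion (SylIn cj cj_cj cj_eq_self cj_mono card_cj exists_sylIn)
open Cfsg.Agent.OddLocal.Uniq
open Cfsg.Agent.OddLocal.Sig
open Cfsg.Agent.OddLocal.RankTwo
open Cfsg.Agent.OddLocal.TauTwo
open Cfsg.Agent.OddLocal.Prime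

universe u

variable {G : Type u} [Group G] [Finite G] {M E K U : Subgroup G}

/-- An element of `M` of order prime to `|K|` lies in `M'`. -/
theorem mem_derived_of_not_kappa (hG : IsMinSimpleOddOrder G) (hM : IsCoatom M) (hKU : IsSigmaDecomposition M K U)
    (hK1 : K ≠ ⊥) {d : G} (hdM : d ∈ M) (hd : ∀ t : ℕ, t.Prime → t ∣ orderOf d → t ∉ kappa M) : d ∈ ⁅M, M⁆ := by
  rw [derived_eq hG hM hKU hK1]
  have hWM : U ⊔ sigmaCore M ≤ M := sup_le (Decomp.U_le hKU) (Subgroup.map_subtype_le _)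
  have hWn : M ≤ Subgroup.normalizer ((U ⊔ sigmaCore M : Subgroup G) : Set G) := Decomp.le_normalizer_sup hKU
  haveI := (Subgroup.normal_subgroupOf_iff_le_normalizer hWM).2 hWn
  have h1 := ((U ⊔ sigmaCore M).subgroupOf M).pow_index_mem (⟨d, hdM⟩ : M)
  have hdvd : ((U ⊔ sigmaCore M).subgroupOf M).index ∣ Nat.card K := by
    have hle : M ≤ (U ⊔ sigmaCore M) ⊔ K := fun m hm => by
      obtain ⟨u, hu, w, hw, rfl⟩ := hKU.compl.2.2.2 m hm
      exact mul_mem (Subgroup.mem_sup_left (Subgroup.mem_sup_left hu))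
        ((sup_le le_sup_right (le_sup_right.trans le_sup_left) : K ⊔ sigmaCore M ≤ (U ⊔ sigmaCore M) ⊔ K) hw)
    have h2 := Solv.card_sup_mul_card_inf' (U ⊔ sigmaCore M) K (hKU.hall.1.trans hWn)
    rw [le_antisymm (sup_le hWM hKU.hall.1) hle, ← ((U ⊔ sigmaCore M).subgroupOf M).card_mul_index,
      Solv.card_subgroupOf hWM, mul_assoc] at h2
    exact Dvd.intro _ (Nat.eq_of_mul_eq_mul_left Nat.card_pos h2)
  obtain ⟨j, hj⟩ := exists_pow_eq_self_of_coprime (x := d) (n := ((U ⊔ sigmaCore M).subgroupOf M).index)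
    (Nat.coprime_of_dvd fun t ht h2 h3 => hd t ht h3 (hKU.hall.2.1 t ht (h2.trans hdvd)))
  rw [← hj]
  exact pow_mem (Subgroup.mem_subgroupOf.1 h1) j

/-- A `π`-subgroup is conjugate into a given Hall `π`-subgroup. -/
theorem hall_conj_le (hG : IsMinSimpleOddOrder G) (hM : IsCoatom M) {π : Set ℕ} {H Y : Subgroup G}
    (hH : IsPiHallOf π H M) (hY : Y ≤ M) (hπ : ∀ t : ℕ, t.Prime → t ∣ Nat.card Y → t ∈ π) :
    ∃ m ∈ M, ∀ y ∈ Y, m⁻¹ * y * m ∈ H := by
  have hcard : Nat.card M = Nat.card H * H.relIndex M := by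
    have h := Subgroup.relIndex_mul_relIndex ⊥ H M bot_le hH.1
    rw [Subgroup.relIndex_bot_left, Subgroup.relIndex_bot_left] at h
    exact h.symm
  obtain ⟨m, hm⟩ := Solv.hall_contain (hG.2.2.2 M hM.1) (m := Nat.card H) (n := H.relIndex M) hcard
    (Nat.coprime_of_dvd fun t ht h1 h2 => hH.2.2 t ht (hH.2.1 t ht h1) h2) (Y.subgroupOf M) (H.subgroupOf M) (by
      rw [Solv.card_subgroupOf hY]
      exact Nat.coprime_of_dvd fun t ht h1 h2 => hH.2.2 t ht (hπ t ht h1) h2)
    (Solv.card_subgroupOf hH.1)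
  refine ⟨m, m.2, fun y hy => ?_⟩
  have h := hm (x := (⟨y, hY hy⟩ : ↥M)) (Subgroup.mem_subgroupOf.2 hy)
  rw [Solv.conj_smul_eq_map] at h
  obtain ⟨k, hk, hke⟩ := h
  have hke' : (m : G) * (k : G) * (m : G)⁻¹ = y := congrArg Subtype.val hke
  rw [← hke', show (m : G)⁻¹ * ((m : G) * k * (m : G)⁻¹) * m = k by group]
  exact hk

/-- No element of `C_M(M_F)` has an order divisible by a prime of `κ(M)`. -/
theorem centralizer_not_kappa (hG : IsMinSimpleOddOrder G) (hM : IsCoatom M) {w : G} (hwM : w ∈ M)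
    (hw : w ∈ Subgroup.centralizer (fittingHallOf M : Set G)) :
    ∀ t : ℕ, t.Prime → t ∣ orderOf w → t ∉ kappa M := by
  intro t ht htd htκ
  obtain ⟨K, U, hKU⟩ := exists_full_decomp hG hM
  have hK1 : K ≠ ⊥ := fun h => hKU.hall.2.2 t ht htκ (by rw [h, Subgroup.relIndex_bot_left]; exact htκ.2.1)
  set x := w ^ (orderOf w / t)
  have hxo : orderOf x = t := orderOf_pow_orderOf_div (orderOf_pos w).ne' htd
  obtain ⟨m, hm, hk⟩ := mem_hall_conj hG hM hKU.hall (pow_mem hwM _ : x ∈ M) fun r hr hrd =>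
    (Nat.prime_dvd_prime_iff_eq hr ht).1 (hxo ▸ hrd) ▸ htκ
  have hk1 : m⁻¹ * x * m ≠ 1 := fun h => ht.ne_one (by
    rw [← hxo, show x = m * (m⁻¹ * x * m) * m⁻¹ by group, h, mul_one, mul_inv_cancel, orderOf_one])
  have hle : fittingHallOf M ≤ sigmaCore M ⊓ Subgroup.centralizer (K : Set G) := by
    intro f hf
    rw [← prime_action hG hM hKU.hall hk hk1]
    refine ⟨Support.fittingHallOf_le hG hM hf, Subgroup.mem_centralizer_singleton_iff.2 ?_⟩
    have h1 : m * f * m⁻¹ ∈ fittingHallOf M :=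
      (Subgroup.mem_normalizer_iff.1 (Bender.le_normalizer_map (fittingHall ↥M) hm) f).1 hf
    have h2 : (m * f * m⁻¹) * x = x * (m * f * m⁻¹) :=
      Subgroup.mem_centralizer_iff.1 (pow_mem hw _) _ h1
    calc f * (m⁻¹ * x * m) = m⁻¹ * ((m * f * m⁻¹) * x) * m := by group
      _ = m⁻¹ * (x * (m * f * m⁻¹)) * m := by rw [h2]
      _ = _ := by simp only [x]; group
  obtain ⟨A, hA, -, hH, -⟩ := exists_star hG hM hKU.hall hK1
  haveI := hall_cyclic hG hA hH
  exact fittingHall_not_cyclic hG hM hKU hK1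
    (isCyclic_of_injective (Subgroup.inclusion hle) (Subgroup.inclusion_injective _))

/-- `C_M(M_F)` lies in `F(M)`. -/
theorem centralizer_le_fitting (hG : IsMinSimpleOddOrder G) (hM : IsCoatom M) :
    M ⊓ Subgroup.centralizer (fittingHallOf M : Set G) ≤ fittingOf M := by
  set W := M ⊓ Subgroup.centralizer (fittingHallOf M : Set G) with hW
  have hWM : W ≤ M := inf_le_left
  have hnF : M ≤ Subgroup.normalizer (fittingHallOf M : Set G) := Bender.le_normalizer_map _
  set π := QuotientGroup.mk' (fittingHall ↥M) with hπ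
  set W' := W.subgroupOf M with hW'
  haveI hWn : W'.Normal := ⟨fun x hx g => by
    rw [Subgroup.mem_subgroupOf] at hx ⊢
    refine ⟨(g * x * g⁻¹).2, Subgroup.mem_centralizer_iff.2 fun f hf => ?_⟩
    have h1 : (g : G)⁻¹ * f * g ∈ fittingHallOf M := by
      have := (Subgroup.mem_normalizer_iff.1 (hnF (M.inv_mem g.2)) f).1 hf
      rwa [inv_inv] at this
    have h2 := Subgroup.mem_centralizer_iff.1 hx.2 _ h1
    show f * ((g : G) * x * (g : G)⁻¹) = (g : G) * x * (g : G)⁻¹ * f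
    calc f * ((g : G) * x * (g : G)⁻¹) = g * (((g : G)⁻¹ * f * g) * x) * (g : G)⁻¹ := by group
      _ = g * (x * ((g : G)⁻¹ * f * g)) * (g : G)⁻¹ := by rw [h2]
      _ = _ := by group⟩
  -- the image modulo `M_F` is nilpotent
  have himg : Group.IsNilpotent ↥(W'.map π) := by
    obtain ⟨K, U, hKU⟩ := exists_full_decomp hG hM
    by_cases hU : U = ⊥
    · have hK1 := U_ne_bot_of_K hG hM hKU hU
      haveI := derived_quot_nilpotent hG hM
      refine isNilpotent_of_le (Y := (commutator ↥M).map π) (Subgroup.map_mono fun w hw => ?_)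
      rw [← Subgroup.mem_map_iff_mem M.subtype_injective, Subgroup.map_subtype_commutator]
      exact mem_derived_of_not_kappa hG hM hKU hK1 w.2 (centralizer_not_kappa hG hM w.2 (Subgroup.mem_subgroupOf.1 hw).2)
    have hnil := core_nilpotent_of_U hG hM hKU hU
    have hFeq := Support.fittingHallOf_eq hG hM hnil
    have hσn : M ≤ Subgroup.normalizer (sigmaCore M : Set G) := le_normalizer_piCoreOf
    obtain ⟨W₁, hW₁, -⟩ := exists_hall_ge hG (fun h => hM.1 (top_le_iff.1 (h ▸ hWM)) : W ≠ ⊤) ({t | t ∉ sigma M})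
      (bot_le : (⊥ : Subgroup G) ≤ W)
      fun p hp hd => absurd (Nat.le_of_dvd one_pos (by rwa [Subgroup.card_bot] at hd)) (not_le.2 hp.one_lt)
    have hsup : W ≤ (W ⊓ sigmaCore M) ⊔ W₁ := by
      have h1 : ((W ⊓ sigmaCore M) ⊔ W₁).relIndex W = 1 := by
        by_contra hne
        obtain ⟨p, hp, hpd⟩ := Nat.exists_prime_and_dvd hne
        by_cases hpσ : p ∈ sigma M
        · refine (sigmaCore_hall hG hM).1.2.2 p hp hpσ ?_
          have h2 := hpd.trans (Subgroup.relIndex_dvd_of_le_left W le_sup_left)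
          rw [Subgroup.inf_relIndex_left] at h2
          have h3 : ((sigmaCore M).subgroupOf M).relIndex (W.subgroupOf M) ∣ ((sigmaCore M).subgroupOf M).index := by
            haveI : ((sigmaCore M).subgroupOf M).Normal :=
              (Subgroup.normal_subgroupOf_iff_le_normalizer (Subgroup.map_subtype_le _ : sigmaCore M ≤ M)).2 hσn
            exact Subgroup.relIndex_dvd_index_of_normal _ _
          rw [Subgroup.relIndex_subgroupOf hWM] at h3
          exact h2.trans h3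
        · exact hW₁.2.2 p hp hpσ (hpd.trans (Subgroup.relIndex_dvd_of_le_left W le_sup_right))
      exact Subgroup.relIndex_eq_one.1 h1
    have hπ' : ∀ t : ℕ, t.Prime → t ∣ Nat.card W₁ → t ∈ {q | q.Prime ∧ q ∉ kappa M ∧ q ∉ sigma M} := by
      intro t ht htd
      refine ⟨ht, ?_, hW₁.2.1 t ht htd⟩
      haveI := Fact.mk ht
      obtain ⟨⟨w, hw⟩, hwo⟩ := exists_prime_orderOf_dvd_card' t htd
      rw [Subgroup.orderOf_mk] at hwo
      exact centralizer_not_kappa hG hM (hWM (hW₁.1 hw)) (hW₁.1 hw).2 t ht hwo.symm.dvd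
    have hUhall : IsPiHallOf {q | q.Prime ∧ q ∉ kappa M ∧ q ∉ sigma M} U M := by
      refine ⟨Decomp.U_le hKU, fun q hq hd => ⟨hq, (Decomp.U_pi hG hM hKU hq hd).2, (Decomp.U_pi hG hM hKU hq hd).1⟩, ?_⟩
      intro q hq ⟨_, h1, h2⟩ hd
      have e1 := Subgroup.relIndex_mul_relIndex ⊥ U M bot_le (Decomp.U_le hKU)
      have e2 := Subgroup.relIndex_mul_relIndex ⊥ (K ⊔ sigmaCore M) M bot_le hKU.compl.2.1
      rw [Subgroup.relIndex_bot_left, Subgroup.relIndex_bot_left] at e1 e2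
      rw [← Decomp.card_U hKU, mul_comm, ← e1] at e2
      rw [← Nat.eq_of_mul_eq_mul_left Nat.card_pos e2] at hd
      have h3 := Solv.card_sup_mul_card_inf' (sigmaCore M) K ((Decomp.K_le hKU).trans le_normalizer_piCoreOf)
      have h4 : q ∣ Nat.card (sigmaCore M) * Nat.card K := by
        rw [← h3, sup_comm]
        exact hd.mul_right _
      exact ((Nat.Prime.dvd_mul hq).1 h4).elim (fun h => h2 ((sigmaCore_hall hG hM).1.2.1 q hq h))
        fun h => h1 (hKU.hall.2.1 q hq h)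
    obtain ⟨m, hm, hmU⟩ := hall_conj_le hG hM hUhall (hW₁.1.trans hWM) hπ'
    have hab := S1359.result hG M hM K U hKU
    have hcomm : ∀ a ∈ W₁, ∀ b ∈ W₁, Commute a b := by
      intro a ha b hb
      have hin : ∀ y ∈ W₁, m⁻¹ * y * m ∈ Subgroup.closure ((U : Set G) ∩ sigmaHat M) := by
        intro y hy
        obtain ⟨s, hs, hs1⟩ := exists_ne_one (FitParts.sigmaCore_ne_bot hG hM)
        refine Subgroup.subset_closure ⟨hmU y hy, Decomp.U_le hKU (hmU y hy), m⁻¹ * s * m, ?_, ?_, ?_⟩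
        · have := (Subgroup.mem_normalizer_iff.1 (hσn (M.inv_mem hm)) s).1 hs
          rwa [inv_inv] at this
        · exact fun h => hs1 (by
            calc s = m * (m⁻¹ * s * m) * m⁻¹ := by group
              _ = 1 := by rw [h]; group)
        · have h2 : s * y = y * s := Subgroup.mem_centralizer_iff.1 (hW₁.1 hy).2 s (hFeq ▸ hs : s ∈ fittingHallOf M)
          calc m⁻¹ * y * m * (m⁻¹ * s * m) = m⁻¹ * (y * s) * m := by group
            _ = m⁻¹ * (s * y) * m := by rw [h2]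
            _ = _ := by group
      have h1 := congrArg Subtype.val (hab.is_comm.comm (⟨_, hin a ha⟩ : Subgroup.closure ((U : Set G) ∩ sigmaHat M))
        ⟨_, hin b hb⟩)
      have h2 : (m⁻¹ * a * m) * (m⁻¹ * b * m) = (m⁻¹ * b * m) * (m⁻¹ * a * m) := h1
      show a * b = b * a
      calc a * b = m * ((m⁻¹ * a * m) * (m⁻¹ * b * m)) * m⁻¹ := by group
        _ = m * ((m⁻¹ * b * m) * (m⁻¹ * a * m)) * m⁻¹ := by rw [h2]
        _ = _ := by group
    have hW₁M : W₁ ≤ M := hW₁.1.trans hWM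
    haveI : IsMulCommutative ↥(W₁.subgroupOf M) := ⟨⟨fun a b => Subtype.ext (Subtype.ext
      (hcomm _ (Subgroup.mem_subgroupOf.1 a.2) _ (Subgroup.mem_subgroupOf.1 b.2)).eq)⟩⟩
    have heq : W'.map π ≤ (W₁.subgroupOf M).map π := by
      rintro _ ⟨w, hw, rfl⟩
      have h1 := hsup (Subgroup.mem_subgroupOf.1 hw)
      rw [← SetLike.mem_coe, Subgroup.coe_mul_of_right_le_normalizer_left (W ⊓ sigmaCore M) W₁ (fun y hy =>
        Subgroup.mem_normalizer_iff.2 fun z => by
          have e1 := Subgroup.mem_normalizer_iff.1 (Subgroup.le_normalizer (hW₁.1 hy)) z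
          have e2 := Subgroup.mem_normalizer_iff.1 (hσn (hW₁M hy)) z
          exact ⟨fun h => ⟨e1.1 h.1, e2.1 h.2⟩, fun h => ⟨e1.2 h.1, e2.2 h.2⟩⟩)] at h1
      obtain ⟨a, ha, b, hb, he⟩ := h1
      obtain ⟨a', ha', hae⟩ := (hFeq ▸ ha.2 : a ∈ fittingHallOf M)
      refine ⟨⟨b, hW₁M hb⟩, Subgroup.mem_subgroupOf.2 hb, ?_⟩
      rw [show w = a' * ⟨b, hW₁M hb⟩ from Subtype.ext (by
        show (w : G) = (a' : G) * b
        rw [show (a' : G) = a from hae]
        exact he.symm), map_mul, show π a' = 1 from (QuotientGroup.eq_one_iff a').2 ha', one_mul]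
    haveI : Group.IsNilpotent ↥(W₁.subgroupOf M) :=
      Subgroup.isNilpotent_of_ker_le_center (1 : ↥(W₁.subgroupOf M) →* PUnit.{1}) fun a _ =>
        Subgroup.mem_center_iff.2 fun b => (IsMulCommutative.is_comm.comm a b).symm
    haveI : Group.IsNilpotent ↥((W₁.subgroupOf M).map π) :=
      Group.nilpotent_of_surjective (π.subgroupMap _) (π.subgroupMap_surjective _)
    exact isNilpotent_of_le heq
  haveI := himg
  have hWnil : Group.IsNilpotent ↥W' := Subgroup.isNilpotent_of_ker_le_center (π.subgroupMap W') fun a ha =>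
    Subgroup.mem_center_iff.2 fun b => Subtype.ext (Subtype.ext (by
      have h1 : (a : ↥M) ∈ fittingHall ↥M := (QuotientGroup.eq_one_iff _).1 (congrArg Subtype.val ha)
      exact (Subgroup.mem_centralizer_iff.1 (Subgroup.mem_subgroupOf.1 b.2).2 _ (Subgroup.mem_map_of_mem M.subtype h1)).symm))
  calc W = W'.map M.subtype := (Subgroup.map_subgroupOf_eq_of_le hWM).symm
    _ ≤ _ := Subgroup.map_mono (le_sSup (s := {N : Subgroup ↥M | N.Normal ∧ Group.IsNilpotent N}) ⟨hWn, hWnil⟩)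

/-- `F(M) = C_M(M_F) M_F`. -/
theorem fitting_eq (hG : IsMinSimpleOddOrder G) (hM : IsCoatom M) :
    fittingOf M = (M ⊓ Subgroup.centralizer (fittingHallOf M : Set G)) ⊔ fittingHallOf M := by
  haveI := TypePBasic.fittingOf_nilpotent M
  have hFF : fittingHallOf M ≤ fittingOf M := Subgroup.map_mono TypePBasic.fittingHall_le_fitting
  have hFM : fittingOf M ≤ M := Subgroup.map_subtype_le _
  have hHM : fittingHallOf M ≤ M := Subgroup.map_subtype_le _
  refine le_antisymm (fun x hx => ?_) (sup_le (centralizer_le_fitting hG hM) hFF)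
  obtain ⟨a, b, hab, -, hax, hbx, haπ, hbπ⟩ := exists_parts {t | t ∣ Nat.card (fittingHallOf M)} x
  have haF : a ∈ fittingOf M := Subgroup.zpowers_le.2 hx hax
  have hbF : b ∈ fittingOf M := Subgroup.zpowers_le.2 hx hbx
  have ha : a ∈ fittingHallOf M := le_of_hall (π := {t | t ∣ Nat.card (fittingHallOf M)})
    ⟨hHM, fun t _ h => h, fun t ht h hd =>
      ht.ne_one (Nat.eq_one_of_dvd_coprimes (TypePBasic.fittingHallOf_hall M) h hd)⟩
    (Bender.le_normalizer_map _) (Subgroup.zpowers_le.2 (hFM haF))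
    (fun t ht htd => haπ t ht (by rwa [Nat.card_zpowers] at htd)) (Subgroup.mem_zpowers a)
  have hb : b ∈ M ⊓ Subgroup.centralizer (fittingHallOf M : Set G) :=
    ⟨hFM hbF, TypePBasic.nilpotent_coprime_commute hFF (Subgroup.zpowers_le.2 hbF)
      (Nat.coprime_of_dvd fun t ht h1 h2 => hbπ t ht (by rwa [Nat.card_zpowers] at h2) h1) (Subgroup.mem_zpowers b)⟩
  rw [hab]
  exact Subgroup.mul_mem _ (Subgroup.mem_sup_right ha) (Subgroup.mem_sup_left hb)

/-- `F(M) ≤ M'` when `κ(M)` is nonempty. -/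
theorem fitting_le_derived (hG : IsMinSimpleOddOrder G) (hM : IsCoatom M) (hκ : (kappa M).Nonempty) :
    fittingOf M ≤ ⁅M, M⁆ := by
  obtain ⟨K, U, hKU⟩ := exists_full_decomp hG hM
  obtain ⟨t, htκ⟩ := hκ
  have hK1 : K ≠ ⊥ := fun h => hKU.hall.2.2 t htκ.1 htκ (by rw [h, Subgroup.relIndex_bot_left]; exact htκ.2.1)
  rw [fitting_eq hG hM]
  exact sup_le (fun w hw => mem_derived_of_not_kappa hG hM hKU hK1 hw.1 (centralizer_not_kappa hG hM hw.1 hw.2))
    ((Support.fittingHallOf_le hG hM).trans (core_le_derived hG hM))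

end Cfsg.Agent.OddLocal.Kappa
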