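import Cfsg.Agent.Lib.OddLocal.RankTwoCore
import Cfsg.Agent.Lib.Fusion.TransferSplit

/-!
Averaging over coprime groups of operators: invariant cyclic subgroups and complements of lines.
-/

set_option autoImplicit false
set_option linter.style.haveILetI false

namespace Cfsg.Agent.OddLocal.Avg

open Cfsg
open Cfsg.Agent.Fusion (cj cj_eq_self mem_normalizer_of_cj_le)

universe u

variable {G : Type u} [Group G] [Finite G] {p : ℕ} [hp : Fact p.Prime]

omit [Finite G] in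
/-- Congruent integers modulo `p` give congruent `p ^ n`-th powers, so equal powers of `y`. -/
theorem zpow_eq_of_congr {y : G} {n : ℕ} (hy : y ^ p ^ (n + 1) = 1) {a b : ℤ} (h : (p : ℤ) ∣ a - b) :
    y ^ (a ^ p ^ n) = y ^ (b ^ p ^ n) := by
  have h1 := dvd_sub_pow_of_dvd_sub h n
  obtain ⟨k, hk⟩ := h1
  rw [sub_eq_iff_eq_add] at hk
  rw [hk, zpow_add, ← Nat.cast_pow, zpow_mul, zpow_natCast, hy, one_zpow, one_mul]

/-- An invariant cyclic subgroup over an invariant line. -/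
theorem exists_lift {P E : Subgroup G} (hEP : E ≤ Subgroup.normalizer (P : Set G)) (hab : IsMulCommutative ↥P)
    (hidx : ¬ p ∣ (Subgroup.centralizer (P : Set G)).relIndex E) {x : G} (hx : x ∈ P) {n : ℕ}
    (hexp : ∀ y ∈ P, y ^ p ^ (n + 1) = 1) (hxo : orderOf (x ^ p ^ n) = p)
    (hinv : E ≤ Subgroup.normalizer (Subgroup.zpowers (x ^ p ^ n) : Set G)) :
    ∃ x' ∈ P, E ≤ Subgroup.normalizer (Subgroup.zpowers x' : Set G) ∧ orderOf x' = p ^ (n + 1) ∧
      Subgroup.zpowers (x' ^ p ^ n) = Subgroup.zpowers (x ^ p ^ n) := by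
  classical
  set w := x ^ p ^ n with hw
  have hwP : w ∈ P := pow_mem hx _
  letI : CommGroup ↥P := { (inferInstance : Group ↥P) with mul_comm := hab.is_comm.comm }
  have hmem : ∀ (g : ↥E) (y : ↥P), (g : G) * y * (g : G)⁻¹ ∈ P := fun g y =>
    (Subgroup.mem_normalizer_iff.1 (hEP g.2) (y : G)).1 y.2
  let ψ : ↥E → (↥P →* ↥P) := fun g => MonoidHom.mk' (fun y => ⟨(g : G) * y * (g : G)⁻¹, hmem g y⟩)
    fun a b => Subtype.ext (by show (g : G) * (a * b : G) * (g : G)⁻¹ = _ * _; group)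
  have hψ : ∀ g h y, ψ (g * h) y = ψ g (ψ h y) := fun g h y => Subtype.ext (by
    show ((g * h : ↥E) : G) * y * ((g * h : ↥E) : G)⁻¹ = (g : G) * ((h : G) * y * (h : G)⁻¹) * (g : G)⁻¹
    rw [Subgroup.coe_mul]; group)
  set xP : ↥P := ⟨x, hx⟩ with hxP
  set wP : ↥P := ⟨w, hwP⟩ with hwP'
  have hxw : xP ^ p ^ n = wP := Subtype.ext (by rw [SubgroupClass.coe_pow])
  have hwo : orderOf wP = p := by rw [Subgroup.orderOf_mk]; exact hxo
  have ha : ∀ g : ↥E, ∃ a : ℤ, ψ g wP = wP ^ a := fun g => by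
    obtain ⟨a, ha⟩ := Subgroup.mem_zpowers_iff.1
      ((Subgroup.mem_normalizer_iff.1 (hinv g.2) w).1 (Subgroup.mem_zpowers w))
    exact ⟨a, Subtype.ext (by rw [SubgroupClass.coe_zpow]; exact ha.symm)⟩
  choose a ha using ha
  have hcong : ∀ i j : ℤ, wP ^ i = wP ^ j → (p : ℤ) ∣ i - j := fun i j h => by
    rw [← hwo, orderOf_dvd_iff_zpow_eq_one, zpow_sub, h, mul_inv_cancel]
  have hexp' : ∀ y : ↥P, y ^ p ^ (n + 1) = 1 := fun y =>
    Subtype.ext (by rw [SubgroupClass.coe_pow]; exact hexp y y.2)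
  let c : ↥E → ℤ := fun g => a g ^ p ^ n
  have hmul : ∀ g h, ∀ y : ↥P, y ^ c (g * h) = y ^ (c g * c h) := fun g h y => by
    show y ^ (a (g * h) ^ p ^ n) = y ^ (a g ^ p ^ n * a h ^ p ^ n)
    rw [← mul_pow]
    refine zpow_eq_of_congr (hexp' y) (hcong _ _ ?_)
    rw [← ha, hψ, ha h, map_zpow, ha g, ← zpow_mul]
  have hCn : ((Subgroup.centralizer (P : Set G)).subgroupOf E).Normal :=
    Subgroup.normal_subgroupOf_of_le_normalizer fun g hg => mem_normalizer_of_cj_le (le_of_eq (by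
      rw [Fusion.cj_centralizer, cj_eq_self (hEP hg)]))
  set C := (Subgroup.centralizer (P : Set G)).subgroupOf E with hC
  haveI : Fintype (↥E ⧸ C) := Fintype.ofFinite _
  let term : ↥E → ↥P := fun b => ψ b xP ^ c b⁻¹
  have hψC : ∀ u ∈ C, ∀ y, ψ u y = y := fun u hu y => Subtype.ext (by
    show (u : G) * y * (u : G)⁻¹ = y
    rw [← Subgroup.mem_centralizer_iff.1 (Subgroup.mem_subgroupOf.1 hu) (y : G) y.2, mul_inv_cancel_right])
  have hterm : ∀ b, ∀ u ∈ C, term (b * u) = term b := by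
    intro b u hu
    show ψ (b * u) xP ^ c (b * u)⁻¹ = ψ b xP ^ c b⁻¹
    rw [hψ, hψC u hu, mul_inv_rev, hmul]
    have h1 : (p : ℤ) ∣ a u⁻¹ - 1 := hcong _ _ (by rw [← ha, hψC _ (inv_mem hu), zpow_one])
    have h2 : ∀ y : ↥P, y ^ c u⁻¹ = y := fun y => by
      show y ^ (a u⁻¹ ^ p ^ n) = y
      rw [zpow_eq_of_congr (hexp' y) h1, one_pow, zpow_one]
    rw [zpow_mul, h2]
  let T : ↥E ⧸ C → ↥P := Quotient.lift term fun b b' (h : (QuotientGroup.leftRel C).r b b') => by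
    rw [← hterm b (b⁻¹ * b') (QuotientGroup.leftRel_apply.1 h), mul_inv_cancel_left]
  have hT : ∀ b : ↥E, T b = term b := fun b => rfl
  set x' : ↥P := ∏ q, T q with hx'
  have hgx : ∀ g : ↥E, ψ g x' = x' ^ c g := by
    intro g
    rw [hx', map_prod, ← Finset.prod_zpow]
    refine Fintype.prod_equiv (Equiv.mulLeft (g : ↥E ⧸ C)) _ _ fun q => ?_
    induction q using QuotientGroup.induction_on with | H b =>
    show ψ g (T b) = T ((g * b : ↥E) : ↥E ⧸ C) ^ c g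
    rw [hT, hT]
    show ψ g (ψ b xP ^ c b⁻¹) = (ψ (g * b) xP ^ c (g * b)⁻¹) ^ c g
    rw [map_zpow, ← hψ, ← zpow_mul, ← hmul]
    congr 2
    group
  have hpow : x' ^ p ^ n = wP ^ Nat.card (↥E ⧸ C) := by
    rw [hx', ← Finset.prod_pow, Nat.card_eq_fintype_card, ← Finset.card_univ]
    refine Finset.prod_eq_pow_card fun q _ => ?_
    induction q using QuotientGroup.induction_on with | H b =>
    rw [hT]
    show (ψ b xP ^ c b⁻¹) ^ p ^ n = wP
    rw [← zpow_natCast, ← zpow_mul, mul_comm, zpow_mul, zpow_natCast, ← map_pow, hxw]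
    have h1 : ψ b wP ^ c b⁻¹ = ψ b (wP ^ a b⁻¹) := by
      rw [map_zpow]
      obtain ⟨k, hk⟩ : (p : ℤ) ∣ a b⁻¹ ^ p ^ n - a b⁻¹ := by
        have h := (ZMod.intCast_zmod_eq_zero_iff_dvd (a b⁻¹ ^ p ^ n - a b⁻¹) p).1 (by
          rw [Int.cast_sub, Int.cast_pow, ZMod.pow_card_pow, sub_self])
        exact h
      show ψ b wP ^ (a b⁻¹ ^ p ^ n) = _
      rw [sub_eq_iff_eq_add.1 hk, zpow_add, zpow_mul, zpow_natCast, ← map_pow,
        show wP ^ p = 1 by rw [← hwo, pow_orderOf_eq_one], map_one, one_zpow, one_mul]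
    rw [h1, ← ha, ← hψ, mul_inv_cancel]
    exact Subtype.ext (by show ((1 : ↥E) : G) * w * ((1 : ↥E) : G)⁻¹ = w; simp)
  have hcard : (Nat.card (↥E ⧸ C)).Coprime p := by
    rw [← Subgroup.index_eq_card]
    exact ((Nat.Prime.coprime_iff_not_dvd hp.out).2 hidx).symm
  have hw' : orderOf (wP ^ Nat.card (↥E ⧸ C)) = p := by
    rw [Nat.Coprime.orderOf_pow (by rw [hwo]; exact hcard.symm), hwo]
  refine ⟨x', x'.2, fun g hg => mem_normalizer_of_cj_le ?_, ?_, ?_⟩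
  · rintro _ ⟨y, hy, rfl⟩
    obtain ⟨i, rfl⟩ := Subgroup.mem_zpowers_iff.1 hy
    rw [map_zpow]
    refine zpow_mem ?_ i
    refine Subgroup.mem_zpowers_iff.2 ⟨c ⟨g, hg⟩, ?_⟩
    exact ((SubgroupClass.coe_zpow x' _).symm.trans (congrArg Subtype.val (hgx ⟨g, hg⟩)).symm :)
  · rw [Subgroup.orderOf_coe]
    exact orderOf_eq_prime_pow (fun h => by rw [← hpow, h, orderOf_one] at hw'; exact hp.out.ne_one hw'.symm)
      (hexp' x')
  · refine Subgroup.eq_of_le_of_card_ge (Subgroup.zpowers_le.2 ?_) ?_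
    · rw [← SubgroupClass.coe_pow, hpow, SubgroupClass.coe_pow]
      exact pow_mem (Subgroup.mem_zpowers w) _
    · rw [Nat.card_zpowers, Nat.card_zpowers, ← SubgroupClass.coe_pow, Subgroup.orderOf_coe, hpow, hw', hxo]

/-- Gaschütz for a normal line: a retraction on a Sylow subgroup gives a complement. -/
theorem complement_line {X : Type*} [Group X] [Finite X] (Z : Subgroup X) [hZn : Z.Normal] (hZ : Nat.card Z = p)
    (S : Sylow p X) (hZS : Z ≤ (S : Subgroup X)) (hSZ : (S : Subgroup X) ≤ Subgroup.centralizer (Z : Set X))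
    (θ : ↥(S : Subgroup X) →* ↥Z) (hθ : ∀ z : ↥Z, θ ⟨z, hZS z.2⟩ = z) :
    ∃ K : Subgroup X, Z ⊓ K = ⊥ ∧ Z ⊔ K = ⊤ := by
  classical
  haveI := isCyclic_of_prime_card hZ
  letI : CommGroup ↥Z := IsCyclic.commGroup
  set C := Subgroup.centralizer (Z : Set X) with hC
  haveI : C.Normal := by rw [hC]; infer_instance
  have hCi : ¬ p ∣ C.index := fun h => S.not_dvd_index (h.trans (Subgroup.index_dvd_of_le hSZ))
  have hZC : Z ≤ C := fun z hz => Subgroup.mem_centralizer_iff.2 fun y hy =>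
    congrArg Subtype.val (mul_comm (⟨y, hy⟩ : Z) ⟨z, hz⟩)
  -- a retraction of the centralizer
  obtain ⟨φ, hφ⟩ := Fusion.exists_retraction (E := ↥C) (Subgroup.inclusion hZC)
    (fun z e => Subtype.ext (Subgroup.mem_centralizer_iff.1 e.2 (z : X) z.2))
    ((S : Subgroup X).subgroupOf C) (fun z => hZS z.2)
    (θ.comp (Subgroup.subgroupOfEquivOfLe hSZ).toMonoidHom) hθ (by
      rw [hZ]
      exact (Nat.Prime.coprime_iff_not_dvd hp.out).2 fun h =>
        S.not_dvd_index (h.trans ⟨_, (Subgroup.relIndex_mul_index hSZ).symm⟩))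
  haveI : Fintype (X ⧸ C) := Fintype.ofFinite _
  let cz : X → ↥Z →* ↥Z := fun x => MonoidHom.mk' (fun z => ⟨x * z * x⁻¹, hZn.conj_mem _ z.2 x⟩)
    fun a b => Subtype.ext (by show x * (a * b : X) * x⁻¹ = _ * _; group)
  have hcz : ∀ x y z, cz (x * y) z = cz x (cz y z) := fun x y z => Subtype.ext (by
    show x * y * z * (x * y)⁻¹ = x * (y * z * y⁻¹) * x⁻¹; group)
  have hCn : ∀ (x : X) (c : ↥C), x * c * x⁻¹ ∈ C := fun x c => (inferInstance : C.Normal).conj_mem _ c.2 x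
  let F : X → ↥C → ↥Z := fun x c => cz x (φ ⟨x⁻¹ * c * x, by simpa using hCn x⁻¹ c⟩)
  have hF : ∀ x, ∀ u ∈ C, ∀ c, F (x * u) c = F x c := by
    intro x u hu c
    show cz (x * u) _ = cz x _
    rw [hcz]
    congr 1
    have h1 : (⟨(x * u)⁻¹ * c * (x * u), by simpa using hCn (x * u)⁻¹ c⟩ : ↥C) =
        (⟨u, hu⟩ : ↥C)⁻¹ * ⟨x⁻¹ * c * x, by simpa using hCn x⁻¹ c⟩ * ⟨u, hu⟩ := Subtype.ext (by
      show (x * u)⁻¹ * c * (x * u) = u⁻¹ * (x⁻¹ * c * x) * u
      group)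
    rw [h1]
    simp only [map_mul, map_inv]
    rw [mul_right_comm, inv_mul_cancel, one_mul]
    refine Subtype.ext ?_
    show u * ((φ _ : ↥Z) : X) * u⁻¹ = _
    rw [← Subgroup.mem_centralizer_iff.1 hu _ (φ _).2, mul_inv_cancel_right]
  have hFq : ∀ c, ∀ b b' : X, (QuotientGroup.leftRel C).r b b' → F b c = F b' c := fun c b b' h => by
    rw [← hF b (b⁻¹ * b') (QuotientGroup.leftRel_apply.1 h) c, mul_inv_cancel_left]
  let F' : X ⧸ C → ↥C → ↥Z := fun q c => Quotient.lift (fun b => F b c) (hFq c) q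
  have hF' : ∀ (b : X) c, F' b c = F b c := fun b c => rfl
  have hF'mul : ∀ q c d, F' q (c * d) = F' q c * F' q d := by
    intro q c d
    induction q using QuotientGroup.induction_on with | H b =>
    rw [hF', hF', hF']
    show cz b (φ _) = cz b (φ _) * cz b (φ _)
    rw [← map_mul, ← map_mul]
    congr 2
    exact Subtype.ext (by show b⁻¹ * (c * d : X) * b = (b⁻¹ * c * b) * (b⁻¹ * d * b); group)
  let Φ : ↥C →* ↥Z := MonoidHom.mk' (fun c => ∏ q, F' q c) fun c d => by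
    show (∏ q, F' q (c * d)) = (∏ q, F' q c) * ∏ q, F' q d
    rw [← Finset.prod_mul_distrib]
    exact Finset.prod_congr rfl fun q _ => hF'mul q c d
  have hΦz : ∀ z : ↥Z, Φ (Subgroup.inclusion hZC z) = z ^ C.index := by
    intro z
    show (∏ q, F' q _) = _
    rw [Subgroup.index_eq_card, Nat.card_eq_fintype_card, ← Finset.card_univ]
    refine Finset.prod_eq_pow_card fun q _ => ?_
    induction q using QuotientGroup.induction_on with | H b =>
    rw [hF']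
    show cz b (φ _) = z
    have h1 : (⟨b⁻¹ * (z : X) * b, by simpa using hCn b⁻¹ (Subgroup.inclusion hZC z)⟩ : ↥C) =
        Subgroup.inclusion hZC (cz b⁻¹ z) := Subtype.ext (by
      show b⁻¹ * (z : X) * b = b⁻¹ * z * b⁻¹⁻¹
      rw [inv_inv])
    refine (congrArg (cz b) ((congrArg φ h1).trans (hφ _))).trans ?_
    rw [← hcz, mul_inv_cancel]
    exact Subtype.ext (by show (1 : X) * z * (1 : X)⁻¹ = z; simp)
  have hΦeq : ∀ (g : X) (c : ↥C), Φ ⟨g * c * g⁻¹, hCn g c⟩ = cz g (Φ c) := by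
    intro g c
    show (∏ q, F' q _) = cz g (∏ q, F' q c)
    rw [map_prod]
    refine (Fintype.prod_equiv (Equiv.mulLeft (g : X ⧸ C)) _ _ fun q => ?_).symm
    induction q using QuotientGroup.induction_on with | H b =>
    show cz g (F' (b : X ⧸ C) c) = F' ((g * b : X) : X ⧸ C) _
    rw [hF', hF']
    show cz g (cz b (φ _)) = cz (g * b) (φ _)
    rw [hcz]
    congr 3
    exact Subtype.ext (by show b⁻¹ * c * b = (g * b)⁻¹ * (g * c * g⁻¹) * (g * b); group)
  set K₀ := Φ.ker.map C.subtype with hK₀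
  haveI : K₀.Normal := ⟨fun k hk g => by
    obtain ⟨c, hc, rfl⟩ := hk
    refine ⟨⟨g * c * g⁻¹, hCn g c⟩, ?_, rfl⟩
    rw [SetLike.mem_coe, MonoidHom.mem_ker, hΦeq g c, MonoidHom.mem_ker.1 hc, map_one]⟩
  have hidx : (Nat.card ↥Z).Coprime C.index := by rw [hZ]; exact (Nat.Prime.coprime_iff_not_dvd hp.out).2 hCi
  have hinf : Z ⊓ K₀ = ⊥ := by
    refine eq_bot_iff.2 fun z hz => ?_
    obtain ⟨hzZ, c, hc, hcz⟩ := hz
    have h1 : c = Subgroup.inclusion hZC ⟨z, hzZ⟩ := Subtype.ext hcz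
    subst h1
    have h2 : (⟨z, hzZ⟩ : ↥Z) ^ C.index = 1 := (hΦz _).symm.trans (MonoidHom.mem_ker.1 hc)
    have h3 : (⟨z, hzZ⟩ : ↥Z) = 1 := (powCoprime hidx).injective (by simpa [powCoprime] using h2)
    exact Subgroup.mem_bot.2 (congrArg Subtype.val h3)
  have hsup : ∀ c ∈ C, ∃ z ∈ Z, z⁻¹ * c ∈ K₀ := by
    intro c hc
    obtain ⟨z, hz⟩ := (powCoprime hidx).surjective (Φ ⟨c, hc⟩)
    refine ⟨z, z.2, (Subgroup.inclusion hZC z)⁻¹ * ⟨c, hc⟩, ?_, by simp⟩
    rw [SetLike.mem_coe, MonoidHom.mem_ker, map_mul, map_inv, hΦz, ← hz]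
    exact inv_mul_cancel (z ^ C.index)
  -- split the quotient
  set π := QuotientGroup.mk' K₀ with hπ
  haveI : (Z.map π).Normal := hZn.map π (QuotientGroup.mk'_surjective K₀)
  have hZπ : Nat.card (Z.map π) = p := by
    rw [← hZ]
    refine (Nat.card_congr (Equiv.ofBijective (fun z : ↥Z => (⟨π z, Subgroup.mem_map_of_mem π z.2⟩ : ↥(Z.map π)))
      ⟨fun a b h => ?_, ?_⟩)).symm
    · have h1 : (a : X)⁻¹ * b ∈ Z ⊓ K₀ :=
        ⟨Z.mul_mem (Z.inv_mem a.2) b.2, QuotientGroup.eq.1 (congrArg Subtype.val h)⟩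
      rw [hinf, Subgroup.mem_bot, inv_mul_eq_one] at h1
      exact Subtype.ext h1
    · rintro ⟨_, z, hz, rfl⟩
      exact ⟨⟨z, hz⟩, rfl⟩
  have hCπ : C.map π = Z.map π := le_antisymm (by
    rintro _ ⟨c, hc, rfl⟩
    obtain ⟨z, hz, hzk⟩ := hsup c hc
    exact ⟨z, hz, QuotientGroup.eq.2 hzk⟩) (Subgroup.map_mono hZC)
  obtain ⟨L, hL⟩ := Subgroup.exists_right_complement'_of_coprime (N := Z.map π) (by
    rw [hZπ]
    refine (Nat.Prime.coprime_iff_not_dvd hp.out).2 fun h => hCi ?_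
    rw [← hCπ] at h
    exact h.trans (Subgroup.index_map_dvd C (QuotientGroup.mk'_surjective K₀)))
  refine ⟨L.comap π, eq_bot_iff.2 fun z hz => ?_, eq_top_iff.2 fun x _ => ?_⟩
  · have h1 : π z ∈ Z.map π ⊓ L := ⟨Subgroup.mem_map_of_mem π hz.1, hz.2⟩
    rw [disjoint_iff.1 hL.disjoint, Subgroup.mem_bot] at h1
    exact hinf.le ⟨hz.1, (QuotientGroup.eq_one_iff z).1 h1⟩
  · obtain ⟨_, ⟨z, hz, rfl⟩, l, hl, hzl⟩ :=
      Subgroup.mem_sup_of_normal_left.1 (hL.sup_eq_top ▸ Subgroup.mem_top (π x))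
    rw [show x = z * (z⁻¹ * x) by group]
    refine Subgroup.mul_mem _ (Subgroup.mem_sup_left hz) (Subgroup.mem_sup_right ?_)
    rw [Subgroup.mem_comap, map_mul, map_inv, ← hzl, inv_mul_cancel_left]
    exact hl

end Cfsg.Agent.OddLocal.Avg
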