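import Cfsg.Agent.Lib.OddLocal.CyclicFixed
import Cfsg.Agent.Lib.OddLocal.InvariantLines
import Cfsg.Agent.Lib.Solv.RankTwoAction

/-!
The action of a complement on the lines of `A` when the Sylow subgroups for `τ₂(M)` are abelian.
-/

set_option autoImplicit false
set_option linter.style.haveILetI false

namespace Cfsg.Agent.OddLocal.TauTwo

open Cfsg
open scoped commutatorElement
open Cfsg.Agent.Fusion (SylIn cj cj_cj cj_eq_self cj_mono card_cj isPGroup_cj sylIn_map sylIn_top exists_sylIn_ge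
  mem_normalizer_of_cj_le)
open Cfsg.Agent.OddLocal.Uniq
open Cfsg.Agent.OddLocal.Sig
open Cfsg.Agent.OddLocal.RankTwo

universe u

variable {G : Type u} [Group G] [Finite G] {p : ℕ} [hp : Fact p.Prime] {M A E : Subgroup G}

/-- No element of `E` supported on `τ₁(M) ∪ τ₃(M)` has a fixed point on `M_σ`. -/
def Fpf13 (M E : Subgroup G) : Prop :=
  ∀ e ∈ E, e ≠ 1 → (∀ q : ℕ, q.Prime → q ∣ orderOf e → q ∈ tau1 M ∪ tau3 M) →
    sigmaCore M ⊓ Subgroup.centralizer ({e} : Set G) = ⊥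

/-- For every prime of `τ₂(M)` the Sylow subgroups of `E` are normal and are Sylow subgroups of `G`. -/
def AbelianTau2 (M E : Subgroup G) : Prop :=
  ∀ (q : ℕ) [Fact q.Prime], q ∈ tau2 M → ∀ P : Subgroup G, SylIn q P E →
    SylIn q P ⊤ ∧ E ≤ Subgroup.normalizer (P : Set G)

omit hp in
theorem classify (hG : IsMinSimpleOddOrder G) (hM : IsCoatom M) {q : ℕ} (hq : q.Prime) (hσ : q ∉ sigma M)
    (hd : q ∣ Nat.card M) : q ∈ tau2 M ∨ q ∈ tau1 M ∪ tau3 M := by
  by_cases hr : PRankLE q 1 ↥M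
  · by_cases hd' : q ∣ Nat.card ↥⁅M, M⁆
    · exact Or.inr (Or.inr ⟨hq, hσ, hd', hr⟩)
    · exact Or.inr (Or.inl ⟨hq, hσ, hd, hd', hr⟩)
  · haveI := Fact.mk hq
    exact Or.inl ⟨hq, hσ, prankLE_of_not_alpha hq (not_alpha_of_not_sigma hG hM hσ), hr⟩

omit hp in
/-- The primes of an element of `E` with a fixed point lie in `τ₂(M)`. -/
theorem fixed_tau2 (hG : IsMinSimpleOddOrder G) (hM : IsCoatom M) (hE : IsComplIn E (sigmaCore M) M)
    (h13 : Fpf13 M E) {y x : G} (hy : y ∈ E) (hx : x ∈ sigmaCore M) (hx1 : x ≠ 1) (hxy : y * x = x * y) {q : ℕ}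
    (hq : q.Prime) (hd : q ∣ orderOf y) : q ∈ tau2 M := by
  have hdE : q ∣ Nat.card E := hd.trans (Subgroup.orderOf_dvd_natCard E hy)
  refine (classify hG hM hq (compl_pi hG hM hE hq hdE) (hdE.trans (Subgroup.card_dvd_of_le hE.1))).resolve_right
    fun h13' => ?_
  have hwo : orderOf (y ^ (orderOf y / q)) = q := orderOf_pow_orderOf_div (orderOf_pos y).ne' hd
  have h := h13 _ (pow_mem hy (orderOf y / q)) (fun h => hq.ne_one (by rw [← hwo, h, orderOf_one]))
    fun r hr hrd => (Nat.prime_dvd_prime_iff_eq hr hq).1 (hwo ▸ hrd) ▸ h13'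
  refine hx1 (Subgroup.mem_bot.1 (h ▸ Subgroup.mem_inf.2 ⟨hx, Subgroup.mem_centralizer_singleton_iff.2 ?_⟩))
  exact ((show Commute y x from hxy).pow_left _).symm.eq

/-- The automorphisms of `A` induced by its normaliser commute. -/
theorem commutator_le_centralizer_A (s : Setup p M A) {P : Subgroup G} (hP : SylIn p P ⊤)
    (hPC : P ≤ Subgroup.centralizer (A : Set G)) :
    ⁅Subgroup.normalizer (A : Set G), Subgroup.normalizer (A : Set G)⁆ ≤ Subgroup.centralizer (A : Set G) := by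
  have hG := s.minSimple
  set N := Subgroup.normalizer (A : Set G) with hN
  set φ := Subgroup.normalizerMonoidHom A with hφ
  haveI : Group.IsSolvable ↥N :=
    hG.2.2.2 N (normalizer_pgroup_ne_top hG (Fusion.elab_isPGroup s.elem) s.ne_bot)
  haveI : Group.IsSolvable ↥φ.range := Group.isSolvable_of_surjective φ.rangeRestrict_surjective
  have hodd : Odd (Nat.card ↥φ.range) :=
    Odd.of_dvd_nat (odd_subgroup hG N) (Subgroup.card_range_dvd φ)
  have hcard : ¬ p ∣ Nat.card ↥φ.range := fun hd => by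
    rw [← Subgroup.index_ker, hφ, Subgroup.normalizerMonoidHom_ker] at hd
    refine hP.not_dvd ?_
    rw [Subgroup.relIndex_top_right, ← Subgroup.relIndex_mul_index hPC]
    refine Dvd.dvd.mul_left ?_ _
    exact hd.trans ⟨N.index, (Subgroup.relIndex_mul_index (Subgroup.centralizer_le_normalizer _)).symm⟩
  have hr : PRankLE p 2 ↥A := fun B _ _ =>
    (Nat.le_of_dvd Nat.card_pos (Subgroup.card_subgroup_dvd_card B)).trans s.card.le
  have h := Solv.RankTwo.commutator_rank_two s.ne_two (Fusion.elab_isPGroup s.elem) hr hodd φ.range.subtype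
    φ.range.subtype_injective
  have hbot : commutator ↥φ.range = ⊥ := by
    obtain ⟨j, hj⟩ := IsPGroup.iff_card.1 h
    refine Subgroup.card_eq_one.1 ?_
    rcases Nat.eq_zero_or_pos j with h0 | h0
    · rw [hj, h0, pow_zero]
    · exact absurd ((dvd_pow_self p h0.ne').trans (hj ▸ Subgroup.card_subgroup_dvd_card _)) hcard
  rw [Subgroup.commutator_le]
  intro a ha b hb
  have h1 : ⁅φ.rangeRestrict ⟨a, ha⟩, φ.rangeRestrict ⟨b, hb⟩⁆ ∈ commutator ↥φ.range :=
    commutator_def ↥φ.range ▸ Subgroup.commutator_mem_commutator (Subgroup.mem_top _) (Subgroup.mem_top _)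
  rw [hbot, Subgroup.mem_bot, ← map_commutatorElement] at h1
  have h2 : ⁅(⟨a, ha⟩ : ↥N), (⟨b, hb⟩ : ↥N)⁆ ∈ φ.ker := congrArg Subtype.val h1
  rw [hφ, Subgroup.normalizerMonoidHom_ker, Subgroup.mem_subgroupOf] at h2
  exact h2

/-- Three invariant lines make an element act as a power on `A`. -/
theorem normalizes_all (s : Setup p M A) {y : G} {L₀ L₁ L₂ : Subgroup G} (h0 : L₀ ≤ A) (h1 : L₁ ≤ A) (h2 : L₂ ≤ A)
    (c0 : Nat.card L₀ = p) (c1 : Nat.card L₁ = p) (c2 : Nat.card L₂ = p) (d01 : L₁ ≠ L₀) (d02 : L₂ ≠ L₀)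
    (d12 : L₂ ≠ L₁) (n0 : y ∈ Subgroup.normalizer (L₀ : Set G)) (n1 : y ∈ Subgroup.normalizer (L₁ : Set G))
    (n2 : y ∈ Subgroup.normalizer (L₂ : Set G)) {L : Subgroup G} (hL : L ≤ A) :
    y ∈ Subgroup.normalizer (L : Set G) := by
  have hdec : ∀ z ∈ A, ∃ a ∈ L₀, ∃ b ∈ L₁, z = a * b := fun z hz => by
    have hn : L₁ ≤ Subgroup.normalizer (L₀ : Set G) :=
      (h1.trans s.le_centralizer).trans ((centralizer_le_of_le h0).trans (Subgroup.centralizer_le_normalizer _))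
    rw [← line_sup s.card h0 h1 c0 c1 d01, ← SetLike.mem_coe, Subgroup.coe_mul_of_right_le_normalizer_left _ _ hn] at hz
    obtain ⟨a, ha, b, hb, rfl⟩ := hz
    exact ⟨a, ha, b, hb, rfl⟩
  obtain ⟨z, hz, hz1⟩ := exists_ne_one (ne_bot_of_card c2)
  obtain ⟨a, ha, b, hb, hzab⟩ := hdec z (h2 hz)
  have hsub : ∀ {L : Subgroup G}, L ≤ A → Nat.card L = p → ∀ x ∈ L, x ≠ 1 → L = Subgroup.zpowers x :=
    fun {L} hLA hLc x hx hx1 => (Subgroup.eq_of_le_of_card_ge (Subgroup.zpowers_le.2 hx)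
      (by rw [hLc, card_zpowers_elab s.elem (hLA hx) hx1])).symm
  have ha1 : a ≠ 1 := fun h => d12 (by
    rw [hsub h2 c2 z hz hz1, hsub h1 c1 z (by rw [hzab, h, one_mul]; exact hb) hz1])
  have hb1 : b ≠ 1 := fun h => d02 (by
    rw [hsub h2 c2 z hz hz1, hsub h0 c0 z (by rw [hzab, h, mul_one]; exact ha) hz1])
  obtain ⟨i, hi⟩ := Subgroup.mem_zpowers_iff.1 (hsub h0 c0 a ha ha1 ▸ (Subgroup.mem_normalizer_iff.1 n0 a).1 ha)
  obtain ⟨j, hj⟩ := Subgroup.mem_zpowers_iff.1 (hsub h1 c1 b hb hb1 ▸ (Subgroup.mem_normalizer_iff.1 n1 b).1 hb)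
  obtain ⟨k, hk⟩ := Subgroup.mem_zpowers_iff.1 (hsub h2 c2 z hz hz1 ▸ (Subgroup.mem_normalizer_iff.1 n2 z).1 hz)
  have hab : Commute a b := congrArg Subtype.val (s.elem.1.is_comm.comm (⟨a, h0 ha⟩ : A) ⟨b, h1 hb⟩)
  have e1 : a ^ i * b ^ j = a ^ k * b ^ k := by
    rw [← hab.mul_zpow, ← hzab, hk, hi, hj, hzab]; group
  have e2 : (a ^ k)⁻¹ * a ^ i = b ^ k * (b ^ j)⁻¹ := by
    rw [eq_mul_inv_iff_mul_eq, mul_assoc, e1, inv_mul_cancel_left]
  have hinf : L₀ ⊓ L₁ = ⊥ := by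
    by_contra hne
    obtain ⟨w, hw, hw1⟩ := exists_ne_one hne
    exact d01 (by rw [hsub h1 c1 w hw.2 hw1, hsub h0 c0 w hw.1 hw1])
  have e3 : (a ^ k)⁻¹ * a ^ i ∈ L₀ ⊓ L₁ :=
    ⟨Subgroup.mul_mem _ (Subgroup.inv_mem _ (Subgroup.zpow_mem _ ha k)) (Subgroup.zpow_mem _ ha i),
      e2 ▸ Subgroup.mul_mem _ (Subgroup.zpow_mem _ hb k) (Subgroup.inv_mem _ (Subgroup.zpow_mem _ hb j))⟩
  rw [hinf, Subgroup.mem_bot] at e3
  have ei : a ^ k = a ^ i := inv_mul_eq_one.1 e3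
  have ej : b ^ k = b ^ j := mul_inv_eq_one.1 (e2.symm.trans e3)
  refine mem_normalizer_of_cj_le ?_
  rintro _ ⟨u, hu, rfl⟩
  obtain ⟨a', ha', b', hb', rfl⟩ := hdec u (hL hu)
  obtain ⟨m, rfl⟩ := Subgroup.mem_zpowers_iff.1 (hsub h0 c0 a ha ha1 ▸ ha')
  obtain ⟨m', rfl⟩ := Subgroup.mem_zpowers_iff.1 (hsub h1 c1 b hb hb1 ▸ hb')
  show y * (a ^ m * b ^ m') * y⁻¹ ∈ L
  rw [show y * (a ^ m * b ^ m') * y⁻¹ = (y * a ^ m * y⁻¹) * (y * b ^ m' * y⁻¹) by group, ← conj_zpow, ← conj_zpow,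
    ← hi, ← hj, ← ei, ← ej, ← zpow_mul, ← zpow_mul, mul_comm k m, mul_comm k m', zpow_mul, zpow_mul,
    ← (hab.zpow_zpow m m').mul_zpow]
  exact Subgroup.zpow_mem _ hu k

/-- Every `r`-element of `E` normalises a line of `A`. -/
theorem exists_eigen (s : Setup p M A) (hE : IsComplIn E (sigmaCore M) M) (hAE : A ≤ E) (h13 : Fpf13 M E)
    (hab : AbelianTau2 M E) (hp2 : p ∈ tau2 M) {r : ℕ} [hr : Fact r.Prime] (hrp : r ≠ p) {y : G} (hyE : y ∈ E)
    (hyr : IsPGroup r ↥(Subgroup.zpowers y)) :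
    ∃ L : Subgroup G, L ≤ A ∧ Nat.card L = p ∧ y ∈ Subgroup.normalizer (L : Set G) := by
  by_contra hno
  push Not at hno
  have hG := s.minSimple
  have hM := s.coatom
  obtain ⟨⟨hEN, -⟩, ⟨hCA, hEeq, -⟩, -⟩ := complement_tau2 s hE hAE
  have hyA : y ∈ Subgroup.normalizer (A : Set G) := hEN hyE
  obtain ⟨a₀, ha₀, ha₀1⟩ := exists_ne_one s.ne_bot
  have hyC : y ∉ Subgroup.centralizer (A : Set G) := fun h => hno _ (Subgroup.zpowers_le.2 ha₀)
    (card_zpowers_elab s.elem ha₀ ha₀1)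
    (Subgroup.centralizer_le_normalizer _ (centralizer_le_of_le (Subgroup.zpowers_le.2 ha₀) h))
  have hirr : ∀ S : Subgroup G, S ≤ A → y ∈ Subgroup.normalizer (S : Set G) → S ≠ ⊥ → S = A := by
    intro S hSA hyS hS1
    obtain ⟨j, hj2, hj⟩ := (Nat.dvd_prime_pow hp.out).1 (s.card ▸ Subgroup.card_dvd_of_le hSA)
    interval_cases j
    · exact absurd (Subgroup.card_eq_one.1 (by rw [hj, pow_zero])) hS1
    · exact absurd hyS (hno S hSA (by rw [hj, pow_one]))
    · exact Subgroup.eq_of_le_of_card_ge hSA (by rw [s.card, hj])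
  obtain ⟨j, hj⟩ := IsPGroup.iff_card.1 hyr
  rw [Nat.card_zpowers] at hj
  have hj0 : j ≠ 0 := fun h => hyC (by rw [orderOf_eq_one_iff.1 (show orderOf y = 1 by rw [hj, h, pow_zero])]; exact one_mem _)
  have hrE : r ∣ Nat.card E := (hj ▸ dvd_pow_self r hj0).trans (Subgroup.orderOf_dvd_natCard E hyE)
  have hrM : r ∣ Nat.card M := hrE.trans (Subgroup.card_dvd_of_le hE.1)
  have hrσ : r ∉ sigma M := compl_pi hG hM hE hr.out hrE
  -- `r` has rank one
  have hr13 : r ∈ tau1 M ∪ tau3 M := (classify hG hM hr.out hrσ hrM).resolve_left fun hr2 => by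
    obtain ⟨R, hR, hyR⟩ := exists_sylIn_ge hyr (Subgroup.zpowers_le.2 hyE)
    obtain ⟨P, hP⟩ := Fusion.exists_sylIn (p := p) E
    obtain ⟨-, hER⟩ := hab r hr2 R hR
    obtain ⟨hPG, hEP⟩ := hab p hp2 P hP
    refine hyC (centralizer_le_of_le (sylow_normal s hE hAE hP hPG).1 (centralizes_of_meet
      (hP.le.trans hER) le_rfl (hR.le.trans hEP) (Solv.coprime_inf (coprime_pgroup hrp hR.isPGroup hP.isPGroup))
      (hyR (Subgroup.mem_zpowers y))))
  have hr1 : PRankLE r 1 ↥M := hr13.elim (fun h => h.2.2.2.2) fun h => h.2.2.2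
  set u := y ^ (orderOf y / r) with hu
  have huo : orderOf u = r := orderOf_pow_orderOf_div (orderOf_pos y).ne' (hj ▸ dvd_pow_self r hj0)
  have huy : u ∈ Subgroup.zpowers y := pow_mem (Subgroup.mem_zpowers y) _
  have huc : Commute u y := (Commute.refl y).pow_left _
  by_cases huC : u ∈ Subgroup.centralizer (A : Set G)
  swap
  · set U := Subgroup.zpowers u with hU
    have huA : u ∈ Subgroup.normalizer (A : Set G) := Subgroup.zpowers_le.2 hyA huy
    have hUE : U ≤ E := Subgroup.zpowers_le.2 (Subgroup.zpowers_le.2 hyE huy)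
    have hfix : ∀ e ∈ U, e ≠ 1 → ∀ a ∈ A, e * a = a * e → a = 1 := by
      intro e he he1 a ha hea
      by_contra ha1
      have hec : Commute e y := by
        obtain ⟨k, rfl⟩ := Subgroup.mem_zpowers_iff.1 he
        exact huc.zpow_left k
      have hyS : y ∈ Subgroup.normalizer ((A ⊓ Subgroup.centralizer (Subgroup.zpowers e : Set G) : Subgroup G) : Set G) :=
        mem_normalizer_of_cj_le (le_of_eq (by
          rw [Fusion.cj_inf, cj_eq_self hyA, Fusion.cj_centralizer, cj_zpowers, hec.symm.eq, mul_inv_cancel_right]))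
      have hmem : a ∈ A ⊓ Subgroup.centralizer (Subgroup.zpowers e : Set G) := by
        rw [centralizer_zpowers]
        exact ⟨ha, Subgroup.mem_centralizer_singleton_iff.2 hea.symm⟩
      have hall := hirr _ inf_le_left hyS fun h => ha1 (Subgroup.mem_bot.1 (h ▸ hmem))
      refine huC (Subgroup.zpowers_le.1 ?_)
      rw [Subgroup.le_centralizer_iff]
      refine le_trans (inf_eq_left.1 hall) (le_of_eq ?_)
      have heU : Subgroup.zpowers e = U := Subgroup.eq_of_le_of_card_ge (Subgroup.zpowers_le.2 he) (by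
        rw [hU, Nat.card_zpowers, Nat.card_zpowers, huo]
        have h1 : orderOf e ∣ r := huo ▸ Nat.card_zpowers u ▸ Subgroup.orderOf_dvd_natCard U he
        exact ((hr.out.eq_one_or_self_of_dvd _ h1).resolve_left fun h => he1 (orderOf_eq_one_iff.1 h)).ge)
      rw [heU]
    have hσM : sigmaCore M ≤ M := Subgroup.map_subtype_le _
    have hn : A ⊔ U ≤ Subgroup.normalizer (sigmaCore M : Set G) :=
      (sup_le s.le (hUE.trans hE.1)).trans le_normalizer_piCoreOf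
    have hco : (Nat.card (sigmaCore M)).Coprime (Nat.card ↥(A ⊔ U : Subgroup G)) :=
      Nat.coprime_of_dvd fun t ht h1 h2 => compl_pi hG hM hE ht (h2.trans (Subgroup.card_dvd_of_le (sup_le hAE hUE)))
        ((sigmaCore_hall hG hM).1.2.1 t ht h1)
    have hf := Solv.FrobFix.formula (sigmaCore M) A U (hG.2.2.2 _ fun h => hM.1 (eq_top_iff.2 (h ▸ hσM))) hn
      (Subgroup.zpowers_le.2 huA) hfix hco
    have hU0 : sigmaCore M ⊓ Subgroup.centralizer (U : Set G) = ⊥ := by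
      rw [hU, centralizer_zpowers]
      exact h13 u (hUE (Subgroup.mem_zpowers u)) (fun h => hr.out.ne_one (by rw [← huo, h, orderOf_one]))
        fun q hq hd => (Nat.prime_dvd_prime_iff_eq hq hr.out).1 (huo ▸ hd) ▸ hr13
    rw [hU0, sigmaCore_inf_centralizer s, le_bot_iff.1 ((inf_le_inf_left _ (centralizer_le_of_le le_sup_left)).trans
      (sigmaCore_inf_centralizer s).le), Subgroup.card_bot, one_pow, one_mul, one_mul] at hf
    exact sigmaCore_ne_bot s (Subgroup.card_eq_one.1 hf)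
  -- the element of order `r` centralizes `A`
  obtain ⟨P, hP⟩ := Fusion.exists_sylIn (p := p) E
  obtain ⟨hPG, -⟩ := hab p hp2 P hP
  obtain ⟨hAP, -, -, -⟩ := sylow_normal s hE hAE hP hPG
  have hPM := compl_sylIn hG hM hE s.not_sigma hP
  have hPN : Subgroup.normalizer (P : Set G) ≤ Subgroup.normalizer (A : Set G) := by
    rw [← omz_eq s hPM hAP]; exact normalizer_le_omz P
  obtain ⟨H, hH, hNH⟩ := exists_coatom _ (normalizer_pgroup_ne_top hG (Fusion.elab_isPGroup s.elem) s.ne_bot)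
  have hPH : P ≤ H := Subgroup.le_normalizer.trans (hPN.trans hNH)
  have hAH : A ≤ H := Subgroup.le_normalizer.trans hNH
  have hyH : y ∈ H := hNH hyA
  have hyAH : Subgroup.zpowers y ≤ Subgroup.normalizer (A : Set G) := Subgroup.zpowers_le.2 hyA
  have hpσ : p ∈ sigma H := by
    obtain ⟨S, hS⟩ := exists_sylow (hPG.mono hPH le_top)
    exact ⟨hp.out, (dvd_pow_self p two_ne_zero).trans (s.card ▸ Subgroup.card_dvd_of_le hAH), S,
      by rw [hS]; exact hPN.trans hNH⟩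
  have hpb : p ∉ beta H := fun h => (not_ideal hG hM s.rank s.rank_one).1 h.2
  have hallH := (sigmaCore_hall hG hH).1
  have hAσ : A ≤ sigmaCore H :=
    le_of_hall hallH le_normalizer_piCoreOf hAH (piNum_of_pgroup (Fusion.elab_isPGroup s.elem) hpσ)
  by_cases hrH : r ∈ sigma H
  · by_cases hrb : r ∈ beta H
    · refine hyC (Subgroup.le_centralizer_iff.1 (centralizes_of_meet hyAH (le_of_hall (betaCore_hall hG hH).1
        le_normalizer_piCoreOf (Subgroup.zpowers_le.2 hyH) (piNum_of_pgroup hyr hrb))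
        (hAH.trans le_normalizer_piCoreOf) (Solv.coprime_inf (Nat.coprime_of_dvd fun t ht h1 h2 => hpb ?_)))
        (Subgroup.mem_zpowers y))
      rw [s.card] at h1
      exact (Nat.prime_dvd_prime_iff_eq ht hp.out).1 (ht.dvd_of_dvd_pow h1) ▸ (betaCore_hall hG hH).1.2.1 t ht h2
    · exact hyC (commute_derived hG hH (p := r) (r := p) (Ne.symm hrp) hrb hpb (Fusion.elab_isPGroup s.elem)
        (le_derived_of_sigma hG hH hpσ (Fusion.elab_isPGroup s.elem) hAH)
        (le_derived_of_sigma hG hH hrH hyr (Subgroup.zpowers_le.2 hyH) (Subgroup.mem_zpowers y)) hyr hyA)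
  by_cases hrH1 : PRankLE r 1 ↥H
  · refine hyC (Subgroup.le_centralizer_iff.1 (le_trans (le_inf hAσ ?_) (fixed_cyclic hG hH hrH hrH1 hyr
      (Subgroup.zpowers_le.2 hyH) inferInstance (Subgroup.zpowers_le.2 huy) (by rw [Nat.card_zpowers, huo])))
      (Subgroup.mem_zpowers y))
    exact Subgroup.le_centralizer_iff.1 (Subgroup.zpowers_le.2 huC)
  -- `r` lies in `τ₂(H)`
  have hrH2 : r ∈ tau2 H :=
    ⟨hr.out, hrH, prankLE_of_not_alpha hr.out (not_alpha_of_not_sigma hG hH hrH), hrH1⟩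
  obtain ⟨E', hE'⟩ := exists_compl hG hH
  obtain ⟨B', hB'E, sB⟩ := exists_setup_in_compl hG hH hE' hrH2
  have hHN : H ≤ Subgroup.normalizer (A : Set G) := by
    have hPσ : SylIn p P (sigmaCore H) := hPG.mono (le_of_hall hallH le_normalizer_piCoreOf hPH
      (piNum_of_pgroup hP.isPGroup hpσ)) le_top
    exact (SigmaSubgroups.sylow_of_nilpotent_normal (sigmaCore_nilpotent sB) le_normalizer_piCoreOf hPσ).trans hPN
  obtain ⟨R, hR, hyR⟩ := exists_sylIn_ge hyr (Subgroup.zpowers_le.2 hyH)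
  have hRab : IsMulCommutative ↥R := pgroup_abelian hG hH hrH hR.isPGroup hR.le
  have hRA : R ≤ Subgroup.normalizer (A : Set G) := hR.le.trans hHN
  obtain ⟨x, -, hxR⟩ := hR.conj_le (Fusion.elab_isPGroup sB.elem) sB.le
  set B := cj B' x with hB
  have hBe : IsElementaryAbelian r B := ⟨haveI := sB.elem.1; Subgroup.map_isMulCommutative B' _, by
    rintro _ ⟨z, hz, rfl⟩; rw [← map_pow, sB.elem.2 z hz, map_one]⟩
  have hBM : ¬ B ≤ M := fun h => not_prankLE_of_elab h hBe (by rw [hB, card_cj, sB.card]) hr1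
  have hCM : Subgroup.centralizer (A : Set G) ≤ M := s.centralizer_le
  obtain ⟨b, hbB, hbM⟩ := SetLike.not_le_iff_exists.1 hBM
  have hbC : b ∉ Subgroup.centralizer (A : Set G) := fun h => hbM (hCM h)
  -- a cocyclic subgroup of `R` centralizes `A`
  obtain ⟨B₀, hB₀, hB₀1⟩ : ∃ B₀ ∈ Solv.CycQuot R, A ⊓ Subgroup.centralizer (B₀ : Set G) ≠ ⊥ := by
    by_contra h
    push Not at h
    refine s.ne_bot (le_bot_iff.1 ?_)
    refine (Solv.gen_eq R A hRab hRA (coprime_pgroup hrp hR.isPGroup (Fusion.elab_isPGroup s.elem))).ge.trans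
      (iSup₂_le fun B₁ hB₁ => (h B₁ hB₁).le)
  have hB₀C : B₀ ≤ Subgroup.centralizer (A : Set G) := by
    refine Subgroup.le_centralizer_iff.1 (inf_eq_left.1 (hirr _ inf_le_left (mem_normalizer_of_cj_le (le_of_eq ?_)) hB₀1))
    rw [Fusion.cj_inf, cj_eq_self hyA, Fusion.cj_centralizer, cj_eq_self (Subgroup.centralizer_le_normalizer _
      (Subgroup.mem_centralizer_iff.2 fun z hz => congrArg Subtype.val (hRab.is_comm.comm
        (⟨z, hB₀.1 hz⟩ : R) ⟨y, hyR (Subgroup.mem_zpowers y)⟩)))]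
  obtain ⟨c, hcR, hBc⟩ := hB₀.2
  set φ := Subgroup.normalizerMonoidHom A with hφ
  have hker : ∀ {z : G} (hz : z ∈ Subgroup.normalizer (A : Set G)),
      φ ⟨z, hz⟩ = 1 ↔ z ∈ Subgroup.centralizer (A : Set G) := fun {z} hz => by
    rw [← MonoidHom.mem_ker, hφ, Subgroup.normalizerMonoidHom_ker, Subgroup.mem_subgroupOf]
  have himg : ∀ {z : G} (hz : z ∈ R), φ ⟨z, hRA hz⟩ ∈ Subgroup.zpowers (φ ⟨c, hRA hcR⟩) := by
    intro z hz
    have hz' := hBc.ge hz
    rw [← SetLike.mem_coe, Subgroup.coe_mul_of_right_le_normalizer_left _ _ (Subgroup.zpowers_le.2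
      (Subgroup.centralizer_le_normalizer _ (Subgroup.mem_centralizer_iff.2 fun w hw =>
        congrArg Subtype.val (hRab.is_comm.comm (⟨w, hB₀.1 hw⟩ : R) ⟨c, hcR⟩))))] at hz'
    obtain ⟨w, hw, v, ⟨k, rfl⟩, hzw⟩ := hz'
    simp only at hzw
    have : (⟨z, hRA hz⟩ : ↥(Subgroup.normalizer (A : Set G))) = ⟨w, hRA (hB₀.1 hw)⟩ * ⟨c, hRA hcR⟩ ^ k :=
      Subtype.ext (by rw [Subgroup.coe_mul, SubgroupClass.coe_zpow]; exact hzw.symm)
    rw [this, map_mul, map_zpow, (hker _).2 (hB₀C hw), one_mul]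
    exact Subgroup.zpow_mem_zpowers _ k
  set fy := φ ⟨y, hRA (hyR (Subgroup.mem_zpowers y))⟩ with hfy
  set fb := φ ⟨b, hRA (hxR hbB)⟩ with hfb
  have hfy1 : fy ≠ 1 := fun h => hyC ((hker _).1 h)
  have hfb1 : fb ≠ 1 := fun h => hbC ((hker _).1 h)
  have hfbo : orderOf fb = r := orderOf_eq_prime (by
    rw [hfb, ← map_pow, show (⟨b, hRA (hxR hbB)⟩ : ↥(Subgroup.normalizer (A : Set G))) ^ r = 1 from
      Subtype.ext (hBe.2 b hbB), map_one]) hfb1
  obtain ⟨i, hi⟩ : ∃ i, orderOf fy = r ^ i := by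
    have h : orderOf fy ∣ r ^ j := by
      refine hj ▸ (orderOf_map_dvd φ _).trans (dvd_of_eq ?_)
      rw [Subgroup.orderOf_mk]
    obtain ⟨i, -, hi⟩ := (Nat.dvd_prime_pow hr.out).1 h
    exact ⟨i, hi⟩
  have hi0 : i ≠ 0 := fun h => hfy1 (orderOf_eq_one_iff.1 (by rw [hi, h, pow_zero]))
  have hw : orderOf (fy ^ (orderOf fy / r)) = r :=
    orderOf_pow_orderOf_div (orderOf_pos fy).ne' (hi ▸ dvd_pow_self r hi0)
  have heq : Subgroup.zpowers fb = Subgroup.zpowers (fy ^ (orderOf fy / r)) :=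
    cyclic_eq (P := Subgroup.zpowers (φ ⟨c, hRA hcR⟩)) inferInstance
      (Subgroup.zpowers_le.2 (himg (hxR hbB)))
      (Subgroup.zpowers_le.2 (pow_mem (himg (hyR (Subgroup.mem_zpowers y))) _))
      (by rw [Nat.card_zpowers, hfbo]) (by rw [Nat.card_zpowers, hw])
  obtain ⟨k, hk⟩ := Subgroup.mem_zpowers_iff.1
    ((Subgroup.zpowers_le.2 (pow_mem (Subgroup.mem_zpowers fy) _)) (heq ▸ Subgroup.mem_zpowers fb))
  have h1 : b * (y ^ k)⁻¹ ∈ Subgroup.centralizer (A : Set G) := by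
    refine (hker (Subgroup.mul_mem _ (hRA (hxR hbB)) (Subgroup.inv_mem _ (Subgroup.zpow_mem _ hyA k)))).1 ?_
    have : (⟨b * (y ^ k)⁻¹, Subgroup.mul_mem _ (hRA (hxR hbB)) (Subgroup.inv_mem _ (Subgroup.zpow_mem _ hyA k))⟩ :
        ↥(Subgroup.normalizer (A : Set G))) = ⟨b, hRA (hxR hbB)⟩ * (⟨y, hyA⟩ ^ k)⁻¹ := Subtype.ext (by simp)
    rw [this, map_mul, map_inv, map_zpow, mul_inv_eq_one]
    exact hk.symm
  refine hbM ?_
  have := Subgroup.mul_mem _ (hCM h1) (Subgroup.zpow_mem _ (hE.1 hyE) k)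
  simpa using this

end Cfsg.Agent.OddLocal.TauTwo
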