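import Cfsg.Agent.Lib.OddLocal.SigmaPairFix
import Cfsg.Agent.Lib.OddLocal.TauTwoLines
import Cfsg.Agent.Lib.Local.FS.Omega

/-!
No `Pair` exists.
-/

set_option autoImplicit false
set_option linter.style.haveILetI false

namespace Cfsg.Agent.OddLocal.Disjoint

open scoped Pointwise commutatorElement
open Cfsg
open Cfsg.Agent.Fusion (SylIn cj cj_cj cj_eq_self cj_mono card_cj isPGroup_cj exists_sylIn_ge exists_sylIn
  mem_normalizer_of_cj_le)
open Cfsg.Agent.OddLocal.Uniq
open Cfsg.Agent.OddLocal.Sig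
open Cfsg.Agent.OddLocal.RankTwo
open Cfsg.Agent.OddLocal.TauTwo

universe u

variable {G : Type u} [Group G] [Finite G] {p : ℕ} [hp : Fact p.Prime] {M L S : Subgroup G}

omit hp in
/-- Elements of order `r` of a subgroup of rank two lie in an elementary subgroup of order `r²` they centralize. -/
theorem elab_full {r : ℕ} [Fact r.Prime] {A Z : Subgroup G} (hAe : IsElementaryAbelian r A)
    (hA : Nat.card A = r ^ 2) (hAZ : A ≤ Z) (hr : PRankLE r 2 ↥Z) {e : G} (he : e ∈ Z)
    (heC : e ∈ Subgroup.centralizer (A : Set G)) (her : e ^ r = 1) : e ∈ A := by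
  by_contra hne
  refine not_prankLE_of_elab (k := 2) (sup_le hAZ (Subgroup.zpowers_le.2 he)) (elab_sup hAe heC her) ?_ hr
  obtain ⟨j, hj⟩ := IsPGroup.iff_card.1 (Fusion.elab_isPGroup (elab_sup hAe heC her))
  have hlt : Nat.card A < Nat.card (A ⊔ Subgroup.zpowers e : Subgroup G) :=
    Set.Finite.card_lt_card (Set.toFinite _) (SetLike.coe_ssubset_coe.2 (lt_of_le_of_ne le_sup_left
      fun h : A = A ⊔ Subgroup.zpowers e => hne (h.symm ▸ Subgroup.mem_sup_right (Subgroup.mem_zpowers e))))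
  rw [hA, hj, Nat.pow_lt_pow_iff_right (Fact.out : r.Prime).one_lt] at hlt
  exact hj ▸ Nat.pow_le_pow_right (Fact.out : r.Prime).pos hlt

omit hp in
/-- A coprime action trivial on the elements of order `r` of an abelian `r`-group is trivial. -/
theorem centralizes_of_omega {r : ℕ} [hr : Fact r.Prime] {X A : Subgroup G} (hX : IsPGroup r X)
    (hab : IsMulCommutative ↥X) (hA : A ≤ Subgroup.normalizer (X : Set G))
    (hco : (Nat.card A).Coprime (Nat.card X)) (h : ∀ e ∈ X, e ^ r = 1 → e ∈ Subgroup.centralizer (A : Set G)) :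
    X ≤ Subgroup.centralizer (A : Set G) := by
  have hsol : Group.IsSolvable A ∨ Group.IsSolvable X := Or.inr (by haveI := hX.isNilpotent; infer_instance)
  have hinf := Solv.PLenFix.commutator_inf_centralizer X A hab hA hco
  have hsup := Solv.commutator_sup_fixed hA hco hsol
  suffices hb : ⁅X, A⁆ = ⊥ by
    rw [hb, bot_sup_eq] at hsup
    exact hsup.ge.trans inf_le_right
  by_contra hne
  have hle : ⁅X, A⁆ ≤ X := (Solv.commutator_normal_in hA).1
  obtain ⟨j, hj⟩ := IsPGroup.iff_card.1 (hX.to_le hle)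
  obtain ⟨⟨e, he⟩, heo⟩ := exists_prime_orderOf_dvd_card' r
    (hj ▸ dvd_pow_self r (fun h0 => hne (Subgroup.card_eq_one.1 (by rw [hj, h0, pow_zero]))) : r ∣ Nat.card ↥⁅X, A⁆)
  rw [Subgroup.orderOf_mk] at heo
  have h1 : e ∈ (⊥ : Subgroup G) := hinf ▸
    Subgroup.mem_inf.2 ⟨he, h e (hle he) (heo ▸ pow_orderOf_eq_one e)⟩
  exact hr.out.ne_one (by rw [← heo, Subgroup.mem_bot.1 h1, orderOf_one])

/-- The fixed points on `S` of an element moving it are cyclic. -/
theorem Pair.fixed_cyclic (P : Pair p M L S) {x : G} (hx : x ∈ Subgroup.normalizer (S : Set G)) {r : ℕ}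
    [hr : Fact r.Prime] (hxo : orderOf x = r) (hrp : r ≠ p) (hxm : x ∉ Subgroup.centralizer (S : Set G)) :
    IsCyclic ↥(S ⊓ Subgroup.centralizer (Subgroup.zpowers x : Set G) : Subgroup G) := by
  by_contra hnc
  obtain ⟨A, hA, hAe, hAc⟩ := exists_elab_sq P.ne_two (P.syl.isPGroup.to_le inf_le_left) hnc
  refine hxm (Subgroup.le_centralizer_iff.1 (centralizes_of_omega P.syl.isPGroup P.abelian
    (Subgroup.zpowers_le.2 hx) ?_ fun e he hep => (hA (elab_full hAe hAc ((hA.trans inf_le_left).trans P.leM) P.rank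
      (P.leM he) (Subgroup.mem_centralizer_iff.2 fun a ha => P.commute ((hA.trans inf_le_left) ha) he) hep)).2)
    (Subgroup.mem_zpowers x))
  obtain ⟨j, hj⟩ := IsPGroup.iff_card.1 P.syl.isPGroup
  rw [zpowers_card hxo, hj]
  exact ((Nat.coprime_primes hr.out hp.out).2 hrp).pow_right j

/-- An element of order `p` of the derived subgroup centralizes an elementary subgroup of order `q²`. -/
theorem exists_sq_centralized {q : ℕ} [hq : Fact q.Prime] (hqp : q ≠ p) (hG : IsMinSimpleOddOrder G)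
    {H : Subgroup G} (hH : IsCoatom H) (hσq : q ∉ sigma H) (hσp : p ∉ sigma H) (hr : ¬ PRankLE q 1 ↥H) {b : G}
    (hb : b ∈ ⁅H, H⁆) (hbo : orderOf b = p) :
    ∃ B : Subgroup G, IsElementaryAbelian q B ∧ Nat.card B = q ^ 2 ∧
      B ≤ Subgroup.centralizer (Subgroup.zpowers b : Set G) := by
  obtain ⟨E, hE⟩ := exists_compl hG hH
  obtain ⟨B, hBE, s⟩ := exists_setup_in_compl hG hH hE
    ⟨hq.out, hσq, prankLE_of_not_alpha hq.out (not_alpha_of_not_sigma hG hH hσq), hr⟩
  have hbH : b ∈ H := Subgroup.commutator_le_self H hb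
  obtain ⟨R, hR⟩ := exists_sylIn (p := p) E
  obtain ⟨g, hg, hle⟩ := (compl_sylIn hG hH hE hσp hR).conj_le (isPGroup_of_card (zpowers_card hbo))
    (Subgroup.zpowers_le.2 hbH)
  set c := g * b * g⁻¹ with hc
  have hcE : c ∈ ⁅E, E⁆ := by
    refine compl_inf_derived hE ⟨hR.le (hle (Fusion.conj_mem_cj (Subgroup.mem_zpowers b))), ?_⟩
    have h1 : c ∈ cj ⁅H, H⁆ g := Fusion.conj_mem_cj hb
    rwa [Fusion.cj_commutator, Fusion.cj_eq_self_of_mem hg] at h1
  have hEN : E ≤ Subgroup.normalizer (B : Set G) := (complement_tau2 s hE hBE).1.1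
  set φ := (Subgroup.normalizerMonoidHom B).comp (Subgroup.inclusion hEN) with hφ
  haveI : Group.IsSolvable ↥E := Solv.isSolvable_of_le hE.1 (hG.2.2.2 H hH.1)
  haveI : Group.IsSolvable ↥φ.range := Group.isSolvable_of_surjective φ.rangeRestrict_surjective
  have hodd : Odd (Nat.card ↥φ.range) := Odd.of_dvd_nat (odd_subgroup hG E) (Subgroup.card_range_dvd φ)
  have hrk : PRankLE q 2 ↥B := fun C _ _ =>
    (Nat.le_of_dvd Nat.card_pos (Subgroup.card_subgroup_dvd_card C)).trans s.card.le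
  have h := Solv.RankTwo.commutator_rank_two s.ne_two (Fusion.elab_isPGroup s.elem) hrk hodd φ.range.subtype
    φ.range.subtype_injective
  rw [← Subgroup.map_subtype_commutator] at hcE
  obtain ⟨c', hc', hce⟩ := hcE
  have h1 : φ.rangeRestrict c' ∈ commutator ↥φ.range := by
    have h2 : φ.rangeRestrict c' ∈ (commutator ↥E).map φ.rangeRestrict := Subgroup.mem_map_of_mem _ hc'
    rwa [commutator_def, Subgroup.map_commutator,
      Subgroup.map_top_of_surjective _ φ.rangeRestrict_surjective, ← commutator_def] at h2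
  obtain ⟨j, hj⟩ := IsPGroup.iff_card.1 h
  have h3 : orderOf (φ.rangeRestrict c') ∣ q ^ j := hj ▸ Subgroup.orderOf_dvd_natCard _ h1
  have hco : orderOf c = p := (orderOf_injective (MulAut.conj g).toMonoidHom (MulAut.conj g).injective b).trans hbo
  have h4 : orderOf (φ.rangeRestrict c') ∣ p := by
    refine (orderOf_map_dvd _ _).trans ?_
    rw [← Subgroup.orderOf_coe]
    exact (hce ▸ hco).dvd
  have h5 : φ c' = 1 := congrArg Subtype.val (orderOf_eq_one_iff.1 (Nat.eq_one_of_dvd_coprimes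
    (((Nat.coprime_primes hq.out hp.out).2 hqp).pow_left j) h3 h4))
  have hcC : c ∈ Subgroup.centralizer (B : Set G) := by
    have h6 : Subgroup.inclusion hEN c' ∈ (Subgroup.normalizerMonoidHom B).ker := h5
    rw [Subgroup.normalizerMonoidHom_ker, Subgroup.mem_subgroupOf] at h6
    exact hce ▸ h6
  refine ⟨cj B g⁻¹, elab_cj s.elem _, by rw [card_cj, s.card], Subgroup.le_centralizer_iff.1 (Subgroup.zpowers_le.2 ?_)⟩
  rw [← Fusion.cj_centralizer]
  have h7 := Fusion.conj_mem_cj (g := g⁻¹) hcC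
  rwa [hc, show g⁻¹ * (g * b * g⁻¹) * g⁻¹⁻¹ = b by group] at h7

/-- The derived subgroup of another maximal subgroup over `S` does not contain an element moving `S`. -/
theorem Pair.derived_not_mover (P : Pair p M L S) {x : G} (hx : x ∈ Subgroup.normalizer (S : Set G)) {r : ℕ}
    [hr : Fact r.Prime] (hxo : orderOf x = r) (hrp : r ≠ p) (hxm : x ∉ Subgroup.centralizer (S : Set G))
    (hnc : ¬ IsCyclic ↥S) {K : Subgroup G} (hK : IsCoatom K) (hSK : S ≤ K) (hxK : x ∈ ⁅K, K⁆) : False := by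
  by_cases hσ : p ∈ sigma K
  · by_cases hMK : M = K
    · exact hxm (P.derived_centralizes (hMK ▸ hxK) hx)
    · exact hxm ((P.extend hK hσ hSK hMK).symm.derived_centralizes hxK hx)
  obtain ⟨A, hAS, hAe, hA⟩ := P.exists_A hnc
  have s := P.setup hK hσ (hAS.trans hSK) hAe hA
  have hSN : Subgroup.normalizer (S : Set G) ≤ Subgroup.normalizer (A : Set G) := fun g hg =>
    mem_normalizer_of_cj_le fun a ha => by
      have haS : a ∈ S := ((cj_mono hAS g).trans (cj_eq_self hg).le) ha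
      exact elab_full hAe hA (hAS.trans P.leM) P.rank (P.leM haS)
        (Subgroup.mem_centralizer_iff.2 fun c hc => P.commute (hAS hc) haS) ((elab_cj hAe g).2 a ha)
  have hCN : ⁅Subgroup.normalizer (A : Set G), Subgroup.normalizer (A : Set G)⁆ ≤ Subgroup.centralizer (A : Set G) :=
    commutator_le_centralizer_A s P.syl fun a ha =>
      Subgroup.mem_centralizer_iff.2 fun c hc => P.commute (hAS hc) ha
  have hxC : x ∈ Subgroup.centralizer (A : Set G) := by
    obtain ⟨E, hE⟩ := exists_compl P.minSimple hK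
    obtain ⟨R, hR⟩ := exists_sylIn (p := p) E
    obtain ⟨g, hg, hle⟩ := (compl_sylIn P.minSimple hK hE hσ hR).conj_le (Fusion.elab_isPGroup hAe) (hAS.trans hSK)
    have hgi : g⁻¹ ∈ K := K.inv_mem hg
    have hE' : IsComplIn (cj E g⁻¹) (sigmaCore K) K := by
      obtain ⟨h1, h2, h3, h4⟩ := hE
      have hn : g⁻¹ ∈ Subgroup.normalizer (sigmaCore K : Set G) := le_normalizer_piCoreOf hgi
      refine ⟨(cj_mono h1 _).trans (Fusion.cj_eq_self_of_mem hgi).le, h2, ?_, fun m hm => ?_⟩
      · rw [← cj_eq_self hn, ← Fusion.cj_inf, h3]; exact Subgroup.map_bot _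
      · obtain ⟨a, ha, c, hc, e⟩ := h4 (g * m * g⁻¹) (K.mul_mem (K.mul_mem hg hm) hgi)
        refine ⟨g⁻¹ * a * g⁻¹⁻¹, Fusion.conj_mem_cj ha, g⁻¹ * c * g⁻¹⁻¹, ?_, ?_⟩
        · exact (cj_eq_self hn).le (Fusion.conj_mem_cj hc)
        · calc m = g⁻¹ * (g * m * g⁻¹) * g := by group
            _ = g⁻¹ * (a * c) * g := by rw [e]
            _ = _ := by group
    have hAE : A ≤ cj E g⁻¹ := by
      have h1 := cj_mono (hle.trans hR.le) g⁻¹
      rwa [Fusion.cj_cj_inv] at h1
    obtain ⟨⟨hEN, -⟩, ⟨-, heq, -⟩, -⟩ := complement_tau2 s hE' hAE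
    exact hCN (Subgroup.commutator_mono hEN hEN (compl_inf_derived hE'
      ⟨heq.le ⟨Subgroup.commutator_le_self K hxK, hSN hx⟩, hxK⟩))
  exact noncyclic_of_card hAe hA.ge ((fun hc => by
    haveI := hc
    exact isCyclic_of_injective (Subgroup.inclusion (le_inf hAS fun a ha => mem_centralizer_zpowers.2
      (Subgroup.mem_centralizer_iff.1 hxC a ha).symm)) (Subgroup.inclusion_injective _))
    (P.fixed_cyclic hx hxo hrp hxm))

/-- The configuration of a line of `S` fixed by `x` and moved by `R`. -/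
structure Config (S : Subgroup G) (x b R : G) (p r q k : ℕ) : Prop where
  x_order : orderOf x = r
  x_mem : x ∈ Subgroup.normalizer (S : Set G)
  x_move : x ∉ Subgroup.centralizer (S : Set G)
  b_mem : b ∈ S
  b_order : orderOf b = p
  comm_b : x * b = b * x
  R_mem : R ∈ Subgroup.normalizer (S : Set G)
  R_order : orderOf R = q ^ k
  comm_R : x * R = R * x
  R_move : R * b ≠ b * R
  kind : q = r ∨ k = 1

theorem Pair.config_false (P : Pair p M L S) (hnc : ¬ IsCyclic ↥S) {x b R : G} {r q k : ℕ}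
    [hr : Fact r.Prime] [hq : Fact q.Prime] (c : Config S x b R p r q k) {z : G} {t : ℕ}
    (gz : Gen L S x z t) : False := by
  classical
  have hG := P.minSimple
  obtain ⟨hrp, hrM, hrL⟩ := P.mover_prime c.x_mem (k := 1) hr.out (by rw [c.x_order, pow_one]) c.x_move
  haveI := Fact.mk gz.prime
  obtain ⟨kt, hkt⟩ := gz.pow
  have hRm : R ∉ Subgroup.centralizer (S : Set G) := fun h => c.R_move
    (Subgroup.mem_centralizer_iff.1 h b c.b_mem).symm
  obtain ⟨hqp, hqM, hqL⟩ := P.mover_prime c.R_mem hq.out c.R_order hRm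
  set Zb := Subgroup.zpowers b with hZb
  have hbp : IsPGroup p ↥Zb := isPGroup_of_card (zpowers_card c.b_order)
  obtain ⟨H, hH, hNH⟩ := exists_coatom _ (normalizer_pgroup_ne_top hG (isPGroup_of_card (zpowers_card c.x_order))
    (ne_bot_of_card (zpowers_card c.x_order)))
  have hCH : ∀ {g : G}, x * g = g * x → g ∈ H := fun h =>
    hNH (Subgroup.centralizer_le_normalizer _ (mem_centralizer_zpowers.2 h))
  have hxH : x ∈ H := hCH rfl
  have hbH : b ∈ H := hCH c.comm_b
  have hRH : R ∈ H := hCH c.comm_R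
  have hzH : z ∈ H := hCH gz.comm
  have hHM := P.over_normalizer c.x_order hrM hH hNH
  have hHL := P.symm.over_normalizer c.x_order hrL hH hNH
  by_cases hσ : p ∈ sigma H
  · -- the case of a prime of `σ(H)`
    obtain ⟨S₁, hS₁⟩ := exists_sylIn (p := p) H
    obtain ⟨g, -, hgS⟩ := (sigma_sylow hσ hS₁).1.conj_eq P.syl
    have hH' : IsCoatom (cj H g) := (OrderIso.isCoatom_iff (MulEquiv.mapSubgroup (MulAut.conj g)) H).2 hH
    have hσ' : p ∈ sigma (cj H g) := sigma_of_cj (g := g⁻¹) (by rw [Fusion.cj_cj_inv]; exact hσ)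
    have hne : M ≠ cj H g := fun h => hHM g⁻¹ (by rw [h, Fusion.cj_cj_inv])
    have P' := (P.extend hH' hσ' (hgS ▸ cj_mono hS₁.le g) hne).symm
    have htH : t ∉ sigma H := (P.beta_rank_one c.x_order hrL hH hNH gz.mem_beta).1
    have htβ : t ∉ beta (cj H g) := fun h =>
      htH (sigma_of_cj (alpha_subset_sigma hG hH' (beta_subset_alpha h)))
    have hzo : orderOf (g * z * g⁻¹) = t ^ kt := by
      rw [← hkt]
      exact orderOf_injective (MulAut.conj g).toMonoidHom (MulAut.conj g).injective z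
    obtain ⟨a, ha, hle⟩ := P'.conj_normalizer htβ
      (IsPGroup.of_card (n := kt) (zpowers_card hzo) : IsPGroup t ↥(Subgroup.zpowers (g * z * g⁻¹)))
      (Subgroup.zpowers_le.2 (Fusion.conj_mem_cj hzH))
    have hw := P.centralizes_of_sigma (hle (Fusion.conj_mem_cj (Subgroup.mem_zpowers _))) gz.prime
      ((orderOf_injective (MulAut.conj a).toMonoidHom (MulAut.conj a).injective _).trans hzo)
      (alpha_subset_sigma hG P.coatomL (beta_subset_alpha gz.mem_beta))
    set S' := cj S (g⁻¹ * a⁻¹) with hS'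
    have hzS' : z ∈ Subgroup.centralizer (S' : Set G) := by
      rw [hS', ← Fusion.cj_centralizer]
      have h1 := Fusion.conj_mem_cj (g := g⁻¹ * a⁻¹) hw
      rwa [show g⁻¹ * a⁻¹ * (a * (g * z * g⁻¹) * a⁻¹) * (g⁻¹ * a⁻¹)⁻¹ = z by group] at h1
    have hS'L : S' ≤ L := fun s hs => gz.normalizer_le (Subgroup.centralizer_le_normalizer _
      (mem_centralizer_zpowers.2 (Subgroup.mem_centralizer_iff.1 hzS' s hs).symm))
    have hS'H : S' ≤ H := by
      rw [hS', ← cj_cj]
      have h1 : cj S a⁻¹ ≤ cj H g := by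
        refine (cj_mono ?_ _).trans (Fusion.cj_eq_self_of_mem (Subgroup.inv_mem _ ha)).le
        rw [← hgS]; exact cj_mono hS₁.le g
      have h2 := cj_mono h1 g⁻¹
      rwa [Fusion.cj_cj_inv] at h2
    have hsyl : SylIn p S' ⊤ := P.syl.cj' (mem_normalizer_of_cj_le le_top)
    have hne' : H ≠ L := fun h => hHL 1 (by rw [h, Fusion.cj_one])
    have P'' : Pair p H L S' :=
      ⟨hG, hH, P.coatomL, hne', hσ, P.sigmaL, P.not_alpha_of, P.alphaL, hsyl, hS'H, hS'L⟩
    exact P.gen_false c.x_order c.x_mem hrL gz hsyl hS'L (P''.inf_le_inf hxH (P.normalizer_le c.x_mem).2) hzS'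
  -- the case of a prime outside `σ(H)`
  have hfix := P.fixed_cyclic c.x_mem c.x_order hrp c.x_move
  have hRb : R * b * R⁻¹ ∈ Zb := by
    have hmem : R * b * R⁻¹ ∈ S ⊓ Subgroup.centralizer (Subgroup.zpowers x : Set G) := by
      refine ⟨(Subgroup.mem_normalizer_iff.1 c.R_mem b).1 c.b_mem, mem_centralizer_zpowers.2 ?_⟩
      have h1 : Commute x R := c.comm_R
      exact ((h1.mul_right c.comm_b).mul_right h1.inv_right).eq
    have ho : orderOf (R * b * R⁻¹) = p :=
      (orderOf_injective (MulAut.conj R).toMonoidHom (MulAut.conj R).injective b).trans c.b_order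
    rw [hZb, ← cyclic_eq hfix (Subgroup.zpowers_le.2 hmem)
      (Subgroup.zpowers_le.2 ⟨c.b_mem, mem_centralizer_zpowers.2 c.comm_b⟩)
      (zpowers_card ho) (zpowers_card c.b_order)]
    exact Subgroup.mem_zpowers _
  have hcb : ⁅R, b⁆ ∈ Zb := by
    rw [commutatorElement_def]
    exact Subgroup.mul_mem _ hRb (Subgroup.inv_mem _ (Subgroup.mem_zpowers b))
  have hcb1 : ⁅R, b⁆ ≠ 1 := fun h => c.R_move (commutatorElement_eq_one_iff_mul_comm.1 h)
  have hbg : b ∈ Subgroup.zpowers ⁅R, b⁆ := mem_zpowers_of_order hp.out c.b_order hcb hcb1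
  have hbD : b ∈ ⁅H, H⁆ := Subgroup.zpowers_le.2 (Subgroup.commutator_mem_commutator hRH hbH) hbg
  have hσcore : H ≤ Subgroup.normalizer (sigmaCore H : Set G) := le_normalizer_piCoreOf
  have hpcore : ¬ p ∣ Nat.card (sigmaCore H) := fun h => hσ ((sigmaCore_hall hG hH).1.2.1 p hp.out h)
  have hqH : q ∉ sigma H := fun h => by
    have hRc : R ∈ sigmaCore H := le_of_hall (sigmaCore_hall hG hH).1 le_normalizer_piCoreOf
      (Subgroup.zpowers_le.2 hRH) (piNum_of_pgroup
        (IsPGroup.of_card (n := k) (zpowers_card c.R_order)) h) (Subgroup.mem_zpowers R)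
    have h1 : ⁅R, b⁆ ∈ sigmaCore H := by
      rw [commutatorElement_def, mul_assoc, mul_assoc, ← mul_assoc b]
      exact Subgroup.mul_mem _ hRc ((Subgroup.mem_normalizer_iff.1 (hσcore hbH) _).1 (Subgroup.inv_mem _ hRc))
    exact hpcore (c.b_order ▸ Subgroup.orderOf_dvd_natCard _ (Subgroup.zpowers_le.2 h1 hbg))
  obtain ⟨K, hK, hNK⟩ := exists_coatom _ (normalizer_pgroup_ne_top hG hbp (ne_bot_of_card (zpowers_card c.b_order)))
  have hCK : Subgroup.centralizer (Zb : Set G) ≤ K := (Subgroup.centralizer_le_normalizer _).trans hNK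
  have hSK : S ≤ K := fun s hs => hCK (mem_centralizer_zpowers.2 (P.commute c.b_mem hs))
  have hxK : x ∈ K := hCK (mem_centralizer_zpowers.2 c.comm_b.symm)
  have hRn : R ∈ Subgroup.normalizer (Zb : Set G) := mem_normalizer_of_cj_le (by
    rw [hZb, Fusion.cj, MonoidHom.map_zpowers, Subgroup.zpowers_le]; exact hRb)
  have hrK : PRankLE r 1 ↥K := P.no_sq hnc hK hSK c.x_mem c.x_order c.x_move hxK
  by_cases hrH : r ∉ sigma H
  · obtain ⟨B, hBe, hBc, hBC⟩ := exists_sq_centralized hrp hG hH hrH hσ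
      (order_p_normalizer hG hH hrH (zpowers_card c.x_order) hNH).1.2 hbD c.b_order
    exact not_prankLE_of_elab (hBC.trans hCK) hBe hBc.ge hrK
  push Not at hrH
  have hqr : q ≠ r := fun h => hqH (h ▸ hrH)
  have hk1 : k = 1 := c.kind.resolve_left hqr
  have hRo : orderOf R = q := by rw [c.R_order, hk1, pow_one]
  have hqK : PRankLE q 1 ↥K := P.no_sq hnc hK hSK c.R_mem hRo hRm (hNK hRn)
  have hq2H : PRankLE q 1 ↥H := by
    by_contra hr2
    obtain ⟨B, hBe, hBc, hBC⟩ := exists_sq_centralized hqp hG hH hqH hσ hr2 hbD c.b_order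
    exact not_prankLE_of_elab (hBC.trans hCK) hBe hBc.ge hqK
  have hxσ : x ∈ sigmaCore H := le_of_hall (sigmaCore_hall hG hH).1 le_normalizer_piCoreOf
    (Subgroup.zpowers_le.2 hxH) (piNum_of_pgroup (isPGroup_of_card (zpowers_card c.x_order)) hrH)
    (Subgroup.mem_zpowers x)
  have hx1 : x ≠ 1 := fun h => hr.out.ne_one (by rw [← c.x_order, h, orderOf_one])
  have hp1 : PRankLE p 1 ↥H := by
    by_contra hr2
    obtain ⟨B, hBH, hBe, hBc⟩ := exists_sq hr2
    obtain ⟨T, hT, hbT⟩ := exists_sylIn_ge hbp (Subgroup.zpowers_le.2 hbH)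
    obtain ⟨m, hm, hmT⟩ := hT.conj_le (Fusion.elab_isPGroup hBe) hBH
    have s : Setup p H (cj B m) := ⟨hG, hH, hσ, hmT.trans hT.le, elab_cj hBe m, by rw [card_cj, hBc]⟩
    have hbB : b ∈ cj B m := (omega_iff s hT hmT b (hbT (Subgroup.mem_zpowers b))).1
      (c.b_order ▸ pow_orderOf_eq_one b)
    have hBK : cj B m ≤ K := ((Subgroup.le_centralizer_iff.1 (Subgroup.zpowers_le.2 (s.le_centralizer hbB)))).trans hCK
    by_cases hKH : K = H
    · obtain ⟨A, hAS, hAe, hA⟩ := P.exists_A hnc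
      have hne' : L ≠ H := fun h => hHL 1 (by rw [Fusion.cj_one]; exact h.symm)
      exact hx1 (Subgroup.mem_bot.1 (sigmaCore_inf_coatom (P.setup hH hσ (hAS.trans (hKH ▸ hSK)) hAe hA) P.coatomL
        hne' (hAS.trans P.leL) ▸ ⟨hxσ, (P.normalizer_le c.x_mem).2⟩))
    · exact hx1 (Subgroup.mem_bot.1 (sigmaCore_inf_coatom s hK hKH hBK ▸ ⟨hxσ, hxK⟩))
  -- an invariant Sylow subgroup for `r`
  set A := Zb ⊔ Subgroup.zpowers R with hA
  have hRZ : Subgroup.zpowers R ≤ Subgroup.normalizer (Zb : Set G) := Subgroup.zpowers_le.2 hRn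
  have hAH : A ≤ H := sup_le (Subgroup.zpowers_le.2 hbH) (Subgroup.zpowers_le.2 hRH)
  have hcoA : ∀ {n : ℕ}, ¬ p ∣ n → ¬ q ∣ n → (Nat.card A).Coprime n := fun hpn hqn => by
    refine (Nat.Coprime.mul_left ((Nat.Prime.coprime_iff_not_dvd hp.out).2 hpn)
      ((Nat.Prime.coprime_iff_not_dvd hq.out).2 hqn)).coprime_dvd_left ?_
    have h1 := Solv.card_sup_mul_card_inf' Zb (Subgroup.zpowers R) hRZ
    rw [zpowers_card c.b_order, zpowers_card hRo] at h1
    exact ⟨_, h1.symm⟩
  have hall := (sigmaCore_hall hG hH).1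
  have hcoσ : (Nat.card A).Coprime (Nat.card (sigmaCore H)) :=
    hcoA hpcore fun h => hqH (hall.2.1 q hq.out h)
  have hsolA : Group.IsSolvable ↥A := Solv.isSolvable_of_le hAH (hG.2.2.2 H hH.1)
  obtain ⟨T, hT₀, hxT', hAT⟩ := Solv.exists_invariant_sylow_ge (p := r) (hAH.trans hσcore) hcoσ (Or.inl hsolA)
    (Subgroup.zpowers x) (Subgroup.zpowers_le.2 hxσ) (isPGroup_of_card (zpowers_card c.x_order))
    (sup_le ((Subgroup.zpowers_le.2 (mem_centralizer_zpowers.2 c.comm_b)).trans (Subgroup.centralizer_le_normalizer _))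
      ((Subgroup.zpowers_le.2 (mem_centralizer_zpowers.2 c.comm_R)).trans (Subgroup.centralizer_le_normalizer _)))
  have hσH : sigmaCore H ≤ H := Subgroup.map_subtype_le _
  have hT : SylIn r T H := ⟨hT₀.1.trans hσH, hT₀.isPGroup, by
    rw [← Subgroup.relIndex_mul_relIndex T (sigmaCore H) H hT₀.1 hσH]
    exact hr.out.prime.not_dvd_mul (sylIn_of_isSylIn hT₀).not_dvd (hall.2.2 r hr.out hrH)⟩
  obtain ⟨hTtop, hTne, hTN⟩ := sigma_sylow hrH hT
  have hxT : x ∈ T := hxT' (Subgroup.mem_zpowers x)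
  have hr2 : r ≠ 2 := Uniq.ne_two hG hT.isPGroup hTne
  have hcoT : (Nat.card A).Coprime (Nat.card T) := hcoσ.coprime_dvd_right (Subgroup.card_dvd_of_le hT₀.1)
  have hRT : R ∈ Subgroup.normalizer (T : Set G) := hAT (Subgroup.mem_sup_right (Subgroup.mem_zpowers R))
  have hbT : b ∈ Subgroup.normalizer (T : Set G) := hAT (Subgroup.mem_sup_left (Subgroup.mem_zpowers b))
  -- `b` centralizes the Sylow subgroup
  have hbCT : b ∈ Subgroup.centralizer (T : Set G) := by
    by_cases hCR : IsCyclic ↥(T ⊓ Subgroup.centralizer (Subgroup.zpowers R : Set G) : Subgroup G)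
    · -- a detecting subgroup
      set φ := (Subgroup.normalizerMonoidHom T).comp (Subgroup.inclusion hAT) with hφ
      obtain ⟨D, hDinv, -, hDom, hDdet⟩ := Local.FS.exists_detect hT.isPGroup φ.range
      set D' := D.map T.subtype with hD'
      have hDT : D' ≤ T := Subgroup.map_subtype_le D
      have hinv : A ≤ Subgroup.normalizer (D' : Set G) := fun a ha => mem_normalizer_of_cj_le (by
        rintro _ ⟨_, ⟨d, hd, rfl⟩, rfl⟩
        exact ⟨_, hDinv (φ ⟨a, ha⟩) ⟨_, rfl⟩ d hd, rfl⟩)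
      have hDexp : ∀ d ∈ D', d ^ r = 1 := by
        rintro _ ⟨d, hd, rfl⟩
        rw [← map_pow, (hDom d hd).resolve_right (fun h => hr2 h.1), map_one]
      have hcoD : (Nat.card A).Coprime (Nat.card D') := hcoT.coprime_dvd_right (Subgroup.card_dvd_of_le hDT)
      have key := Solv.FrobFix.formula D' Zb (Subgroup.zpowers R)
        (Solv.isSolvable_of_le (hDT.trans hT.le) (hG.2.2.2 H hH.1)) hinv hRZ
        (fun e he he1 u hu h => by
          by_contra hu1
          obtain ⟨i, rfl⟩ := Subgroup.mem_zpowers_iff.1 (mem_zpowers_of_order hq.out hRo he he1)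
          obtain ⟨j, rfl⟩ := Subgroup.mem_zpowers_iff.1 (mem_zpowers_of_order hp.out c.b_order hu hu1)
          exact c.R_move ((show Commute e u from h).zpow_zpow i j).eq) hcoD.symm
      have he : D' ⊓ Subgroup.centralizer ((Zb ⊔ Subgroup.zpowers R : Subgroup G) : Set G) =
          D' ⊓ Subgroup.centralizer (Subgroup.zpowers R : Set G) := by
        refine le_antisymm (inf_le_inf_left _ (centralizer_le_of_le le_sup_right)) fun d hd => ?_
        refine Subgroup.mem_inf.2 ⟨hd.1, Subgroup.le_centralizer_iff.1 (sup_le ?_ ?_) (Subgroup.mem_zpowers d)⟩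
        swap
        · exact Subgroup.le_centralizer_iff.1 (Subgroup.zpowers_le.2 hd.2)
        refine Subgroup.le_centralizer_iff.1 (Subgroup.zpowers_le.2 (mem_centralizer_zpowers.2 ?_))
        by_cases hd1 : d = 1
        · rw [hd1, mul_one, one_mul]
        have hdo : orderOf d = r := orderOf_eq_prime (hDexp d hd.1) hd1
        have h1 : Subgroup.zpowers d = Subgroup.zpowers x := cyclic_eq hCR
          (Subgroup.zpowers_le.2 ⟨hDT hd.1, hd.2⟩) (Subgroup.zpowers_le.2 ⟨hxT, mem_centralizer_zpowers.2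
            c.comm_R.symm⟩) (zpowers_card hdo) (zpowers_card c.x_order)
        obtain ⟨i, rfl⟩ := Subgroup.mem_zpowers_iff.1 (h1 ▸ Subgroup.mem_zpowers d)
        exact ((show Commute b x from c.comm_b.symm).zpow_right i).eq
      rw [he] at key
      have h1 := Nat.eq_of_mul_eq_mul_left (pow_pos Nat.card_pos _) key
      have h2 : D' ⊓ Subgroup.centralizer (Zb : Set G) = D' := Subgroup.eq_of_le_of_card_ge inf_le_left h1.le
      have hb' : b ∈ A := Subgroup.mem_sup_left (Subgroup.mem_zpowers b)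
      have hker : φ ⟨b, hb'⟩ = 1 := by
        refine hDdet _ ⟨_, rfl⟩ (((Nat.coprime_primes hp.out hr.out).2 (Ne.symm hrp)).coprime_dvd_left ?_)
          fun d hd => Subtype.ext ?_
        · exact (orderOf_map_dvd φ _).trans (by rw [Subgroup.orderOf_mk, c.b_order])
        · show b * (d : G) * b⁻¹ = d
          have h3 : b * (d : G) = d * b :=
            mem_centralizer_zpowers.1 (h2.ge (Subgroup.mem_map_of_mem T.subtype hd)).2
          rw [h3]
          exact mul_inv_cancel_right _ _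
      have h6 : Subgroup.inclusion hAT ⟨b, hb'⟩ ∈ (Subgroup.normalizerMonoidHom T).ker := hker
      rwa [Subgroup.normalizerMonoidHom_ker, Subgroup.mem_subgroupOf] at h6
    obtain ⟨B, hBT, hBe, hBc⟩ := exists_elab_sq hr2 (hT.isPGroup.to_le inf_le_left) hCR
    by_cases hsmall : IsMulCommutative ↥T ∧ PRankLE r 2 ↥H
    · obtain ⟨hTab, hTr⟩ := hsmall
      have hcoR : (Nat.card (Subgroup.zpowers R)).Coprime (Nat.card T) :=
        hcoT.coprime_dvd_left (Subgroup.card_dvd_of_le le_sup_right)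
      have hTC := centralizes_of_omega hT.isPGroup hTab (Subgroup.zpowers_le.2 hRT) hcoR fun e he her =>
        (hBT (elab_full hBe hBc ((hBT.trans inf_le_left).trans hT.le) hTr (hT.le he)
          (Subgroup.mem_centralizer_iff.2 fun a ha => congrArg Subtype.val
            (hTab.is_comm.comm (⟨a, (hBT ha).1⟩ : T) ⟨e, he⟩)) her)).2
      have hR1 : R ∈ Subgroup.centralizer (T : Set G) :=
        Subgroup.le_centralizer_iff.1 hTC (Subgroup.mem_zpowers R)
      have h1 : ⁅R, b⁆ ∈ Subgroup.centralizer (T : Set G) := by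
        rw [commutatorElement_def, mul_assoc, mul_assoc, ← mul_assoc b]
        refine Subgroup.mul_mem _ hR1 ?_
        have h2 := Fusion.conj_mem_cj (g := b) (Subgroup.inv_mem _ hR1)
        rwa [Fusion.cj_centralizer, cj_eq_self hbT] at h2
      exact Subgroup.zpowers_le.2 h1 hbg
    exfalso
    have hiu : InUniqueMaximal T := by
      by_cases hTab : IsMulCommutative ↥T
      swap
      · exact Nonabelian.inUniqueMaximal hG hT.isPGroup hTab
      obtain ⟨F, hFH, hFe, hFc⟩ := exists_elab_of_prank fun h => hsmall ⟨hTab, h⟩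
      obtain ⟨m, -, hm⟩ := hT.conj_le (Fusion.elab_isPGroup hFe) hFH
      exact iu_mono (iu_conj (rank_three_iu hG hFe hFc) m) hm fun h => hH.1 (eq_top_iff.2 (h ▸ hT.le))
    obtain ⟨J, hJ, hNJ⟩ := exists_coatom _ (normalizer_pgroup_ne_top hG (isPGroup_of_card (zpowers_card hRo))
      (ne_bot_of_card (zpowers_card hRo)))
    have hRJ : R ∈ J := hNJ (Subgroup.le_normalizer (Subgroup.mem_zpowers R))
    have hBJ : B ≤ J := hBT.trans (inf_le_right.trans ((Subgroup.centralizer_le_normalizer _).trans hNJ))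
    by_cases hrJ : r ∈ sigma J
    · obtain ⟨U, hU⟩ := exists_sylIn (p := r) J
      obtain ⟨g, -, hg⟩ := (sigma_sylow hrJ hU).1.conj_eq hTtop
      obtain ⟨M', -, hu⟩ := hiu
      have hJH : cj J g = H :=
        (hu _ ⟨(OrderIso.isCoatom_iff (MulEquiv.mapSubgroup (MulAut.conj g)) J).2 hJ, hg ▸ cj_mono hU.le g⟩).trans
          (hu H ⟨hH, hT.le⟩).symm
      have hqJ : q ∉ sigma J := fun h => hqH (by
        refine sigma_of_cj (g := g⁻¹) ?_
        rw [← hJH, Fusion.cj_cj_inv]; exact h)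
      obtain ⟨F, hF, hFe, hFc⟩ := exists_elab_of_prank (order_p_normalizer hG hJ hqJ (zpowers_card hRo) hNJ).1.2
      exact not_prankLE_of_elab ((cj_mono hF g).trans hJH.le) (elab_cj hFe g) (by rw [card_cj]; exact hFc) hq2H
    have hBH : B ≤ H := (hBT.trans inf_le_left).trans hT.le
    have sJ : Setup r J B := ⟨hG, hJ, hrJ, hBJ, hBe, hBc⟩
    have hJne : H ≠ J := fun h => hrJ (h ▸ hrH)
    have hinf := sigmaCore_inf_coatom sJ hH hJne hBH
    have hqJ : q ∉ sigma J := fun h => by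
      have h1 : R ∈ sigmaCore J ⊓ H := ⟨le_of_hall (sigmaCore_hall hG hJ).1 le_normalizer_piCoreOf
        (Subgroup.zpowers_le.2 hRJ) (piNum_of_pgroup (isPGroup_of_card (zpowers_card hRo)) h)
        (Subgroup.mem_zpowers R), hRH⟩
      rw [hinf, Subgroup.mem_bot] at h1
      exact hq.out.ne_one (by rw [← hRo, h1, orderOf_one])
    obtain ⟨F, hFJ, hFe, hFc⟩ := exists_sq (order_p_normalizer hG hJ hqJ (zpowers_card hRo) hNJ).1.2
    obtain ⟨u, -, hu⟩ := tau2_commute (Ne.symm hqr) sJ (⟨hG, hJ, hqJ, hFJ, hFe, hFc⟩ : Setup q J F)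
    exact not_prankLE_of_elab (hu.trans (rank_two_lemma hG hH hBH hBe hBc).1) (elab_cj hFe u)
      (by rw [card_cj, hFc]) hq2H
  -- the normaliser of the Sylow subgroup centralizes `x`
  have hTK : T ≤ K := fun s hs => hCK (mem_centralizer_zpowers.2 (Subgroup.mem_centralizer_iff.1 hbCT s hs).symm)
  have hTc : IsCyclic ↥T := cyclic_of_prank hG hT.isPGroup hTK hrK
  set N := Subgroup.normalizer (T : Set G) with hN
  set C := Subgroup.centralizer (T : Set G) with hC
  have hCN : C ≤ N := Subgroup.centralizer_le_normalizer _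
  have hNC : N ≤ Subgroup.normalizer (C : Set G) := fun g hg => mem_normalizer_of_cj_le (by
    rw [hC, Fusion.cj_centralizer, cj_eq_self hg])
  obtain ⟨Q, hQ, hbQ⟩ := exists_sylIn_ge hbp (Subgroup.zpowers_le.2 hbCT)
  have hQc : IsCyclic ↥Q := cyclic_of_prank hG hQ.isPGroup ((hQ.le.trans hCN).trans hTN) hp1
  have hcent : ∀ h ∈ N, x * h = h * x := by
    intro h hh
    obtain ⟨n, hn, hnh⟩ := Fusion.frattini_conj hQ hNC hh
    set m := n * h with hm
    have hmN : m ∈ N := N.mul_mem (hCN hn) hh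
    have hmK : m ∈ K := hNK (mem_normalizer_of_cj_le (cyclic_eq hQc ((cj_mono hbQ m).trans (cj_eq_self hnh).le) hbQ
      (by rw [card_cj, zpowers_card c.b_order]) (zpowers_card c.b_order)).le)
    have hmx : cj (Subgroup.zpowers x) m = Subgroup.zpowers x :=
      cyclic_eq hTc ((cj_mono hxT' m).trans (cj_eq_self hmN).le) hxT' (by rw [card_cj, zpowers_card c.x_order])
        (zpowers_card c.x_order)
    have hc : m * x = x * m := by
      refine commutatorElement_eq_one_iff_mul_comm.1 ?_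
      by_contra hne
      refine P.derived_not_mover c.x_mem c.x_order hrp c.x_move hnc hK hSK (Subgroup.zpowers_le.2
        (Subgroup.commutator_mem_commutator hmK hxK) (mem_zpowers_of_order hr.out c.x_order ?_ hne))
      rw [commutatorElement_def]
      exact Subgroup.mul_mem _ (hmx.le (Fusion.conj_mem_cj (Subgroup.mem_zpowers x)))
        (Subgroup.inv_mem _ (Subgroup.mem_zpowers x))
    have hnx : x * n = n * x := Subgroup.mem_centralizer_iff.1 hn x hxT
    rw [show h = n⁻¹ * m by rw [hm]; group]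
    exact (((show Commute x n from hnx).inv_right).mul_right (show Commute x m from hc.symm)).eq
  obtain ⟨T', hT'⟩ := hTtop.exists_sylow
  haveI : (T.subgroupOf N).Normal := Subgroup.normal_in_normalizer
  have hTN' : T ≤ N := Subgroup.le_normalizer
  obtain ⟨j, hj⟩ := IsPGroup.iff_card.1 hT.isPGroup
  obtain ⟨V₀, hV₀⟩ := Subgroup.exists_right_complement'_of_coprime (N := T.subgroupOf N) (by
    rw [Solv.card_subgroupOf hTN', hj]
    refine Nat.Coprime.pow_left j ((Nat.Prime.coprime_iff_not_dvd hr.out).2 ?_)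
    exact (hTtop.mono hTN' le_top).not_dvd)
  set V := V₀.map N.subtype with hV
  have hVN : V ≤ N := Subgroup.map_subtype_le _
  have hcompl : IsComplIn T V N := by
    refine ⟨hTN', hVN, eq_bot_iff.2 ?_, fun m hm => ?_⟩
    · rintro _ ⟨hs, ⟨v, hv, rfl⟩⟩
      have h1 : v ∈ T.subgroupOf N ⊓ V₀ := ⟨hs, hv⟩
      rw [disjoint_iff.1 hV₀.disjoint, Subgroup.mem_bot] at h1
      rw [h1, map_one]; exact Subgroup.one_mem _
    · obtain ⟨a, ha, v, hv, e⟩ := Subgroup.mem_sup_of_normal_left.1 (hV₀.sup_eq_top ▸ Subgroup.mem_top (⟨m, hm⟩ : N))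
      exact ⟨a, ha, v, ⟨v, hv, rfl⟩, (congrArg Subtype.val e).symm⟩
  obtain ⟨hTV, hco⟩ := compl_facts hG T' (by rw [hT']; exact hTne) (V := V) (by rw [hT']; exact hcompl)
  rw [hT'] at hTV
  haveI := hTc
  have h := Solv.PLenFix.commutator_inf_centralizer T V
    ⟨⟨fun u v => (IsCyclic.commGroup (α := ↥T)).mul_comm u v⟩⟩ hVN (by rw [hj]; exact Nat.Coprime.pow_right j hco)
  rw [← hTV] at h
  refine hx1 (Subgroup.mem_bot.1 (h ▸ Subgroup.mem_inf.2 ⟨hxT,
    Subgroup.mem_centralizer_iff.2 fun v hv => (hcent v (hVN hv)).symm⟩))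

/-- Both `β`-cores have fixed points of `x` in `N(S)` unless the configuration is impossible. -/
theorem Pair.false_of_config (P : Pair p M L S) (hnc : ¬ IsCyclic ↥S) {x b R : G} {r q k : ℕ}
    [hr : Fact r.Prime] [hq : Fact q.Prime] (c : Config S x b R p r q k) : False := by
  have hG := P.minSimple
  obtain ⟨hrp, hrM, hrL⟩ := P.mover_prime c.x_mem (k := 1) hr.out (by rw [c.x_order, pow_one]) c.x_move
  set E := Subgroup.zpowers x
  set U := ⁅S, E⁆ with hU
  have hEN : E ≤ Subgroup.normalizer (S : Set G) := Subgroup.zpowers_le.2 c.x_mem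
  have hcn := Solv.commutator_normal_in hEN
  have hUS : U ≤ S := hcn.1
  have hxU : x ∈ Subgroup.normalizer (U : Set G) := hcn.2.2 (Subgroup.mem_zpowers x)
  have hco : (Nat.card E).Coprime (Nat.card S) := by
    obtain ⟨j, hj⟩ := IsPGroup.iff_card.1 P.syl.isPGroup
    rw [zpowers_card c.x_order, hj]
    exact ((Nat.coprime_primes hr.out hp.out).2 hrp).pow_right j
  have hfix : ∀ u ∈ U, x * u = u * x → u = 1 := fun u hu h => Subgroup.mem_bot.1
    (Solv.PLenFix.commutator_inf_centralizer S E P.abelian hEN hco ▸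
      Subgroup.mem_inf.2 ⟨hu, mem_centralizer_zpowers.2 h⟩)
  have hU0 : U ≠ ⊥ := fun h => c.x_move
    (Subgroup.le_centralizer_iff.1 (Subgroup.commutator_eq_bot_iff_le_centralizer.1 h) (Subgroup.mem_zpowers x))
  have hside : ∀ {M L : Subgroup G}, Pair p M L S → r ∉ sigma M → r ∉ sigma L →
      ¬ piCoreOf (beta M) M ⊓ Subgroup.centralizer (U : Set G) ≤ Subgroup.normalizer (S : Set G) → False :=
    fun {M L} Q hM hL h => by
      obtain ⟨z, t, g⟩ := Q.exists_gen c.x_order hL
        (Q.symm.fixed_not_le hUS c.x_order c.x_mem hL hxU hfix (Q.fixed_line hnc hUS hU0 h))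
      exact Q.config_false hnc c g
  by_cases hMU : piCoreOf (beta M) M ⊓ Subgroup.centralizer (U : Set G) ≤ Subgroup.normalizer (S : Set G)
  swap
  · exact hside P hrM hrL hMU
  by_cases hLU : piCoreOf (beta L) L ⊓ Subgroup.centralizer (U : Set G) ≤ Subgroup.normalizer (S : Set G)
  swap
  · exact hside P.symm hrL hrM hLU
  obtain ⟨y, s, gM⟩ := P.symm.exists_gen c.x_order hrM (P.fixed_not_le hUS c.x_order c.x_mem hrM hxU hfix hMU)
  obtain ⟨z, t, gL⟩ := P.exists_gen c.x_order hrL (P.symm.fixed_not_le hUS c.x_order c.x_mem hrL hxU hfix hLU)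
  exact P.both_gen_false c.x_order c.x_mem hrM hrL gM gL

/-- A pair does not exist. -/
theorem Pair.contradiction (P : Pair p M L S) : False := by
  have hG := P.minSimple
  set N := Subgroup.normalizer (S : Set G) with hN
  obtain ⟨a, ha, ha1⟩ := exists_ne_one P.ne_bot
  obtain ⟨n, hn, r, k, hrp', hno, hnm⟩ := P.exists_mover ha ha1
  haveI := Fact.mk hrp'
  obtain ⟨hxo, hxm⟩ := P.order_mover hn hno fun h => hnm (Subgroup.mem_centralizer_iff.1 h a ha).symm
  set x := n ^ (orderOf n / r)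
  have hx : x ∈ N := pow_mem hn _
  obtain ⟨hrp, hrM, hrL⟩ := P.mover_prime hx (k := 1) hrp' (by rw [hxo, pow_one]) hxm
  have hco : (Nat.card (Subgroup.zpowers x)).Coprime (Nat.card S) := by
    obtain ⟨j, hj⟩ := IsPGroup.iff_card.1 P.syl.isPGroup
    rw [zpowers_card hxo, hj]
    exact ((Nat.coprime_primes hrp' hp.out).2 hrp).pow_right j
  have hEN : Subgroup.zpowers x ≤ N := Subgroup.zpowers_le.2 hx
  by_cases hfp : S ⊓ Subgroup.centralizer (Subgroup.zpowers x : Set G) = ⊥
  · have hfix : ∀ u ∈ S, x * u = u * x → u = 1 := fun u hu h =>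
      Subgroup.mem_bot.1 (hfp ▸ Subgroup.mem_inf.2 ⟨hu, mem_centralizer_zpowers.2 h⟩)
    have hC : ∀ B : Subgroup G, B ⊓ Subgroup.centralizer (S : Set G) ≤ N := fun B =>
      inf_le_right.trans (Subgroup.centralizer_le_normalizer _)
    obtain ⟨y, s, gM⟩ := P.symm.exists_gen hxo hrM (P.fixed_not_le le_rfl hxo hx hrM hx hfix (hC _))
    obtain ⟨z, t, gL⟩ := P.exists_gen hxo hrL (P.symm.fixed_not_le le_rfl hxo hx hrL hx hfix (hC _))
    exact P.both_gen_false hxo hx hrM hrL gM gL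
  obtain ⟨j, hj⟩ := IsPGroup.iff_card.1 (P.syl.isPGroup.to_le
    (inf_le_left : S ⊓ Subgroup.centralizer (Subgroup.zpowers x : Set G) ≤ S))
  obtain ⟨⟨b, hb⟩, hbo⟩ := exists_prime_orderOf_dvd_card' p
    (hj ▸ dvd_pow_self p (fun h0 => hfp (Subgroup.card_eq_one.1 (by rw [hj, h0, pow_zero]))) :
      p ∣ Nat.card ↥(S ⊓ Subgroup.centralizer (Subgroup.zpowers x : Set G) : Subgroup G))
  rw [Subgroup.orderOf_mk] at hbo
  have hb1 : b ≠ 1 := fun h => hp.out.ne_one (by rw [← hbo, h, orderOf_one])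
  have hxb : x * b = b * x := mem_centralizer_zpowers.1 hb.2
  have hnc : ¬ IsCyclic ↥S := fun hc => by
    rcases cyclic_split P.syl.isPGroup hc hEN hco with h | h
    · have h1 := Solv.PLenFix.commutator_inf_centralizer S (Subgroup.zpowers x) P.abelian hEN hco
      rw [h] at h1
      exact hb1 (Subgroup.mem_bot.1 (h1 ▸ Subgroup.mem_inf.2 ⟨hb.1, hb.2⟩))
    · exact hxm (Subgroup.le_centralizer_iff.1 h (Subgroup.mem_zpowers x))
  obtain ⟨m, hm, q, l, hq, hmo, hmb⟩ := P.exists_mover hb.1 hb1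
  haveI := Fact.mk hq
  have hmm : m ∉ Subgroup.centralizer (S : Set G) := fun h => hmb (Subgroup.mem_centralizer_iff.1 h b hb.1).symm
  obtain ⟨hvo, hvm⟩ := P.order_mover hm hmo hmm
  set v := m ^ (orderOf m / q) with hv
  have hvN : v ∈ N := pow_mem hm _
  by_cases hvb : v * b = b * v
  · exact P.false_of_config hnc (c := (⟨hvo, hvN, hvm, hb.1, hbo, hvb, hm, hmo,
      ((Commute.refl m).pow_left _).eq, hmb, Or.inl rfl⟩ : Config S v b m p q q l))
  obtain ⟨g, hg, hgx⟩ := P.commute_conj hx hxo hxm hvN (k := 1) (by rw [hvo, pow_one]) hvm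
  set R := g * v * g⁻¹ with hR
  have hRN : R ∈ N := N.mul_mem (N.mul_mem hg hvN) (N.inv_mem hg)
  have hRb : R * b ≠ b * R := fun h => hvb (by
    have hk := P.commutator_centralizes hg hvN
    have hRe : R = ⁅g, v⁆ * v := by rw [hR, commutatorElement_def]; group
    have hvbS : v * b * v⁻¹ ∈ S := (Subgroup.mem_normalizer_iff.1 hvN b).1 hb.1
    have h1 := Subgroup.mem_centralizer_iff.1 hk _ hvbS
    have h2 := Subgroup.mem_centralizer_iff.1 hk b hb.1
    rw [hRe] at h
    refine mul_left_cancel (a := ⁅g, v⁆) ?_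
    calc ⁅g, v⁆ * (v * b) = ⁅g, v⁆ * v * b := (mul_assoc _ _ _).symm
      _ = b * (⁅g, v⁆ * v) := h
      _ = b * ⁅g, v⁆ * v := (mul_assoc _ _ _).symm
      _ = ⁅g, v⁆ * b * v := by rw [h2]
      _ = ⁅g, v⁆ * (b * v) := mul_assoc _ _ _)
  exact P.false_of_config hnc (c := (⟨hxo, hx, hxm, hb.1, hbo, hxb, hRN,
    ((orderOf_injective (MulAut.conj g).toMonoidHom (MulAut.conj g).injective v).trans hvo).trans (pow_one q).symm,
    hgx.symm, hRb, Or.inr rfl⟩ : Config S x b R p r q 1))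

end Cfsg.Agent.OddLocal.Disjoint
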