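import Cfsg.Agent.Lib.OddLocal.KappaTI
import Cfsg.Agent.Lib.OddLocal.SigmaPairFinal
import Cfsg.Agent.S1453

/-!
The maximal subgroups with `U = 1` and nilpotent `M_σ`.
-/

set_option autoImplicit false
set_option linter.style.haveILetI false

namespace Cfsg.Agent.OddLocal.Kappa

open scoped Pointwise commutatorElement
open Cfsg
open Cfsg.Agent.Fusion (SylIn cj cj_eq_self cj_mono card_cj exists_sylIn exists_sylIn_ge)
open Cfsg.Agent.OddLocal.Uniq
open Cfsg.Agent.OddLocal.Sig
open Cfsg.Agent.OddLocal.RankTwo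
open Cfsg.Agent.OddLocal.TauTwo
open Cfsg.Agent.OddLocal.Prime
open Cfsg.Agent.OddLocal.Disjoint (mem_centralizer_zpowers zpowers_card)

universe u

variable {G : Type u} [Group G] [Finite G] {p : ℕ} [hp : Fact p.Prime] {M N B S K U : Subgroup G} {x : G}

omit [Finite G] hp in
/-- The subgroup of elements of order `p` of the second centre is preserved by normalising elements. -/
theorem second_invariant [Finite G] {k : G} (hk : k ∈ Subgroup.normalizer (S : Set G)) :
    k ∈ Subgroup.normalizer (((Subgroup.closure {y : ↥S | y ∈ Subgroup.upperCentralSeries ↥S 2 ∧ y ^ p = 1} :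
      Subgroup ↥S).map S.subtype : Subgroup G) : Set G) := by
  set W := Subgroup.closure {y : ↥S | y ∈ Subgroup.upperCentralSeries ↥S 2 ∧ y ^ p = 1} with hW
  set e : ↥S ≃* ↥S := Subgroup.normalizerMonoidHom S ⟨k, hk⟩ with he
  have hWe : W.map e.toMonoidHom ≤ W := by
    rw [hW, MonoidHom.map_closure, Subgroup.closure_le]
    rintro _ ⟨y, ⟨hy, hyp⟩, rfl⟩
    refine Subgroup.subset_closure ⟨?_, by rw [← map_pow, hyp, map_one]⟩
    have hchar := Subgroup.characteristic_iff_map_eq.1 (inferInstance : (Subgroup.upperCentralSeries ↥S 2).Characteristic) e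
    exact hchar.le (Subgroup.mem_map_of_mem _ hy)
  refine Fusion.mem_normalizer_of_cj_le ?_
  rintro _ ⟨_, ⟨w, hw, rfl⟩, rfl⟩
  exact ⟨e w, hWe (Subgroup.mem_map_of_mem _ hw), rfl⟩

/-- The order of `K` for a stray point of a maximal subgroup with `U = 1`. -/
theorem Stray.typeV_bound (d : Stray p M N B S x) (hKU : IsSigmaDecomposition M K U) (hK1 : K ≠ ⊥) (hU : U = ⊥) :
    ¬ IsMulCommutative ↥S ∧ (Nat.card K ∣ p - 1 ∨ (Nat.card S = p ^ 3 ∧ Nat.card K ∣ p + 1)) := by
  have hG := d.setup.minSimple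
  have hM := d.coatom
  have hder : ⁅M, M⁆ = sigmaCore M := by rw [derived_eq hG hM hKU hK1, hU, bot_sup_eq]
  have hna : ¬ IsMulCommutative ↥S := fun hab => by
    have h := d.core_abelian hab
    refine star_ne_bot hG hM hKU.hall hK1 (le_bot_iff.1 ((star_le_second hG hM hKU hK1).trans ?_))
    rw [hder, Subgroup.commutator_le]
    intro a ha b hb
    exact Subgroup.mem_bot.2 (commutatorElement_eq_one_iff_mul_comm.2
      (congrArg Subtype.val (h.is_comm.comm (⟨a, ha⟩ : sigmaCore M) ⟨b, hb⟩)))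
  refine ⟨hna, ?_⟩
  have hp2 : p ≠ 2 := d.setup.ne_two
  have hpσ : p ∈ sigma M :=
    (sigmaCore_hall hG hM).1.2.1 p hp.out (d.order ▸ Subgroup.orderOf_dvd_natCard _ d.mem)
  have hSM : S ≤ M := d.S_le.trans (Subgroup.map_subtype_le _)
  have hKS : K ≤ Subgroup.normalizer (S : Set G) := (Decomp.K_le hKU).trans d.normal
  have hKp : (Nat.card K).Coprime p := Nat.coprime_of_dvd fun q hq h1 h2 =>
    (hKU.hall.2.1 q hq h1).2.2.1 (((Nat.prime_dvd_prime_iff_eq hq hp.out).1 h2) ▸ hpσ)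
  have hKodd : Odd (Nat.card K) := hG.1.of_dvd_nat (Subgroup.card_subgroup_dvd_card K)
  have hSN : ¬ S ≤ N := fun h => hna (pgroup_abelian hG d.coatomN d.setup.not_sigma d.syl.isPGroup h)
  obtain ⟨hZB, hZc⟩ := central_line d.setup d.syl d.B_S hSN
  set Z := omz p S with hZ
  have hZS : Z ≤ S := omz_le S
  have hKZn : K ≤ Subgroup.normalizer (Z : Set G) := hKS.trans (normalizer_le_omz S)
  set C := sigmaCore M ⊓ Subgroup.centralizer (K : Set G) with hC
  by_cases hZK : ∀ k ∈ K, (∀ z ∈ Z, k * z = z * k) → k = 1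
  · left
    haveI := isCyclic_of_prime_card hZc
    let φ : ↥K →* MulAut ↥Z := (Subgroup.normalizerMonoidHom Z).comp (Subgroup.inclusion hKZn)
    have hinj : Function.Injective φ := (injective_iff_map_eq_one φ).2 fun k hk => Subtype.ext (hZK k k.2 fun z hz => by
      have h := congrArg (fun f : MulAut ↥Z => ((f ⟨z, hz⟩ : ↥Z) : G)) hk
      exact mul_inv_eq_iff_eq_mul.1 (show (k : G) * z * (k : G)⁻¹ = z from h))
    refine (Subgroup.card_dvd_of_injective φ hinj).trans ?_
    rw [IsCyclic.card_mulAut, hZc, Nat.totient_prime hp.out]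
  push Not at hZK
  obtain ⟨k₀, hk₀, hk₀Z, hk₀1⟩ := hZK
  have hprime := star_prime hG hM hKU hK1 hU
  have hZC : Z = C := by
    have hle : Z ≤ C := by
      rw [hC, ← prime_action hG hM hKU.hall hk₀ hk₀1]
      exact le_inf (hZS.trans d.S_le) fun z hz => Subgroup.mem_centralizer_singleton_iff.2 (hk₀Z z hz).symm
    refine Subgroup.eq_of_le_of_card_ge hle (le_of_eq ?_)
    have h := Subgroup.card_dvd_of_le hle
    rw [hZc] at h ⊢
    exact ((Nat.prime_dvd_prime_iff_eq hp.out hprime).1 h).symm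
  have hKZ : K ≤ Subgroup.centralizer (Z : Set G) := Subgroup.le_centralizer_iff.1 (hZC.le.trans inf_le_right)
  have hfree : ∀ k ∈ K, k ≠ 1 → ∀ w ∈ S, Commute k w → w ∈ Z := fun k hk hk1 w hw hkw => by
    rw [hZC, hC, ← prime_action hG hM hKU.hall hk hk1]
    exact ⟨d.S_le hw, Subgroup.mem_centralizer_singleton_iff.2 hkw.symm.eq⟩
  by_cases hr : PRankLE p 2 ↥S
  · obtain ⟨T, hT⟩ := d.syl.exists_sylow
    rcases sylow_rank_two hG T (by rw [hT]; exact hr) with h | ⟨P₁, P₂, h1, h2, h3, h4, h5, h6, h7⟩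
    · exact absurd (hT ▸ h) hna
    rw [hT] at h1
    set Y := S ⊓ Subgroup.centralizer (S : Set G) with hY
    have hYab : IsMulCommutative ↥Y := ⟨⟨fun a b => Subtype.ext
      (Subgroup.mem_centralizer_iff.1 b.2.2 a a.2.1)⟩⟩
    have hKY : K ≤ Subgroup.normalizer (Y : Set G) := fun k hk => Fusion.mem_normalizer_of_cj_le (by
      rw [hY, Fusion.cj_inf, Fusion.cj_centralizer, cj_eq_self (hKS hk)])
    have hYC : Y ≤ Subgroup.centralizer (K : Set G) := by
      refine Disjoint.centralizes_of_omega (d.syl.isPGroup.to_le inf_le_left) hYab hKY ?_ fun e he hep =>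
        Subgroup.le_centralizer_iff.1 hKZ ⟨he.1, he.2, hep⟩
      obtain ⟨i, hi⟩ := IsPGroup.iff_card.1 (d.syl.isPGroup.to_le (inf_le_left : Y ≤ S))
      exact hi ▸ hKp.pow_right i
    have hYZ : Y = Z := le_antisymm (hZC.symm ▸ le_inf (inf_le_left.trans d.S_le) hYC)
      fun z hz => ⟨hz.1, hz.2.1⟩
    haveI := h6
    have hP₂Y : P₂ ≤ Y := le_inf (h1 ▸ le_sup_right) (Subgroup.le_centralizer_iff.1 (h1 ▸ sup_le
      (fun a ha => Subgroup.mem_centralizer_iff.2 fun b hb => (h2 a ha b hb).symm)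
      (fun a ha => Subgroup.mem_centralizer_iff.2 fun b hb => congrArg Subtype.val
        ((IsCyclic.commGroup (α := ↥P₂)).mul_comm (⟨b, hb⟩ : P₂) ⟨a, ha⟩))))
    have hP₂ : P₂ ≤ P₁ := fun b hb => (h7.le (Subgroup.subset_closure
      ⟨hb, (hYZ.le (hP₂Y hb)).2.2⟩) : b ∈ P₁ ⊓ Subgroup.centralizer (P₁ : Set G)).1
    have hSP : P₁ = S := (sup_eq_left.2 hP₂).symm.trans h1
    subst hSP
    have hexp : ∀ w ∈ P₁, w ^ p = 1 := fun w hw => by
      have h := Monoid.pow_exponent_eq_one (⟨w, hw⟩ : P₁)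
      rw [h5] at h
      exact congrArg Subtype.val h
    exact (LineAct.card_dvd hKU.cyclic hKodd hKp h3 h4 hexp hYZ hZc hKZ hKS hfree).imp_right fun h => ⟨h4, h⟩
  · left
    set E := B.subgroupOf S with hE
    have hEe : IsElementaryAbelian p E := ⟨⟨⟨fun u v => Subtype.ext (Subtype.ext
      (congrArg Subtype.val (d.setup.elem.1.is_comm.comm (⟨u.1.1, u.2⟩ : B) ⟨v.1.1, v.2⟩) :))⟩⟩,
      fun a ha => Subtype.ext (d.setup.elem.2 _ ha)⟩
    have hEmax : ∀ A : Subgroup ↥S, IsElementaryAbelian p A → E ≤ A → A = E := by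
      intro A hA hEA
      have h := (not_ideal hG d.coatomN d.setup.rank d.setup.rank_one).2 B d.setup.le d.setup.elem d.setup.card
        (A.map S.subtype)
        ⟨haveI := hA.1; Subgroup.map_isMulCommutative A _, by
          rintro _ ⟨b, hb, rfl⟩; rw [← map_pow, hA.2 b hb, map_one]⟩
        (by rw [← Subgroup.map_subgroupOf_eq_of_le d.B_S]; exact Subgroup.map_mono hEA)
      rw [← Subgroup.map_subgroupOf_eq_of_le d.B_S] at h
      exact Subgroup.map_injective S.subtype_injective h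
    obtain ⟨-, -, ⟨-, hWc⟩, -, -⟩ := Cfsg.Agent.S1453.result p hp2 d.syl.isPGroup hr E hEe
      (by rw [Solv.card_subgroupOf d.B_S, d.setup.card]) hEmax
    set W := (Subgroup.closure {y : ↥S | y ∈ Subgroup.upperCentralSeries ↥S 2 ∧ y ^ p = 1} :
      Subgroup ↥S).map S.subtype with hW
    have hWS : W ≤ S := Subgroup.map_subtype_le _
    refine LineAct.card_dvd_pred hKU.cyclic hKp hZc (X := W)
      (by rw [hW, Subgroup.card_map_of_injective S.subtype_injective, hWc]) (fun z hz => ?_)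
      (hWS.trans (omz_centralizer S)) hKZ (fun k hk => second_invariant (hKS hk))
      fun k hk hk1 w hw => hfree k hk hk1 w (hWS hw)
    refine ⟨⟨z, hz.1⟩, Subgroup.subset_closure ⟨?_, Subtype.ext hz.2.2⟩, rfl⟩
    refine Subgroup.upperCentralSeries_mono ↥S (by decide : 1 ≤ 2) ?_
    rw [Subgroup.upperCentralSeries_one, Subgroup.mem_center_iff]
    exact fun g => Subtype.ext (Subgroup.mem_centralizer_iff.1 hz.2.1 g g.2)

end Cfsg.Agent.OddLocal.Kappa
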