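import Cfsg.Agent.Lib.OddLocal.TauTwoAbelian
import Cfsg.Agent.Lib.OddLocal.SigmaCentralizer

/-!
Fixed points of a complement on `M_σ` and intersections with conjugates of `M`.
-/

set_option autoImplicit false
set_option linter.style.haveILetI false

namespace Cfsg.Agent.OddLocal.SigmaTI

open Cfsg
open scoped commutatorElement
open Cfsg.Agent.Fusion (SylIn cj cj_cj cj_eq_self cj_mono card_cj isPGroup_cj sylIn_map sylIn_top exists_sylIn_ge
  mem_normalizer_of_cj_le)
open Cfsg.Agent.OddLocal.Uniq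
open Cfsg.Agent.OddLocal.Sig
open Cfsg.Agent.OddLocal.RankTwo
open Cfsg.Agent.OddLocal.TauTwo

universe u

variable {G : Type u} [Group G] [Finite G] {p : ℕ} [hp : Fact p.Prime] {M E : Subgroup G}

/-- A subgroup whose centralizer lies in `M` has its conjugates into `M` controlled by `M`. -/
theorem mem_of_conj (hG : IsMinSimpleOddOrder G) (hM : IsCoatom M) (hσ : p ∈ sigma M) {X : Subgroup G}
    (hX : IsPGroup p X) (hX1 : X ≠ ⊥) (hXM : X ≤ M) (hC : Subgroup.centralizer (X : Set G) ≤ M) {g : G}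
    (hg : cj X g ≤ M) : g ∈ M := by
  obtain ⟨m, hm, c, hc, rfl⟩ := conj_factor hG hσ hM X hX hX1 hXM g hg
  exact mul_mem hm (hC hc)

omit hp in
/-- `[M_σ, E] = M_σ`. -/
theorem commutator_compl (hG : IsMinSimpleOddOrder G) (hM : IsCoatom M) (hE : IsComplIn E (sigmaCore M) M) :
    ⁅sigmaCore M, E⁆ = sigmaCore M := by
  obtain ⟨hEM, hSM, hinf, hmul⟩ := hE
  set S := sigmaCore M with hS
  have hSn : M ≤ Subgroup.normalizer (S : Set G) := le_normalizer_piCoreOf
  obtain ⟨hXS, hSX, hEX⟩ := Solv.commutator_normal_in (hEM.trans hSn)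
  set X := (⁅S, E⁆ : Subgroup G) with hX
  set D := X ⊔ ⁅S, S⁆ with hD
  have hDS : D ≤ S := sup_le hXS (Subgroup.commutator_le_self S)
  have hDn : M ≤ Subgroup.normalizer (D : Set G) := by
    intro m hm
    obtain ⟨a, ha, b, hb, rfl⟩ := hmul m hm
    refine mem_normalizer_of_cj_le (le_of_eq ?_)
    rw [hD, Fusion.cj_sup, Fusion.cj_commutator S S (a * b), cj_eq_self (hSn hm), cj_eq_self (mul_mem (hEX ha) (hSX hb))]
  set Y := D ⊔ E with hY
  have hYM : Y ≤ M := sup_le (hDS.trans hSM) hEM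
  have hYn : M ≤ Subgroup.normalizer (Y : Set G) := by
    intro m hm
    obtain ⟨a, ha, b, hb, rfl⟩ := hmul m hm
    refine mul_mem (Subgroup.le_normalizer (Subgroup.mem_sup_right ha)) (mem_normalizer_of_cj_le ?_)
    rw [hY, Fusion.cj_sup]
    refine sup_le ((cj_eq_self (hDn (hSM hb))).le.trans le_sup_left) ?_
    rintro _ ⟨e, he, rfl⟩
    show b * e * b⁻¹ ∈ Y
    rw [show b * e * b⁻¹ = ⁅b, e⁆ * e by rw [commutatorElement_def]; group]
    exact Subgroup.mul_mem _ (Subgroup.mem_sup_left (Subgroup.mem_sup_left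
      (Subgroup.commutator_mem_commutator hb he))) (Subgroup.mem_sup_right he)
  haveI : (Y.subgroupOf M).Normal := Subgroup.normal_subgroupOf_of_le_normalizer hYn
  have hcomm : ⁅M, M⁆ ≤ Y := by
    rw [Subgroup.commutator_le]
    intro g hg h hh
    let π := QuotientGroup.mk' (Y.subgroupOf M)
    have hπ : ∀ m : M, ∃ b : M, (b : G) ∈ S ∧ π m = π b := fun m => by
      obtain ⟨a, ha, b, hb, hab⟩ := hmul m m.2
      refine ⟨⟨b, hSM hb⟩, hb, ?_⟩
      have ha' : π ⟨a, hEM ha⟩ = 1 := (QuotientGroup.eq_one_iff _).2 (Subgroup.mem_sup_right ha)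
      rw [show m = ⟨a, hEM ha⟩ * ⟨b, hSM hb⟩ from Subtype.ext hab, map_mul, ha', one_mul]
    obtain ⟨b, hb, hgb⟩ := hπ ⟨g, hg⟩
    obtain ⟨b', hb', hhb⟩ := hπ ⟨h, hh⟩
    have h1 : π ⁅(⟨g, hg⟩ : M), (⟨h, hh⟩ : M)⁆ = 1 := by
      rw [map_commutatorElement, hgb, hhb, ← map_commutatorElement]
      exact (QuotientGroup.eq_one_iff _).2 (Subgroup.mem_sup_left (Subgroup.mem_sup_right
        (Subgroup.commutator_mem_commutator hb hb')))
    exact ((QuotientGroup.eq_one_iff (N := Y.subgroupOf M) ⁅(⟨g, hg⟩ : M), (⟨h, hh⟩ : M)⁆).1 h1 :)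
  have hSD : S ≤ D := by
    intro x hx
    have h1 : x ∈ Y := hcomm (Subgroup.map_subtype_commutator M ▸
      Subgroup.map_mono (sigmaCore_le_derived hG hM) hx)
    rw [hY, ← SetLike.mem_coe, Subgroup.coe_mul_of_right_le_normalizer_left _ _ (hEM.trans hDn)] at h1
    obtain ⟨d, hd, e, he, rfl⟩ := h1
    have h2 : e ∈ E ⊓ S := ⟨he, by simpa using Subgroup.mul_mem _ (Subgroup.inv_mem _ (hDS hd)) hx⟩
    rw [hinf, Subgroup.mem_bot] at h2
    simpa [h2] using hd
  refine le_antisymm hXS ?_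
  haveI : (X.subgroupOf S).Normal := Subgroup.normal_subgroupOf_of_le_normalizer hSX
  haveI : Group.IsSolvable ↥S := hG.2.2.2 S fun h => hM.1 (eq_top_iff.2 (h ▸ hSM))
  rw [← Subgroup.subgroupOf_eq_top, ← QuotientGroup.subsingleton_iff]
  by_contra hns
  haveI : Nontrivial (↥S ⧸ X.subgroupOf S) := not_subsingleton_iff_nontrivial.1 hns
  refine (Group.IsSolvable.commutator_lt_top_of_nontrivial (G := ↥S ⧸ X.subgroupOf S)).ne (eq_top_iff.2 fun y _ => ?_)
  obtain ⟨⟨x, hx⟩, rfl⟩ := QuotientGroup.mk'_surjective _ y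
  have h1 := hSD hx
  rw [hD, ← SetLike.mem_coe, Subgroup.coe_mul_of_right_le_normalizer_left _ _
    ((Subgroup.commutator_le_self S).trans hSX)] at h1
  obtain ⟨u, hu, v, hv, huv⟩ := h1
  obtain ⟨v', hv', rfl⟩ := (Subgroup.map_subtype_commutator S).ge hv
  have hu1 : QuotientGroup.mk' (X.subgroupOf S) ⟨u, hXS hu⟩ = 1 := (QuotientGroup.eq_one_iff _).2 hu
  rw [show (⟨x, hx⟩ : S) = ⟨u, hXS hu⟩ * v' from Subtype.ext huv.symm, map_mul, hu1, one_mul]
  exact (Subgroup.map_commutator _ _ _).le.trans (Subgroup.commutator_mono le_top le_top) ⟨v', hv', rfl⟩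

omit hp in
/-- `C_{M_σ}(E)` lies in the derived subgroup of `M_σ`. -/
theorem fixed_le_derived (hG : IsMinSimpleOddOrder G) (hM : IsCoatom M) (hE : IsComplIn E (sigmaCore M) M) :
    sigmaCore M ⊓ Subgroup.centralizer (E : Set G) ≤ ⁅sigmaCore M, sigmaCore M⁆ := by
  classical
  haveI := Fintype.ofFinite E
  have hX := commutator_compl hG hM hE
  set S := sigmaCore M with hS
  have hSn : E ≤ Subgroup.normalizer (S : Set G) := hE.1.trans le_normalizer_piCoreOf
  have hmem : ∀ (l : E) (f : S), (l : G) * f * (l : G)⁻¹ ∈ S := fun l f =>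
    (Subgroup.mem_normalizer_iff.1 (hSn l.2) f).1 f.2
  obtain ⟨T, hT⟩ : ∃ T : S →* Abelianization S, ∀ f : S,
      T f = ∏ l : E, Abelianization.of (⟨(l : G) * f * (l : G)⁻¹, hmem l f⟩ : S) :=
    ⟨{ toFun := fun f => ∏ l : E, Abelianization.of (⟨(l : G) * f * (l : G)⁻¹, hmem l f⟩ : S)
       map_one' := Finset.prod_eq_one fun l _ => by rw [← map_one Abelianization.of]; congr 1; exact Subtype.ext (by simp)
       map_mul' := fun a b => by
        rw [← Finset.prod_mul_distrib]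
        refine Finset.prod_congr rfl fun l _ => ?_
        rw [← map_mul]
        congr 1
        exact Subtype.ext (by simp [mul_assoc]) }, fun _ => rfl⟩
  have hle : S ≤ T.ker.map S.subtype := by
    refine hX.ge.trans (Subgroup.commutator_le.2 fun f hf m hm => ?_)
    have hm' : m * f⁻¹ * m⁻¹ ∈ S := (Subgroup.mem_normalizer_iff.1 (hSn hm) f⁻¹).1 (Subgroup.inv_mem _ hf)
    refine ⟨(⟨f, hf⟩ : S) * ⟨m * f⁻¹ * m⁻¹, hm'⟩, ?_, by simp [commutatorElement_def, mul_assoc]⟩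
    show _ * _ ∈ T.ker
    rw [MonoidHom.mem_ker, map_mul]
    have h1 : T ⟨m * f⁻¹ * m⁻¹, hm'⟩ = T (⟨f, hf⟩ : S)⁻¹ := by
      rw [hT, hT]
      refine Fintype.prod_equiv (Equiv.mulRight (⟨m, hm⟩ : E)) _ _ fun l => ?_
      congr 1
      exact Subtype.ext (by simp [mul_assoc])
    rw [h1, map_inv, mul_inv_cancel]
  rintro x ⟨hx, hxC⟩
  obtain ⟨g, hg, rfl⟩ := hle hx
  have h1 : T g = Abelianization.of g ^ Nat.card E := by
    rw [hT, Finset.prod_eq_pow_card (b := Abelianization.of g)]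
    · rw [Finset.card_univ, Nat.card_eq_fintype_card]
    · intro l _
      congr 1
      exact Subtype.ext (mul_inv_eq_iff_eq_mul.2 (Subgroup.mem_centralizer_iff.1 hxC l l.2))
  have h2 : Abelianization.of g ^ Nat.card E = 1 := h1.symm.trans hg
  have hco : (Nat.card E).Coprime (Nat.card S) := Nat.coprime_of_dvd fun q hq hd1 hd2 =>
    compl_pi hG hM hE hq hd1 ((sigmaCore_hall hG hM).1.2.1 q hq hd2)
  have h3 : Abelianization.of g = 1 := orderOf_eq_one_iff.1 (Nat.eq_one_of_dvd_coprimes hco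
    (orderOf_dvd_of_pow_eq_one h2) ((orderOf_map_dvd _ g).trans (orderOf_dvd_natCard g)))
  rw [← Subgroup.map_subtype_commutator]
  refine Subgroup.mem_map_of_mem _ ?_
  rw [← Abelianization.ker_of]
  exact h3

omit hp in
/-- `M_σ` meets a conjugate of `M` in a cyclic group with no prime of `β(M)` missing `M_σ'`. -/
theorem inter_conj (hG : IsMinSimpleOddOrder G) (hM : IsCoatom M) {g : G} (hg : g ∉ M) :
    IsCyclic ↥(sigmaCore M ⊓ cj M g) ∧
      (∀ q : ℕ, q.Prime → q ∣ Nat.card ↥(sigmaCore M ⊓ cj M g) → q ∉ beta M) ∧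
      sigmaCore M ⊓ cj M g ⊓ ⁅sigmaCore M, sigmaCore M⁆ = ⊥ := by
  have hall := (sigmaCore_hall hG hM).1
  set D := sigmaCore M ⊓ cj M g with hD
  have hDσ : D ≤ sigmaCore M := inf_le_left
  have hDM : D ≤ M := hDσ.trans (Subgroup.map_subtype_le _)
  have hkey : ∀ {q : ℕ} [Fact q.Prime] (X : Subgroup G), q ∈ sigma M → X ≤ D → IsPGroup q X → X ≠ ⊥ →
      Subgroup.centralizer (X : Set G) ≤ M → False := by
    intro q _ X hσ hXD hX hX1 hC
    refine hg ?_
    have h := mem_of_conj hG hM hσ hX hX1 (hXD.trans hDM) hC (g := g⁻¹) (by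
      rw [← Fusion.cj_cj_inv M g]
      exact cj_mono (hXD.trans inf_le_right) _)
    simpa using inv_mem h
  have hline : ∀ {q : ℕ} [Fact q.Prime] (X : Subgroup G), X ≤ D → Nat.card X = q →
      (q ∈ beta M ∨ X ≤ ⁅sigmaCore M, sigmaCore M⁆) → False := by
    intro q hq X hXD hX h
    have hσ : q ∈ sigma M := hall.2.1 q hq.out (hX ▸ Subgroup.card_dvd_of_le (hXD.trans hDσ))
    obtain ⟨S, hS⟩ := Fusion.exists_sylIn (p := q) (sigmaCore M)
    obtain ⟨T, hT⟩ := Uniq.exists_sylow hS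
    exact hkey X hσ hXD (isPGroup_of_card hX) (ne_bot_of_card hX)
      (SigmaCentralizer.sigma_centralizer hG hM hσ (hXD.trans hDM) hX (sylIn_map _ T) h).1.1
  have hder : D ⊓ ⁅sigmaCore M, sigmaCore M⁆ = ⊥ := by
    by_contra h
    obtain ⟨q, hq, hd⟩ := Nat.exists_prime_and_dvd (fun h1 => h (Subgroup.card_eq_one.1 h1))
    haveI := Fact.mk hq
    obtain ⟨⟨x, hx⟩, hxo⟩ := exists_prime_orderOf_dvd_card' q hd
    rw [Subgroup.orderOf_mk] at hxo
    exact hline (Subgroup.zpowers x) (Subgroup.zpowers_le.2 hx.1) (by rw [Nat.card_zpowers, hxo])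
      (Or.inr (Subgroup.zpowers_le.2 hx.2))
  refine ⟨?_, fun q hq hd hβ => ?_, hder⟩
  · have hab : IsMulCommutative ↥D := commute_of_derived_inf fun a ha b hb => by
      have h : ⁅a, b⁆ ∈ D ⊓ ⁅sigmaCore M, sigmaCore M⁆ :=
        ⟨Subgroup.commutator_le_self D (Subgroup.commutator_mem_commutator ha hb),
          Subgroup.commutator_mem_commutator (hDσ ha) (hDσ hb)⟩
      rw [hder] at h
      exact Subgroup.mem_bot.1 h
    refine cyclic_of_rank_one hG hab fun q hq hd => ?_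
    haveI := Fact.mk hq
    by_contra hr
    obtain ⟨F, hFD, hFe, hFc⟩ := exists_elab_of_prank hr
    have hFp := Fusion.elab_isPGroup hFe
    have hFnc := noncyclic_of_card hFe hFc
    obtain ⟨B, hBF, hBe, hBc⟩ :=
      exists_elab_sq (Uniq.ne_two hG hFp fun h => hFnc (by rw [h]; infer_instance)) hFp hFnc
    have hBM : B ≤ M := (hBF.trans hFD).trans hDM
    refine hkey B (hall.2.1 q hq (hd.trans (Subgroup.card_dvd_of_le hDσ))) (hBF.trans hFD)
      (Fusion.elab_isPGroup hBe) (fun h => ?_) (rank_two_lemma hG hM hBM hBe hBc).1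
    rw [h, Subgroup.card_bot] at hBc
    exact absurd hBc (Nat.one_lt_pow two_ne_zero hq.one_lt).ne
  · haveI := Fact.mk hq
    obtain ⟨⟨x, hx⟩, hxo⟩ := exists_prime_orderOf_dvd_card' q hd
    rw [Subgroup.orderOf_mk] at hxo
    exact hline (Subgroup.zpowers x) (Subgroup.zpowers_le.2 hx) (by rw [Nat.card_zpowers, hxo]) (Or.inl hβ)

end Cfsg.Agent.OddLocal.SigmaTI
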