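import Cfsg.Prelude.Def_OddOrderLocal
import Cfsg.Prelude.Def_Amalgam
import Cfsg.Agent.Lib.Fusion.SolvableBalance
import Cfsg.Agent.Lib.Local.CentralizerTrick
import Cfsg.Agent.Lib.Local.TypePBasic
import Cfsg.Agent.Lib.LocalEven.GFitAction

/-!
Bender's uniqueness argument for maximal subgroups with non-primary Fitting subgroup.
-/

set_option autoImplicit false

namespace Cfsg.Agent.OddLocal.Bender

open Cfsg
open scoped commutatorElement
open Cfsg.Agent.Fusion

variable {G : Type*} [Group G] [Finite G] {p : ℕ} [hp : Fact p.Prime]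

/-- In a solvable group a `p'`-subgroup centralised by the `p`-subgroup `P` and normalised by
`C(P)` lies in the `p'`-core. -/
theorem le_pPrimeCore_of_pgroup_centralizer (hs : Group.IsSolvable G) {P : Subgroup G}
    (hP : IsPGroup p P) {W : Subgroup G} (hW : (Nat.card W).Coprime p)
    (hWP : W ≤ Subgroup.centralizer (P : Set G))
    (hn : Subgroup.centralizer (P : Set G) ≤ Subgroup.normalizer (W : Set G)) :
    W ≤ pPrimeCore p G := by
  haveI := hs
  obtain ⟨K, hKdef⟩ : ∃ K, K = pPrimeCore p G := ⟨_, rfl⟩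
  haveI : K.Normal := hKdef ▸ inferInstance
  have hK : (Nat.card K).Coprime p := hKdef ▸ card_pPrimeCore_coprime p G
  have h0 : pPrimeCore p (G ⧸ K) = ⊥ := by
    subst hKdef
    exact pPrimeCore_quotient_eq_bot
  haveI hsq : Group.IsSolvable (G ⧸ K) :=
    Group.isSolvable_of_surjective (QuotientGroup.mk'_surjective K)
  set π := QuotientGroup.mk' K
  obtain ⟨Q, hQdef⟩ : ∃ Q, Q = pCore p (G ⧸ K) := ⟨_, rfl⟩
  haveI : Q.Normal := hQdef ▸ inferInstance
  have hQ : IsPGroup p ↥Q := hQdef ▸ isPGroup_pCore p _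
  intro w hw
  rw [← hKdef]
  refine (QuotientGroup.eq_one_iff w).1 ?_
  show π w = 1
  have hwo : (orderOf (π w)).Coprime p := by
    refine Nat.Coprime.coprime_dvd_left ((orderOf_map_dvd π w).trans ?_) hW
    rw [← Subgroup.orderOf_mk w hw]
    exact orderOf_dvd_natCard _
  have hwc : π w ∈ Subgroup.centralizer (Q : Set (G ⧸ K)) := by
    refine mem_centralizer_of_AB hQ (hP.map π) (by rw [Subgroup.normalizer_eq_top]; exact le_top)
      (by rw [Subgroup.normalizer_eq_top]; exact Subgroup.mem_top _) ?_ hwo ?_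
    · rintro _ ⟨t, ht, rfl⟩
      rw [← map_mul, ← map_mul]
      exact congrArg π (Subgroup.mem_centralizer_iff.1 (hWP hw) t ht).symm
    · intro q hq hqT
      obtain ⟨x, hx, hxq⟩ := exists_lift_normalizer hK hP (y := q) (by
        refine Subgroup.centralizer_le_normalizer _ (Subgroup.mem_centralizer_iff.2 fun t ht => (hqT t ht).symm))
      have hxP : x ∈ Subgroup.centralizer (P : Set G) := by
        refine Subgroup.mem_centralizer_iff.2 fun a ha => ?_
        have hxa : x * a * x⁻¹ = a := by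
          refine injOn_mk_of_coprime hK hP ((Subgroup.mem_normalizer_iff.1 hx a).1 ha) ha ?_
          show π (x * a * x⁻¹) = π a
          rw [map_mul, map_mul, map_inv, show π x = q from hxq,
            hqT (π a) (Subgroup.mem_map_of_mem π ha), mul_inv_cancel_right]
        exact (mul_inv_eq_iff_eq_mul.1 hxa).symm
      have hxW : x ∈ Subgroup.normalizer (W : Set G) := hn hxP
      refine commutatorElement_eq_one_iff_mul_comm.1 ?_
      have h1 : ⁅π w, q⁆ ∈ W.map π := by
        rw [← hxq, ← map_commutatorElement]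
        refine Subgroup.mem_map_of_mem π ?_
        rw [commutatorElement_def, mul_assoc w, mul_assoc w]
        exact mul_mem hw ((Subgroup.mem_normalizer_iff.1 hxW _).1 (inv_mem hw))
      have h2 : ⁅π w, q⁆ ∈ Q := by
        rw [commutatorElement_def]
        exact mul_mem ((inferInstance : Q.Normal).conj_mem q hq _) (inv_mem hq)
      have h3 : W.map π ⊓ Q = ⊥ :=
        coprime_inf_pGroup (hW.coprime_dvd_left (Subgroup.card_map_dvd _ π)) hQ
      rw [← Subgroup.mem_bot, ← h3]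
      exact Subgroup.mem_inf.2 ⟨h1, h2⟩
  have hwQ : π w ∈ Q := by
    rw [hQdef]
    exact centralizer_pCore_le_of_solvable hsq h0 (hQdef ▸ hwc)
  obtain ⟨j, hj⟩ := hQ ⟨π w, hwQ⟩
  exact orderOf_eq_one_iff.1 (Nat.eq_one_of_dvd_coprimes (hwo.pow_right j) dvd_rfl
    (orderOf_dvd_of_pow_eq_one (congrArg Subtype.val hj)))

/-- The join of the `O_q`, `q ≠ p`, lies in the `p'`-core. -/
theorem iSup_pCore_le_pPrimeCore :
    (⨆ q : {q : Nat.Primes // (q : ℕ) ≠ p}, pCore (q.1 : ℕ) G) ≤ pPrimeCore p G := by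
  refine iSup_le fun q => ?_
  haveI := Fact.mk q.1.2
  refine le_pPrimeCore ?_
  obtain ⟨k, hk⟩ := IsPGroup.iff_card.1 (isPGroup_pCore (q.1 : ℕ) G)
  rw [hk]
  exact ((Nat.coprime_primes q.1.2 hp.out).2 q.2).pow_left k

theorem fitting_eq_sup :
    fittingSubgroup G = pCore p G ⊔ ⨆ q : {q : Nat.Primes // (q : ℕ) ≠ p}, pCore (q.1 : ℕ) G := by
  rw [Solv.fitting_eq_iSup_pCore]
  refine le_antisymm (iSup_le fun q => ?_) (sup_le ?_ (iSup_le fun q => le_iSup_of_le q.1 le_rfl))
  · by_cases hq : (q : ℕ) = p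
    · rw [hq]; exact le_sup_left
    · exact le_sup_of_le_right (le_iSup_of_le ⟨q, hq⟩ le_rfl)
  · exact le_iSup_of_le ⟨p, hp.out⟩ le_rfl

/-- A `p`-element centralising every `O_q`, `q ≠ p`, of a solvable group centralises its `p'`-core. -/
theorem commute_pPrimeCore (hs : Group.IsSolvable G) {x : G} {k : ℕ} (hxk : orderOf x = p ^ k)
    (hx : ∀ q : ℕ, q.Prime → q ≠ p → ∀ y ∈ pCore q G, Commute x y) {w : G}
    (hw : w ∈ pPrimeCore p G) : Commute x w := by
  have hRC : (⨆ q : {q : Nat.Primes // (q : ℕ) ≠ p}, pCore (q.1 : ℕ) G) ≤ Subgroup.centralizer {x} :=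
    iSup_le fun q y hy => Subgroup.mem_centralizer_singleton_iff.2 (hx q.1 q.1.2 q.2 y hy).symm.eq
  set R := ⨆ q : {q : Nat.Primes // (q : ℕ) ≠ p}, pCore (q.1 : ℕ) G with hR
  haveI : (pCore p G).Normal := Solv.pCore_normal p
  haveI hRn : R.Normal := by
    rw [hR]
    haveI : ∀ q : {q : Nat.Primes // (q : ℕ) ≠ p}, (pCore (q.1 : ℕ) G).Normal := fun q =>
      haveI := Fact.mk q.1.2
      Solv.pCore_normal _
    exact Subgroup.iSup_normal _
  have hRle : R ≤ pPrimeCore p G := iSup_pCore_le_pPrimeCore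
  obtain ⟨z, hzdef⟩ : ∃ z, z = x * w * x⁻¹ * w⁻¹ := ⟨_, rfl⟩
  have hzW : z ∈ pPrimeCore p G :=
    hzdef ▸ mul_mem ((inferInstance : (pPrimeCore p G).Normal).conj_mem w hw x) (inv_mem hw)
  have hzR : ∀ r ∈ R, Commute z r := by
    intro r hr
    obtain ⟨r', hr'def⟩ : ∃ r', r' = w⁻¹ * r * w := ⟨_, rfl⟩
    have hr' : r' ∈ R := by
      rw [hr'def]
      simpa using hRn.conj_mem r hr w⁻¹
    have e1 : x * r = r * x := (Subgroup.mem_centralizer_singleton_iff.1 (hRC hr)).symm
    have e2 : x * r' = r' * x := (Subgroup.mem_centralizer_singleton_iff.1 (hRC hr')).symm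
    have e3 : x⁻¹ * r = r * x⁻¹ := ((show Commute x r from e1).inv_left).eq
    show z * r = r * z
    calc z * r = x * w * x⁻¹ * r' * w⁻¹ := by rw [hzdef, hr'def]; group
      _ = x * w * (x⁻¹ * r') * w⁻¹ := by group
      _ = x * w * (r' * x⁻¹) * w⁻¹ := by rw [((show Commute x r' from e2).inv_left).eq]
      _ = x * r * w * x⁻¹ * w⁻¹ := by rw [hr'def]; group
      _ = r * z := by rw [e1, hzdef]; group
  have hzF : z ∈ fittingSubgroup G := by
    refine Solv.centralizer_fitting_le hs ?_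
    have hle : fittingSubgroup G ≤ Subgroup.centralizer {z} := by
      rw [fitting_eq_sup (p := p)]
      refine sup_le (fun y hy => ?_) (fun y hy => ?_)
      · exact Subgroup.mem_centralizer_singleton_iff.2
          (Subgroup.mem_centralizer_iff.1 (pPrimeCore_commutes_pCore hzW) y hy)
      · exact Subgroup.mem_centralizer_singleton_iff.2 (hzR y hy).symm.eq
    exact Subgroup.mem_centralizer_iff.2 fun y hy =>
      Subgroup.mem_centralizer_singleton_iff.1 (hle hy)
  rw [fitting_eq_sup (p := p), Subgroup.mem_sup_of_normal_left] at hzF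
  obtain ⟨a, ha, b, hb, hab⟩ := hzF
  have ha1 : a = 1 := by
    rw [← Subgroup.mem_bot, ← coprime_inf_pGroup (card_pPrimeCore_coprime p G) (isPGroup_pCore p G)]
    refine Subgroup.mem_inf.2 ⟨?_, ha⟩
    have := mul_mem hzW (inv_mem (hRle hb))
    rwa [← hab, mul_inv_cancel_right] at this
  rw [ha1, one_mul] at hab
  have hzx : Commute x z := (Subgroup.mem_centralizer_singleton_iff.1 (hRC (hab ▸ hb))).symm
  refine CentTrick.commute_of_step hzx (by rw [hzdef]; group) ?_
  rw [hxk]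
  exact ((mem_pPrimeCore_orderOf hzW).symm).pow_left k

/-- `O_{p'}(H)` as a subgroup of the ambient group. -/
def coreP (p : ℕ) (H : Subgroup G) : Subgroup G := (pPrimeCore p ↥H).map H.subtype

/-- The centre of `O_p(H)`. -/
def ctr (p : ℕ) (H : Subgroup G) : Subgroup G :=
  pCoreOf p H ⊓ Subgroup.centralizer (pCoreOf p H : Set G)

theorem le_normalizer_map {H : Subgroup G} (X : Subgroup ↥H) [hX : X.Normal] :
    H ≤ Subgroup.normalizer (X.map H.subtype : Set G) := by
  intro h hh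
  refine mem_normalizer_of_cj_le ?_
  rintro _ ⟨_, ⟨y, hy, rfl⟩, rfl⟩
  exact ⟨⟨h, hh⟩ * y * ⟨h, hh⟩⁻¹, hX.conj_mem y hy _, rfl⟩

theorem le_normalizer_pCoreOf (H : Subgroup G) : H ≤ Subgroup.normalizer (pCoreOf p H : Set G) :=
  haveI : (pCore p ↥H).Normal := Solv.pCore_normal p
  le_normalizer_map _

omit hp in
theorem le_normalizer_coreP (H : Subgroup G) : H ≤ Subgroup.normalizer (coreP p H : Set G) :=
  le_normalizer_map _

omit [Finite G] hp in
theorem ctr_le (H : Subgroup G) : ctr p H ≤ H := inf_le_left.trans (Subgroup.map_subtype_le _)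

theorem le_normalizer_ctr (H : Subgroup G) : H ≤ Subgroup.normalizer (ctr p H : Set G) := by
  intro h hh
  have hn := le_normalizer_pCoreOf (p := p) H hh
  refine mem_normalizer_of_cj_le ?_
  rintro _ ⟨a, ha, rfl⟩
  obtain ⟨ha1, ha2⟩ := Subgroup.mem_inf.1 ha
  refine Subgroup.mem_inf.2 ⟨(Subgroup.mem_normalizer_iff.1 hn a).1 ha1,
    Subgroup.mem_centralizer_iff.2 fun y hy => ?_⟩
  have h1 : h⁻¹ * y * h ∈ pCoreOf p H := by
    simpa using (Subgroup.mem_normalizer_iff.1 (inv_mem hn) y).1 hy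
  have e : (h⁻¹ * y * h) * a = a * (h⁻¹ * y * h) := Subgroup.mem_centralizer_iff.1 ha2 _ h1
  show y * (h * a * h⁻¹) = h * a * h⁻¹ * y
  calc y * (h * a * h⁻¹) = h * ((h⁻¹ * y * h) * a) * h⁻¹ := by group
    _ = h * (a * (h⁻¹ * y * h)) * h⁻¹ := by rw [e]
    _ = h * a * h⁻¹ * y := by group

theorem isPGroup_pCoreOf (H : Subgroup G) : IsPGroup p ↥(pCoreOf p H) :=
  (isPGroup_pCore p ↥H).map H.subtype

theorem isPGroup_ctr (H : Subgroup G) : IsPGroup p ↥(ctr p H) :=
  (isPGroup_pCoreOf H).to_le inf_le_left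

theorem fittingOf_eq (H : Subgroup G) :
    fittingOf H = ⨆ q : Nat.Primes, pCoreOf (q : ℕ) H := by
  rw [fittingOf, Solv.fitting_eq_iSup_pCore, Subgroup.map_iSup]
  rfl

theorem pCoreOf_le_fittingOf (H : Subgroup G) : pCoreOf p H ≤ fittingOf H :=
  Subgroup.map_mono (Solv.pCore_le_fitting p)

theorem ctr_central (H : Subgroup G) :
    ctr p H ≤ fittingOf H ⊓ Subgroup.centralizer (fittingOf H : Set G) := by
  refine le_inf (inf_le_left.trans (pCoreOf_le_fittingOf H)) ?_
  rw [Subgroup.le_centralizer_iff, fittingOf_eq]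
  refine iSup_le fun q => ?_
  by_cases hq : (q : ℕ) = p
  · rw [hq, Subgroup.le_centralizer_iff]
    exact inf_le_right
  · haveI := Fact.mk q.2
    haveI := TypePBasic.fittingOf_nilpotent H
    refine TypePBasic.nilpotent_coprime_commute (F := fittingOf H)
      (inf_le_left.trans (pCoreOf_le_fittingOf H)) (pCoreOf_le_fittingOf H) ?_
    obtain ⟨i, hi⟩ := IsPGroup.iff_card.1 (isPGroup_ctr (p := p) H)
    obtain ⟨j, hj⟩ := IsPGroup.iff_card.1 (isPGroup_pCoreOf (p := (q : ℕ)) H)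
    rw [hi, hj]
    exact Nat.Coprime.pow i j ((Nat.coprime_primes hp.out q.2).2 (Ne.symm hq))

theorem pCoreOf_ne_bot {H : Subgroup G} (h : p ∣ Nat.card (fittingOf H)) : pCoreOf p H ≠ ⊥ := by
  intro h0
  rw [pCoreOf, Subgroup.map_eq_bot_iff_of_injective _ H.subtype_injective] at h0
  rw [fittingOf, Subgroup.card_map_of_injective H.subtype_injective] at h
  exact hp.out.ne_one (Nat.eq_one_of_dvd_coprimes (LocalEven.GFitAct.fitting_coprime h0) h dvd_rfl)

theorem pCoreOf_eq_bot {H : Subgroup G} (h : ¬ p ∣ Nat.card (fittingOf H)) : pCoreOf p H = ⊥ := by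
  obtain ⟨k, hk⟩ := IsPGroup.iff_card.1 (isPGroup_pCoreOf (p := p) H)
  by_contra h0
  have hk0 : k ≠ 0 := fun hk0 => h0 (Subgroup.card_eq_one.1 (by rw [hk, hk0, pow_zero]))
  exact h ((dvd_pow_self p hk0).trans (hk ▸ Subgroup.card_dvd_of_le (pCoreOf_le_fittingOf H)))

theorem ctr_ne_bot {H : Subgroup G} (h : p ∣ Nat.card (fittingOf H)) : ctr p H ≠ ⊥ := by
  have hne := pCoreOf_ne_bot h
  haveI : Nontrivial ↥(pCoreOf p H) := (Subgroup.nontrivial_iff_ne_bot _).2 hne
  haveI : Nontrivial ↥(Subgroup.center ↥(pCoreOf p H)) := (isPGroup_pCoreOf H).center_nontrivial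
  obtain ⟨⟨⟨z, hzO⟩, hz⟩, hz1⟩ := exists_ne (1 : ↥(Subgroup.center ↥(pCoreOf p H)))
  intro h0
  have hzm : z ∈ ctr p H := Subgroup.mem_inf.2 ⟨hzO, Subgroup.mem_centralizer_iff.2 fun r hr =>
    congrArg Subtype.val (Subgroup.mem_center_iff.1 hz ⟨r, hr⟩)⟩
  rw [h0, Subgroup.mem_bot] at hzm
  exact hz1 (Subtype.ext (Subtype.ext hzm))

theorem normalizer_ctr (hS : IsSimpleGroup G) {H : Subgroup G} (hH : IsCoatom H)
    (h : p ∣ Nat.card (fittingOf H)) : Subgroup.normalizer (ctr p H : Set G) = H := by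
  rcases hH.le_iff.1 (le_normalizer_ctr (p := p) H) with he | he
  · exfalso
    rcases (Subgroup.normalizer_eq_top_iff.1 he).eq_bot_or_eq_top with h1 | h1
    · exact ctr_ne_bot h h1
    · exact hH.1 (eq_top_iff.2 (h1 ▸ ctr_le H))
  · exact he

/-- The A×B step: `O_q(L)` commutes with the centre of `O_p(H)`. -/
theorem step {q : ℕ} [hq : Fact q.Prime] (hpq : p ≠ q) {H L : Subgroup G}
    (hN : Subgroup.normalizer (ctr q H : Set G) = H) (hx : ctr p H ≤ L) (hT : ctr q H ≤ L) :
    pCoreOf q L ≤ Subgroup.centralizer (ctr p H : Set G) := by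
  rw [Subgroup.le_centralizer_iff]
  intro x hxp
  refine mem_centralizer_of_AB (isPGroup_pCoreOf L) (isPGroup_ctr (p := q) H)
    (hT.trans (le_normalizer_pCoreOf L)) (le_normalizer_pCoreOf L (hx hxp)) ?_ ?_ ?_
  · intro t ht
    exact (Subgroup.mem_centralizer_iff.1 (Subgroup.mem_inf.1 (ctr_central H hxp)).2 t
      (Subgroup.mem_inf.1 (ctr_central H ht)).1).symm
  · obtain ⟨k, hk⟩ := (isPGroup_ctr (p := p) H).exists_orderOf_eq_pow ⟨x, hxp⟩
    rw [Subgroup.orderOf_mk] at hk
    rw [hk]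
    exact ((Nat.coprime_primes hp.out hq.out).2 hpq).pow_left k
  · intro y hy hyT
    have hyH : y ∈ H := by
      rw [← hN]
      exact Subgroup.centralizer_le_normalizer _ (Subgroup.mem_centralizer_iff.2 fun t ht => (hyT t ht).symm)
    refine commutatorElement_eq_one_iff_mul_comm.1 ?_
    obtain ⟨i, hi⟩ := IsPGroup.iff_card.1 (isPGroup_ctr (p := p) H)
    have h3 : ctr p H ⊓ pCoreOf q L = ⊥ :=
      coprime_inf_pGroup (hi ▸ ((Nat.coprime_primes hp.out hq.out).2 hpq).pow_left i)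
        (isPGroup_pCoreOf L)
    rw [← Subgroup.mem_bot, ← h3, commutatorElement_def]
    refine Subgroup.mem_inf.2 ⟨?_, mul_mem ((Subgroup.mem_normalizer_iff.1
      (le_normalizer_pCoreOf L (hx hxp)) y).1 hy) (inv_mem hy)⟩
    rw [mul_assoc x, mul_assoc x]
    exact mul_mem hxp ((Subgroup.mem_normalizer_iff.1 (le_normalizer_ctr H hyH) _).1 (inv_mem hxp))

theorem coreP_le_centralizer {H : Subgroup G} (hs : Group.IsSolvable H) {X : Subgroup G}
    (hXH : X ≤ H) (hX : IsPGroup p X)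
    (hc : ∀ q : ℕ, q.Prime → q ≠ p → pCoreOf q H ≤ Subgroup.centralizer (X : Set G)) :
    coreP p H ≤ Subgroup.centralizer (X : Set G) := by
  rintro _ ⟨w, hw, rfl⟩
  refine Subgroup.mem_centralizer_iff.2 fun x hx => ?_
  obtain ⟨k, hk⟩ := hX.exists_orderOf_eq_pow ⟨x, hx⟩
  rw [Subgroup.orderOf_mk] at hk
  exact congrArg Subtype.val (commute_pPrimeCore hs (x := ⟨x, hXH hx⟩) (k := k)
    (by rw [Subgroup.orderOf_mk]; exact hk) (fun q hq hqp y hy => Subtype.ext
      (Subgroup.mem_centralizer_iff.1 (hc q hq hqp (Subgroup.mem_map_of_mem H.subtype hy)) x hx)) hw).eq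

theorem coreP_le_coreP {H L : Subgroup G} (hs : Group.IsSolvable L) {P : Subgroup G}
    (hP : IsPGroup p P) (hPL : P ≤ L) (hWL : coreP p H ≤ L)
    (hWP : coreP p H ≤ Subgroup.centralizer (P : Set G))
    (hCP : L ⊓ Subgroup.centralizer (P : Set G) ≤ H) : coreP p H ≤ coreP p L := by
  have h1 : (coreP p H).subgroupOf L ≤ pPrimeCore p ↥L := by
    refine le_pPrimeCore_of_pgroup_centralizer hs
      (hP.comap_of_injective L.subtype L.subtype_injective : IsPGroup p ↥(P.subgroupOf L)) ?_ ?_ ?_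
    · rw [Nat.card_congr (Subgroup.subgroupOfEquivOfLe hWL).toEquiv, coreP,
        Subgroup.card_map_of_injective H.subtype_injective]
      exact card_pPrimeCore_coprime p _
    · intro w hw
      exact Subgroup.mem_centralizer_iff.2 fun t ht =>
        Subtype.ext (Subgroup.mem_centralizer_iff.1 (hWP hw) _ ht)
    · intro c hc
      have hcH : (c : G) ∈ H := hCP (Subgroup.mem_inf.2 ⟨c.2, Subgroup.mem_centralizer_iff.2 fun t ht =>
        congrArg Subtype.val (Subgroup.mem_centralizer_iff.1 hc ⟨t, hPL ht⟩ ht)⟩)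
      refine mem_normalizer_of_cj_le ?_
      rintro _ ⟨w, hw, rfl⟩
      exact (Subgroup.mem_normalizer_iff.1 (le_normalizer_coreP H hcH) _).1 hw
  intro w hw
  exact ⟨⟨w, hWL hw⟩, h1 hw, rfl⟩

set_option maxHeartbeats 1600000 in
omit hp in
theorem uniqueness (hmin : IsMinimalSimple G) {H : Subgroup G} (hH : IsCoatom H)
    (hF2 : 2 ≤ (Nat.card (fittingOf H)).primeFactors.card)
    {M : Subgroup G} (hM : M ≤ fittingOf H)
    (hZM : fittingOf H ⊓ Subgroup.centralizer (fittingOf H : Set G) ≤ M)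
    (hinv : ∀ Y ∈ invSubgroups ⊤ M (primesNotDvd (Nat.card (fittingOf H))), Y = ⊥)
    {L : Subgroup G} (hL : IsCoatom L) (hML : M ≤ L) : L = H := by
  obtain ⟨hS, -, hsol⟩ := hmin
  have hZL : ∀ q : ℕ, q.Prime → ctr q H ≤ L := fun q hq =>
    haveI := Fact.mk hq
    ((ctr_central H).trans hZM).trans hML
  have hnot : ∀ q : ℕ, q.Prime → ¬ q ∣ Nat.card (fittingOf H) → pCoreOf q L = ⊥ := by
    intro q hq hnd
    haveI := Fact.mk hq
    refine hinv _ ⟨le_top, fun r hr hrd => ?_, hML.trans (le_normalizer_pCoreOf L)⟩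
    obtain ⟨k, hk⟩ := IsPGroup.iff_card.1 (isPGroup_pCoreOf (p := q) L)
    rw [hk] at hrd
    rw [(Nat.prime_dvd_prime_iff_eq hr hq).1 (hr.dvd_of_dvd_pow hrd)]
    exact ⟨hq, hnd⟩
  -- step 1
  have step1 : ∀ r q : ℕ, r.Prime → q.Prime → q ≠ r →
      pCoreOf q L ≤ Subgroup.centralizer (ctr r H : Set G) := by
    intro r q hr hq hne
    by_cases hqd : q ∣ Nat.card (fittingOf H)
    · haveI := Fact.mk hr
      haveI := Fact.mk hq
      exact step (Ne.symm hne) (normalizer_ctr hS hH hqd) (hZL r hr) (hZL q hq)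
    · rw [hnot q hq hqd]; exact bot_le
  -- step 2
  have step2 : ∀ r : ℕ, r.Prime → r ∣ Nat.card (fittingOf H) → r ∣ Nat.card (fittingOf L) := by
    intro r hr hrd
    haveI := Fact.mk hr
    by_contra hnd
    refine ctr_ne_bot hrd ((Subgroup.eq_bot_iff_forall _).2 fun z hz => ?_)
    have hzC : (⟨z, hZL r hr hz⟩ : L) ∈ Subgroup.centralizer (fittingSubgroup ↥L : Set ↥L) := by
      refine Subgroup.mem_centralizer_iff.2 fun y hy => Subtype.ext ?_
      have hle : fittingOf L ≤ Subgroup.centralizer (ctr r H : Set G) := by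
        rw [fittingOf_eq]
        refine iSup_le fun q => ?_
        by_cases hq : (q : ℕ) = r
        · haveI := Fact.mk q.2
          rw [pCoreOf_eq_bot (p := (q : ℕ)) (H := L) (by rw [hq]; exact hnd)]
          exact bot_le
        · exact step1 r q hr q.2 hq
      exact (Subgroup.mem_centralizer_iff.1 (hle (Subgroup.mem_map_of_mem L.subtype hy)) z hz).symm
    have hzF : z ∈ fittingOf L :=
      ⟨_, Solv.centralizer_fitting_le (hsol L hL.1) hzC, rfl⟩
    obtain ⟨k, hk⟩ := (isPGroup_ctr (p := r) H).exists_orderOf_eq_pow ⟨z, hz⟩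
    rw [Subgroup.orderOf_mk] at hk
    have hd : orderOf z ∣ Nat.card (fittingOf L) := by
      rw [← Subgroup.orderOf_mk z hzF]
      exact orderOf_dvd_natCard _
    rcases Nat.eq_zero_or_pos k with hk0 | hk0
    · rw [hk0, pow_zero] at hk
      exact orderOf_eq_one_iff.1 hk
    · exact absurd ((dvd_pow_self r hk0.ne').trans (hk ▸ hd)) hnd
  have hne : (Nat.card (fittingOf H)).primeFactors.Nonempty := Finset.card_pos.1 (by omega)
  obtain ⟨p, hp'⟩ := hne
  have hpd := Nat.dvd_of_mem_primeFactors hp'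
  have hpp := Nat.prime_of_mem_primeFactors hp'
  haveI := Fact.mk hpp
  have hother : ∀ r : ℕ, ∃ s : ℕ, s.Prime ∧ s ∣ Nat.card (fittingOf H) ∧ s ≠ r := by
    intro r
    obtain ⟨s, hs, hsr⟩ := Finset.exists_mem_ne (s := (Nat.card (fittingOf H)).primeFactors) (by omega) r
    exact ⟨s, Nat.prime_of_mem_primeFactors hs, Nat.dvd_of_mem_primeFactors hs, hsr⟩
  have hcH : ∀ r : ℕ, r.Prime → ctr r L ≤ H := by
    intro r hr
    obtain ⟨s, hs, hsd, hsr⟩ := hother r
    haveI := Fact.mk hs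
    exact ((inf_le_left.trans (step1 s r hs hr (Ne.symm hsr))).trans
      (Subgroup.centralizer_le_normalizer _)).trans (normalizer_ctr hS hH hsd).le
  -- step 3
  have step3 : ∀ r q : ℕ, r.Prime → q.Prime → q ≠ r →
      pCoreOf q H ≤ Subgroup.centralizer (ctr r L : Set G) := by
    intro r q hr hq hne
    haveI := Fact.mk hq
    by_cases hqd : q ∣ Nat.card (fittingOf H)
    · haveI := Fact.mk hr
      exact step (Ne.symm hne) (normalizer_ctr hS hL (step2 q hq hqd)) (hcH r hr) (hcH q hq)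
    · rw [pCoreOf_eq_bot hqd]; exact bot_le
  have hNH := normalizer_ctr (p := p) hS hH hpd
  have hNL := normalizer_ctr (p := p) hS hL (step2 p hpp hpd)
  have hWHc := coreP_le_centralizer (p := p) (hsol H hH.1) (hcH p hpp) (isPGroup_ctr L)
    (fun q hq hne => step3 p q hpp hq hne)
  have hWLc := coreP_le_centralizer (p := p) (hsol L hL.1) (hZL p hpp) (isPGroup_ctr H)
    (fun q hq hne => step1 p q hpp hq hne)
  have hWHL : coreP p H ≤ L := (hWHc.trans (Subgroup.centralizer_le_normalizer _)).trans hNL.le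
  have hWLH : coreP p L ≤ H := (hWLc.trans (Subgroup.centralizer_le_normalizer _)).trans hNH.le
  have selfC : ∀ X : Subgroup G, coreP p X ≤ Subgroup.centralizer (ctr p X : Set G) := by
    intro X
    rintro _ ⟨w, hw, rfl⟩
    refine Subgroup.mem_centralizer_iff.2 fun t ht => ?_
    obtain ⟨t', ht', rfl⟩ := (Subgroup.mem_inf.1 ht).1
    exact congrArg Subtype.val (Subgroup.mem_centralizer_iff.1 (pPrimeCore_commutes_pCore hw) t' ht')
  have heq : coreP p H = coreP p L := le_antisymm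
    (coreP_le_coreP (hsol L hL.1) (isPGroup_ctr H) (hZL p hpp) hWHL (selfC H)
      ((inf_le_right.trans (Subgroup.centralizer_le_normalizer _)).trans hNH.le))
    (coreP_le_coreP (hsol H hH.1) (isPGroup_ctr L) (hcH p hpp) hWLH (selfC L)
      ((inf_le_right.trans (Subgroup.centralizer_le_normalizer _)).trans hNL.le))
  obtain ⟨s, hs, hsd, hsp⟩ := hother p
  haveI := Fact.mk hs
  have hsW : pCoreOf s H ≤ coreP p H := by
    have h' : pCore s ↥H ≤ pPrimeCore p ↥H :=
      (le_iSup (fun q : {q : Nat.Primes // (q : ℕ) ≠ p} => pCore (q.1 : ℕ) ↥H) ⟨⟨s, hs⟩, hsp⟩).trans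
        (iSup_pCore_le_pPrimeCore (G := ↥H) (p := p))
    exact Subgroup.map_mono h'
  have hWne : coreP p H ≠ ⊥ := fun h0 => pCoreOf_ne_bot hsd (le_bot_iff.1 (h0 ▸ hsW))
  have hWnt : Subgroup.normalizer (coreP p H : Set G) ≠ ⊤ := fun h => by
    rcases (Subgroup.normalizer_eq_top_iff.1 h).eq_bot_or_eq_top with h1 | h1
    · exact hWne h1
    · exact hH.1 (eq_top_iff.2 (h1 ▸ Subgroup.map_subtype_le _))
  have h1 := (hH.le_iff.1 (le_normalizer_coreP (p := p) H)).resolve_left hWnt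
  have h2 := le_normalizer_coreP (p := p) L
  rw [← heq, h1] at h2
  exact ((hL.le_iff.1 h2).resolve_left hH.1).symm

end Cfsg.Agent.OddLocal.Bender
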