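import Cfsg.Prelude.Def_OddOrderLocal
import Cfsg.Agent.S1480
import Cfsg.Agent.S1886
import Cfsg.Agent.Lib.Solv.Coprime
import Cfsg.Agent.Lib.Fusion.Signalizer
import Cfsg.Agent.Lib.OddLocal.BenderUniqueness

/-!
Transitivity theorems for the invariant subgroups of a subgroup satisfying the transitivity hypothesis.
-/

set_option autoImplicit false

namespace Cfsg.Agent.OddLocal.Transit

open Cfsg
open scoped Pointwise
open Cfsg.Agent.Fusion (cj cj_cj cj_inf cj_eq_self cj_normalizer cj_mono mem_normalizer_of_cj_le cj_one isPGroup_cj)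

universe u

variable {G : Type u} [Group G] [Finite G] {n : ℕ}

/-- The prime divisors of the order avoid those of `n`. -/
def Prime' (n : ℕ) (Y : Subgroup G) : Prop :=
  ∀ r : ℕ, r.Prime → r ∣ Nat.card Y → r ∈ primesNotDvd n

theorem Prime'.of_le {X Y : Subgroup G} (h : Prime' n Y) (hle : X ≤ Y) : Prime' n X :=
  fun r hr hd => h r hr (hd.trans (Subgroup.card_dvd_of_le hle))

theorem piCoreOf_prime (X : Subgroup G) : Prime' n (piCoreOf (primesNotDvd n) X) := fun r hr hd => by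
  rw [piCoreOf, Subgroup.card_map_of_injective X.subtype_injective] at hd
  exact S1886.piCore_isPi _ r hr hd

omit [Finite G] in
theorem piCoreOf_le (X : Subgroup G) : piCoreOf (primesNotDvd n) X ≤ X := Subgroup.map_subtype_le _

theorem le_normalizer_piCoreOf (X : Subgroup G) :
    X ≤ Subgroup.normalizer (piCoreOf (primesNotDvd n) X : Set G) :=
  Bender.le_normalizer_map _

omit [Finite G] in
theorem le_piCoreOf {X Y : Subgroup G} (hYX : Y ≤ X) (hXY : X ≤ Subgroup.normalizer (Y : Set G))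
    (hY : Prime' n Y) : Y ≤ piCoreOf (primesNotDvd n) X := by
  intro y hy
  have hle : Y.subgroupOf X ≤ piCore (primesNotDvd n) ↥X := le_sSup
    (show (Y.subgroupOf X).Normal ∧ ∀ r : ℕ, r.Prime → r ∣ Nat.card (Y.subgroupOf X) → r ∈ primesNotDvd n from
      ⟨Subgroup.normal_subgroupOf_of_le_normalizer hXY, fun r hr hd => hY r hr (by
        rwa [Solv.card_subgroupOf hYX] at hd)⟩)
  exact ⟨⟨y, hYX hy⟩, hle hy, rfl⟩

/-- The transitivity hypothesis, relative to a fixed set of primes. -/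
def Hyp (n : ℕ) (A : Subgroup G) : Prop :=
  A ≠ ⊥ ∧ A ≠ ⊤ ∧ (∀ r : ℕ, r.Prime → r ∣ Nat.card A → r ∣ n) ∧
    ∀ X : Subgroup G, X ≠ ⊤ → A ≤ X → ∀ Y : Subgroup G, Y ≤ X → A ≤ Subgroup.normalizer (Y : Set G) →
      Prime' n Y → Y ≤ piCoreOf (primesNotDvd n) X

omit [Finite G] in
theorem hyp_of_transitivityHypothesis {A : Subgroup G} (h : TransitivityHypothesis A) :
    Hyp (Nat.card A) A :=
  ⟨h.1, h.2.1, fun _ _ hd => hd, fun X hX hAX Y h1 h2 h3 =>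
    (le_sSup (show Y ∈ invSubgroups X A (primesNotDvd (Nat.card A)) from ⟨h1, h3, h2⟩)).trans
      (h.2.2 X hX hAX).le⟩

theorem Hyp.coprime {A Y : Subgroup G} (h : Hyp n A) (hY : Prime' n Y) :
    (Nat.card A).Coprime (Nat.card Y) :=
  Nat.coprime_of_dvd fun r hr h1 h2 => (hY r hr h2).2 (h.2.2.1 r hr h1)

theorem prime'_of_pgroup {q : ℕ} [hq : Fact q.Prime] (hqn : ¬ q ∣ n) {Y : Subgroup G}
    (hY : IsPGroup q Y) : Prime' n Y := fun r hr hd => by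
  obtain ⟨k, hk⟩ := IsPGroup.iff_card.1 hY
  rw [hk] at hd
  rw [(Nat.prime_dvd_prime_iff_eq hr hq.out).1 (hr.dvd_of_dvd_pow hd)]
  exact ⟨hq.out, hqn⟩

theorem normalizer_ne_top (hS : IsSimpleGroup G) {D : Subgroup G} (h1 : D ≠ ⊥) (h2 : D ≠ ⊤) :
    Subgroup.normalizer (D : Set G) ≠ ⊤ := fun h =>
  (Subgroup.normalizer_eq_top_iff.1 h).eq_bot_or_eq_top.elim h1 h2

theorem centralizer_ne_top (hG : IsMinimalSimple G) {b : G} (hb : b ≠ 1) :
    Subgroup.centralizer ({b} : Set G) ≠ ⊤ := by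
  obtain ⟨hS, hnc, -⟩ := hG
  intro h
  rcases (inferInstance : (Subgroup.center G).Normal).eq_bot_or_eq_top with h1 | h1
  · refine hb (Subgroup.mem_bot.1 (h1 ▸ Subgroup.mem_center_iff.2 fun g => ?_))
    exact Subgroup.mem_centralizer_singleton_iff.1 (h ▸ Subgroup.mem_top g)
  · exact hnc ⟨⟨fun x y => (Subgroup.mem_center_iff.1 (h1 ▸ Subgroup.mem_top x) y).symm⟩⟩

/-- Every `π'`-subgroup of `C(A)` lies in its `π'`-core. -/
theorem le_centralizer_core (hS : IsSimpleGroup G) {A Y : Subgroup G} (h : Hyp n A)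
    (hY : Y ≤ Subgroup.centralizer (A : Set G)) (hYp : Prime' n Y) :
    Y ≤ piCoreOf (primesNotDvd n) (Subgroup.centralizer (A : Set G)) := by
  set C := Subgroup.centralizer (A : Set G) with hC
  have hXn : A ⊔ C ≤ Subgroup.normalizer (A : Set G) :=
    sup_le Subgroup.le_normalizer (Subgroup.centralizer_le_normalizer _)
  have h1 := h.2.2.2 (A ⊔ C) (fun ht => normalizer_ne_top hS h.1 h.2.1 (eq_top_iff.2 (ht.ge.trans hXn)))
    le_sup_left Y (hY.trans le_sup_right)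
    ((Subgroup.le_centralizer_iff.1 hY).trans (Subgroup.centralizer_le_normalizer _)) hYp
  refine (le_inf h1 hY).trans (le_piCoreOf inf_le_right ?_ ((piCoreOf_prime _).of_le inf_le_left))
  intro c hc
  refine mem_normalizer_of_cj_le ?_
  rw [cj_inf, cj_eq_self (le_normalizer_piCoreOf _ (le_sup_right (a := A) hc)),
    cj_eq_self (Subgroup.le_normalizer hc)]

/-- A fixed point among the conjugates under a coprime normalised subgroup. -/
theorem exists_fixed_conjugate {K C Q : Subgroup G} (hCK : C ≤ Subgroup.normalizer (K : Set G))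
    (hco : (Nat.card C).Coprime (Nat.card K)) (hsol : Group.IsSolvable C ∨ Group.IsSolvable K)
    (htr : ∀ c ∈ C, ∃ k ∈ K, cj Q k = cj Q c) :
    ∃ k ∈ K, C ≤ Subgroup.normalizer (cj Q k : Set G) := by
  set R := Subgroup.normalizer (Q : Set G) ⊓ (K ⊔ C) with hR
  set M := K ⊓ R with hM
  have hRK : R ≤ Subgroup.normalizer (K : Set G) :=
    inf_le_right.trans (sup_le Subgroup.le_normalizer hCK)
  have hKR : K ⊔ R = K ⊔ C := by
    refine le_antisymm (sup_le le_sup_left inf_le_right) (sup_le le_sup_left fun c hc => ?_)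
    obtain ⟨k, hk, hke⟩ := htr c hc
    have hkc : k⁻¹ * c ∈ R := by
      refine ⟨mem_normalizer_of_cj_le (le_of_eq ?_),
        mul_mem (Subgroup.mem_sup_left (inv_mem hk)) (Subgroup.mem_sup_right hc)⟩
      rw [← cj_cj, ← hke, Fusion.cj_cj_inv]
    have := mul_mem (Subgroup.mem_sup_left hk : k ∈ K ⊔ R) (Subgroup.mem_sup_right hkc)
    rwa [mul_inv_cancel_left] at this
  have hcard : Nat.card R = Nat.card C * Nat.card M := by
    have h1 := Solv.card_sup_mul_card_inf' K R hRK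
    have h2 := Solv.card_sup_mul_card_inf' K C hCK
    rw [Solv.coprime_inf hco.symm, Subgroup.card_bot, mul_one] at h2
    rw [hKR, h2] at h1
    refine Nat.eq_of_mul_eq_mul_left (Nat.card_pos (α := K)) ?_
    rw [← h1]; ring
  haveI hMn : (M.subgroupOf R).Normal :=
    Subgroup.normal_subgroupOf_of_le_normalizer fun r hr => mem_normalizer_of_cj_le (by
      rw [hM, cj_inf, cj_eq_self (hRK hr), cj_eq_self (Subgroup.le_normalizer hr)])
  have hidx : (M.subgroupOf R).index = Nat.card C := by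
    have h := (M.subgroupOf R).card_mul_index
    rw [Solv.card_subgroupOf inf_le_right, hcard, mul_comm (Nat.card C)] at h
    exact Nat.eq_of_mul_eq_mul_left Nat.card_pos h
  obtain ⟨D, hD⟩ := Subgroup.exists_right_complement'_of_coprime (N := M.subgroupOf R)
    (by rw [hidx, Solv.card_subgroupOf inf_le_right]
        exact (hco.coprime_dvd_right (Subgroup.card_dvd_of_le inf_le_left)).symm)
  have hDc : Nat.card (D.map R.subtype) = Nat.card C := by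
    rw [Solv.card_map_subtype, ← hidx, ← hD.symm.index_eq_card]
  obtain ⟨g, hg, hgC⟩ := Solv.sz_conj_rel K C (D.map R.subtype) hCK
    ((Subgroup.map_subtype_le D).trans inf_le_right) hco.symm hDc hsol.symm
  refine ⟨g⁻¹, inv_mem hg, fun c hc => mem_normalizer_of_cj_le (le_of_eq ?_)⟩
  have h1 : g * c * g⁻¹ ∈ D.map R.subtype := by
    rw [← hgC, Solv.mem_conj_smul, show g⁻¹ * (g * c * g⁻¹) * g = c by group]; exact hc
  rw [cj_cj, show c * g⁻¹ = g⁻¹ * (g * c * g⁻¹) by group, ← cj_cj,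
    cj_eq_self (Subgroup.mem_inf.1 (Subgroup.map_subtype_le D h1)).1]

section Conj

variable {q : ℕ} [hq : Fact q.Prime] {A : Subgroup G}

/-- Conjugacy of two subgroups under the core of the centralizer. -/
def Rel (n : ℕ) (A Q₁ Q₂ : Subgroup G) : Prop :=
  ∃ k ∈ piCoreOf (primesNotDvd n) (Subgroup.centralizer (A : Set G)), Q₂ = cj Q₁ k

omit [Finite G] in
theorem Rel.trans {Q₁ Q₂ Q₃ : Subgroup G} (h : Rel n A Q₁ Q₂) (h' : Rel n A Q₂ Q₃) : Rel n A Q₁ Q₃ := by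
  obtain ⟨k, hk, rfl⟩ := h
  obtain ⟨l, hl, rfl⟩ := h'
  exact ⟨l * k, mul_mem hl hk, cj_cj _ _ _⟩

omit [Finite G] in
theorem Rel.symm {Q₁ Q₂ : Subgroup G} (h : Rel n A Q₁ Q₂) : Rel n A Q₂ Q₁ := by
  obtain ⟨k, hk, rfl⟩ := h
  exact ⟨k⁻¹, inv_mem hk, (Fusion.cj_cj_inv _ _).symm⟩

theorem cj_maxInv {X : Subgroup G} {c : G} (hc : c ∈ Subgroup.normalizer (A : Set G))
    (hX : X ∈ maxInvSubgroups ⊤ A {q}) : cj X c ∈ maxInvSubgroups ⊤ A {q} := by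
  have hA : ∀ {Z : Subgroup G} {c : G}, c ∈ Subgroup.normalizer (A : Set G) →
      A ≤ Subgroup.normalizer (Z : Set G) → A ≤ Subgroup.normalizer (cj Z c : Set G) :=
    fun {Z c} hc hZ a ha => mem_normalizer_of_cj_le (le_of_eq (by
      have h1 : c⁻¹ * a * c ∈ A := by
        simpa using (Subgroup.mem_normalizer_iff.1 (inv_mem hc) a).1 ha
      rw [cj_cj, show a * c = c * (c⁻¹ * a * c) by group, ← cj_cj, cj_eq_self (hZ h1)]))
  rw [S1480.mem_maxInv] at hX ⊢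
  refine ⟨⟨isPGroup_cj hX.1.1 c, hA hc hX.1.2⟩, fun R hR hAR hle => ?_⟩
  have h := hX.2 (cj R c⁻¹) (isPGroup_cj hR _) (hA (inv_mem hc) hAR)
    (by rw [← Fusion.cj_cj_inv X c]; exact cj_mono hle _)
  rw [← h, Fusion.cj_inv_cj]

theorem bridge (hS : IsMinimalSimple G) (h : Hyp n A) (hqn : ¬ q ∣ n) {X : Subgroup G} (hX : X ≠ ⊤)
    (hAX : A ≤ X) {R₁ R₂ : Subgroup G} (h₁X : R₁ ≤ X) (h₂X : R₂ ≤ X) (h₁ : IsPGroup q R₁)
    (h₂ : IsPGroup q R₂) (hA₁ : A ≤ Subgroup.normalizer (R₁ : Set G))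
    (hA₂ : A ≤ Subgroup.normalizer (R₂ : Set G)) :
    ∃ M₁ M₂ : Subgroup G, M₁ ∈ maxInvSubgroups ⊤ A {q} ∧ M₂ ∈ maxInvSubgroups ⊤ A {q} ∧
      R₁ ≤ M₁ ∧ R₂ ≤ M₂ ∧ Rel n A M₁ M₂ := by
  set O := piCoreOf (primesNotDvd n) X with hO
  have h₁O : R₁ ≤ O := h.2.2.2 X hX hAX R₁ h₁X hA₁ (prime'_of_pgroup hqn h₁)
  have h₂O : R₂ ≤ O := h.2.2.2 X hX hAX R₂ h₂X hA₂ (prime'_of_pgroup hqn h₂)
  have hAO : A ≤ Subgroup.normalizer (O : Set G) := hAX.trans (le_normalizer_piCoreOf X)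
  have hco := h.coprime (piCoreOf_prime (n := n) X)
  have hsol : Group.IsSolvable A ∨ Group.IsSolvable O := Or.inl (hS.2.2 A h.2.1)
  obtain ⟨T₁, hT₁, hRT₁, hAT₁⟩ := Solv.exists_invariant_sylow_ge hAO hco hsol R₁ h₁O h₁ hA₁
  obtain ⟨T₂, hT₂, hRT₂, hAT₂⟩ := Solv.exists_invariant_sylow_ge hAO hco hsol R₂ h₂O h₂ hA₂
  obtain ⟨c, hc, hcT⟩ := Solv.invariant_sylow_conj hAO hco hsol hT₁ hT₂ hAT₁ hAT₂
  obtain ⟨hcO, hcC⟩ := Subgroup.mem_inf.1 hc
  obtain ⟨M₁, hTM, hM₁⟩ := S1480.exists_max T₁ hT₁.isPGroup hAT₁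
  refine ⟨M₁, cj M₁ c, hM₁, cj_maxInv (Subgroup.centralizer_le_normalizer _ hcC) hM₁, hRT₁.trans hTM, ?_,
    c, ?_, rfl⟩
  · refine hRT₂.trans ?_
    rw [← hcT, Solv.conj_smul_eq_map]
    exact cj_mono hTM c
  · exact le_centralizer_core hS.1 h inf_le_right ((piCoreOf_prime X).of_le inf_le_left) hc

theorem rel_of_inter (hS : IsMinimalSimple G) (h : Hyp n A) (hqn : ¬ q ∣ n) :
    ∀ (m : ℕ) (Q₁ Q₂ : Subgroup G), Nat.card G - Nat.card (Q₁ ⊓ Q₂ : Subgroup G) = m →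
      Q₁ ∈ maxInvSubgroups ⊤ A {q} → Q₂ ∈ maxInvSubgroups ⊤ A {q} → Q₁ ⊓ Q₂ ≠ ⊥ →
      Rel n A Q₁ Q₂ := by
  intro m
  induction m using Nat.strong_induction_on with
  | _ m ih =>
    intro Q₁ Q₂ hm m₁ m₂ hne
    obtain ⟨⟨hq₁, hA₁⟩, hm₁⟩ := S1480.mem_maxInv.1 m₁
    obtain ⟨⟨hq₂, hA₂⟩, hm₂⟩ := S1480.mem_maxInv.1 m₂
    by_cases heq : Q₁ = Q₂
    · exact ⟨1, one_mem _, by rw [cj_one, heq]⟩
    obtain ⟨D, hD⟩ : ∃ D, D = Q₁ ⊓ Q₂ := ⟨_, rfl⟩
    rw [← hD] at hm hne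
    have hD₁ : D ≠ Q₁ := fun h => heq (hm₁ Q₂ hq₂ hA₂ (h ▸ hD ▸ inf_le_right)).symm
    have hD₂ : D ≠ Q₂ := fun h => heq (hm₂ Q₁ hq₁ hA₁ (h ▸ hD ▸ inf_le_left))
    have hAD : A ≤ Subgroup.normalizer (D : Set G) := fun a ha => mem_normalizer_of_cj_le (by
      rw [hD, cj_inf, cj_eq_self (hA₁ ha), cj_eq_self (hA₂ ha)])
    have hDt : D ≠ ⊤ := fun ht => heq (by
      rw [eq_top_iff.2 (ht ▸ hD ▸ inf_le_left : (⊤ : Subgroup G) ≤ Q₁),
        eq_top_iff.2 (ht ▸ hD ▸ inf_le_right : (⊤ : Subgroup G) ≤ Q₂)])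
    obtain ⟨R₁, hR₁⟩ : ∃ R, R = Subgroup.normalizer (D : Set G) ⊓ Q₁ := ⟨_, rfl⟩
    obtain ⟨R₂, hR₂⟩ : ∃ R, R = Subgroup.normalizer (D : Set G) ⊓ Q₂ := ⟨_, rfl⟩
    have hinvR : ∀ Q : Subgroup G, A ≤ Subgroup.normalizer (Q : Set G) →
        A ≤ Subgroup.normalizer ((Subgroup.normalizer (D : Set G) ⊓ Q : Subgroup G) : Set G) :=
      fun Q hQ a ha => mem_normalizer_of_cj_le (by
        rw [cj_inf, cj_normalizer, cj_eq_self (hQ ha), cj_eq_self (hAD ha)])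
    have hlt₁ : D < R₁ := by
      rw [hR₁, inf_comm]; exact Fusion.SylIn.normalizer_growth (hD ▸ inf_le_left) hD₁ hq₁
    have hlt₂ : D < R₂ := by
      rw [hR₂, inf_comm]; exact Fusion.SylIn.normalizer_growth (hD ▸ inf_le_right) hD₂ hq₂
    obtain ⟨M₁, M₂, hM₁, hM₂, hRM₁, hRM₂, hrel⟩ := bridge (q := q) hS h hqn
      (normalizer_ne_top hS.1 hne hDt) hAD (hR₁ ▸ inf_le_left) (hR₂ ▸ inf_le_left)
      (hR₁ ▸ hq₁.to_le inf_le_right) (hR₂ ▸ hq₂.to_le inf_le_right)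
      (hR₁ ▸ hinvR Q₁ hA₁) (hR₂ ▸ hinvR Q₂ hA₂)
    have hcard : ∀ X Y : Subgroup G, D < X ⊓ Y → Nat.card G - Nat.card (X ⊓ Y : Subgroup G) < m := by
      intro X Y h
      have h5 := Subgroup.card_le_card_group (X ⊓ Y)
      have h6 := Solv.card_lt_of_lt h
      omega
    have l₁ : D < Q₁ ⊓ M₁ := hlt₁.trans_le (le_inf (hR₁ ▸ inf_le_right) hRM₁)
    have l₂ : D < M₂ ⊓ Q₂ := hlt₂.trans_le (le_inf hRM₂ (hR₂ ▸ inf_le_right))
    exact ((ih _ (hcard _ _ l₁) Q₁ M₁ rfl m₁ hM₁ l₁.ne_bot).trans hrel).trans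
      (ih _ (hcard _ _ l₂) M₂ Q₂ rfl hM₂ m₂ l₂.ne_bot)

theorem rel_of_overgroup (hS : IsMinimalSimple G) (h : Hyp n A) (hqn : ¬ q ∣ n)
    {Q₁ Q₂ H : Subgroup G} (m₁ : Q₁ ∈ maxInvSubgroups ⊤ A {q}) (m₂ : Q₂ ∈ maxInvSubgroups ⊤ A {q})
    (hH : H ≠ ⊤) (hAH : A ≤ H) (h₁ : H ⊓ Q₁ ≠ ⊥) (h₂ : H ⊓ Q₂ ≠ ⊥) : Rel n A Q₁ Q₂ := by
  obtain ⟨⟨hq₁, hA₁⟩, -⟩ := S1480.mem_maxInv.1 m₁
  obtain ⟨⟨hq₂, hA₂⟩, -⟩ := S1480.mem_maxInv.1 m₂
  have hinv : ∀ Q : Subgroup G, A ≤ Subgroup.normalizer (Q : Set G) →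
      A ≤ Subgroup.normalizer ((H ⊓ Q : Subgroup G) : Set G) :=
    fun Q hQ a ha => mem_normalizer_of_cj_le (by
      rw [cj_inf, cj_eq_self (hQ ha), cj_eq_self (Subgroup.le_normalizer (hAH ha))])
  obtain ⟨M₁, M₂, hM₁, hM₂, hRM₁, hRM₂, hrel⟩ := bridge (q := q) hS h hqn hH hAH inf_le_left inf_le_left
    (hq₁.to_le inf_le_right) (hq₂.to_le inf_le_right) (hinv Q₁ hA₁) (hinv Q₂ hA₂)
  refine ((rel_of_inter hS h hqn _ Q₁ M₁ rfl m₁ hM₁ ?_).trans hrel).trans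
    (rel_of_inter hS h hqn _ M₂ Q₂ rfl hM₂ m₂ ?_)
  · exact fun h0 => h₁ (le_bot_iff.1 ((le_inf inf_le_right hRM₁).trans h0.le))
  · exact fun h0 => h₂ (le_bot_iff.1 ((le_inf hRM₂ inf_le_right).trans h0.le))

theorem exists_elab {k : ℕ} {Z : Subgroup G} (hZ : ¬ RankLE k ↥Z) :
    ∃ p : ℕ, p.Prime ∧ ∃ E : Subgroup G, E ≤ Z ∧ IsElementaryAbelian p E ∧ p ^ (k + 1) ≤ Nat.card E := by
  rw [RankLE] at hZ
  push Not at hZ
  obtain ⟨p, hp, hr⟩ := hZ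
  rw [PRankLE] at hr
  push Not at hr
  obtain ⟨E, hEc, hEe, hcard⟩ := hr
  haveI := Fact.mk hp
  refine ⟨p, hp, E.map Z.subtype, Subgroup.map_subtype_le E, ⟨?_, ?_⟩, ?_⟩
  · haveI := hEc
    exact Subgroup.map_isMulCommutative E Z.subtype
  · rintro _ ⟨e, he, rfl⟩
    rw [← map_pow, hEe e he, map_one]
  · have hEp : IsPGroup p E := fun e => ⟨1, Subtype.ext (by rw [pow_one]; exact hEe _ e.2)⟩
    obtain ⟨j, hj⟩ := IsPGroup.iff_card.1 hEp
    rw [Subgroup.card_map_of_injective Z.subtype_injective, hj]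
    rw [hj] at hcard
    exact Nat.pow_le_pow_right hp.pos ((Nat.pow_lt_pow_iff_right hp.one_lt).1 hcard)

theorem le_centralizer_singleton {E : Subgroup G} (hE : E ≤ Subgroup.centralizer (A : Set G)) {b : G}
    (hb : b ∈ E) : A ≤ Subgroup.centralizer ({b} : Set G) := fun _ ha =>
  Subgroup.mem_centralizer_singleton_iff.2 (Subgroup.mem_centralizer_iff.1 (hE hb) _ ha)

theorem rel_rank_three (hS : IsMinimalSimple G) (h : Hyp n A) (hqn : ¬ q ∣ n)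
    (hZ : ¬ RankLE 2 ↥(A ⊓ Subgroup.centralizer (A : Set G))) {Q₁ Q₂ : Subgroup G}
    (m₁ : Q₁ ∈ maxInvSubgroups ⊤ A {q}) (m₂ : Q₂ ∈ maxInvSubgroups ⊤ A {q}) : Rel n A Q₁ Q₂ := by
  obtain ⟨⟨hq₁, hA₁⟩, hm₁⟩ := S1480.mem_maxInv.1 m₁
  obtain ⟨⟨hq₂, hA₂⟩, hm₂⟩ := S1480.mem_maxInv.1 m₂
  by_cases hne : Q₁ ⊓ Q₂ = ⊥
  swap
  · exact rel_of_inter hS h hqn _ Q₁ Q₂ rfl m₁ m₂ hne
  by_cases heq : Q₁ = Q₂
  · exact ⟨1, one_mem _, by rw [cj_one, heq]⟩
  obtain ⟨p, hp, E, hEZ, hEe, hE3⟩ := exists_elab hZ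
  haveI := Fact.mk hp
  have hpA : p ∣ Nat.card A := (dvd_pow_self p (show 3 ≠ 0 by omega)).trans (by
    obtain ⟨j, hj⟩ := IsPGroup.iff_card.1 (Fusion.elab_isPGroup hEe)
    have hj3 : 3 ≤ j := (Nat.pow_le_pow_iff_right hp.one_lt).1 (hj ▸ hE3)
    exact (pow_dvd_pow p hj3).trans (hj ▸ Subgroup.card_dvd_of_le (hEZ.trans inf_le_left)))
  have hnot : ∀ Q : Subgroup G, IsPGroup q Q → ¬ p ∣ Nat.card Q := fun Q hQ hd =>
    (prime'_of_pgroup hqn hQ p hp hd).2 (h.2.2.1 p hp hpA)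
  have hEA : E ≤ A := hEZ.trans inf_le_left
  have hD₁ : Q₁ ⊓ Q₂ ≠ Q₁ := fun he => heq (hm₁ Q₂ hq₂ hA₂ (he ▸ inf_le_right)).symm
  have hD₂ : Q₁ ⊓ Q₂ ≠ Q₂ := fun he => heq (hm₂ Q₁ hq₁ hA₁ (he ▸ inf_le_left))
  obtain ⟨b, hb, hb1, e₁, e₂⟩ := Fusion.exists_common_escape hEe hE3 hq₁ hq₂ (hnot _ hq₁) (hnot _ hq₂)
    (hEA.trans hA₁) (hEA.trans hA₂) hD₁ hD₂
  refine rel_of_overgroup hS h hqn m₁ m₂ (centralizer_ne_top hS hb1)
    (le_centralizer_singleton (hEZ.trans inf_le_right) hb) (fun h0 => e₁ ?_) (fun h0 => e₂ ?_)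
  · exact ((le_inf inf_le_right (inf_le_left.trans inf_le_right)).trans h0.le).trans bot_le
  · exact ((le_inf inf_le_right (inf_le_left.trans inf_le_right)).trans h0.le).trans bot_le

theorem rel_rank_two (hS : IsMinimalSimple G) (h : Hyp n A) (hqn : ¬ q ∣ n)
    (hqC : q ∣ Nat.card (Subgroup.centralizer (A : Set G)))
    (hZ : ¬ RankLE 1 ↥(A ⊓ Subgroup.centralizer (A : Set G))) {Q₁ Q₂ : Subgroup G}
    (m₁ : Q₁ ∈ maxInvSubgroups ⊤ A {q}) (m₂ : Q₂ ∈ maxInvSubgroups ⊤ A {q}) : Rel n A Q₁ Q₂ := by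
  obtain ⟨⟨c, hcA⟩, hc⟩ := exists_prime_orderOf_dvd_card' q hqC
  rw [Subgroup.orderOf_mk] at hc
  have hcq : IsPGroup q ↥(Subgroup.zpowers c) :=
    IsPGroup.of_card (n := 1) (by rw [Nat.card_zpowers, hc, pow_one])
  have hcC : Subgroup.zpowers c ≤ Subgroup.centralizer (A : Set G) := Subgroup.zpowers_le.2 hcA
  obtain ⟨Qc, hcQ, mc⟩ := S1480.exists_max (Subgroup.zpowers c) hcq
    ((Subgroup.le_centralizer_iff.1 hcC).trans (Subgroup.centralizer_le_normalizer _))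
  obtain ⟨p, hp, E, hEZ, hEe, hE2⟩ := exists_elab hZ
  haveI := Fact.mk hp
  have hpA : p ∣ Nat.card A := (dvd_pow_self p (show 2 ≠ 0 by omega)).trans (by
    obtain ⟨j, hj⟩ := IsPGroup.iff_card.1 (Fusion.elab_isPGroup hEe)
    have hj3 : 2 ≤ j := (Nat.pow_le_pow_iff_right hp.one_lt).1 (hj ▸ hE2)
    exact (pow_dvd_pow p hj3).trans (hj ▸ Subgroup.card_dvd_of_le (hEZ.trans inf_le_left)))
  have hEA : E ≤ A := hEZ.trans inf_le_left
  suffices hh : ∀ Q ∈ maxInvSubgroups ⊤ A {q}, Rel n A Q Qc from (hh Q₁ m₁).trans (hh Q₂ m₂).symm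
  intro Q m
  obtain ⟨⟨hQq, hAQ⟩, hmQ⟩ := S1480.mem_maxInv.1 m
  obtain ⟨⟨hcq', hAc⟩, -⟩ := S1480.mem_maxInv.1 mc
  have hnot : ¬ p ∣ Nat.card Q := fun hd =>
    (prime'_of_pgroup hqn hQq p hp hd).2 (h.2.2.1 p hp hpA)
  have hQne : Q ≠ ⊥ := fun h0 => by
    have h2 := hmQ Qc hcq' hAc (h0 ▸ bot_le)
    rw [h0] at h2
    have h3 := hcQ
    rw [h2, le_bot_iff, Subgroup.zpowers_eq_bot] at h3
    exact hq.out.ne_one (hc ▸ orderOf_eq_one_iff.2 h3)
  obtain ⟨B, hB, hBne⟩ : ∃ B ∈ Solv.CycQuot E, Q ⊓ Subgroup.centralizer (B : Set G) ≠ ⊥ := by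
    by_contra hno
    push Not at hno
    refine hQne (le_bot_iff.1 ?_)
    exact (Solv.gen_eq E Q hEe.1 (hEA.trans hAQ) (Fusion.elab_coprime hEe hnot)).ge.trans
      (iSup₂_le fun B hB => (hno B hB).le)
  obtain ⟨b, hbB, hb1⟩ : ∃ b ∈ B, b ≠ 1 := by
    by_contra hno
    push Not at hno
    have hle := Fusion.card_le_mul_of_cycQuot hEe hB
    rw [(Subgroup.eq_bot_iff_forall B).2 hno, Subgroup.card_bot, mul_one] at hle
    have := (Nat.pow_lt_pow_right hp.one_lt (show 1 < 2 by omega))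
    rw [pow_one] at this
    rw [show (1 + 1 : ℕ) = 2 from rfl] at hE2
    omega
  have hcb : c ∈ Subgroup.centralizer ({b} : Set G) := Subgroup.mem_centralizer_singleton_iff.2
    (Subgroup.mem_centralizer_iff.1 hcA b (hEA (hB.1 hbB))).symm
  refine rel_of_overgroup hS h hqn m mc (centralizer_ne_top hS hb1)
    (le_centralizer_singleton (hEZ.trans inf_le_right) (hB.1 hbB)) (fun h0 => hBne ?_) (fun h0 => ?_)
  · refine le_bot_iff.1 (le_trans (le_inf ?_ inf_le_left) h0.le)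
    exact inf_le_right.trans (Subgroup.centralizer_le (Set.singleton_subset_iff.2 hbB))
  · have h3 : c ∈ (⊥ : Subgroup G) := h0 ▸ Subgroup.mem_inf.2 ⟨hcb, hcQ (Subgroup.mem_zpowers c)⟩
    exact hq.out.ne_one (hc ▸ orderOf_eq_one_iff.2 (Subgroup.mem_bot.1 h3))

end Conj

section Overgroup

variable {q : ℕ} [hq : Fact q.Prime]

theorem Hyp.mono {A B : Subgroup G} (h : Hyp n A) (hAB : A ≤ B) (hB : B ≠ ⊤)
    (hBn : ∀ r : ℕ, r.Prime → r ∣ Nat.card B → r ∣ n) : Hyp n B :=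
  ⟨fun h0 => h.1 (le_bot_iff.1 (h0 ▸ hAB)), hB, hBn,
    fun X hX hBX Y hYX hBY hY => h.2.2.2 X hX (hAB.trans hBX) Y hYX (hAB.trans hBY) hY⟩

theorem core_inf (hS : IsSimpleGroup G) {A P : Subgroup G} (h : Hyp n A) (hAP : A ≤ P) :
    piCoreOf (primesNotDvd n) (Subgroup.centralizer (A : Set G)) ⊓ Subgroup.centralizer (P : Set G) =
      piCoreOf (primesNotDvd n) (Subgroup.centralizer (P : Set G)) := by
  have hle : Subgroup.centralizer (P : Set G) ≤ Subgroup.centralizer (A : Set G) :=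
    Subgroup.centralizer_le hAP
  refine le_antisymm (le_piCoreOf inf_le_right ?_ ((piCoreOf_prime _).of_le inf_le_left))
    (le_inf (le_centralizer_core hS h ((piCoreOf_le _).trans hle) (piCoreOf_prime _)) (piCoreOf_le _))
  exact fun c hc => mem_normalizer_of_cj_le (by
    rw [cj_inf, cj_eq_self (le_normalizer_piCoreOf _ (hle hc)), cj_eq_self (Subgroup.le_normalizer hc)])

/-- The normalizer of `B` permutes the core of its centralizer. -/
theorem normalizer_le_core (hS : IsSimpleGroup G) {B : Subgroup G} (h : Hyp n B) :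
    Subgroup.normalizer (B : Set G) ≤
      Subgroup.normalizer (piCoreOf (primesNotDvd n) (Subgroup.centralizer (B : Set G)) : Set G) := by
  intro g hg
  refine mem_normalizer_of_cj_le (le_centralizer_core hS h ?_ ?_)
  · rintro _ ⟨x, hx, rfl⟩
    refine Subgroup.mem_centralizer_iff.2 fun b hb => ?_
    have h1 : g⁻¹ * b * g ∈ B := by
      simpa using (Subgroup.mem_normalizer_iff.1 (inv_mem hg) b).1 hb
    have e : (g⁻¹ * b * g) * x = x * (g⁻¹ * b * g) :=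
      Subgroup.mem_centralizer_iff.1 (piCoreOf_le _ hx) _ h1
    show b * (g * x * g⁻¹) = g * x * g⁻¹ * b
    calc b * (g * x * g⁻¹) = g * ((g⁻¹ * b * g) * x) * g⁻¹ := by group
      _ = g * (x * (g⁻¹ * b * g)) * g⁻¹ := by rw [e]
      _ = g * x * g⁻¹ * b := by group
  · intro r hr hd
    rw [Fusion.card_cj] at hd
    exact piCoreOf_prime _ r hr hd

theorem step_subset (hS : IsMinimalSimple G) {B C : Subgroup G} (h : Hyp n B) (hqn : ¬ q ∣ n)
    (hBC : B ≤ C) (hCB : C ≤ Subgroup.normalizer (B : Set G))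
    (hC : C ≠ ⊤) (hCn : ∀ r : ℕ, r.Prime → r ∣ Nat.card C → r ∣ n)
    (htr : ∀ Q₁ ∈ maxInvSubgroups ⊤ B {q}, ∀ Q₂ ∈ maxInvSubgroups ⊤ B {q}, Rel n B Q₁ Q₂) :
    maxInvSubgroups ⊤ C {q} ⊆ maxInvSubgroups ⊤ B {q} := by
  have hC' : Hyp n C := h.mono hBC hC hCn
  intro R mR
  obtain ⟨⟨hRq, hCR⟩, hmR⟩ := S1480.mem_maxInv.1 mR
  obtain ⟨Q, hRQ, mQ⟩ := S1480.exists_max R hRq (hBC.trans hCR)
  by_cases hR0 : R = ⊥
  · obtain ⟨k, hk, hkC⟩ := exists_fixed_conjugate (Q := Q)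
      (hCB.trans (normalizer_le_core hS.1 h)) (hC'.coprime (piCoreOf_prime _))
      (Or.inl (hS.2.2 C hC)) (fun c hc => by
        obtain ⟨k, hk, hke⟩ := htr Q mQ _ (cj_maxInv (hCB hc) mQ)
        exact ⟨k, hk, hke.symm⟩)
    have mk := cj_maxInv (Subgroup.centralizer_le_normalizer _ (piCoreOf_le _ hk)) mQ
    rw [← hmR _ (S1480.mem_maxInv.1 mk).1.1 hkC (hR0 ▸ bot_le)]
    exact mk
  suffices hRQ' : R = Q from hRQ' ▸ mQ
  by_contra hne
  have hQq := (S1480.mem_maxInv.1 mQ).1.1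
  have hBQ := (S1480.mem_maxInv.1 mQ).1.2
  have hlt : R < Subgroup.normalizer (R : Set G) ⊓ Q := by
    rw [inf_comm]; exact Fusion.SylIn.normalizer_growth hRQ hne hQq
  have hRt : R ≠ ⊤ := fun ht => hne (le_antisymm hRQ (ht ▸ le_top))
  set X := Subgroup.normalizer (R : Set G) with hX
  have hBN : B ≤ Subgroup.normalizer ((X ⊓ Q : Subgroup G) : Set G) := fun a ha =>
    mem_normalizer_of_cj_le (by
      rw [hX, cj_inf, cj_normalizer, cj_eq_self (hBQ ha), cj_eq_self (hCR (hBC ha))])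
  have hXt := normalizer_ne_top hS.1 hR0 hRt
  have hTO : X ⊓ Q ≤ piCoreOf (primesNotDvd n) X :=
    h.2.2.2 X hXt (hBC.trans hCR) _ inf_le_left hBN (prime'_of_pgroup hqn (hQq.to_le inf_le_right))
  have hCO : C ≤ Subgroup.normalizer (piCoreOf (primesNotDvd n) X : Set G) :=
    hCR.trans (le_normalizer_piCoreOf X)
  obtain ⟨T, hT, hRT, hCT⟩ := Solv.exists_invariant_sylow_ge (p := q) hCO (hC'.coprime (piCoreOf_prime _))
    (Or.inl (hS.2.2 C hC)) R ((le_inf (Subgroup.le_normalizer (H := R)) hRQ).trans hTO) hRq hCR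
  have hTR : T = R := hmR T hT.isPGroup hCT hRT
  have hsup : IsPGroup q ↥(R ⊔ X ⊓ Q : Subgroup G) := hQq.to_le (sup_le hRQ inf_le_right)
  have := hT.eq_of_le hsup (sup_le (hTR ▸ hT.1) hTO) (hTR.le.trans le_sup_left)
  rw [hTR] at this
  exact hlt.not_ge (this.symm ▸ le_sup_right)

theorem step_trans (hS : IsMinimalSimple G) {B C : Subgroup G} (h : Hyp n B) (hqn : ¬ q ∣ n)
    (hBC : B ≤ C) (hCB : C ≤ Subgroup.normalizer (B : Set G))
    (hC : C ≠ ⊤) (hCn : ∀ r : ℕ, r.Prime → r ∣ Nat.card C → r ∣ n)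
    (htr : ∀ Q₁ ∈ maxInvSubgroups ⊤ B {q}, ∀ Q₂ ∈ maxInvSubgroups ⊤ B {q}, Rel n B Q₁ Q₂) :
    ∀ Q₁ ∈ maxInvSubgroups ⊤ C {q}, ∀ Q₂ ∈ maxInvSubgroups ⊤ C {q}, Rel n C Q₁ Q₂ := by
  intro Q₁ m₁ Q₂ m₂
  have hsub := step_subset hS h hqn hBC hCB hC hCn htr
  obtain ⟨k, hk, hke⟩ := htr Q₁ (hsub m₁) Q₂ (hsub m₂)
  obtain ⟨c, hc, hce⟩ := Solv.conj_of_invariant (K := piCoreOf (primesNotDvd n) (Subgroup.centralizer (B : Set G)))
    (hCB.trans (normalizer_le_core hS.1 h)) ((h.mono hBC hC hCn).coprime (piCoreOf_prime _))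
    (Or.inl (hS.2.2 C hC)) Q₁ Q₂ (S1480.mem_maxInv.1 m₁).1.2 (S1480.mem_maxInv.1 m₂).1.2 hk
    (by rw [Solv.conj_smul_eq_map]; exact hke.symm)
  refine ⟨c, ?_, ?_⟩
  · rw [← core_inf hS.1 h hBC]; exact hc
  · rw [← hce, Solv.conj_smul_eq_map]

theorem overgroup (hS : IsMinimalSimple G) {A P : Subgroup G} (h : Hyp n A) (hqn : ¬ q ∣ n)
    (hAP : A ≤ P) (hP : P ≠ ⊤) (hPn : ∀ r : ℕ, r.Prime → r ∣ Nat.card P → r ∣ n)
    (hsn : (A.subgroupOf P).IsSubnormal)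
    (htr : ∀ Q₁ ∈ maxInvSubgroups ⊤ A {q}, ∀ Q₂ ∈ maxInvSubgroups ⊤ A {q}, Rel n A Q₁ Q₂) :
    (∀ Q₁ ∈ maxInvSubgroups ⊤ P {q}, ∀ Q₂ ∈ maxInvSubgroups ⊤ P {q}, Rel n P Q₁ Q₂) ∧
      maxInvSubgroups ⊤ P {q} ⊆ maxInvSubgroups ⊤ A {q} := by
  suffices key : ∀ H : Subgroup ↥P, H.IsSubnormal → ∀ B : Subgroup G, B = H.map P.subtype → A ≤ B →
      (∀ Q₁ ∈ maxInvSubgroups ⊤ B {q}, ∀ Q₂ ∈ maxInvSubgroups ⊤ B {q}, Rel n B Q₁ Q₂) →
      (∀ Q₁ ∈ maxInvSubgroups ⊤ P {q}, ∀ Q₂ ∈ maxInvSubgroups ⊤ P {q}, Rel n P Q₁ Q₂) ∧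
      maxInvSubgroups ⊤ P {q} ⊆ maxInvSubgroups ⊤ B {q} from
    key _ hsn A (Subgroup.map_subgroupOf_eq_of_le hAP).symm le_rfl htr
  intro H hH
  induction hH with
  | top =>
    intro B hB _ htr
    rw [← MonoidHom.range_eq_map, Subgroup.range_subtype] at hB
    subst hB
    exact ⟨htr, subset_rfl⟩
  | step H K hHK hK hn ih =>
    intro B hB hAB htr
    have hBK : B ≤ K.map P.subtype := hB ▸ Subgroup.map_mono hHK
    have hBP : B ≤ P := hBK.trans (Subgroup.map_subtype_le _)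
    have hBt : B ≠ ⊤ := fun ht => hP (eq_top_iff.2 (ht ▸ hBP))
    have hKP : K.map P.subtype ≤ P := Subgroup.map_subtype_le _
    have hKt : K.map P.subtype ≠ ⊤ := fun ht => hP (eq_top_iff.2 (ht ▸ hKP))
    have hKn : ∀ r : ℕ, r.Prime → r ∣ Nat.card (K.map P.subtype) → r ∣ n :=
      fun r hr hd => hPn r hr (hd.trans (Subgroup.card_dvd_of_le hKP))
    have hB' : Hyp n B := h.mono hAB hBt fun r hr hd => hPn r hr (hd.trans (Subgroup.card_dvd_of_le hBP))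
    have hKB : K.map P.subtype ≤ Subgroup.normalizer (B : Set G) := by
      rintro _ ⟨x, hx, rfl⟩
      have hxn := (Subgroup.normal_subgroupOf_iff_le_normalizer hHK).1 hn hx
      rw [hB]
      exact Subgroup.le_normalizer_map P.subtype ⟨x, hxn, rfl⟩
    obtain ⟨h1, h2⟩ := ih _ rfl (hAB.trans hBK) (step_trans hS hB' hqn hBK hKB hKt hKn htr)
    exact ⟨h1, h2.trans (step_subset hS hB' hqn hBK hKB hKt hKn htr)⟩

theorem frattini (hS : IsSimpleGroup G) {P Q : Subgroup G} (h : Hyp n P)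
    (htr : ∀ Q₁ ∈ maxInvSubgroups ⊤ P {q}, ∀ Q₂ ∈ maxInvSubgroups ⊤ P {q}, Rel n P Q₁ Q₂)
    (mQ : Q ∈ maxInvSubgroups ⊤ P {q}) :
    P ⊓ ⁅Subgroup.normalizer (P : Set G), Subgroup.normalizer (P : Set G)⁆ ≤
        ⁅Subgroup.normalizer (Q : Set G), Subgroup.normalizer (Q : Set G)⁆ ∧
      Subgroup.normalizer (P : Set G) = piCoreOf (primesNotDvd n) (Subgroup.centralizer (P : Set G)) ⊔
        (Subgroup.normalizer (P : Set G) ⊓ Subgroup.normalizer (Q : Set G)) := by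
  set K := piCoreOf (primesNotDvd n) (Subgroup.centralizer (P : Set G)) with hKdef
  set N := Subgroup.normalizer (P : Set G) ⊓ Subgroup.normalizer (Q : Set G) with hNdef
  have hKN : K ≤ Subgroup.normalizer (P : Set G) :=
    (piCoreOf_le _).trans (Subgroup.centralizer_le_normalizer _)
  have hNK : Subgroup.normalizer (P : Set G) = K ⊔ N := by
    refine le_antisymm (fun g hg => ?_) (sup_le hKN inf_le_left)
    obtain ⟨k, hk, hke⟩ := htr Q mQ _ (cj_maxInv hg mQ)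
    have hkg : k⁻¹ * g ∈ N := ⟨Subgroup.mul_mem _ (Subgroup.inv_mem _ (hKN hk)) hg, mem_normalizer_of_cj_le (le_of_eq (by
      rw [← cj_cj, hke, Fusion.cj_cj_inv]))⟩
    have := mul_mem (Subgroup.mem_sup_left hk : k ∈ K ⊔ N) (Subgroup.mem_sup_right hkg)
    rwa [mul_inv_cancel_left] at this
  refine ⟨?_, hNK⟩
  rintro x ⟨hxP, hxN⟩
  set L := Subgroup.normalizer (P : Set G) with hL
  haveI : (K.subgroupOf L).Normal :=
    Subgroup.normal_subgroupOf_of_le_normalizer (normalizer_le_core hS h)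
  set π := QuotientGroup.mk' (K.subgroupOf L)
  have hsur : (N.subgroupOf L).map π = ⊤ := by
    refine eq_top_iff.2 fun y _ => ?_
    obtain ⟨g, rfl⟩ := QuotientGroup.mk'_surjective _ y
    have hg : (g : G) ∈ K ⊔ N := hNK ▸ g.2
    rw [← SetLike.mem_coe,
      Subgroup.coe_mul_of_right_le_normalizer_left K N (inf_le_left.trans (normalizer_le_core hS h))] at hg
    obtain ⟨k, hk, m, hm, hgm⟩ := hg
    simp only at hgm
    refine ⟨⟨m, inf_le_left (b := Subgroup.normalizer (Q : Set G)) hm⟩, hm, ?_⟩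
    refine QuotientGroup.eq.2 ?_
    show m⁻¹ * (g : G) ∈ K
    rw [← hgm, show m⁻¹ * (k * m) = m⁻¹ * k * m⁻¹⁻¹ by group]
    exact (Subgroup.mem_normalizer_iff.1 (inv_mem (normalizer_le_core hS h (inf_le_left (a := L) hm))) k).1 hk
  have hxL : x ∈ L := Subgroup.le_normalizer hxP
  have hxc : (⟨x, hxL⟩ : L) ∈ commutator L := by
    have h1 : (commutator L).map L.subtype = ⁅L, L⁆ := by
      rw [commutator_def, Subgroup.map_commutator, ← MonoidHom.range_eq_map, Subgroup.range_subtype]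
    obtain ⟨y, hy, hyx⟩ := h1.ge hxN
    rwa [show (⟨x, hxL⟩ : L) = y from Subtype.ext hyx.symm]
  have h2 : π ⟨x, hxL⟩ ∈ (⁅N.subgroupOf L, N.subgroupOf L⁆ : Subgroup L).map π := by
    rw [Subgroup.map_commutator, hsur, ← commutator_def]
    have h3 := Subgroup.mem_map_of_mem π hxc
    rw [commutator_def, Subgroup.map_commutator] at h3
    exact Subgroup.commutator_mono le_top le_top h3
  obtain ⟨m, hm, hme⟩ := h2
  have hk : (m : G)⁻¹ * x ∈ K := (QuotientGroup.eq (s := K.subgroupOf L)).1 hme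
  have hmN : (m : G) ∈ ⁅N, N⁆ := by
    have h4 := Subgroup.mem_map_of_mem L.subtype hm
    rw [Subgroup.map_commutator, Subgroup.map_subgroupOf_eq_of_le inf_le_left] at h4
    exact h4
  set k := (m : G)⁻¹ * x with hkdef
  have hcom : Commute x k := Subgroup.mem_centralizer_iff.1 (piCoreOf_le _ hk) x hxP
  have hcop : (orderOf x).Coprime (orderOf k) :=
    (((h.coprime (piCoreOf_prime _)).coprime_dvd_left (Subgroup.orderOf_dvd_natCard P hxP)).coprime_dvd_right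
      (Subgroup.orderOf_dvd_natCard K hk))
  obtain ⟨i, hi⟩ := Nat.exists_eq_add_of_le (Nat.zero_le (orderOf k))
  have hpow : (m : G) ^ orderOf k = x ^ orderOf k := by
    rw [show (m : G) = x * k⁻¹ by rw [hkdef]; group, (hcom.inv_right).mul_pow, inv_pow, pow_orderOf_eq_one,
      inv_one, mul_one]
  obtain ⟨j, hj⟩ := exists_pow_eq_self_of_coprime hcop.symm
  rw [← hj, ← hpow]
  exact pow_mem (pow_mem (Subgroup.commutator_mono inf_le_right inf_le_right hmN) _) _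

end Overgroup

end Cfsg.Agent.OddLocal.Transit
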