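import Cfsg.Agent.Lib.OddLocal.SigmaPLength
import Cfsg.Agent.S1448
import Cfsg.Agent.S1461

/-!
Sylow subgroups of a minimal simple group of odd order and their normalisers.
-/

set_option autoImplicit false

namespace Cfsg.Agent.OddLocal.Sig

open Cfsg
open Cfsg.Agent.Fusion (SylIn cj cj_cj cj_eq_self cj_mono card_cj isPGroup_cj sylIn_map sylIn_top exists_sylIn_ge
  mem_normalizer_of_cj_le)
open Cfsg.Agent.OddLocal.Uniq
open scoped commutatorElement

universe u

variable {G : Type u} [Group G] [Finite G] {p : ℕ} [hp : Fact p.Prime]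

/-- A maximal subgroup over the normaliser of a Sylow subgroup. -/
theorem exists_maximal_sylow (hG : IsMinSimpleOddOrder G) (P : Sylow p G) (hP : (P : Subgroup G) ≠ ⊥) :
    ∃ (M : Subgroup G) (S : Sylow p M), IsCoatom M ∧ p ∈ sigma M ∧
      (S : Subgroup M).map M.subtype = (P : Subgroup G) ∧
      Subgroup.normalizer ((P : Subgroup G) : Set G) ≤ M := by
  obtain ⟨M, hM, hNM⟩ := exists_coatom _ (normalizer_pgroup_ne_top hG P.isPGroup' hP)
  have hPM : (P : Subgroup G) ≤ M := Subgroup.le_normalizer.trans hNM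
  obtain ⟨S, hS⟩ := ((sylIn_top P).mono hPM le_top).exists_sylow_subgroupOf
  have hSe : (S : Subgroup M).map M.subtype = (P : Subgroup G) := by
    rw [hS, Subgroup.map_subgroupOf_eq_of_le hPM]
  refine ⟨M, S, hM, ⟨hp.out, ?_, S, by rw [hSe]; exact hNM⟩, hSe, hNM⟩
  refine dvd_trans ?_ (Subgroup.card_dvd_of_le hPM)
  obtain ⟨k, hk⟩ := IsPGroup.iff_card.1 P.isPGroup'
  rw [hk]
  exact dvd_pow_self p fun h => hP (Subgroup.card_eq_one.1 (by rw [hk, h, pow_zero]))

omit [Finite G] hp in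
theorem normalizer_map_le {M : Subgroup G} {Y : Subgroup M} {Z : Subgroup G} (h : Y.map M.subtype = Z) :
    (Subgroup.normalizer (Y : Set M)).map M.subtype ≤ Subgroup.normalizer (Z : Set G) :=
  h ▸ Subgroup.le_normalizer_map M.subtype

/-- A Sylow subgroup lies in the derived subgroup of its normaliser. -/
theorem sylow_le_normalizer_derived (hG : IsMinSimpleOddOrder G) (P : Sylow p G) :
    (P : Subgroup G) ≤ ⁅Subgroup.normalizer ((P : Subgroup G) : Set G),
      Subgroup.normalizer ((P : Subgroup G) : Set G)⁆ := by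
  by_cases hP : (P : Subgroup G) = ⊥
  · rw [hP]; exact bot_le
  obtain ⟨M, S, hM, hσ, hSe, -⟩ := exists_maximal_sylow hG P hP
  haveI := hG.2.2.2 M hM.1
  have h1 := (Cfsg.Agent.S1461.result p (pLengthLE_one hG hM.1) S).1 (sylow_le_derived hG hM hσ S)
  have h2 := Subgroup.map_mono (f := M.subtype) h1
  rw [hSe, Subgroup.map_commutator] at h2
  exact h2.trans (Subgroup.commutator_mono (normalizer_map_le hSe) (normalizer_map_le hSe))

/-- A complement of a Sylow subgroup in its normaliser. -/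
theorem compl_facts (hG : IsMinSimpleOddOrder G) (P : Sylow p G) (hP : (P : Subgroup G) ≠ ⊥) {V : Subgroup G}
    (hV : IsComplIn (P : Subgroup G) V (Subgroup.normalizer ((P : Subgroup G) : Set G))) :
    (P : Subgroup G) = ⁅(P : Subgroup G), V⁆ ∧ (Nat.card V).Coprime p := by
  set N := Subgroup.normalizer ((P : Subgroup G) : Set G) with hN
  obtain ⟨hPN, hVN, hinf, hmul⟩ := hV
  haveI := hG.2.2.2 N (normalizer_pgroup_ne_top hG P.isPGroup' hP)
  haveI : ((P : Subgroup G).subgroupOf N).Normal := Subgroup.normal_in_normalizer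
  have hc : Subgroup.IsComplement' ((P : Subgroup G).subgroupOf N) (V.subgroupOf N) := by
    refine Subgroup.isComplement'_of_disjoint_and_mul_eq_univ ?_ ?_
    · rw [disjoint_iff, eq_bot_iff]
      intro x hx
      exact Subgroup.mem_bot.2 (Subtype.ext (Subgroup.mem_bot.1 (hinf ▸ ⟨hx.1, hx.2⟩ : (x : G) ∈ (⊥ : Subgroup G))))
    · refine Set.eq_univ_of_forall fun x => ?_
      obtain ⟨a, ha, b, hb, e⟩ := hmul x x.2
      exact ⟨⟨a, hPN ha⟩, ha, ⟨b, hVN hb⟩, hb, Subtype.ext e.symm⟩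
  have hidx : ¬ p ∣ ((P : Subgroup G).subgroupOf N).index := fun h =>
    P.not_dvd_index (h.trans ⟨N.index, (Subgroup.relIndex_mul_index hPN).symm⟩)
  have hVc : (Nat.card V).Coprime p := by
    rw [← Solv.card_subgroupOf hVN, ← hc.symm.index_eq_card]
    exact ((Nat.Prime.coprime_iff_not_dvd hp.out).2 hidx).symm
  refine ⟨?_, hVc⟩
  have hHall : (Nat.card ((P : Subgroup G).subgroupOf N)).Coprime ((P : Subgroup G).subgroupOf N).index := by
    obtain ⟨k, hk⟩ := IsPGroup.iff_card.1 P.isPGroup'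
    rw [Solv.card_subgroupOf hPN, hk]
    exact Nat.Coprime.pow_left k ((Nat.Prime.coprime_iff_not_dvd hp.out).2 hidx)
  have hle : (P : Subgroup G).subgroupOf N ≤ commutator N := by
    rw [← Subgroup.map_le_map_iff_of_injective N.subtype_injective, Subgroup.map_subgroupOf_eq_of_le hPN,
      Subgroup.map_subtype_commutator]
    exact sylow_le_normalizer_derived hG P
  have h := congrArg (Subgroup.map N.subtype)
    ((Cfsg.Agent.S1459.result).1 _ _ inferInstance hHall hc hle).1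
  rwa [Subgroup.map_subgroupOf_eq_of_le hPN, Subgroup.map_commutator, Subgroup.map_subgroupOf_eq_of_le hPN,
    Subgroup.map_subgroupOf_eq_of_le hVN] at h

/-- The centre of a nonabelian group of order `p³`. -/
theorem derived_eq_centre {R : Subgroup G} (hc : ¬ IsMulCommutative ↥R) (hcard : Nat.card R = p ^ 3) :
    ⁅R, R⁆ = R ⊓ Subgroup.centralizer (R : Set G) := by
  set Z := Subgroup.center ↥R with hZ
  have hRp : IsPGroup p ↥R := IsPGroup.of_card hcard
  haveI : Nontrivial ↥R := by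
    refine Finite.one_lt_card_iff_nontrivial.1 ?_
    rw [hcard]; exact Nat.one_lt_pow (by omega) hp.out.one_lt
  haveI : Nontrivial Z := hRp.center_nontrivial
  obtain ⟨k, hk⟩ := IsPGroup.iff_card.1 (hRp.to_subgroup Z)
  have hk1 : k = 1 := by
    have h0 : k ≠ 0 := fun h => by
      have := Finite.one_lt_card (α := ↥Z)
      rw [hk, h, pow_zero] at this
      omega
    have h3 : k ≤ 3 := (Nat.pow_le_pow_iff_right hp.out.one_lt).1
      (hk ▸ hcard ▸ Nat.le_of_dvd Nat.card_pos (Subgroup.card_subgroup_dvd_card Z))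
    by_contra h1
    have hidx : Z.index = p ^ (3 - k) := by
      have h := Z.card_mul_index
      rw [hk, hcard] at h
      refine Nat.eq_of_mul_eq_mul_left (pow_pos hp.out.pos k) ?_
      rw [h, ← pow_add, show k + (3 - k) = 3 by omega]
    haveI : IsCyclic (↥R ⧸ Subgroup.center ↥R) := by
      rcases (show 3 - k = 0 ∨ 3 - k = 1 by omega) with h | h
      · haveI := (Nat.card_eq_one_iff_unique.1
          (show Nat.card (↥R ⧸ Subgroup.center ↥R) = 1 by
            rw [← Subgroup.index_eq_card, hidx, h, pow_zero])).1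
        infer_instance
      · exact isCyclic_of_prime_card (p := p) (by rw [← Subgroup.index_eq_card, hidx, h, pow_one])
    exact hc (isMulCommutative_of_isCyclic_quotient_center_self _)
  subst hk1
  have hle : commutator ↥R ≤ Z := by
    have hidx : Z.index = p ^ 2 := by
      have h := Z.card_mul_index
      rw [hk, hcard] at h
      exact Nat.eq_of_mul_eq_mul_left (pow_pos hp.out.pos 1) (by rw [h, ← pow_add])
    have hcomm := IsPGroup.commutative_of_card_eq_prime_sq (G := ↥R ⧸ Z) (p := p)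
      (by rw [← Subgroup.index_eq_card]; exact hidx)
    rw [commutator_def, Subgroup.commutator_le]
    intro a _ b _
    refine (QuotientGroup.eq_one_iff _).1 ?_
    show QuotientGroup.mk' Z ⁅a, b⁆ = 1
    rw [map_commutatorElement]
    exact commutatorElement_eq_one_iff_mul_comm.2 (hcomm _ _)
  have heq : commutator ↥R = Z := by
    refine Subgroup.eq_of_le_of_card_ge hle ?_
    obtain ⟨j, hj⟩ := IsPGroup.iff_card.1 (hRp.to_subgroup (commutator ↥R))
    rw [hk, hj]
    refine Nat.pow_le_pow_right hp.out.pos (Nat.one_le_iff_ne_zero.2 fun h => hc ⟨⟨fun a b => ?_⟩⟩)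
    have hbot : commutator ↥R = ⊥ := Subgroup.card_eq_one.1 (by rw [hj, h, pow_zero])
    exact commutatorElement_eq_one_iff_mul_comm.1 (Subgroup.mem_bot.1 (hbot ▸
      Subgroup.commutator_mem_commutator (Subgroup.mem_top a) (Subgroup.mem_top b)))
  rw [← Subgroup.map_subtype_commutator, heq]
  ext x
  constructor
  · rintro ⟨z, hz, rfl⟩
    exact ⟨z.2, Subgroup.mem_centralizer_iff.2 fun y hy =>
      congrArg Subtype.val (Subgroup.mem_center_iff.1 hz ⟨y, hy⟩)⟩
  · rintro ⟨hxR, hxC⟩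
    exact ⟨⟨x, hxR⟩, Subgroup.mem_center_iff.2 fun y => Subtype.ext (Subgroup.mem_centralizer_iff.1 hxC y y.2), rfl⟩

/-- Sylow subgroups of rank at most two. -/
theorem sylow_rank_two (hG : IsMinSimpleOddOrder G) (P : Sylow p G) (hr : PRankLE p 2 ↥(P : Subgroup G)) :
    IsMulCommutative (P : Subgroup G) ∨ ∃ P₁ P₂ : Subgroup G, P₁ ⊔ P₂ = (P : Subgroup G) ∧
      (∀ a ∈ P₁, ∀ b ∈ P₂, a * b = b * a) ∧
      ¬ IsMulCommutative P₁ ∧ Nat.card P₁ = p ^ 3 ∧ Monoid.exponent P₁ = p ∧ IsCyclic P₂ ∧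
      Subgroup.closure {x : G | x ∈ P₂ ∧ x ^ p = 1} = P₁ ⊓ Subgroup.centralizer (P₁ : Set G) := by
  by_cases hP : (P : Subgroup G) = ⊥
  · left
    rw [hP]
    exact ⟨⟨fun a b => Subtype.ext ((Subgroup.mem_bot.1 (a * b).2).trans (Subgroup.mem_bot.1 (b * a).2).symm)⟩⟩
  set N := Subgroup.normalizer ((P : Subgroup G) : Set G) with hN
  haveI : ((P : Subgroup G).subgroupOf N).Normal := Subgroup.normal_in_normalizer
  have hidx : ¬ p ∣ ((P : Subgroup G).subgroupOf N).index := fun h =>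
    P.not_dvd_index (h.trans ⟨N.index, (Subgroup.relIndex_mul_index Subgroup.le_normalizer).symm⟩)
  obtain ⟨K, hK⟩ := Subgroup.exists_right_complement'_of_coprime (N := (P : Subgroup G).subgroupOf N) (by
    obtain ⟨k, hk⟩ := IsPGroup.iff_card.1 P.isPGroup'
    rw [Solv.card_subgroupOf Subgroup.le_normalizer, hk]
    exact Nat.Coprime.pow_left k ((Nat.Prime.coprime_iff_not_dvd hp.out).2 hidx))
  have hV : IsComplIn (P : Subgroup G) (K.map N.subtype) N := by
    refine ⟨Subgroup.le_normalizer, Subgroup.map_subtype_le K, ?_, fun m hm => ?_⟩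
    · refine eq_bot_iff.2 fun x hx => ?_
      obtain ⟨hxP, y, hy, rfl⟩ := hx
      have h1 : y ∈ (P : Subgroup G).subgroupOf N ⊓ K := ⟨hxP, hy⟩
      rw [disjoint_iff.1 hK.disjoint, Subgroup.mem_bot] at h1
      rw [h1, map_one]
      exact one_mem _
    · obtain ⟨a, ha, b, hb, e⟩ := Subgroup.mem_sup_of_normal_left.1
        (hK.sup_eq_top ▸ Subgroup.mem_top (⟨m, hm⟩ : N))
      exact ⟨a, ha, b, ⟨b, hb, rfl⟩, (congrArg Subtype.val e).symm⟩
  obtain ⟨heq, hVc⟩ := compl_facts hG P hP hV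
  obtain ⟨-, h⟩ := Cfsg.Agent.S1448.result p (ne_two hG P.isPGroup' hP) (P : Subgroup G) (K.map N.subtype)
    P.isPGroup' hP hr (Subgroup.map_subtype_le K) hVc (odd_subgroup hG _) heq.symm
  refine h.imp_right fun ⟨P₁, P₂, h1, h2, h3, h4, h5, h6, h7⟩ =>
    ⟨P₁, P₂, h1, h2, h3, h4, h5, h6, h7.trans (derived_eq_centre h3 h4)⟩

/-- Fusion in a Sylow subgroup is controlled by its normaliser. -/
theorem sylow_fusion (hG : IsMinSimpleOddOrder G) (P : Sylow p G) {Q : Subgroup G} (x : G)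
    (hQ : Q ≤ (P : Subgroup G)) (hQx : cj Q x ≤ (P : Subgroup G)) :
    ∃ y ∈ Subgroup.normalizer ((P : Subgroup G) : Set G), cj Q x = cj Q y := by
  by_cases hQ1 : Q = ⊥
  · exact ⟨1, one_mem _, by rw [hQ1]; exact (Subgroup.map_bot _).trans (Subgroup.map_bot _).symm⟩
  obtain ⟨M, S, hM, hσ, hSe, hNM⟩ := exists_maximal_sylow hG P (fun h => hQ1 (le_bot_iff.1 (h ▸ hQ)))
  haveI := hG.2.2.2 M hM.1
  have hPM : (P : Subgroup G) ≤ M := Subgroup.le_normalizer.trans hNM
  obtain ⟨m, hm, c, hc, rfl⟩ := conj_factor hG hσ hM Q (P.isPGroup'.to_le hQ) hQ1 (hQ.trans hPM) x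
    (hQx.trans hPM)
  have hcQ : ∀ q ∈ Q, c * q * c⁻¹ = q := fun q hq => by
    rw [← Subgroup.mem_centralizer_iff.1 hc q hq, mul_inv_cancel_right]
  have hmem : ∀ q : M, (q : G) ∈ (P : Subgroup G) → q ∈ (S : Subgroup M) := fun q hq => by
    rw [← hSe] at hq
    obtain ⟨s, hs, e⟩ := hq
    rwa [← Subtype.ext e]
  have hconj : ∀ q : G, q ∈ Q → m * q * m⁻¹ ∈ (P : Subgroup G) := fun q hq => by
    have := hQx ⟨q, hq, rfl⟩
    rw [show (MulAut.conj (m * c)).toMonoidHom q = m * (c * q * c⁻¹) * m⁻¹ by simp [mul_assoc]] at this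
    rwa [hcQ q hq] at this
  obtain ⟨g, hg, d, hd, hgd⟩ := (Cfsg.Agent.S1461.result p (pLengthLE_one hG hM.1) S).2.1
    ((Q.subgroupOf M : Subgroup M) : Set M) ⟨m, hm⟩ (fun q hq => hmem q (hQ hq))
    (by rintro _ ⟨q, hq, rfl⟩; exact hmem _ (hconj q hq))
  refine ⟨g, normalizer_map_le hSe (Subgroup.mem_map_of_mem M.subtype hg), ?_⟩
  have key : ∀ q ∈ Q, (MulAut.conj (m * c)).toMonoidHom q = (MulAut.conj (g : G)).toMonoidHom q := by
    intro q hq
    have hdq : (d : G) * q * (d : G)⁻¹ = q := by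
      have h1 := congrArg Subtype.val (Subgroup.mem_centralizer_iff.1 hd ⟨q, hPM (hQ hq)⟩ hq)
      rw [← show q * (d : G) = d * q from h1, mul_inv_cancel_right]
    have hm' : m = (g : G) * d := (congrArg Subtype.val hgd).symm
    calc (MulAut.conj (m * c)).toMonoidHom q = m * (c * q * c⁻¹) * m⁻¹ := by simp [mul_assoc]
      _ = (g : G) * (d * q * (d : G)⁻¹) * (g : G)⁻¹ := by rw [hcQ q hq, hm']; group
      _ = (MulAut.conj (g : G)).toMonoidHom q := by rw [hdq]; rfl
  ext z
  constructor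
  · rintro ⟨q, hq, rfl⟩; exact ⟨q, hq, (key q hq).symm⟩
  · rintro ⟨q, hq, rfl⟩; exact ⟨q, hq, key q hq⟩

/-- Every subgroup of a Sylow subgroup is fully normalised in it. -/
theorem normalizer_sylIn (hG : IsMinSimpleOddOrder G) (P : Sylow p G) {Q : Subgroup G}
    (hQ : Q ≤ (P : Subgroup G)) :
    SylIn p ((P : Subgroup G) ⊓ Subgroup.normalizer (Q : Set G)) (Subgroup.normalizer (Q : Set G)) := by
  obtain ⟨T, hT, hPT⟩ := exists_sylIn_ge (P.isPGroup'.to_inf_left (K := Subgroup.normalizer (Q : Set G)))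
    inf_le_right
  have hQT : Q ≤ T := (le_inf hQ Subgroup.le_normalizer).trans hPT
  obtain ⟨x, -, hx⟩ := (sylIn_top P).conj_le hT.isPGroup le_top
  obtain ⟨y, hy, he⟩ := sylow_fusion hG P x hQ ((cj_mono hQT x).trans hx)
  refine hT.of_card_ge P.isPGroup'.to_inf_left inf_le_right ?_
  rw [← card_cj T (y⁻¹ * x)]
  have hn : y⁻¹ * x ∈ Subgroup.normalizer (Q : Set G) := by
    refine mem_normalizer_of_cj_le (le_of_eq ?_)
    rw [← cj_cj, he, cj_cj, inv_mul_cancel, Fusion.cj_one]
  refine Subgroup.card_le_of_le (le_inf ?_ ((cj_mono hT.le _).trans (cj_eq_self (Subgroup.le_normalizer hn)).le))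
  rw [← cj_cj]
  exact (cj_mono hx _).trans (cj_eq_self (inv_mem hy)).le

/-- Subgroups normalised by the normaliser of a Sylow subgroup are weakly closed in `p`-subgroups. -/
theorem normalizer_weakly_closed (hG : IsMinSimpleOddOrder G) (P : Sylow p G) {R Q : Subgroup G}
    (hR : IsPGroup p R) (hQ : Q ≤ (P : Subgroup G) ⊓ R)
    (hN : Subgroup.normalizer ((P : Subgroup G) : Set G) ≤ Subgroup.normalizer (Q : Set G)) :
    Subgroup.normalizer (R : Set G) ≤ Subgroup.normalizer (Q : Set G) := by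
  have hQP : Q ≤ (P : Subgroup G) := hQ.trans inf_le_left
  have hwc : ∀ x : G, cj Q x ≤ (P : Subgroup G) → cj Q x = Q := fun x hx => by
    obtain ⟨y, hy, he⟩ := sylow_fusion hG P x hQP hx
    rw [he, cj_eq_self (hN hy)]
  intro g hg
  obtain ⟨x, -, hx⟩ := (sylIn_top P).conj_le hR le_top
  have h1 : cj Q x = Q := hwc x ((cj_mono (hQ.trans inf_le_right) x).trans hx)
  have h2 : cj Q (x * g) = Q := hwc _ (by
    rw [← cj_cj]
    exact (cj_mono ((cj_mono (hQ.trans inf_le_right) g).trans (cj_eq_self hg).le) x).trans hx)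
  refine mem_normalizer_of_cj_le (le_of_eq ?_)
  rw [show g = x⁻¹ * (x * g) by group, ← cj_cj, h2]
  conv_lhs => rw [← h1]
  rw [cj_cj, inv_mul_cancel, Fusion.cj_one]

end Cfsg.Agent.OddLocal.Sig
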