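import Cfsg.Agent.Lib.OddLocal.KappaStar
import Cfsg.Agent.Lib.OddLocal.DecompositionFixed
import Cfsg.Agent.Lib.OddLocal.FittingParts

/-!
A factorisation `M = K U M_σ` gives a frame.
-/

set_option autoImplicit false
set_option linter.style.haveILetI false

namespace Cfsg.Agent.OddLocal.Kappa

open scoped Pointwise commutatorElement
open Cfsg
open Cfsg.Agent.Fusion (SylIn cj cj_cj cj_eq_self cj_mono card_cj mem_normalizer_of_cj_le exists_sylIn_ge)
open Cfsg.Agent.OddLocal.Uniq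
open Cfsg.Agent.OddLocal.Sig
open Cfsg.Agent.OddLocal.RankTwo
open Cfsg.Agent.OddLocal.TauTwo
open Cfsg.Agent.OddLocal.Prime
open Cfsg.Agent.OddLocal.Disjoint (mem_centralizer_zpowers zpowers_card mem_zpowers_of_order)

universe u

variable {G : Type u} [Group G] [Finite G] {M E K U : Subgroup G}

omit [Finite G] in
theorem comm_of_cyclic (hc : IsCyclic ↥K) : ∀ a ∈ K, ∀ b ∈ K, a * b = b * a := fun a ha b hb => by
  haveI := hc
  exact congrArg Subtype.val ((IsCyclic.commGroup (α := ↥K)).mul_comm ⟨a, ha⟩ ⟨b, hb⟩)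

/-- A standard factorisation fits into a frame, apart from commutativity. -/
theorem decomp_fpf (hG : IsMinSimpleOddOrder G) (hM : IsCoatom M) (hKU : IsSigmaDecomposition M K U) :
    ∀ k ∈ K, k ≠ 1 → ∀ u ∈ U, u * k = k * u → u = 1 := by
  intro k hk hk1 u hu huk
  rcases kappa_cases hG hM hKU.hall (Decomp.compl hG hM hKU) le_sup_right with ⟨hτ, -⟩ | ⟨-, hall⟩
  · exact fpf_factor hG hM hKU.hall hτ (Decomp.U_le hKU)
      (fun q hq hd => (Decomp.U_pi hG hM hKU hq hd).symm) k hk hk1 u hu huk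
  by_contra hu1
  obtain ⟨q, j, hq, -, huo⟩ := exists_prime_power_order hu1
  have hd : q ∣ Nat.card U := huo ▸ Subgroup.orderOf_dvd_natCard U (pow_mem hu j)
  exact (Decomp.U_pi hG hM hKU hq hd).2 (hall q hq (hd.trans (Subgroup.card_dvd_of_le (Decomp.U_le hKU)))
    (Decomp.U_pi hG hM hKU hq hd).1)

theorem frame_of_decomp (hG : IsMinSimpleOddOrder G) (hM : IsCoatom M) (hKU : IsSigmaDecomposition M K U)
    (hK1 : K ≠ ⊥) : Frame M K (U ⊔ K) U := by
  have hUM := Decomp.U_le hKU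
  obtain ⟨-, hKσM, hinf, -⟩ := hKU.compl
  refine ⟨Decomp.compl hG hM hKU, le_sup_right, le_sup_left, sup_le Subgroup.le_normalizer hKU.normal,
    factor_abelian hG hM hK1 hUM hKU.normal (fun q hq hd => (Decomp.U_pi hG hM hKU hq hd).1) (decomp_fpf hG hM hKU),
    ⟨hUM, fun q hq hd => ⟨hq, (Decomp.U_pi hG hM hKU hq hd).2, (Decomp.U_pi hG hM hKU hq hd).1⟩, ?_⟩,
    fun e he => ?_, eq_bot_iff.2 fun x hx => hinf ▸ ⟨hx.1, Subgroup.mem_sup_left hx.2⟩, decomp_fpf hG hM hKU,
    fun x hx _ k hk => Subgroup.centralizer_le_normalizer _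
      (mem_centralizer_zpowers.2 (comm_of_cyclic hKU.cyclic x hx k hk))⟩
  · intro q hq ⟨_, h1, h2⟩ hd
    have e1 := Subgroup.relIndex_mul_relIndex ⊥ U M bot_le hUM
    have e2 := Subgroup.relIndex_mul_relIndex ⊥ (K ⊔ sigmaCore M) M bot_le hKσM
    rw [Subgroup.relIndex_bot_left, Subgroup.relIndex_bot_left] at e1 e2
    rw [← Decomp.card_U hKU, mul_comm, ← e1] at e2
    rw [← Nat.eq_of_mul_eq_mul_left Nat.card_pos e2] at hd
    have h3 := Solv.card_sup_mul_card_inf' (sigmaCore M) K ((Decomp.K_le hKU).trans le_normalizer_piCoreOf)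
    have h4 : q ∣ Nat.card (sigmaCore M) * Nat.card K := by
      rw [← h3, sup_comm]
      exact hd.mul_right _
    exact ((Nat.Prime.dvd_mul hq).1 h4).elim (fun h => h2 ((sigmaCore_hall hG hM).1.2.1 q hq h))
      fun h => h1 (hKU.hall.2.1 q hq h)
  · rw [← SetLike.mem_coe, Subgroup.coe_mul_of_right_le_normalizer_left _ _ hKU.normal] at he
    obtain ⟨u, hu, k, hk, rfl⟩ := he
    exact ⟨u, hu, k, hk, rfl⟩

/-- A cyclic Hall `κ(M)`-subgroup belongs to a factorisation. -/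
theorem exists_decomp (hG : IsMinSimpleOddOrder G) (hM : IsCoatom M) (hK : IsPiHallOf (kappa M) K M)
    (hc : IsCyclic ↥K) : ∃ U : Subgroup G, IsSigmaDecomposition M K U := by
  by_cases hK1 : K = ⊥
  · subst hK1
    obtain ⟨E, hE⟩ := exists_compl hG hM
    exact ⟨E, hc, hK, by rwa [bot_sup_eq], bot_le⟩
  obtain ⟨E, U, hF⟩ := exists_frame hG hM hK hK1
  refine ⟨U, hc, hK, ⟨hF.U_le.trans hF.compl.1, sup_le hK.1 (Subgroup.map_subtype_le _), eq_bot_iff.2 ?_,
    fun m hm => ?_⟩, hF.le.trans hF.normal⟩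
  · rintro u ⟨hu, hu'⟩
    have hu2 : u ∈ ((K ⊔ sigmaCore M : Subgroup G) : Set G) := hu'
    rw [Subgroup.coe_mul_of_left_le_normalizer_right K (sigmaCore M) (hK.1.trans (le_normalizer_piCoreOf : M ≤ Subgroup.normalizer (sigmaCore M : Set G)))] at hu2
    obtain ⟨k, hk, s, hs, rfl⟩ := hu2
    have hs' : s ∈ E ⊓ sigmaCore M := ⟨by
      simpa using E.mul_mem (E.inv_mem (hF.le hk)) (hF.U_le hu), hs⟩
    rw [hF.compl.2.2.1, Subgroup.mem_bot] at hs'
    subst hs'
    have h1 : k ∈ U ⊓ K := ⟨by simpa using hu, hk⟩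
    rw [hF.inf, Subgroup.mem_bot] at h1
    simp [h1]
  · obtain ⟨e, he, s, hs, rfl⟩ := hF.compl.2.2.2 m hm
    obtain ⟨u, hu, k, hk, rfl⟩ := hF.mul e he
    exact ⟨u, hu, k * s, Subgroup.mul_mem _ (Subgroup.mem_sup_left hk) (Subgroup.mem_sup_right hs),
      mul_assoc u k s⟩

/-- The centralizer in `M` of an element of a commutative `K`. -/
theorem centralizer_eq (hG : IsMinSimpleOddOrder G) (hM : IsCoatom M) (hK : IsPiHallOf (kappa M) K M)
    (hF : Frame M K E U) (hcomm : ∀ a ∈ K, ∀ b ∈ K, a * b = b * a) {k : G} (hk : k ∈ K) (hk1 : k ≠ 1) :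
    M ⊓ Subgroup.centralizer ({k} : Set G) = K ⊔ (sigmaCore M ⊓ Subgroup.centralizer (K : Set G)) := by
  refine le_antisymm (fun m hm => ?_) (sup_le (le_inf hK.1 fun a ha =>
    Subgroup.mem_centralizer_singleton_iff.2 (hcomm a ha k hk)) (le_inf (inf_le_left.trans
      (Subgroup.map_subtype_le _)) (inf_le_right.trans (Subgroup.centralizer_le (Set.singleton_subset_iff.2 hk)))))
  obtain ⟨hmM, hmk⟩ := Subgroup.mem_inf.1 hm
  have hmk' : m * k = k * m := Subgroup.mem_centralizer_singleton_iff.1 hmk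
  have hconj : m * k * m⁻¹ = k := by rw [hmk', mul_inv_cancel_right]
  obtain ⟨e, he, s, hs, rfl, hsk⟩ := conj_split hF.compl (hF.le hk) hmM (by rw [hconj]; exact hF.le hk)
  have hsK : s ∈ sigmaCore M ⊓ Subgroup.centralizer (K : Set G) := by
    rw [← prime_action hG hM hK hk hk1]
    exact ⟨hs, Subgroup.mem_centralizer_singleton_iff.2 hsk⟩
  obtain ⟨u, hu, a, ha, rfl⟩ := hF.mul e he
  have huk : u * k = k * u := by
    have h1 : Commute (u * a * s) k := hmk'
    have h2 : Commute (u * a) k := by simpa using h1.mul_left (show Commute s k from hsk).inv_left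
    have h3 := h2.mul_left (show Commute a k from hcomm a ha k hk).inv_left
    simpa using h3.eq
  rw [hF.fpf k hk hk1 u hu huk, one_mul]
  exact Subgroup.mul_mem _ (Subgroup.mem_sup_left ha) (Subgroup.mem_sup_right hsK)

end Cfsg.Agent.OddLocal.Kappa
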