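import Cfsg.Agent.Lib.OddLocal.TauTwoStructure
import Cfsg.Agent.Lib.OddLocal.BenderUniqueness

/-!
Primes in `τ₂(M)` with nonabelian Sylow subgroups.
-/

set_option autoImplicit false
set_option linter.style.haveILetI false

namespace Cfsg.Agent.OddLocal.TauTwo

open Cfsg
open Cfsg.Agent.Fusion (SylIn cj cj_cj cj_eq_self cj_mono card_cj isPGroup_cj sylIn_map sylIn_top exists_sylIn_ge
  mem_normalizer_of_cj_le)
open Cfsg.Agent.OddLocal.Uniq
open Cfsg.Agent.OddLocal.Sig
open Cfsg.Agent.OddLocal.RankTwo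

universe u

variable {G : Type u} [Group G] [Finite G] {p : ℕ} [hp : Fact p.Prime] {M A E : Subgroup G}

/-- The lines of `A` different from the fixed one are conjugate under an element that moves `A`. -/
theorem lines_conj {R Z e d : Subgroup G} (hR : IsPGroup p R) (hAe : IsElementaryAbelian p A)
    (hA : Nat.card A = p ^ 2) (hAR : A ≤ R) (hZA : Z ≤ A) (hZc : Nat.card Z = p)
    (hZR : R ≤ Subgroup.centralizer (Z : Set G)) {n : G} (hnR : n ∈ R)
    (hnA : n ∈ Subgroup.normalizer (A : Set G)) (hnC : n ∉ Subgroup.centralizer (A : Set G))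
    (heA : e ≤ A) (hec : Nat.card e = p) (heZ : e ≠ Z) (hdA : d ≤ A) (hdc : Nat.card d = p) (hdZ : d ≠ Z) :
    ∃ i : ℕ, d = cj e (n ^ i) := by
  obtain ⟨a, hae, ha1⟩ := exists_ne_one (ne_bot_of_card hec)
  have haA : a ∈ A := heA hae
  have hcomm : ∀ x y : G, x ∈ A → y ∈ A → x * y = y * x := fun x y hx hy =>
    congrArg Subtype.val (hAe.1.is_comm.comm (⟨x, hx⟩ : A) ⟨y, hy⟩)
  have hZn : ∀ z ∈ Z, z * n = n * z := fun z hz => Subgroup.mem_centralizer_iff.1 (hZR hnR) z hz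
  have hfix : ∀ x ∈ A, n * x * n⁻¹ = x → x ∈ Z := by
    intro x hx hnx
    by_contra hxZ
    have hx1 : x ≠ 1 := fun h => hxZ (h ▸ one_mem _)
    refine hnC (Subgroup.le_centralizer_iff.1 ?_ (Subgroup.mem_zpowers n))
    rw [← line_sup hA hZA (Subgroup.zpowers_le.2 hx) hZc (card_zpowers_elab hAe hx hx1)
      fun h => hxZ (h ▸ Subgroup.mem_zpowers x), sup_le_iff, centralizer_zpowers]
    exact ⟨fun z hz => Subgroup.mem_centralizer_singleton_iff.2 (hZn z hz),
      Subgroup.zpowers_le.2 (Subgroup.mem_centralizer_singleton_iff.2 (mul_inv_eq_iff_eq_mul.1 hnx).symm)⟩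
  have hbA : n * a * n⁻¹ * a⁻¹ ∈ A := mul_mem ((Subgroup.mem_normalizer_iff.1 hnA a).1 haA) (inv_mem haA)
  let f : ↥A →* G :=
    { toFun := fun x => n * x * n⁻¹ * (x : G)⁻¹
      map_one' := by simp
      map_mul' := fun x y => by
        have hy' : n * y * n⁻¹ * (y : G)⁻¹ ∈ A :=
          mul_mem ((Subgroup.mem_normalizer_iff.1 hnA _).1 y.2) (inv_mem y.2)
        calc n * ((x * y : A) : G) * n⁻¹ * ((x * y : A) : G)⁻¹
            = (n * x * n⁻¹) * ((n * y * n⁻¹ * (y : G)⁻¹) * (x : G)⁻¹) := by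
              rw [Subgroup.coe_mul]; group
          _ = (n * x * n⁻¹) * ((x : G)⁻¹ * (n * y * n⁻¹ * (y : G)⁻¹)) := by rw [hcomm _ _ hy' (inv_mem x.2)]
          _ = n * x * n⁻¹ * (x : G)⁻¹ * (n * y * n⁻¹ * (y : G)⁻¹) := by group }
  have hrange : f.range ≤ A := by
    rintro _ ⟨x, rfl⟩
    exact mul_mem ((Subgroup.mem_normalizer_iff.1 hnA _).1 x.2) (inv_mem x.2)
  have hker : f.ker = Z.subgroupOf A := by
    ext x
    refine ⟨fun h => hfix x x.2 (mul_inv_eq_one.1 h), fun h => ?_⟩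
    show n * (x : G) * n⁻¹ * (x : G)⁻¹ = 1
    rw [← hZn x (Subgroup.mem_subgroupOf.1 h), mul_inv_cancel_right, mul_inv_cancel]
  have hrc : Nat.card f.range = p := by
    have h1 := f.ker.card_mul_index
    rw [Subgroup.index_ker, hker, Solv.card_subgroupOf hZA, hZc, hA, pow_two] at h1
    exact Nat.eq_of_mul_eq_mul_left hp.out.pos h1
  have hrn : n ∈ Subgroup.normalizer (f.range : Set G) := mem_normalizer_of_cj_le (by
    rintro _ ⟨_, ⟨x, rfl⟩, rfl⟩
    refine ⟨⟨n * x * n⁻¹, (Subgroup.mem_normalizer_iff.1 hnA _).1 x.2⟩, ?_⟩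
    show n * (n * x * n⁻¹) * n⁻¹ * (n * x * n⁻¹)⁻¹ = n * (n * x * n⁻¹ * (x : G)⁻¹) * n⁻¹
    group)
  have hbZ : ∀ x, f x ∈ Z := fun x => by
    have hle : Subgroup.zpowers n ⊔ f.range ≤ R := sup_le (Subgroup.zpowers_le.2 hnR) (hrange.trans hAR)
    have h2 := line_centralized (hR.to_le hle) le_sup_right hrc
      (sup_le (Subgroup.zpowers_le.2 hrn) Subgroup.le_normalizer) (Subgroup.mem_sup_left (Subgroup.mem_zpowers n))
    refine hfix _ (hrange ⟨x, rfl⟩) ?_
    rw [← Subgroup.mem_centralizer_iff.1 h2 (f x) ⟨x, rfl⟩, mul_inv_cancel_right]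
  set b := n * a * n⁻¹ * a⁻¹ with hb
  have hbZ' : b ∈ Z := hbZ ⟨a, haA⟩
  have hed : e = Subgroup.zpowers a := (Subgroup.eq_of_le_of_card_ge (Subgroup.zpowers_le.2 hae)
    (by rw [hec, card_zpowers_elab hAe haA ha1])).symm
  have haZ : a ∉ Z := fun h => heZ (by
    rw [hed]
    exact Subgroup.eq_of_le_of_card_ge (Subgroup.zpowers_le.2 h) (by rw [hZc, card_zpowers_elab hAe haA ha1]))
  have hb1 : b ≠ 1 := fun h => haZ (hfix a haA (mul_inv_eq_one.1 h))
  have hpow : ∀ i : ℕ, n ^ i * a * (n ^ i)⁻¹ = a * b ^ i := by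
    intro i
    induction i with
    | zero => simp
    | succ i ih =>
      have hnb : n * b * n⁻¹ = b := by rw [← hZn b hbZ', mul_inv_cancel_right]
      calc n ^ (i + 1) * a * (n ^ (i + 1))⁻¹ = n * (n ^ i * a * (n ^ i)⁻¹) * n⁻¹ := by rw [pow_succ']; group
        _ = (n * a * n⁻¹) * (n * b * n⁻¹) ^ i := by rw [ih, conj_pow]; group
        _ = (b * a) * b ^ i := by rw [hnb, hb]; group
        _ = a * b ^ (i + 1) := by rw [hcomm b a hbA haA, mul_assoc, ← pow_succ']
  have hsup : Subgroup.zpowers a ⊔ Subgroup.zpowers b = A :=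
    line_sup hA (Subgroup.zpowers_le.2 haA) (Subgroup.zpowers_le.2 hbA)
      (card_zpowers_elab hAe haA ha1) (card_zpowers_elab hAe hbA hb1) fun h => haZ (by
        have h' : a ∈ Subgroup.zpowers b := h.symm ▸ Subgroup.mem_zpowers a
        exact Subgroup.zpowers_le.2 hbZ' h')
  obtain ⟨x, hxd, hx1⟩ := exists_ne_one (ne_bot_of_card hdc)
  have hx' : x ∈ Subgroup.zpowers a ⊔ Subgroup.zpowers b := hsup.ge (hdA hxd)
  rw [← SetLike.mem_coe, Subgroup.coe_mul_of_right_le_normalizer_left _ _ (Subgroup.zpowers_le.2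
    (Subgroup.centralizer_le_normalizer _ (by
      rw [centralizer_zpowers]
      exact Subgroup.mem_centralizer_singleton_iff.2 (hcomm b a hbA haA))))] at hx'
  obtain ⟨_, ⟨j, rfl⟩, _, ⟨l, rfl⟩, hxe⟩ := hx'
  simp only at hxe
  have hdx : d = Subgroup.zpowers x := (Subgroup.eq_of_le_of_card_ge (Subgroup.zpowers_le.2 hxd)
    (by rw [hdc, card_zpowers_elab hAe (hdA hxd) hx1])).symm
  have hj : ¬ (p : ℤ) ∣ j := fun hd => hdZ (by
    have h1 : a ^ j = 1 := orderOf_dvd_iff_zpow_eq_one.1 (orderOf_eq_prime (hAe.2 a haA) ha1 ▸ hd)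
    have h2 : x ∈ Z := by rw [← hxe, h1, one_mul]; exact zpow_mem hbZ' l
    rw [hdx]
    exact Subgroup.eq_of_le_of_card_ge (Subgroup.zpowers_le.2 h2)
      (by rw [hZc, card_zpowers_elab hAe (hdA hxd) hx1]))
  obtain ⟨u, v, huv⟩ : IsCoprime j (p : ℤ) :=
    ((Nat.prime_iff_prime_int.1 hp.out).coprime_iff_not_dvd.2 hj).symm
  obtain ⟨i, hi⟩ : ∃ i : ℕ, b ^ (l * u) = b ^ i := by
    obtain ⟨i, hi⟩ := mem_powers_iff_mem_zpowers.2 (Subgroup.zpow_mem_zpowers b (l * u))
    exact ⟨i, hi.symm⟩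
  have hxu : x ^ u = a * b ^ i := by
    rw [← hxe, (show Commute (a ^ j) (b ^ l) from (show Commute a b from hcomm a b haA hbA).zpow_zpow j l).mul_zpow,
      ← zpow_mul, ← zpow_mul, ← hi]
    congr 1
    rw [show j * u = 1 - v * p by linarith, zpow_sub, zpow_one, mul_comm v, zpow_mul, zpow_natCast,
      hAe.2 a haA, one_zpow, inv_one, mul_one]
  refine ⟨i, (Subgroup.eq_of_le_of_card_ge ?_ (by rw [card_cj, hec, hdc])).symm⟩
  rintro _ ⟨y, hy, rfl⟩
  obtain ⟨k, rfl⟩ := Subgroup.mem_zpowers_iff.1 (hed ▸ hy)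
  rw [map_zpow]
  refine zpow_mem ?_ k
  show n ^ i * a * (n ^ i)⁻¹ ∈ d
  rw [hpow i, ← hxu, hdx]
  exact zpow_mem (Subgroup.mem_zpowers x) u

/-- A Sylow subgroup of `M` over `A` centralizes it. -/
theorem sylow_le_centralizer (s : Setup p M A) {P : Subgroup G} (hP : SylIn p P M) (hAP : A ≤ P) :
    P ≤ Subgroup.centralizer (A : Set G) := by
  rw [← omz_eq s hP hAP]; exact omz_centralizer P

omit hp in
/-- A normal nilpotent subgroup lies in the Fitting subgroup. -/
theorem le_fittingOf {N : Subgroup G} (hN : N ≤ M) (hn : M ≤ Subgroup.normalizer (N : Set G))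
    (hnil : Group.IsNilpotent ↥N) : N ≤ fittingOf M := by
  haveI := hnil
  haveI : (N.subgroupOf M).Normal := Subgroup.normal_subgroupOf_of_le_normalizer hn
  rw [← Subgroup.map_subgroupOf_eq_of_le hN]
  exact Subgroup.map_mono (le_sSup ⟨inferInstance,
    Group.nilpotent_of_mulEquiv (Subgroup.subgroupOfEquivOfLe hN).symm⟩)

/-- The line of central elements of a nonabelian Sylow subgroup of `G`. -/
theorem central_line (s : Setup p M A) {S : Subgroup G} (hS : SylIn p S ⊤) (hAS : A ≤ S) (hSM : ¬ S ≤ M) :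
    omz p S ≤ A ∧ Nat.card (omz p S) = p := by
  have hle : omz p S ≤ A := fun x hx => s.full x (centralizer_le_of_le hAS hx.2.1) hx.2.2
  refine ⟨hle, ?_⟩
  have h1 : omz p S ≠ ⊥ := omz_ne_bot hS.isPGroup fun h => s.ne_bot (le_bot_iff.1 (h ▸ hAS))
  obtain ⟨j, hj2, hj⟩ := (Nat.dvd_prime_pow hp.out).1 (s.card ▸ Subgroup.card_dvd_of_le hle)
  interval_cases j
  · exact absurd (Subgroup.card_eq_one.1 (by rw [hj, pow_zero])) h1
  · rw [hj, pow_one]
  · refine absurd ?_ hSM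
    have h2 := Subgroup.eq_of_le_of_card_ge hle (by rw [s.card, hj])
    refine (omz_centralizer (q := p) S).trans ?_
    rw [h2]
    exact s.centralizer_le

/-- The line of `A` that centralizes `M_σ`. -/
theorem fixed_line (s : Setup p M A) {P S : Subgroup G} (hP : SylIn p P M) (hAP : A ≤ P) (hS : SylIn p S ⊤)
    (hPS : P ≤ S) (hSM : ¬ S ≤ M) :
    ∃ e : Subgroup G, e ≤ A ∧ Nat.card e = p ∧ e ≠ omz p S ∧
      A ⊓ Subgroup.centralizer (sigmaCore M : Set G) = e ∧
      ∀ d : Subgroup G, d ≤ A → Nat.card d = p → d ≠ e →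
        sigmaCore M ⊓ Subgroup.centralizer (d : Set G) = ⊥ ∧ ¬ Subgroup.centralizer (d : Set G) ≤ M := by
  have hG := s.minSimple
  have hM := s.coatom
  obtain ⟨hzA, hzc⟩ := central_line s hS (hAP.trans hPS) hSM
  have hSP : S ⊓ M = P := hP.eq_of_le hS.isPGroup.to_inf_left (le_inf hPS hP.le) inf_le_right
  have hPC := sylow_le_centralizer s hP hAP
  obtain ⟨n, hn, hnP⟩ := SetLike.exists_of_lt
    (SylIn.normalizer_growth hPS (fun h => hSM (h ▸ hP.le)) hS.isPGroup)
  have hnS : n ∈ S := hn.1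
  have hnA : n ∈ Subgroup.normalizer (A : Set G) := by
    rw [← omz_eq s hP hAP]; exact normalizer_le_omz P hn.2
  have hnC : n ∉ Subgroup.centralizer (A : Set G) := fun h => hnP (hSP.le ⟨hnS, s.centralizer_le h⟩)
  obtain ⟨e, he⟩ := s.exists_good
  have hez : e ≠ omz p S := fun h => hSM
    ((Subgroup.le_normalizer.trans (h ▸ normalizer_le_omz (q := p) S)).trans (he.normalizer_le hG))
  have hconj := fun d (hdA : d ≤ A) (hdc : Nat.card d = p) (hdz : d ≠ omz p S) =>
    lines_conj hS.isPGroup s.elem s.card (hAP.trans hPS) hzA hzc (omz_centralizer S) hnS hnA hnC he.1 he.2.1 hez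
      hdA hdc hdz
  have hin : ∀ i : ℕ, n ^ i ∈ M → cj e (n ^ i) = e := fun i hi =>
    cj_eq_self (Subgroup.centralizer_le_normalizer _
      (centralizer_le_of_le he.1 (hPC (hSP.le ⟨pow_mem hnS i, hi⟩))))
  have huniq : ∀ d : Subgroup G, Good p M A d → d = e := fun d hd => by
    obtain ⟨i, rfl⟩ := hconj d hd.1 hd.2.1 fun h => hSM
      ((Subgroup.le_normalizer.trans (h ▸ normalizer_le_omz (q := p) S)).trans (hd.normalizer_le hG))
    exact hin i (mem_of_good_conj s hd he)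
  have hfpf : ∀ d : Subgroup G, d ≤ A → Nat.card d = p → d ≠ e →
      sigmaCore M ⊓ Subgroup.centralizer (d : Set G) = ⊥ := fun d hdA hdc hde => by
    by_contra h
    exact hde (huniq d (good_of_fixed s hdA hdc h))
  have hco : (Nat.card A).Coprime (Nat.card (sigmaCore M)) := Nat.coprime_of_dvd fun r hr h1 h2 => by
    rw [s.card] at h1
    exact s.not_sigma ((Nat.prime_dvd_prime_iff_eq hr hp.out).1 (hr.dvd_of_dvd_pow h1) ▸
      (sigmaCore_hall hG hM).1.2.1 r hr h2)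
  have hMe : sigmaCore M ≤ Subgroup.centralizer (e : Set G) := by
    refine (Solv.gen_eq A (sigmaCore M) s.elem.1 (s.le.trans le_normalizer_piCoreOf) hco).ge.trans
      (iSup₂_le fun B hB => ?_)
    obtain ⟨b, hbB, hb1⟩ := exists_ne_one (X := B) fun h0 => by
      have hle := Fusion.card_le_mul_of_cycQuot s.elem hB
      rw [h0, Subgroup.card_bot, mul_one, s.card, pow_two] at hle
      have : p * 2 ≤ p * p := Nat.mul_le_mul_left p hp.out.two_le
      have := hp.out.two_le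
      omega
    refine (inf_le_inf_left _ (centralizer_le_of_le (Subgroup.zpowers_le.2 hbB))).trans ?_
    by_cases hbe : Subgroup.zpowers b = e
    · rw [hbe]; exact inf_le_right
    · rw [hfpf _ (Subgroup.zpowers_le.2 (hB.1 hbB)) (card_zpowers_elab s.elem (hB.1 hbB) hb1) hbe]
      exact bot_le
  have hσ1 := sigmaCore_ne_bot s
  refine ⟨e, he.1, he.2.1, hez, ?_, fun d hdA hdc hde => ⟨hfpf d hdA hdc hde, fun hC => ?_⟩⟩
  · have hle : e ≤ A ⊓ Subgroup.centralizer (sigmaCore M : Set G) := le_inf he.1 (Subgroup.le_centralizer_iff.1 hMe)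
    obtain ⟨j, hj2, hj⟩ := (Nat.dvd_prime_pow hp.out).1 (s.card ▸
      Subgroup.card_dvd_of_le (inf_le_left : A ⊓ Subgroup.centralizer (sigmaCore M : Set G) ≤ A))
    have hj1 : j ≤ 1 := by
      by_contra h2
      have h3 : A ⊓ Subgroup.centralizer (sigmaCore M : Set G) = A :=
        Subgroup.eq_of_le_of_card_ge inf_le_left (by rw [s.card, hj]; exact Nat.pow_le_pow_right hp.out.pos (by omega))
      exact hσ1 (le_bot_iff.1 ((le_inf le_rfl (Subgroup.le_centralizer_iff.1 (inf_eq_left.1 h3))).trans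
        (sigmaCore_inf_centralizer s).le))
    refine (Subgroup.eq_of_le_of_card_ge hle ?_).symm
    rw [he.2.1, hj]
    exact (Nat.pow_le_pow_right hp.out.pos hj1).trans (pow_one p).le
  · by_cases hdz : d = omz p S
    · exact hSM ((omz_centralizer S).trans (hdz ▸ hC))
    obtain ⟨i, rfl⟩ := hconj d hdA hdc hdz
    refine hde (hin i ?_)
    obtain ⟨-, hu⟩ := centralizer_unique_of_fixed s he.1 he.2.1 (by rw [inf_eq_left.2 hMe]; exact hσ1)
    rw [← Fusion.cj_centralizer, Fusion.cj_le_iff] at hC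
    have h1 := hu _ ((OrderIso.isCoatom_iff (MulEquiv.mapSubgroup (MulAut.conj (n ^ i)⁻¹)) M).2 hM) hC
    have h2 := Fusion.mem_normalizer_iff_cj.2 h1
    rw [normalizer_coatom hG hM] at h2
    simpa using inv_mem h2

/-- The `p`-th powers of order `p` in a Sylow subgroup of `M` are central in one of `G`. -/
theorem roots_central (s : Setup p M A) {P S : Subgroup G} (hP : SylIn p P M) (hAP : A ≤ P) (hS : SylIn p S ⊤)
    (hPS : P ≤ S) (hna : ¬ IsMulCommutative ↥S) (hSM : ¬ S ≤ M) {x : G} (hx : x ∈ P) (hxp : (x ^ p) ^ p = 1) :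
    x ^ p ∈ omz p S := by
  have hG := s.minSimple
  have hAS : A ≤ S := hAP.trans hPS
  obtain ⟨S', hS'⟩ := hS.exists_sylow
  by_cases hr : PRankLE p 2 ↥S
  · rcases sylow_rank_two hG S' (by rw [hS']; exact hr) with h | ⟨P₁, P₂, h1, h2, -, -, h5, h6, h7⟩
    · exact absurd (hS' ▸ h) hna
    rw [hS'] at h1
    have hn : P₂ ≤ Subgroup.normalizer (P₁ : Set G) := fun b hb => Subgroup.centralizer_le_normalizer _
      (Subgroup.mem_centralizer_iff.2 fun a ha => h2 a ha b hb)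
    have hxS := h1.ge (hPS hx)
    rw [← SetLike.mem_coe, Subgroup.coe_mul_of_right_le_normalizer_left _ _ hn] at hxS
    obtain ⟨u, hu, v, hv, huv⟩ := hxS
    simp only at huv
    have hu1 : u ^ p = 1 := by
      have h := Monoid.pow_exponent_eq_one (⟨u, hu⟩ : P₁)
      rw [h5] at h
      exact congrArg Subtype.val h
    have hxv : x ^ p = v ^ p := by
      rw [← huv, (show Commute u v from h2 u hu v hv).mul_pow, hu1, one_mul]
    rw [hxv] at hxp ⊢
    have hvc : v ^ p ∈ P₁ ⊓ Subgroup.centralizer (P₁ : Set G) :=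
      h7.le (Subgroup.subset_closure ⟨pow_mem hv p, hxp⟩)
    refine ⟨h1.le (Subgroup.mem_sup_left hvc.1), Subgroup.le_centralizer_iff.1 ?_ (Subgroup.mem_zpowers (v ^ p)),
      hxp⟩
    rw [← h1, sup_le_iff, centralizer_zpowers]
    exact ⟨fun a ha => Subgroup.mem_centralizer_singleton_iff.2 (h2 a ha _ (pow_mem hv p)),
      fun b hb => Subgroup.mem_centralizer_singleton_iff.2 (h2 _ hvc.1 b hb).symm⟩
  set E := A.subgroupOf S with hE
  have hEe : IsElementaryAbelian p E := ⟨⟨⟨fun u v => Subtype.ext (Subtype.ext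
    (congrArg Subtype.val (s.elem.1.is_comm.comm (⟨u.1.1, u.2⟩ : A) ⟨v.1.1, v.2⟩) :))⟩⟩,
    fun a ha => Subtype.ext (s.elem.2 _ ha)⟩
  have hEmax : ∀ B : Subgroup ↥S, IsElementaryAbelian p B → E ≤ B → B = E := by
    intro B hB hEB
    have h := (not_ideal hG s.coatom s.rank s.rank_one).2 A s.le s.elem s.card (B.map S.subtype)
      ⟨haveI := hB.1; Subgroup.map_isMulCommutative B _, by
        rintro _ ⟨b, hb, rfl⟩; rw [← map_pow, hB.2 b hb, map_one]⟩
      (by rw [← Subgroup.map_subgroupOf_eq_of_le hAS]; exact Subgroup.map_mono hEB)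
    rw [← Subgroup.map_subgroupOf_eq_of_le hAS] at h
    exact Subgroup.map_injective S.subtype_injective h
  obtain ⟨hET, -, -, hTc, hTi⟩ := Cfsg.Agent.S1453.result p s.ne_two hS.isPGroup hr E hEe
    (by rw [Solv.card_subgroupOf hAS, s.card]) hEmax
  set T := Subgroup.centralizer ((Subgroup.closure {y : ↥S | y ∈ Subgroup.upperCentralSeries ↥S 2 ∧ y ^ p = 1} :
    Subgroup ↥S) : Set ↥S) with hT
  haveI := hTc
  haveI : T.Normal := inferInstance
  have hxT : (⟨x, hPS hx⟩ : ↥S) ^ p ∈ T := hTi ▸ Subgroup.pow_index_mem T _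
  obtain ⟨hzA, hzc⟩ := central_line s hS hAS hSM
  by_contra hno
  have hxA : x ^ p ∈ A := (omega_iff s hP hAP _ (pow_mem hx p)).1 hxp
  have hx1 : x ^ p ≠ 1 := fun h => hno (h ▸ one_mem _)
  have hAT : A ≤ T.map S.subtype := by
    rw [← line_sup s.card hzA (Subgroup.zpowers_le.2 hxA) hzc (card_zpowers_elab s.elem hxA hx1)
      fun h => hno (h ▸ Subgroup.mem_zpowers _)]
    refine sup_le (fun z hz => ⟨⟨z, hz.1⟩, Subgroup.mem_centralizer_iff.2 fun y _ =>
      Subtype.ext (Subgroup.mem_centralizer_iff.1 hz.2.1 (y : G) y.2), rfl⟩) (Subgroup.zpowers_le.2 ?_)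
    exact ⟨_, hxT, rfl⟩
  refine hET fun a ha => ?_
  obtain ⟨t, ht, hta⟩ := hAT ha
  exact (Subtype.ext hta : t = a) ▸ ht

/-- A nonabelian Sylow subgroup for `p` excludes further primes from `τ₂(M)`. -/
theorem tau2_singleton (s : Setup p M A) (hE : IsComplIn E (sigmaCore M) M) (hAE : A ≤ E) {S : Subgroup G}
    (hS : SylIn p S ⊤) (hAS : A ≤ S) (hna : ¬ IsMulCommutative ↥S) (hSM : ¬ S ≤ M) {r : ℕ}
    (hr : r ∈ tau2 M) : r = p := by
  by_contra hrp
  have hG := s.minSimple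
  have hM := s.coatom
  haveI := Fact.mk hr.1
  obtain ⟨F, hFM, hFe, hFc⟩ := exists_elab_of_prank hr.2.2.2
  obtain ⟨R, hR⟩ := Fusion.exists_sylIn (p := r) E
  obtain ⟨x, -, hxR⟩ := (compl_sylIn hG hM hE hr.2.1 hR).conj_le (Fusion.elab_isPGroup hFe) hFM
  have hFe' : IsElementaryAbelian r (cj F x) := ⟨haveI := hFe.1; Subgroup.map_isMulCommutative F _, by
    rintro _ ⟨y, hy, rfl⟩; rw [← map_pow, hFe.2 y hy, map_one]⟩
  have hRc : ¬ IsCyclic ↥R := fun hc => noncyclic_of_card hFe' (by rw [card_cj]; exact hFc) (by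
    haveI := hc
    exact isCyclic_of_injective (Subgroup.inclusion hxR) (Subgroup.inclusion_injective hxR))
  have hr2 : r ≠ 2 := Uniq.ne_two hG hR.isPGroup fun h => hRc (by rw [h]; infer_instance)
  obtain ⟨B, hBR, hBe, hBc⟩ := exists_elab_sq hr2 hR.isPGroup hRc
  have hBE : B ≤ E := hBR.trans hR.le
  have sB : Setup r M B := setup_of_tau2 hG hM hr (hBE.trans hE.1) hBe hBc
  have hAB : A ⊓ B = ⊥ :=
    Solv.coprime_inf (coprime_pgroup (Ne.symm hrp) (Fusion.elab_isPGroup s.elem) (Fusion.elab_isPGroup hBe))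
  have hBCA : B ≤ Subgroup.centralizer (A : Set G) := fun b hb => Subgroup.mem_centralizer_iff.2 fun a ha => by
    have hbA : b ∈ Subgroup.normalizer (A : Set G) := (complement_tau2 s hE hAE).1.1 (hBE hb)
    have haB : a ∈ Subgroup.normalizer (B : Set G) := (complement_tau2 sB hE hBE).1.1 (hAE ha)
    have h1 : a * b * a⁻¹ * b⁻¹ ∈ A ⊓ B := by
      refine ⟨?_, Subgroup.mul_mem _ ((Subgroup.mem_normalizer_iff.1 haB b).1 hb) (Subgroup.inv_mem _ hb)⟩
      rw [show a * b * a⁻¹ * b⁻¹ = a * (b * a⁻¹ * b⁻¹) by group]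
      exact mul_mem ha ((Subgroup.mem_normalizer_iff.1 hbA _).1 (inv_mem ha))
    rw [hAB, Subgroup.mem_bot, mul_inv_eq_one, mul_inv_eq_iff_eq_mul] at h1
    exact h1
  obtain ⟨L, hL, hSL⟩ := exists_coatom S (pgroup_ne_top hG hS.isPGroup)
  have hAL : A ≤ L := hAS.trans hSL
  have hCL : Subgroup.centralizer (A : Set G) ≤ L := (rank_two_lemma hG hL hAL s.elem s.card).1
  have hBL : B ≤ L := hBCA.trans hCL
  have hpσ : p ∈ sigma L := by
    by_contra h
    exact hna (pgroup_abelian hG hL h hS.isPGroup hSL)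
  have hLM : L ≠ M := fun h => hSM (h ▸ hSL)
  have hallL := (sigmaCore_hall hG hL).1
  by_cases hrσ : r ∈ sigma L
  swap
  · have sL : Setup r L B := ⟨hG, hL, hrσ, hBL, hBe, hBc⟩
    refine s.ne_bot (le_bot_iff.1 (le_trans ?_ (sigmaCore_inf_coatom sL hM (Ne.symm hLM) sB.le).le))
    exact le_inf (le_of_hall hallL le_normalizer_piCoreOf hAL (piNum_of_pgroup (Fusion.elab_isPGroup s.elem) hpσ))
      s.le
  obtain ⟨H, hH, hHnil⟩ := (beta_structure hG hL).2.2.2.1
  haveI := hHnil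
  have hup : ∀ {t : ℕ} [Fact t.Prime] (T : Subgroup G), SylIn t T H → t ∈ sigma L → t ∉ beta L → SylIn t T L :=
    fun {t} _ T hT h1 h2 => ⟨hT.le.trans (hH.1.trans (Subgroup.map_subtype_le _)), hT.isPGroup, by
      have ht : t.Prime := Fact.out
      rw [← Subgroup.relIndex_mul_relIndex T H L hT.le (hH.1.trans (Subgroup.map_subtype_le _)),
        ← Subgroup.relIndex_mul_relIndex H (sigmaCore L) L hH.1 (Subgroup.map_subtype_le _)]
      exact ht.prime.not_dvd_mul hT.not_dvd (ht.prime.not_dvd_mul (hH.2.2 t ht ⟨ht, h2⟩) (hallL.2.2 t ht h1))⟩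
  obtain ⟨S₁, hS₁⟩ := Fusion.exists_sylIn (p := p) H
  obtain ⟨R₁, hR₁⟩ := Fusion.exists_sylIn (p := r) H
  have hS₁L := hup S₁ hS₁ hpσ fun h => (not_ideal hG hM s.rank s.rank_one).1 (isIdealPrime_of_beta h)
  have hR₁L := hup R₁ hR₁ hrσ fun h => (not_ideal hG hM sB.rank sB.rank_one).1 (isIdealPrime_of_beta h)
  obtain ⟨l, hl, hle⟩ := hS₁L.conj_eq (hS.mono hSL le_top)
  have hR₂ : SylIn r (cj R₁ l) L := hR₁L.cj' (Subgroup.le_normalizer hl)
  have hSR : S ≤ Subgroup.centralizer (cj R₁ l : Set G) := by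
    rw [← Fusion.cj_centralizer, ← hle]
    exact cj_mono (TypePBasic.nilpotent_coprime_commute (F := H) hR₁.le hS₁.le
      (coprime_pgroup hrp hR₁.isPGroup hS₁.isPGroup)) l
  obtain ⟨y, -, hy⟩ := hR₂.conj_le (Fusion.elab_isPGroup hBe) hBL
  have hRM : cj R₁ l ≤ M :=
    ((Subgroup.le_centralizer_iff.1 hSR).trans (centralizer_le_of_le hAS)).trans s.centralizer_le
  have sB' : Setup r M (cj B y) := setup_of_tau2 hG hM hr (hy.trans hRM)
    ⟨haveI := hBe.1; Subgroup.map_isMulCommutative B _, by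
      rintro _ ⟨z, hz, rfl⟩; rw [← map_pow, hBe.2 z hz, map_one]⟩ (by rw [card_cj, hBc])
  exact hSM ((hSR.trans (centralizer_le_of_le hy)).trans sB'.centralizer_le)

/-- The Fitting subgroup when the Sylow subgroups for `p` are nonabelian. -/
theorem fitting_nonabelian (s : Setup p M A) (hE : IsComplIn E (sigmaCore M) M) (hAE : A ≤ E) {P S : Subgroup G}
    (hP : SylIn p P M) (hAP : A ≤ P) (hS : SylIn p S ⊤) (hPS : P ≤ S) (hna : ¬ IsMulCommutative ↥S)
    (hSM : ¬ S ≤ M) (hτ : ∀ r : ℕ, r ∈ tau2 M → r = p) :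
    fittingOf M = sigmaCore M ⊔ (A ⊓ Subgroup.centralizer (sigmaCore M : Set G)) := by
  have hG := s.minSimple
  have hM := s.coatom
  obtain ⟨e, heA, hec, hez, hAe, -⟩ := fixed_line s hP hAP hS hPS hSM
  rw [hAe]
  have hall := (sigmaCore_hall hG hM).1
  have hσM : sigmaCore M ≤ M := Subgroup.map_subtype_le _
  have hσn : M ≤ Subgroup.normalizer (sigmaCore M : Set G) := le_normalizer_piCoreOf
  have hMe : sigmaCore M ≤ Subgroup.centralizer (e : Set G) :=
    Subgroup.le_centralizer_iff.1 (hAe ▸ inf_le_right)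
  have hen : M ≤ Subgroup.normalizer (e : Set G) := fun m hm => by
    obtain ⟨a, ha, b, hb, rfl⟩ := hE.2.2.2 m hm
    refine mul_mem (mem_normalizer_of_cj_le ?_) (Subgroup.centralizer_le_normalizer _ (hMe hb))
    rw [← hAe, Fusion.cj_inf, Fusion.cj_centralizer, cj_eq_self ((complement_tau2 s hE hAE).1.1 ha),
      cj_eq_self (hσn (hE.1 ha))]
  have hσF : sigmaCore M ≤ fittingOf M := le_fittingOf hσM hσn (sigmaCore_nilpotent s)
  refine le_antisymm ?_ (sup_le hσF (le_fittingOf (heA.trans s.le) hen (isPGroup_of_card hec).isNilpotent))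
  rw [Bender.fittingOf_eq]
  refine iSup_le fun q => ?_
  haveI := Fact.mk q.2
  haveI := Solv.pCore_normal (G := ↥M) (q : ℕ)
  set R := pCoreOf (q : ℕ) M with hR
  have hRM : R ≤ M := Subgroup.map_subtype_le _
  have hRp : IsPGroup (q : ℕ) R := Bender.isPGroup_pCoreOf M
  have hRn : M ≤ Subgroup.normalizer (R : Set G) := Bender.le_normalizer_map _
  by_cases hqσ : (q : ℕ) ∈ sigma M
  · exact (le_of_hall hall hσn hRM (piNum_of_pgroup hRp hqσ)).trans le_sup_left
  by_cases hqp : (q : ℕ) = p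
  · refine le_trans (fun x hx => ?_) le_sup_right
    have hRP : R ≤ P := by
      obtain ⟨m, hm, hle⟩ := hP.conj_le (hqp ▸ hRp) hRM
      rwa [cj_eq_self (hRn hm)] at hle
    have hRC : R ≤ Subgroup.centralizer (sigmaCore M : Set G) := by
      haveI := TypePBasic.fittingOf_nilpotent M
      refine TypePBasic.nilpotent_coprime_commute (F := fittingOf M) hσF (Bender.pCoreOf_le_fittingOf M)
        (Nat.coprime_of_dvd fun r hr h1 h2 => hqσ ?_)
      obtain ⟨j, hj⟩ := IsPGroup.iff_card.1 hRp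
      rw [hj] at h2
      exact (Nat.prime_dvd_prime_iff_eq hr q.2).1 (hr.dvd_of_dvd_pow h2) ▸ hall.2.1 r hr h1
    have key : ∀ k : ℕ, ∀ y ∈ R, y ^ p ^ k ∈ e → y ∈ e := by
      intro k
      induction k with
      | zero => exact fun y _ h => by simpa using h
      | succ k ih =>
        intro y hy hye
        have h1 : y ^ p ∈ e := ih _ (pow_mem hy p) (by rwa [← pow_mul, ← pow_succ'])
        have h2 : (y ^ p) ^ p = 1 := s.elem.2 _ (heA h1)
        have h3 : y ^ p = 1 := by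
          by_contra hne
          refine hez (Subgroup.eq_of_le_of_card_ge ?_ ?_)
          · rw [← Subgroup.eq_of_le_of_card_ge (Subgroup.zpowers_le.2 h1)
              (by rw [hec, card_zpowers_elab s.elem (heA h1) hne]), Subgroup.zpowers_le]
            exact roots_central s hP hAP hS hPS hna hSM (hRP hy) h2
          · rw [hec, (central_line s hS (hAP.trans hPS) hSM).2]
        rw [← hAe]
        exact ⟨(omega_iff s hP hAP y (hRP hy)).1 h3, hRC hy⟩
    obtain ⟨k, hk⟩ := hRp ⟨x, hx⟩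
    exact key k x hx (by rw [← hqp, show x ^ (q : ℕ) ^ k = 1 from congrArg Subtype.val hk]; exact one_mem _)
  refine le_of_eq_of_le ?_ bot_le
  by_contra hne
  set Z := omz (q : ℕ) R with hZ
  have hZM : Z ≤ M := (omz_le R).trans hRM
  have hNZ : Subgroup.normalizer (Z : Set G) = M :=
    normalizer_eq_coatom hG hM (omz_ne_bot hRp hne) hZM (hRn.trans (normalizer_le_omz R))
  obtain ⟨T, hT, hRT⟩ := exists_sylIn_ge hRp hRM
  have hq2 : (q : ℕ) ≠ 2 := Uniq.ne_two hG hRp hne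
  by_cases hTc : IsCyclic ↥T
  swap
  · obtain ⟨B, hBT, hBe, hBc⟩ := exists_elab_sq hq2 hT.isPGroup hTc
    exact hqp (hτ q ⟨q.2, hqσ, prankLE_of_not_alpha q.2 (not_alpha_of_not_sigma hG hM hqσ),
      not_prankLE_of_elab (hBT.trans hT.le) hBe hBc.ge⟩)
  have hZT : Z ≤ T := (omz_le R).trans hRT
  have hZc : Nat.card Z = q := by
    obtain ⟨j, hj⟩ := IsPGroup.iff_card.1 (hRp.to_le (omz_le R))
    rcases Nat.lt_or_ge j 2 with h | h
    · interval_cases j
      · exact absurd (Subgroup.card_eq_one.1 (by rw [hj, pow_zero])) (omz_ne_bot hRp hne)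
      · rw [hj, pow_one]
    · haveI := hTc
      exact absurd (isCyclic_of_injective (Subgroup.inclusion hZT) (Subgroup.inclusion_injective hZT))
        (noncyclic_of_card (omz_elab R) (hj ▸ Nat.pow_le_pow_right q.2.pos h))
  obtain ⟨T', hT'⟩ := exists_sylow hT
  refine hqσ ⟨q.2, hZc ▸ Subgroup.card_dvd_of_le hZM, T', ?_⟩
  rw [hT']
  refine le_trans (fun g hg => mem_normalizer_of_cj_le (le_of_eq ?_)) hNZ.le
  exact cyclic_eq hTc ((cj_mono hZT g).trans (cj_eq_self hg).le) hZT (by rw [card_cj, hZc]) hZc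

/-- The structure of `M` when the Sylow subgroups for `p` are nonabelian. -/
theorem nonabelian_case (s : Setup p M A) (hE : IsComplIn E (sigmaCore M) M) (hAE : A ≤ E)
    (hp2 : p ∈ tau2 M) (hS : ∀ S : Sylow p G, ¬ IsMulCommutative (S : Subgroup G)) :
    tau2 M = {p} ∧
      (Nat.card ↥(A ⊓ Subgroup.centralizer (sigmaCore M : Set G)) = p ∧
        fittingOf M = sigmaCore M ⊔ (A ⊓ Subgroup.centralizer (sigmaCore M : Set G))) ∧
      ∀ X : Subgroup G, X ≤ E → Nat.card X = p → X ≠ A ⊓ Subgroup.centralizer (sigmaCore M : Set G) →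
        sigmaCore M ⊓ Subgroup.centralizer (X : Set G) = ⊥ ∧ ¬ Subgroup.centralizer (X : Set G) ≤ M := by
  obtain ⟨P, hP, hAP⟩ := exists_sylIn_ge (Fusion.elab_isPGroup s.elem) s.le
  obtain ⟨T, hT, hPT⟩ := exists_sylIn_ge hP.isPGroup (le_top (a := P))
  obtain ⟨T', hT'⟩ := hT.exists_sylow
  have hna : ¬ IsMulCommutative ↥T := hT' ▸ hS T'
  have hTM : ¬ T ≤ M := fun h => hna (pgroup_abelian s.minSimple s.coatom s.not_sigma hT.isPGroup h)
  have hτ : ∀ r : ℕ, r ∈ tau2 M → r = p := fun r hr =>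
    tau2_singleton s hE hAE hT (hAP.trans hPT) hna hTM hr
  obtain ⟨e, -, hec, -, hAe, hall⟩ := fixed_line s hP hAP hT hPT hTM
  refine ⟨Set.ext fun r => ⟨fun h => hτ r h, fun h => (Set.mem_singleton_iff.1 h) ▸ hp2⟩,
    ⟨hAe ▸ hec, fitting_nonabelian s hE hAE hP hAP hT hPT hna hTM hτ⟩, fun X hXE hX hne => ?_⟩
  exact hall X ((complement_tau2 s hE hAE).1.2 X hXE hX) hX (hAe ▸ hne)

end Cfsg.Agent.OddLocal.TauTwo
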