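import Cfsg.Agent.Lib.OddLocal.KappaCount
import Cfsg.Agent.Lib.OddLocal.TauTwoNonabelian
import Cfsg.Agent.Lib.OddLocal.KappaDecomp

/-!
The partner `M^*` of a maximal subgroup `M` with a nontrivial Hall `κ(M)`-subgroup.
-/

set_option autoImplicit false
set_option linter.style.haveILetI false

namespace Cfsg.Agent.OddLocal.Kappa

open scoped Pointwise commutatorElement
open Cfsg
open Cfsg.Agent.Fusion (SylIn cj cj_cj cj_eq_self cj_mono card_cj mem_normalizer_of_cj_le exists_sylIn_ge exists_sylIn)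
open Cfsg.Agent.OddLocal.Uniq
open Cfsg.Agent.OddLocal.Sig
open Cfsg.Agent.OddLocal.RankTwo
open Cfsg.Agent.OddLocal.TauTwo
open Cfsg.Agent.OddLocal.Prime
open Cfsg.Agent.OddLocal.Disjoint (mem_centralizer_zpowers zpowers_card mem_zpowers_of_order conjugate_of_sigma)

universe u

variable {G : Type u} [Group G] [Finite G] {M A B L E K U : Subgroup G}

omit [Finite G] in
theorem coe_meet (H H' : Subgroup G) : ((H : Set G) ⊓ (H' : Set G)) = ((H ⊓ H' : Subgroup G) : Set G) := rfl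

theorem star_inf (hG : IsMinSimpleOddOrder G) (hM : IsCoatom M) (hK : IsPiHallOf (kappa M) K M) :
    K ⊓ (sigmaCore M ⊓ Subgroup.centralizer (K : Set G)) = ⊥ :=
  Solv.coprime_inf (Nat.coprime_of_dvd fun q hq h1 h2 => (hK.2.1 q hq h1).2.2.1
    ((sigmaCore_hall hG hM).1.2.1 q hq (h2.trans (Subgroup.card_dvd_of_le inf_le_left))))

/-- A Hall `κ(M)`-subgroup is cyclic. -/
theorem hall_cyclic (hG : IsMinSimpleOddOrder G) (hM : IsCoatom M) (hK : IsPiHallOf (kappa M) K M) :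
    IsCyclic ↥K := by
  by_cases hK1 : K = ⊥
  · subst hK1; infer_instance
  obtain ⟨E, U, hF⟩ := exists_frame hG hM hK hK1
  by_cases hU : U = ⊥
  · subst hU
    obtain ⟨A, KA, EA, UA, hA, hKA, hKA1, hFA, hUA, h1, h2, -, h4⟩ := exists_partner_factor hG hM hK hF hK1
    exact (partner_prime hG hM hK hK1 hA hKA hFA hKA1 hUA h1 h2 h4).2.2
  · haveI := Fact.mk (prime_card hG hM hK hF hK1 hU)
    exact isCyclic_of_prime_card rfl

/-- The partner exists. -/
theorem exists_star (hG : IsMinSimpleOddOrder G) (hM : IsCoatom M) (hK : IsPiHallOf (kappa M) K M) (hK1 : K ≠ ⊥) :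
    ∃ A : Subgroup G, IsCoatom A ∧
      K = sigmaCore A ⊓ Subgroup.centralizer ((sigmaCore M ⊓ Subgroup.centralizer (K : Set G)) : Set G) ∧
      IsPiHallOf (kappa A) (sigmaCore M ⊓ Subgroup.centralizer (K : Set G)) A ∧
      M ⊓ A = K ⊔ (sigmaCore M ⊓ Subgroup.centralizer (K : Set G)) := by
  obtain ⟨E, U, hF⟩ := exists_frame hG hM hK hK1
  by_cases hU : U = ⊥
  · subst hU
    obtain ⟨A, KA, EA, UA, hA, hKA, hKA1, hFA, hUA, h1, h2, h3, h4⟩ := exists_partner_factor hG hM hK hF hK1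
    obtain ⟨hKAC, hKeq, -⟩ := partner_prime hG hM hK hK1 hA hKA hFA hKA1 hUA h1 h2 h4
    exact ⟨A, hA, by rw [coe_meet, ← hKAC]; exact hKeq, hKAC ▸ hKA, h3⟩
  set C := sigmaCore M ⊓ Subgroup.centralizer (K : Set G) with hC
  have hp := prime_card hG hM hK hF hK1 hU
  obtain ⟨x, hx, hx1⟩ := exists_ne_one hK1
  haveI := Fact.mk hp
  have hxo : orderOf x = Nat.card K :=
    ((Nat.dvd_prime hp).1 (Subgroup.orderOf_dvd_natCard K hx)).resolve_left fun h => hx1 (orderOf_eq_one_iff.1 h)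
  obtain ⟨A, hA, hNA, -⟩ := exists_over hG hxo
  obtain ⟨KA, EA, UA, hKA, hKA1, hFA, -, -, hxCA, h1, h2, h3, h4⟩ := exists_partner hG hM hK hF hx hxo hA hNA
  set CA := sigmaCore A ⊓ Subgroup.centralizer (KA : Set G) with hCA
  have hKeq : K = CA := (Subgroup.eq_of_le_of_card_ge h2 (le_of_eq
    (((Nat.dvd_prime hp).1 (Subgroup.card_dvd_of_le h2)).resolve_left fun h => hx1 (Subgroup.mem_bot.1
      ((Subgroup.card_eq_one.1 h) ▸ hxCA))).symm)).symm
  have hKAC : KA = C := by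
    refine le_antisymm (fun y hy => ?_) h1
    have h : y ∈ ((K ⊔ C : Subgroup G) : Set G) := by rw [← h4]; exact Subgroup.mem_sup_left hy
    rw [Subgroup.coe_mul_of_right_le_normalizer_left _ _ ((inf_le_right.trans
      (Subgroup.centralizer_le_normalizer _)) : C ≤ Subgroup.normalizer (K : Set G))] at h
    obtain ⟨k, hk, c, hc, rfl⟩ := h
    have h5 : k ∈ KA ⊓ CA := ⟨by simpa using KA.mul_mem hy (KA.inv_mem (h1 hc)), hKeq ▸ hk⟩
    rw [star_inf hG hA hKA, Subgroup.mem_bot] at h5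
    show k * c ∈ C
    rw [h5, one_mul]
    exact hc
  exact ⟨A, hA, by rw [coe_meet, ← hC, ← hKAC]; exact hKeq, hKAC ▸ hKA, h3⟩

/-- A maximal subgroup with the two defining properties of the partner is the partner. -/
theorem star_unique (hG : IsMinSimpleOddOrder G) (hA : IsCoatom A) (hB : IsCoatom B) (hK1 : K ≠ ⊥) {C : Subgroup G}
    (hC1 : C ≠ ⊥) (hKA : IsPiHallOf (kappa A) C A) (heA : K = sigmaCore A ⊓ Subgroup.centralizer (C : Set G))
    (heB : K = sigmaCore B ⊓ Subgroup.centralizer (C : Set G)) : B = A := by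
  obtain ⟨k, hk, hk1⟩ := exists_ne_one hK1
  obtain ⟨t, i, ht, -, hxo⟩ := exists_prime_power_order hk1
  haveI := Fact.mk ht
  set x := k ^ i
  have hxA : x ∈ sigmaCore A ⊓ Subgroup.centralizer (C : Set G) := heA ▸ pow_mem hk i
  have hxB : x ∈ sigmaCore B := (heB ▸ pow_mem hk i : x ∈ sigmaCore B ⊓ Subgroup.centralizer (C : Set G)).1
  obtain ⟨g, hg⟩ := conjugate_of_sigma hG hA hB
    ((sigmaCore_hall hG hA).1.2.1 t ht (hxo ▸ Subgroup.orderOf_dvd_natCard _ hxA.1))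
    ((sigmaCore_hall hG hB).1.2.1 t ht (hxo ▸ Subgroup.orderOf_dvd_natCard _ hxB))
  rw [hg]
  refine Fusion.cj_eq_self_of_mem (by_contra fun hgA => ne_one_of_order hxo ?_)
  exact Subgroup.mem_bot.1 (star_inf_conj hG hA hKA hC1 hgA ▸
    Subgroup.mem_inf.2 ⟨hxA, hg ▸ (Subgroup.map_subtype_le _ : sigmaCore B ≤ B) hxB⟩)

/-- The facts about the partner. -/
theorem star_facts (hG : IsMinSimpleOddOrder G) (hM : IsCoatom M) (hK : IsPiHallOf (kappa M) K M) (hK1 : K ≠ ⊥)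
    (hA : IsCoatom A)
    (hKst : K = sigmaCore A ⊓ Subgroup.centralizer ((sigmaCore M ⊓ Subgroup.centralizer (K : Set G)) : Set G))
    (hKstH : IsPiHallOf (kappa A) (sigmaCore M ⊓ Subgroup.centralizer (K : Set G)) A) :
    M ⊓ A = K ⊔ (sigmaCore M ⊓ Subgroup.centralizer (K : Set G)) ∧
      IsCyclic ↥(K ⊔ (sigmaCore M ⊓ Subgroup.centralizer (K : Set G))) := by
  set C := sigmaCore M ⊓ Subgroup.centralizer (K : Set G) with hC
  rw [coe_meet, ← hC] at hKst
  obtain ⟨B, hB, hBK, hBC, hMB⟩ := exists_star hG hM hK hK1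
  rw [coe_meet, ← hC] at hBK
  have hC1 : C ≠ ⊥ := star_ne_bot hG hM hK hK1
  obtain rfl : B = A := star_unique hG hA hB hK1 hC1 hKstH hKst hBK
  refine ⟨hMB, ?_⟩
  have hcoK := hall_cyclic hG hM hK
  have hcoC := hall_cyclic hG hB hBC
  have hco : (Nat.card K).Coprime (Nat.card C) := Nat.coprime_of_dvd fun q hq h1 h2 => (hK.2.1 q hq h1).2.2.1
    ((sigmaCore_hall hG hM).1.2.1 q hq (h2.trans (Subgroup.card_dvd_of_le inf_le_left)))
  have hcomm : ∀ a ∈ K, ∀ b ∈ C, Commute a b := fun a ha b hb => Subgroup.mem_centralizer_iff.1 hb.2 a ha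
  obtain ⟨a, ha⟩ := hcoK.exists_generator
  obtain ⟨b, hb⟩ := hcoC.exists_generator
  have hKa : K = Subgroup.zpowers (a : G) := le_antisymm (fun k hk => by
    obtain ⟨i, hi⟩ := Subgroup.mem_zpowers_iff.1 (ha ⟨k, hk⟩)
    exact Subgroup.mem_zpowers_iff.2 ⟨i, congrArg Subtype.val hi⟩) (Subgroup.zpowers_le.2 a.2)
  have hCb : C = Subgroup.zpowers (b : G) := le_antisymm (fun k hk => by
    obtain ⟨i, hi⟩ := Subgroup.mem_zpowers_iff.1 (hb ⟨k, hk⟩)
    exact Subgroup.mem_zpowers_iff.2 ⟨i, congrArg Subtype.val hi⟩) (Subgroup.zpowers_le.2 b.2)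
  suffices h : K ⊔ C = Subgroup.zpowers ((a : G) * b) by rw [h]; infer_instance
  refine le_antisymm ?_ (Subgroup.zpowers_le.2 (Subgroup.mul_mem _ (Subgroup.mem_sup_left a.2)
    (Subgroup.mem_sup_right b.2)))
  have hc : Commute (a : G) b := hcomm a a.2 b b.2
  have hord : (orderOf (a : G)).Coprime (orderOf (b : G)) :=
    (hco.coprime_dvd_left (Subgroup.orderOf_dvd_natCard K a.2)).coprime_dvd_right
      (Subgroup.orderOf_dvd_natCard C b.2)
  refine sup_le (hKa.le.trans (Subgroup.zpowers_le.2 ?_)) (hCb.le.trans (Subgroup.zpowers_le.2 ?_))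
  · obtain ⟨j, hj⟩ := exists_pow_eq_self_of_coprime (x := (a : G)) hord.symm
    refine Subgroup.mem_zpowers_iff.2 ⟨(orderOf (b : G) * j : ℕ), ?_⟩
    rw [zpow_natCast, hc.mul_pow, pow_mul (b : G), pow_orderOf_eq_one, one_pow, mul_one, pow_mul, hj]
  · obtain ⟨j, hj⟩ := exists_pow_eq_self_of_coprime (x := (b : G)) hord
    refine Subgroup.mem_zpowers_iff.2 ⟨(orderOf (a : G) * j : ℕ), ?_⟩
    rw [zpow_natCast, hc.mul_pow, pow_mul (a : G), pow_orderOf_eq_one, one_pow, one_mul, pow_mul, hj]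

/-- The centralizer of a point of prime order of `K^*` lies in `M` only. -/
theorem star_centralizer_unique (hG : IsMinSimpleOddOrder G) (hM : IsCoatom M) (hK : IsPiHallOf (kappa M) K M)
    (hK1 : K ≠ ⊥) {y : G} {r : ℕ} [hr : Fact r.Prime]
    (hy : y ∈ sigmaCore M ⊓ Subgroup.centralizer (K : Set G)) (hyo : orderOf y = r) (hL : IsCoatom L)
    (hCL : Subgroup.centralizer ({y} : Set G) ≤ L) : L = M := by
  obtain ⟨E, U, hF⟩ := exists_frame hG hM hK hK1
  have hσM : sigmaCore M ≤ M := Subgroup.map_subtype_le _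
  have hy1 : y ≠ 1 := ne_one_of_order hyo
  have hCM := star_centralizer_le hG hM hK hK1 hy hy1
  have hrd : r ∣ Nat.card ↥(sigmaCore M ⊓ Subgroup.centralizer (K : Set G)) :=
    hyo ▸ Subgroup.orderOf_dvd_natCard _ hy
  have hrσ : r ∈ sigma M := (sigmaCore_hall hG hM).1.2.1 r hr.out (hyo ▸ Subgroup.orderOf_dvd_natCard _ hy.1)
  obtain ⟨S, hS, hyS⟩ := exists_sylIn_ge (isPGroup_of_card (zpowers_card hyo)) (Subgroup.zpowers_le.2 hy.1)
  have hyS' : y ∈ S := hyS (Subgroup.mem_zpowers y)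
  by_cases hσL : r ∈ sigma L
  · obtain ⟨g, hg⟩ := conjugate_of_sigma hG hM hL hrσ hσL
    rw [hg]
    refine Fusion.cj_eq_self_of_mem (by_contra fun hgM => hy1 ?_)
    exact Subgroup.mem_bot.1 (star_inf_conj hG hM hK hK1 hgM ▸
      Subgroup.mem_inf.2 ⟨hy, hg ▸ hCL (Subgroup.mem_centralizer_singleton_iff.2 rfl)⟩)
  obtain ⟨M₀, -, huniq⟩ := sylow_unique hG hM hK hF hK1 hrd hS
  by_cases hSC : S ≤ Subgroup.centralizer ({y} : Set G)
  · exact (huniq L ⟨hL, hSC.trans hCL⟩).trans (huniq M ⟨hM, hS.le.trans hσM⟩).symm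
  exfalso
  have hSM : SylIn r S M := ⟨hS.le.trans hσM, hS.isPGroup, by
    rw [← Subgroup.relIndex_mul_relIndex S (sigmaCore M) M hS.le hσM]
    exact hr.out.prime.not_dvd_mul hS.not_dvd ((sigmaCore_hall hG hM).1.2.2 r hr.out hrσ)⟩
  have hStop : SylIn r S ⊤ := (sigma_sylow hrσ hSM).1
  have hna : ¬ IsMulCommutative ↥S := fun h => hSC fun a ha => Subgroup.mem_centralizer_singleton_iff.2
    (congrArg Subtype.val (h.is_comm.comm (⟨a, ha⟩ : S) ⟨y, hyS'⟩))
  set T := S ⊓ Subgroup.centralizer ({y} : Set G) with hT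
  have hTL : T ≤ L := inf_le_right.trans hCL
  have hTc : ¬ IsCyclic ↥T := by
    intro hc
    obtain ⟨z, -, hzc, hzo⟩ := Solv.exists_central_order (p := r) hS.isPGroup (⊤ : Subgroup ↥S) (fun h => hy1 (by
      have h1 : (⟨y, hyS'⟩ : ↥S) ∈ (⊥ : Subgroup ↥S) := h ▸ Subgroup.mem_top _
      exact congrArg Subtype.val (Subgroup.mem_bot.1 h1)))
    have hzo' : orderOf (z : G) = r := by rw [Subgroup.orderOf_coe]; exact hzo
    have hzc' : ∀ a : ↥S, (a : G) * z = z * a := fun a =>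
      congrArg Subtype.val (Subgroup.mem_center_iff.1 hzc a)
    have heq : Subgroup.zpowers (z : G) = Subgroup.zpowers y := cyclic_eq hc
      (Subgroup.zpowers_le.2 ⟨z.2, Subgroup.mem_centralizer_singleton_iff.2 (hzc' ⟨y, hyS'⟩).symm⟩)
      (Subgroup.zpowers_le.2 ⟨hyS', Subgroup.mem_centralizer_singleton_iff.2 rfl⟩)
      (zpowers_card hzo') (zpowers_card hyo)
    obtain ⟨j, hj⟩ := Subgroup.mem_zpowers_iff.1 (heq.ge (Subgroup.mem_zpowers y))
    refine hSC fun a ha => Subgroup.mem_centralizer_singleton_iff.2 ?_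
    rw [← hj]
    exact ((show Commute a (z : G) from hzc' ⟨a, ha⟩).zpow_right j).eq
  have hTp : IsPGroup r T := hS.isPGroup.to_inf_left
  obtain ⟨B, hBT, hBe, hBc⟩ := exists_elab_sq
    (Uniq.ne_two hG hTp fun h => hTc (by rw [h]; infer_instance)) hTp hTc
  have s : Setup r L B := ⟨hG, hL, hσL, hBT.trans hTL, hBe, hBc⟩
  have hyB : y ∈ B := s.full y (Subgroup.mem_centralizer_iff.2 fun b hb =>
    Subgroup.mem_centralizer_singleton_iff.1 (hBT hb).2) (hyo ▸ pow_orderOf_eq_one y)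
  obtain ⟨F, hF', hBF⟩ := exists_compl_ge hG hL s.le fun q hq hqd => by
    rw [s.card] at hqd
    rw [(Nat.prime_dvd_prime_iff_eq hq hr.out).1 (hq.dvd_of_dvd_pow hqd)]
    exact hσL
  have hτ : r ∈ tau2 L :=
    ⟨hr.out, hσL, prankLE_of_not_alpha hr.out (not_alpha_of_not_sigma hG hL hσL), s.rank_one⟩
  obtain ⟨-, -, hlines⟩ := nonabelian_case s hF' hBF hτ fun P hP => hna (by
    obtain ⟨g, -, hg⟩ := (Fusion.sylIn_top P).conj_le hStop.isPGroup le_top
    refine ⟨⟨fun a b => Subtype.ext ((MulAut.conj g).injective ?_)⟩⟩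
    show (MulAut.conj g) ((a : G) * b) = (MulAut.conj g) ((b : G) * a)
    rw [map_mul, map_mul]
    exact congrArg Subtype.val (hP.is_comm.comm (⟨_, hg ⟨a, a.2, rfl⟩⟩ : (P : Subgroup G)) ⟨_, hg ⟨b, b.2, rfl⟩⟩))
  by_cases hne : Subgroup.zpowers y = B ⊓ Subgroup.centralizer (sigmaCore L : Set G)
  · refine FitParts.sigmaCore_ne_bot hG hL (le_bot_iff.1 ?_)
    rw [← sigmaCore_inf_coatom s hM (fun h => hσL (h ▸ hrσ)) ((hBT.trans inf_le_left).trans hSM.le)]
    refine le_inf le_rfl fun z hz => hCM (Subgroup.mem_centralizer_singleton_iff.2 ?_)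
    exact Subgroup.mem_centralizer_iff.1 (hne.le (Subgroup.mem_zpowers y)).2 z hz
  · refine (hlines _ (Subgroup.zpowers_le.2 (hBF hyB)) (zpowers_card hyo) hne).2 ?_
    rw [centralizer_zpowers]
    exact hCL

end Cfsg.Agent.OddLocal.Kappa
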