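import Cfsg.Agent.Lib.OddLocal.KappaStar
import Cfsg.Agent.Lib.Solv.FrobeniusFormula

/-!
A Hall `κ(M)`-subgroup has prime order when `U` is nontrivial.
-/

set_option autoImplicit false
set_option linter.style.haveILetI false

namespace Cfsg.Agent.OddLocal.Kappa

open scoped Pointwise commutatorElement
open Cfsg
open Cfsg.Agent.Fusion (SylIn cj cj_cj cj_eq_self cj_mono card_cj mem_normalizer_of_cj_le exists_sylIn_ge)
open Cfsg.Agent.OddLocal.Uniq
open Cfsg.Agent.OddLocal.Sig
open Cfsg.Agent.OddLocal.RankTwo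
open Cfsg.Agent.OddLocal.TauTwo
open Cfsg.Agent.OddLocal.Prime
open Cfsg.Agent.OddLocal.Disjoint (mem_centralizer_zpowers zpowers_card mem_zpowers_of_order)

universe u

variable {G : Type u} [Group G] [Finite G] {M E K U : Subgroup G}

/-- `U` has no fixed points on `M_σ`. -/
theorem factor_fixed (hG : IsMinSimpleOddOrder G) (hM : IsCoatom M) (hF : Frame M K E U) (hU : U ≠ ⊥) :
    sigmaCore M ⊓ Subgroup.centralizer (U : Set G) = ⊥ := by
  obtain ⟨q, hq, hqd⟩ := Nat.exists_prime_and_dvd fun h => hU (Subgroup.card_eq_one.1 h)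
  haveI := Fact.mk hq
  have hqU := hF.hall.2.1 q hq hqd
  rcases classify hG hM hq hqU.2.2 (hqd.trans (Subgroup.card_dvd_of_le hF.hall.1)) with h | h
  · obtain ⟨A, hAE, sA⟩ := exists_setup_in_compl hG hM hF.compl h
    have hAU : A ≤ U := by
      refine le_of_hall (π := {r | r.Prime ∧ r ∉ kappa M ∧ r ∉ sigma M}) ⟨hF.U_le, hF.hall.2.1, fun r hr hr' hd =>
        hF.hall.2.2 r hr hr' (dvd_relIndex_trans hF.U_le hF.compl.1 hd)⟩ hF.normal hAE ?_
      exact piNum_of_pgroup (Fusion.elab_isPGroup sA.elem)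
        (show q ∈ {r | r.Prime ∧ r ∉ kappa M ∧ r ∉ sigma M} from hqU)
    exact le_bot_iff.1 ((inf_le_inf_left _ (Subgroup.centralizer_le hAU)).trans (sigmaCore_inf_centralizer sA).le)
  · obtain ⟨⟨w, hw⟩, hwo⟩ := exists_prime_orderOf_dvd_card' q hqd
    rw [Subgroup.orderOf_mk] at hwo
    refine eq_bot_iff.2 fun y hy => Subgroup.mem_bot.2 ?_
    by_contra hy1
    rcases fixed_class hG hM (hF.hall.1 hw) hy.1 hy1 (Subgroup.mem_centralizer_iff.1 hy.2 w hw) hq (hwo ▸ dvd_rfl)
      hqU.2.2 with h' | h'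
    · exact hqU.2.1 h'.1
    · exact h'.2.2.2 (h.elim (fun h => h.2.2.2.2) fun h => h.2.2.2)

/-- A Hall `κ(M)`-subgroup has prime order when `U` is nontrivial. -/
theorem prime_card (hG : IsMinSimpleOddOrder G) (hM : IsCoatom M) (hK : IsPiHallOf (kappa M) K M)
    (hF : Frame M K E U) (hK1 : K ≠ ⊥) (hU : U ≠ ⊥) : (Nat.card K).Prime := by
  set C := sigmaCore M ⊓ Subgroup.centralizer (K : Set G) with hC
  have hσM : sigmaCore M ≤ M := Subgroup.map_subtype_le _
  have hkey : ∀ W : Subgroup G, W ≤ K → W ≠ ⊥ → Nat.card (sigmaCore M) = Nat.card C ^ Nat.card W := by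
    intro W hWK hW
    obtain ⟨w, hw, hw1⟩ := exists_ne_one hW
    have hWE : W ≤ E := hWK.trans hF.le
    have hsup : U ⊔ W ≤ E := sup_le hF.U_le hWE
    have key := Solv.FrobFix.formula (sigmaCore M) U W (Solv.isSolvable_of_le hσM (hG.2.2.2 M hM.1))
      ((hsup.trans hF.compl.1).trans le_normalizer_piCoreOf) (hWE.trans hF.normal)
      (fun e he he1 u hu h => hF.fpf e (hWK he) he1 u hu h.symm)
      (Nat.coprime_of_dvd fun q hq h1 h2 => compl_pi hG hM hF.compl hq (h2.trans (Subgroup.card_dvd_of_le hsup))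
        ((sigmaCore_hall hG hM).1.2.1 q hq h1))
    have h1 : sigmaCore M ⊓ Subgroup.centralizer ((U ⊔ W : Subgroup G) : Set G) = ⊥ :=
      le_bot_iff.1 ((inf_le_inf_left _ (centralizer_le_of_le le_sup_left)).trans (factor_fixed hG hM hF hU).le)
    have h2 : sigmaCore M ⊓ Subgroup.centralizer (W : Set G) = C :=
      le_antisymm ((inf_le_inf_left _ (Subgroup.centralizer_le (Set.singleton_subset_iff.2 hw))).trans
        (prime_action hG hM hK (hWK hw) hw1).le) (inf_le_inf_left _ (Subgroup.centralizer_le hWK))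
    rw [h1, h2, factor_fixed hG hM hF hU, Subgroup.card_bot] at key
    simpa using key
  obtain ⟨k, hk, hk1⟩ := exists_ne_one hK1
  obtain ⟨t, i, ht, -, hko⟩ := exists_prime_power_order hk1
  have h1 := hkey _ (Subgroup.zpowers_le.2 (pow_mem hk i)) (fun h => ne_one_of_order (hq := ⟨ht⟩) hko
    (Subgroup.zpowers_eq_bot.1 h))
  have h2 := hkey K le_rfl hK1
  have hC1 : 1 < Nat.card C := by
    haveI : Nontrivial ↥C := (Subgroup.nontrivial_iff_ne_bot C).2 (star_ne_bot hG hM hK hK1)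
    exact Finite.one_lt_card
  rw [h2, Nat.card_zpowers, hko] at h1
  rw [Nat.pow_right_injective hC1 h1]
  exact ht

end Cfsg.Agent.OddLocal.Kappa
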