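import Cfsg.Agent.Lib.OddLocal.KappaFree
import Cfsg.Agent.Lib.OddLocal.KappaPrime
import Cfsg.Agent.Lib.OddLocal.KappaEmbedding
import Cfsg.Agent.Lib.OddLocal.KappaCover
import Cfsg.Agent.Lib.Local.TypePBasic

/-!
For a maximal subgroup with nontrivial `K` and `U`: `M_σ` is nilpotent and every prime of `σ(M)` is in `β(M)`.
-/

set_option autoImplicit false
set_option linter.style.haveILetI false

namespace Cfsg.Agent.OddLocal.Kappa

open scoped Pointwise commutatorElement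
open Cfsg
open Cfsg.Agent.Fusion (SylIn cj cj_cj cj_eq_self cj_mono card_cj exists_sylIn)
open Cfsg.Agent.OddLocal.Uniq
open Cfsg.Agent.OddLocal.Sig
open Cfsg.Agent.OddLocal.RankTwo
open Cfsg.Agent.OddLocal.TauTwo

universe u

variable {G : Type u} [Group G] [Finite G] {M E K U R : Subgroup G} {p : ℕ}

/-- `M_σ` is nilpotent when `U` is nontrivial. -/
theorem core_nilpotent_of_U (hG : IsMinSimpleOddOrder G) (hM : IsCoatom M) (hKU : IsSigmaDecomposition M K U)
    (hU : U ≠ ⊥) : Group.IsNilpotent ↥(sigmaCore M) := by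
  obtain ⟨U₀, hle, he, hf⟩ := exists_free hG hM hKU
  have hne : U₀ ≠ ⊥ := by
    intro h
    refine hU ?_
    have h1 : Monoid.exponent ↥U = 1 := by
      rw [← he, Monoid.exp_eq_one_iff]
      subst h
      exact inferInstance
    rw [Monoid.exp_eq_one_iff] at h1
    exact Subgroup.eq_bot_iff_forall _ |>.2 fun x hx => congrArg Subtype.val (h1.elim (⟨x, hx⟩ : U) 1)
  obtain ⟨u, hu, hu1⟩ := exists_ne_one hne
  obtain ⟨q, hq, hqd⟩ := Nat.exists_prime_and_dvd fun h => hu1 (orderOf_eq_one_iff.1 h)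
  set w := u ^ (orderOf u / q)
  have hwo : orderOf w = q := orderOf_pow_orderOf_div (orderOf_pos u).ne' hqd
  exact Solv.fpf_nilpotent (sigmaCore M) w hq (hwo ▸ pow_orderOf_eq_one w)
    (le_normalizer_piCoreOf (Decomp.U_le hKU (hle (pow_mem hu _))))
    (hf w (pow_mem hu _) fun h => hq.ne_one (by rw [← hwo, h, orderOf_one]))

omit [Finite G] in
theorem odd_range [Finite G] (hG : IsMinSimpleOddOrder G) {H : Subgroup G} {A : Type u} [Group A]
    (φ : H →* A) : Odd (Nat.card ↥φ.range) :=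
  Odd.of_dvd_nat (odd_subgroup hG H) (Subgroup.card_range_dvd φ)

/-- A `p'`-group acting on a `p`-group of rank at most two has a derived group acting trivially. -/
theorem commutator_centralizes (hG : IsMinSimpleOddOrder G) [hp : Fact p.Prime] (hE : E ≠ ⊤)
    (hn : E ≤ Subgroup.normalizer (R : Set G)) (hR : IsPGroup p R) (hr : PRankLE p 2 ↥R) (hR1 : R ≠ ⊥)
    (hco : ¬ p ∣ Nat.card E) : ⁅E, E⁆ ≤ Subgroup.centralizer (R : Set G) := by
  set φ := (Subgroup.normalizerMonoidHom R).comp (Subgroup.inclusion hn) with hφ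
  haveI : Group.IsSolvable ↥E := hG.2.2.2 E (lt_top_iff_ne_top.2 hE).ne
  haveI : Group.IsSolvable ↥φ.range := Group.isSolvable_of_surjective φ.rangeRestrict_surjective
  have hp2 : p ≠ 2 := Uniq.ne_two hG hR hR1
  have h := Solv.RankTwo.commutator_rank_two hp2 hR hr (odd_range hG φ) φ.range.subtype φ.range.subtype_injective
  have hcard : ¬ p ∣ Nat.card ↥φ.range := fun hd => hco (hd.trans (Subgroup.card_range_dvd φ))
  have hbot : commutator ↥φ.range = ⊥ := by
    obtain ⟨j, hj⟩ := IsPGroup.iff_card.1 h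
    refine Subgroup.card_eq_one.1 ?_
    rcases Nat.eq_zero_or_pos j with h0 | h0
    · rw [hj, h0, pow_zero]
    · exact absurd ((dvd_pow_self p h0.ne').trans (hj ▸ Subgroup.card_subgroup_dvd_card _)) hcard
  rw [Subgroup.commutator_le]
  intro a ha b hb
  have h1 : ⁅φ.rangeRestrict ⟨a, ha⟩, φ.rangeRestrict ⟨b, hb⟩⁆ ∈ commutator ↥φ.range :=
    commutator_def ↥φ.range ▸ Subgroup.commutator_mem_commutator (Subgroup.mem_top _) (Subgroup.mem_top _)
  rw [hbot, Subgroup.mem_bot, ← map_commutatorElement] at h1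
  have h2 : φ ⁅(⟨a, ha⟩ : ↥E), (⟨b, hb⟩ : ↥E)⁆ = 1 := congrArg Subtype.val h1
  rw [hφ, MonoidHom.comp_apply] at h2
  have h3 : Subgroup.inclusion hn ⁅(⟨a, ha⟩ : ↥E), (⟨b, hb⟩ : ↥E)⁆ ∈ (Subgroup.normalizerMonoidHom R).ker := h2
  rw [Subgroup.normalizerMonoidHom_ker, Subgroup.mem_subgroupOf] at h3
  exact h3

/-- A fixed-point-free `K` makes `U` consist of commutators. -/
theorem U_le_commutator (hG : IsMinSimpleOddOrder G) (hM : IsCoatom M) (hKU : IsSigmaDecomposition M K U)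
    (hK1 : K ≠ ⊥) : U ≤ ⁅U ⊔ K, U ⊔ K⁆ := by
  obtain ⟨k, hk, hk1⟩ := exists_ne_one hK1
  have hmem : ∀ u : ↥U, ⁅(u : G), k⁆ ∈ U := fun u => by
    rw [commutatorElement_def, show (u : G) * k * (u : G)⁻¹ * k⁻¹ = u * (k * (u : G)⁻¹ * k⁻¹) by group]
    exact Subgroup.mul_mem _ u.2 ((Subgroup.mem_normalizer_iff.1 (hKU.normal hk) _).1 (Subgroup.inv_mem _ u.2))
  let f : ↥U → ↥U := fun u => ⟨⁅(u : G), k⁆, hmem u⟩
  have hinj : Function.Injective f := fun a b h => by
    have h' : ⁅(a : G), k⁆ = ⁅(b : G), k⁆ := congrArg Subtype.val h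
    rw [commutatorElement_def, commutatorElement_def] at h'
    have h2 : ((b : G)⁻¹ * a) * k = k * ((b : G)⁻¹ * a) := by
      calc ((b : G)⁻¹ * a) * k = (b : G)⁻¹ * ((a : G) * k * (a : G)⁻¹ * k⁻¹) * k * a := by group
        _ = (b : G)⁻¹ * ((b : G) * k * (b : G)⁻¹ * k⁻¹) * k * a := by rw [h']
        _ = _ := by group
    have h3 := decomp_fpf hG hM hKU k hk hk1 _ (Subgroup.mul_mem _ (Subgroup.inv_mem _ b.2) a.2) h2
    exact Subtype.ext (inv_mul_eq_one.1 h3).symm
  intro u hu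
  obtain ⟨w, hw⟩ := (Finite.surjective_of_injective hinj) ⟨u, hu⟩
  rw [show u = ⁅(w : G), k⁆ from (congrArg Subtype.val hw).symm]
  exact Subgroup.commutator_mem_commutator (Subgroup.mem_sup_left w.2) (Subgroup.mem_sup_right hk)

/-- Every prime of `σ(M)` is in `β(M)` when `K` and `U` are nontrivial. -/
theorem sigma_subset_beta (hG : IsMinSimpleOddOrder G) (hM : IsCoatom M) (hKU : IsSigmaDecomposition M K U)
    (hK1 : K ≠ ⊥) (hU : U ≠ ⊥) : ∀ q ∈ sigma M, q ∈ beta M := by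
  intro p hσ
  by_contra hβ
  haveI := Fact.mk hσ.1
  have hF := frame_of_decomp hG hM hKU hK1
  obtain ⟨S, hS, hS1, -⟩ := exists_sigma_sylow (M := M) hσ
  obtain ⟨hStop, -, -⟩ := sigma_sylow hσ hS
  have hnil := core_nilpotent_of_U hG hM hKU hU
  have hSσ : S ≤ sigmaCore M := le_of_hall (sigmaCore_hall hG hM).1 le_normalizer_piCoreOf hS.le
    (piNum_of_pgroup hS.isPGroup hσ)
  have hSn : M ≤ Subgroup.normalizer (S : Set G) := SigmaSubgroups.sylow_of_nilpotent_normal hnil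
    le_normalizer_piCoreOf (hS.mono hSσ (Subgroup.map_subtype_le _))
  set Z := omz p S with hZ
  have hZn : M ≤ Subgroup.normalizer (Z : Set G) := fun m hm => Fusion.mem_normalizer_of_cj_le (by
    rintro _ ⟨x, ⟨hx, hxC, hxp⟩, rfl⟩
    have hconj : ∀ y ∈ S, m * y * m⁻¹ ∈ S := fun y hy => (Subgroup.mem_normalizer_iff.1 (hSn hm) y).1 hy
    refine ⟨hconj x hx, Subgroup.mem_centralizer_iff.2 fun s hs => ?_, ?_⟩
    · obtain ⟨y, hy, rfl⟩ : ∃ y ∈ S, s = m * y * m⁻¹ := ⟨m⁻¹ * s * m,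
        by simpa using (Subgroup.mem_normalizer_iff.1 (hSn (inv_mem hm)) s).1 hs, by group⟩
      show m * y * m⁻¹ * (m * x * m⁻¹) = m * x * m⁻¹ * (m * y * m⁻¹)
      rw [conj_mul, conj_mul, Subgroup.mem_centralizer_iff.1 hxC y hy]
    · show (m * x * m⁻¹) ^ p = 1
      rw [conj_pow, hxp, mul_one, mul_inv_cancel])
  have hr : PRankLE p 2 ↥Z := by
    refine fun B _ _ => (Nat.le_of_dvd Nat.card_pos (Subgroup.card_subgroup_dvd_card B)).trans ?_
    by_cases hα : p ∈ alpha M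
    · have hni : ¬ IsIdealPrime p G := fun h => hβ ⟨hα, h⟩
      have hrG : ¬ PRankLE p 2 G := fun h => hα.2 (Solv.RankTwo.prankLE_of_injective M.subtype M.subtype_injective h)
      have hni' : ∃ (P : Sylow p G) (A : Subgroup G), A ≤ (P : Subgroup G) ∧ IsElementaryAbelian p A ∧
          Nat.card A = p ^ 2 ∧ ∀ B : Subgroup G, B ≤ (P : Subgroup G) → IsElementaryAbelian p B → ¬ A < B := by
        by_contra hno
        push Not at hno
        exact hni ⟨hσ.1, hrG, hno⟩
      obtain ⟨P, A, hAP, hAe, hAc, hmax⟩ := hni'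
      obtain ⟨g, -, hg⟩ := hStop.conj_eq (Fusion.sylIn_top P)
      have hZe := omz_elab (q := p) S
      have hZP : cj Z g ≤ (P : Subgroup G) := hg ▸ cj_mono (omz_le S) g
      have hcomm : ∀ z ∈ cj Z g, ∀ y ∈ (P : Subgroup G), Commute z y := by
        rintro _ ⟨z, hz, rfl⟩ y hy
        rw [← hg] at hy
        obtain ⟨s, hs, rfl⟩ := hy
        exact (show Commute z s from (Subgroup.mem_centralizer_iff.1 hz.2.1 s hs).symm).map (MulAut.conj g).toMonoidHom
      have hAc' : ∀ a ∈ A, ∀ b ∈ A, Commute a b := fun a ha b hb =>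
        congrArg Subtype.val (hAe.1.is_comm.comm (⟨a, ha⟩ : A) ⟨b, hb⟩)
      have hzp : ∀ z ∈ cj Z g, z ^ p = 1 := by
        rintro _ ⟨z, hz, rfl⟩
        rw [← map_pow, hz.2.2, map_one]
      have hle : cj Z g ≤ A := by
        by_contra hne
        have hsup : ∀ x ∈ A ⊔ cj Z g, ∃ a ∈ A, ∃ z ∈ cj Z g, x = a * z := fun x hx => by
          rw [← SetLike.mem_coe, Subgroup.coe_mul_of_left_le_normalizer_right _ _ (fun a ha =>
            Subgroup.centralizer_le_normalizer _ (Subgroup.mem_centralizer_iff.2 fun z hz =>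
              (hcomm z hz a (hAP ha)).eq))] at hx
          obtain ⟨a, ha, z, hz, rfl⟩ := hx
          exact ⟨a, ha, z, hz, rfl⟩
        refine hmax _ (sup_le hAP hZP) ⟨⟨⟨fun x y => Subtype.ext ?_⟩⟩, fun x hx => ?_⟩
          (lt_of_le_of_ne le_sup_left fun h => hne (h ▸ le_sup_right))
        · obtain ⟨a, ha, z, hz, hx⟩ := hsup x x.2
          obtain ⟨b, hb, w, hw, hy⟩ := hsup y y.2
          show (x : G) * y = y * x
          rw [hx, hy]
          exact (((hAc' a ha b hb).mul_right (hcomm w hw a (hAP ha)).symm).mul_left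
            ((hcomm z hz b (hAP hb)).mul_right (hcomm z hz w (hZP hw)))).eq
        · obtain ⟨a, ha, z, hz, rfl⟩ := hsup x hx
          rw [(hcomm z hz a (hAP ha)).symm.mul_pow, hAe.2 a ha, hzp z hz, one_mul]
      calc Nat.card Z = Nat.card ↥(cj Z g) := (card_cj Z g).symm
        _ ≤ Nat.card A := Nat.le_of_dvd Nat.card_pos (Subgroup.card_dvd_of_le hle)
        _ = p ^ 2 := hAc
    · have h1 := Solv.RankTwo.prankLE_of_injective (Subgroup.inclusion ((omz_le (q := p) S).trans hS.le)) (Subgroup.inclusion_injective _)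
        (prankLE_of_not_alpha hσ.1 hα)
      have hZe := omz_elab (q := p) S
      have := h1 ⊤ ⟨⟨fun a b => Subtype.ext (hZe.1.is_comm.comm a.1 b.1)⟩⟩
        fun a _ => Subtype.ext (by simpa using hZe.2 a a.2)
      rwa [Subgroup.card_top] at this
  have hE : U ⊔ K ≤ M := hF.compl.1
  have hE1 : U ⊔ K ≠ ⊤ := fun h => hM.1 (top_le_iff.1 (h ▸ hE))
  have hco : ¬ p ∣ Nat.card ↥(U ⊔ K) := fun hd => compl_pi hG hM hF.compl hσ.1 hd hσ
  have hUC := (U_le_commutator hG hM hKU hK1).trans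
    (commutator_centralizes hG hE1 (hE.trans hZn) (hS.isPGroup.to_le (omz_le S)) hr (omz_ne_bot hS.isPGroup hS1) hco)
  refine omz_ne_bot hS.isPGroup hS1 (le_bot_iff.1 ?_)
  rw [← factor_fixed hG hM hF hU]
  exact le_inf ((omz_le S).trans hSσ) fun z hz => Subgroup.mem_centralizer_iff.2 fun u hu =>
    (Subgroup.mem_centralizer_iff.1 (hUC hu) z hz).symm


/-- `M_σ` meets the other conjugates of `M` trivially. -/
theorem core_inf_cj (hG : IsMinSimpleOddOrder G) (hM : IsCoatom M) (hKU : IsSigmaDecomposition M K U)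
    (hK1 : K ≠ ⊥) (hU : U ≠ ⊥) {g : G} (hg : g ∉ M) : sigmaCore M ⊓ cj M g = ⊥ := by
  by_contra hne
  obtain ⟨q, hq, hqd⟩ := Nat.exists_prime_and_dvd fun h => hne (Subgroup.card_eq_one.1 h)
  exact (SigmaTI.inter_conj hG hM hg).2.1 q hq hqd (sigma_subset_beta hG hM hKU hK1 hU q
    ((sigmaCore_hall hG hM).1.2.1 q hq (hqd.trans (Subgroup.card_dvd_of_le inf_le_left))))

/-- A nilpotent `M_σ` lies in `F(M)`. -/
theorem core_le_fitting (hnil : Group.IsNilpotent ↥(sigmaCore M)) : sigmaCore M ≤ fittingOf M := by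
  have h : Group.IsNilpotent ↥(piCore (sigma M) ↥M) := by
    haveI : Group.IsNilpotent ↥((piCore (sigma M) ↥M).map M.subtype) := hnil
    exact Group.nilpotent_of_mulEquiv (Subgroup.equivMapOfInjective _ _ M.subtype_injective).symm
  exact Subgroup.map_mono (le_sSup ⟨inferInstance, h⟩)

theorem le_normalizer_fittingOf : M ≤ Subgroup.normalizer (fittingOf M : Set G) := by
  haveI : (fittingSubgroup ↥M).Normal := Subgroup.sSup_normal _ fun _ h => h.1
  exact Bender.le_normalizer_map _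

/-- `F(M)` is a TI-subset when `K` and `U` are nontrivial. -/
theorem fitting_ti (hG : IsMinSimpleOddOrder G) (hM : IsCoatom M) (hKU : IsSigmaDecomposition M K U)
    (hK1 : K ≠ ⊥) (hU : U ≠ ⊥) : IsTISubset (fittingOf M : Set G) := by
  intro g hg x hx hgx
  by_contra hx1
  have hgM : g ∉ M := fun h => hg (le_normalizer_fittingOf h)
  have hF := frame_of_decomp hG hM hKU hK1
  have hFM : fittingOf M ≤ M := Subgroup.map_subtype_le _
  haveI := TypePBasic.fittingOf_nilpotent M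
  obtain ⟨q, hq, hqd⟩ := Nat.exists_prime_and_dvd fun h => hx1 (orderOf_eq_one_iff.1 h)
  haveI := Fact.mk hq
  set w := x ^ (orderOf x / q) with hw
  have hwo : orderOf w = q := orderOf_pow_orderOf_div (orderOf_pos x).ne' hqd
  have hw1 : w ≠ 1 := fun h => hq.ne_one (by rw [← hwo, h, orderOf_one])
  have hwF : w ∈ fittingOf M := pow_mem hx _
  have hgw : g * w * g⁻¹ ∈ fittingOf M := by
    rw [hw, ← conj_pow]
    exact pow_mem hgx _
  by_cases hσ : q ∈ sigma M
  · have h1 : g * w * g⁻¹ ∈ sigmaCore M ⊓ cj M g := by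
      refine ⟨le_of_hall (sigmaCore_hall hG hM).1 le_normalizer_piCoreOf (Subgroup.zpowers_le.2 (hFM hgw))
        (fun t ht htd => ?_) (Subgroup.mem_zpowers _), Fusion.conj_mem_cj (hFM hwF)⟩
      rw [Nat.card_zpowers, show orderOf (g * w * g⁻¹) = orderOf w from
        orderOf_injective (MulAut.conj g).toMonoidHom (MulAut.conj g).injective w, hwo] at htd
      exact (Nat.prime_dvd_prime_iff_eq ht hq).1 htd ▸ hσ
    rw [core_inf_cj hG hM hKU hK1 hU hgM, Subgroup.mem_bot] at h1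
    exact hw1 (conj_eq_one_iff.1 h1)
  have hnil := core_nilpotent_of_U hG hM hKU hU
  have hcent : ∀ y ∈ fittingOf M, orderOf y = q → ∀ s ∈ sigmaCore M, y * s = s * y := fun y hy hyo s hs =>
    (Subgroup.mem_centralizer_iff.1 (TypePBasic.nilpotent_coprime_commute (core_le_fitting hnil)
      (Subgroup.zpowers_le.2 hy) (by
        rw [Nat.card_zpowers, hyo]
        exact (hq.coprime_iff_not_dvd.2 fun hd => hσ ((sigmaCore_hall hG hM).1.2.1 q hq hd)).symm)
      (Subgroup.mem_zpowers y)) s hs).symm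
  obtain ⟨p, hσp⟩ : ∃ p, p ∈ sigma M := by
    obtain ⟨c, hc, hc1⟩ := exists_ne_one (star_ne_bot hG hM hKU.hall hK1)
    obtain ⟨p, hp, hpd⟩ := Nat.exists_prime_and_dvd fun h => hc1 (orderOf_eq_one_iff.1 h)
    exact ⟨p, Support.mem_pi hG hM hc.1 p hp hpd⟩
  haveI := Fact.mk hσp.1
  obtain ⟨S, hS, hS1, -⟩ := exists_sigma_sylow (M := M) hσp
  have hSσ : S ≤ sigmaCore M := le_of_hall (sigmaCore_hall hG hM).1 le_normalizer_piCoreOf hS.le
    (piNum_of_pgroup hS.isPGroup hσp)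
  obtain ⟨s, hs, hs1⟩ := exists_ne_one hS1
  have hwτ : ∀ t : ℕ, t.Prime → t ∣ orderOf w → t ∈ tau2 M := by
    intro t ht htd
    obtain rfl := (Nat.prime_dvd_prime_iff_eq ht hq).1 (hwo ▸ htd)
    have hdM : t ∣ Nat.card M := hwo ▸ Subgroup.orderOf_dvd_natCard M (hFM hwF)
    refine (classify hG hM ht hσ hdM).resolve_right fun h13 => ?_
    have hκ := Decomp.kappa_of_fixed hG hM ht hσ hdM (h13.elim (fun h => h.2.2.2.2) fun h => h.2.2.2) (hFM hwF)
      (hwo ▸ dvd_rfl) (hSσ hs) hs1 (hcent w hwF hwo s (hSσ hs))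
    obtain ⟨m, hm, hmk⟩ := mem_hall_conj hG hM hKU.hall (hFM hwF) fun r hr hrd =>
      (Nat.prime_dvd_prime_iff_eq hr ht).1 (hwo ▸ hrd) ▸ hκ
    have hk1 : m⁻¹ * w * m ≠ 1 := fun h => hw1 (by
      calc w = m * (m⁻¹ * w * m) * m⁻¹ := by group
        _ = 1 := by rw [h]; group)
    refine sylow_not_le_star hG hM hKU.hall hF hK1 hσp hS fun y hy => ?_
    rw [← prime_action hG hM hKU.hall hmk hk1]
    refine ⟨hSσ hy, Subgroup.mem_centralizer_singleton_iff.2 ?_⟩
    have h2 := hcent w hwF hwo (m * y * m⁻¹) ((Subgroup.mem_normalizer_iff.1 (le_normalizer_piCoreOf hm) y).1 (hSσ hy))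
    calc y * (m⁻¹ * w * m) = m⁻¹ * ((m * y * m⁻¹) * w) * m := by group
      _ = m⁻¹ * (w * (m * y * m⁻¹)) * m := by rw [h2]
      _ = _ := by group
  obtain ⟨E', hE'⟩ := exists_compl hG hM
  have hwo' : orderOf (g * w * g⁻¹) = q := by
    rw [show orderOf (g * w * g⁻¹) = orderOf w from
      orderOf_injective (MulAut.conj g).toMonoidHom (MulAut.conj g).injective w, hwo]
  obtain ⟨hC, -⟩ := element_unique hG hM hE' (hFM hwF) hw1 hwτ (hSσ hs) hs1 (hcent w hwF hwo s (hSσ hs))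
  have h3 : g⁻¹ * s * g ∈ M := hC (Subgroup.mem_centralizer_singleton_iff.2 (by
    have h4 := hcent _ hgw hwo' s (hSσ hs)
    calc g⁻¹ * s * g * w = g⁻¹ * (s * (g * w * g⁻¹)) * g := by group
      _ = g⁻¹ * ((g * w * g⁻¹) * s) * g := by rw [h4]
      _ = _ := by group))
  have h5 : s ∈ sigmaCore M ⊓ cj M g := ⟨hSσ hs, by
    have h6 := Fusion.conj_mem_cj (g := g) h3
    rwa [show g * (g⁻¹ * s * g) * g⁻¹ = s by group] at h6⟩
  rw [core_inf_cj hG hM hKU hK1 hU hgM, Subgroup.mem_bot] at h5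
  exact hs1 h5

end Cfsg.Agent.OddLocal.Kappa
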