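import Cfsg.Agent.Lib.OddLocal.KappaFittingEq

/-!
Fusion in Hall subgroups of `M_σ`.
-/

set_option autoImplicit false
set_option linter.style.haveILetI false

namespace Cfsg.Agent.OddLocal.Kappa

open scoped Pointwise commutatorElement
open Cfsg
open Cfsg.Agent.Fusion (SylIn cj cj_cj cj_eq_self cj_mono card_cj exists_sylIn exists_sylIn_ge)
open Cfsg.Agent.OddLocal.Uniq
open Cfsg.Agent.OddLocal.Sig
open Cfsg.Agent.OddLocal.RankTwo
open Cfsg.Agent.OddLocal.TauTwo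
open Cfsg.Agent.OddLocal.Prime
open Cfsg.Agent.OddLocal.Disjoint (mem_centralizer_zpowers zpowers_card)

universe u

variable {G : Type u} [Group G] [Finite G] {M E K U H : Subgroup G}

theorem coprime_relIndex_hall (hco : (Nat.card H).Coprime (H.relIndex K)) (hHK : H ≤ K) :
    IsPiHallOf {q | q ∣ Nat.card H} H K :=
  ⟨hHK, fun _ _ h => h, fun q hq h hd => hq.not_dvd_one (hco ▸ Nat.dvd_gcd h hd)⟩

theorem core_sylow (hG : IsMinSimpleOddOrder G) (hM : IsCoatom M) {p : ℕ} [hp : Fact p.Prime] {T : Subgroup G}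
    (hT : SylIn p T (sigmaCore M)) (hd : p ∣ Nat.card (sigmaCore M)) : SylIn p T M :=
  sylIn_of_hallOf (sigmaCore_hall hG hM).1 ((sigmaCore_hall hG hM).1.2.1 p hp.out hd) hT

/-- The centralizer in `M` of a Hall subgroup of `M_σ`. -/
theorem centralizer_split (hG : IsMinSimpleOddOrder G) (hM : IsCoatom M) (hH : H ≤ sigmaCore M) (hH1 : H ≠ ⊥)
    (hco : (Nat.card H).Coprime (H.relIndex (sigmaCore M))) :
    ∃ X : Subgroup G, IsCyclic X ∧ (∀ p : ℕ, p.Prime → p ∣ Nat.card X → p ∈ tau2 M) ∧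
      M ⊓ Subgroup.centralizer (H : Set G) = (sigmaCore M ⊓ Subgroup.centralizer (H : Set G)) ⊔ X := by
  have hall := coprime_relIndex_hall hco hH
  have hσM : sigmaCore M ≤ M := Subgroup.map_subtype_le _
  set C := M ⊓ Subgroup.centralizer (H : Set G) with hC
  have hCtop : C ≠ ⊤ := fun h => hM.1 (top_le_iff.1 (h ▸ inf_le_left))
  obtain ⟨X, hX, -⟩ := exists_hall_ge hG hCtop (sigma M)ᶜ (bot_le : (⊥ : Subgroup G) ≤ C)
    (fun q hq hd => by rw [Subgroup.card_bot] at hd; exact absurd hd hq.not_dvd_one)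
  obtain ⟨E, hE, hXE⟩ := exists_compl_ge hG hM (hX.1.trans inf_le_left) fun r hr hd => hX.2.1 r hr hd
  obtain ⟨y, hy, hy1⟩ := exists_ne_one hH1
  obtain ⟨p, hp, hpd⟩ := Nat.exists_prime_and_dvd fun h => hH1 (Subgroup.card_eq_one.1 h)
  have hxy : ∀ x ∈ X, x * y = y * x := fun x hx =>
    (Subgroup.mem_centralizer_iff.1 (hX.1 hx).2 y hy).symm
  have hτ : ∀ x ∈ X, ∀ t : ℕ, t.Prime → t ∣ orderOf x → t ∈ tau2 M := by
    intro x hx t ht htd
    have htσ : t ∉ sigma M := hX.2.1 t ht (htd.trans (Subgroup.orderOf_dvd_natCard X hx))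
    refine (fixed_class hG hM (hX.1 hx).1 (hH hy) hy1 (hxy x hx) ht htd htσ).resolve_left fun hκ => ?_
    obtain ⟨K, hK, -⟩ := exists_hall_ge hG hM.1 (kappa M) (bot_le : (⊥ : Subgroup G) ≤ M)
      (fun q hq hd => by rw [Subgroup.card_bot] at hd; exact absurd hd hq.not_dvd_one)
    haveI := Fact.mk ht
    have hz : ∃ z ∈ X, orderOf z = t := ⟨x ^ (orderOf x / t), pow_mem hx _, orderOf_pow_orderOf_div (orderOf_pos x).ne' htd⟩
    obtain ⟨z, hz, hzo⟩ := hz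
    obtain ⟨m, hm, hk⟩ := mem_hall_conj hG hM hK (hX.1 hz).1 fun q hq hd => by
      rw [hzo] at hd
      exact (Nat.prime_dvd_prime_iff_eq hq ht).1 hd ▸ hκ.1
    have hk1 : m⁻¹ * z * m ≠ 1 := fun h => ne_one_of_order hzo (by
      calc z = m * (m⁻¹ * z * m) * m⁻¹ := by group
        _ = 1 := by rw [h]; group)
    have hK1 : K ≠ ⊥ := fun h => hk1 (Subgroup.mem_bot.1 (h ▸ hk))
    obtain ⟨E', U', hF⟩ := exists_frame hG hM hK hK1
    haveI := Fact.mk hp
    obtain ⟨T, hT⟩ := exists_sylIn (p := p) H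
    have hTσ : SylIn p T (sigmaCore M) := sylIn_of_hallOf hall (show p ∈ {q | q ∣ Nat.card H} from hpd) hT
    have hTM := core_sylow hG hM hTσ (hpd.trans (Subgroup.card_dvd_of_le hH))
    have hσn : m⁻¹ ∈ Subgroup.normalizer (sigmaCore M : Set G) := le_normalizer_piCoreOf (M.inv_mem hm)
    refine sylow_not_le_star hG hM hK hF hK1 ((sigmaCore_hall hG hM).1.2.1 p hp
      (hpd.trans (Subgroup.card_dvd_of_le hH))) (hTM.cj' (Subgroup.le_normalizer (M.inv_mem hm))) ?_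
    rintro _ ⟨w, hw, rfl⟩
    rw [← prime_action hG hM hK hk hk1]
    refine ⟨(Subgroup.mem_normalizer_iff.1 hσn w).1 (hTσ.le hw), Subgroup.mem_centralizer_singleton_iff.2 ?_⟩
    have hzw := Subgroup.mem_centralizer_iff.1 (hX.1 hz).2 w (hT.le hw)
    show (m⁻¹ * w * m⁻¹⁻¹) * (m⁻¹ * z * m) = (m⁻¹ * z * m) * (m⁻¹ * w * m⁻¹⁻¹)
    calc _ = m⁻¹ * (w * z) * m := by group
      _ = m⁻¹ * (z * w) * m := by rw [hzw]
      _ = _ := by group
  obtain ⟨A₀, -, -, hab, hmem⟩ := fixed_normal_abelian hG hM hE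
  have hXA : X ≤ A₀ := fun x hx => hmem x (hXE hx) y (hH hy) hy1 (hxy x hx) (hτ x hx)
  have hτX : ∀ q : ℕ, q.Prime → q ∣ Nat.card X → q ∈ tau2 M := fun q hq hd => by
    haveI := Fact.mk hq
    obtain ⟨⟨x, hx⟩, hxo⟩ := exists_prime_orderOf_dvd_card' q hd
    rw [Subgroup.orderOf_mk] at hxo
    exact hτ x hx q hq hxo.symm.dvd
  refine ⟨X, cyclic_of_rank_one hG ⟨⟨fun a b => Subtype.ext (congrArg Subtype.val
    (hab.is_comm.comm (⟨a, hXA a.2⟩ : A₀) ⟨b, hXA b.2⟩) :)⟩⟩ fun q hq hd => by_contra fun hr => ?_, hτX, ?_⟩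
  · haveI := Fact.mk hq
    obtain ⟨B, hBX, hBe, hBc⟩ := exists_elab_of_prank hr
    have hq2 : q ≠ 2 := by
      rintro rfl
      exact Nat.not_even_iff_odd.2 hG.1 (even_iff_two_dvd.2 (hd.trans (Subgroup.card_subgroup_dvd_card X)))
    obtain ⟨A, hAB, hAe, hAc⟩ := exists_elab_sq hq2 (Fusion.elab_isPGroup hBe) (noncyclic_of_card hBe hBc)
    have sA := setup_of_tau2 hG hM (hτX q hq hd) ((hAB.trans hBX).trans (hX.1.trans inf_le_left)) hAe hAc
    refine hH1 (le_bot_iff.1 (le_trans (le_inf hH fun h hh => Subgroup.mem_centralizer_iff.2 fun a ha => ?_)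
      (sigmaCore_inf_centralizer sA).le))
    exact (Subgroup.mem_centralizer_iff.1 (hX.1 (hBX (hAB ha))).2 h hh).symm
  · refine le_antisymm (fun c hc => ?_) (sup_le (inf_le_inf_right _ hσM) hX.1)
    have h1 : ((sigmaCore M ⊓ Subgroup.centralizer (H : Set G)) ⊔ X).relIndex C = 1 := by
      by_contra hne
      obtain ⟨q, hq, hd⟩ := Nat.exists_prime_and_dvd hne
      by_cases hqσ : q ∈ sigma M
      · haveI := Fact.mk hq
        obtain ⟨T, hT⟩ := exists_sylIn (p := q) C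
        have hTσ : T ≤ sigmaCore M := le_of_hall (sigmaCore_hall hG hM).1 le_normalizer_piCoreOf
          (hT.le.trans inf_le_left) (piNum_of_pgroup hT.isPGroup hqσ)
        exact hT.not_dvd (hd.trans (Subgroup.relIndex_dvd_of_le_left C
          ((le_inf hTσ (hT.le.trans inf_le_right)).trans le_sup_left)))
      · exact hX.2.2 q hq hqσ (hd.trans (Subgroup.relIndex_dvd_of_le_left C le_sup_right))
    exact Subgroup.relIndex_eq_one.1 h1 hc

/-- An element of `M` moves a Hall subgroup of `M_σ` inside its product with `M_F`. -/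
theorem cj_le_sup_fitting (hG : IsMinSimpleOddOrder G) (hM : IsCoatom M) (hH : H ≤ sigmaCore M)
    (hco : (Nat.card H).Coprime (H.relIndex (sigmaCore M))) {g : G} (hg : g ∈ M) :
    cj H g ≤ H ⊔ fittingHallOf M := by
  set π := QuotientGroup.mk' (fittingHall ↥M) with hπ
  have hσM : sigmaCore M ≤ M := Subgroup.map_subtype_le _
  have hY : cj H g ≤ sigmaCore M := (cj_mono hH g).trans (cj_eq_self (le_normalizer_piCoreOf hg)).le
  haveI : Group.IsNilpotent ↥(((sigmaCore M).subgroupOf M).map π) := by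
    haveI := derived_quot_nilpotent hG hM
    refine isNilpotent_of_le (Y := (commutator ↥M).map π) (Subgroup.map_mono fun x hx => ?_)
    have h1 : (x : G) ∈ ⁅M, M⁆ := core_le_derived hG hM hx
    rw [← Subgroup.map_subtype_commutator] at h1
    obtain ⟨y, hy, he⟩ := h1
    rwa [Subtype.ext he] at hy
  have hsub : ∀ {Y : Subgroup G}, Y ≤ M → Nat.card ↥((Y.subgroupOf M).map π) ∣ Nat.card Y := fun {Y} hYM => by
    rw [← Solv.card_subgroupOf hYM]
    exact Subgroup.card_map_dvd _ π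
  have hall : IsPiHallOf {q | q ∣ Nat.card H} ((H.subgroupOf M).map π) (((sigmaCore M).subgroupOf M).map π) := by
    refine ⟨Subgroup.map_mono fun x hx => hH hx, fun q _ hd => hd.trans (hsub (hH.trans hσM)), fun q hq hqH hd => ?_⟩
    refine (coprime_relIndex_hall hco hH).2.2 q hq hqH (hd.trans ?_)
    rw [Subgroup.relIndex_map_map]
    refine (Subgroup.relIndex_dvd_of_le_left _ le_sup_left).trans ?_
    rw [sup_eq_left.2 (show π.ker ≤ (sigmaCore M).subgroupOf M from fun z hz => Support.fittingHallOf_le hG hM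
      ⟨z, by rwa [hπ, QuotientGroup.ker_mk'] at hz, rfl⟩), Subgroup.relIndex_subgroupOf hσM]
  intro y hy
  obtain ⟨h, hh, he⟩ := nilpotent_hall_le hall (Y := ((cj H g).subgroupOf M).map π)
    (Subgroup.map_mono fun x hx => hY hx) (fun q hq hd => (hd.trans (hsub (hY.trans hσM))).trans (card_cj H g).dvd)
    (Subgroup.mem_map_of_mem π (x := (⟨y, hσM (hY hy)⟩ : ↥M)) hy)
  have h2 : h⁻¹ * ⟨y, hσM (hY hy)⟩ ∈ fittingHall ↥M := (QuotientGroup.eq (s := fittingHall ↥M)).1 he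
  have h3 : (h : G) * ((h : G)⁻¹ * y) ∈ H ⊔ fittingHallOf M :=
    Subgroup.mul_mem _ (Subgroup.mem_sup_left hh) (Subgroup.mem_sup_right ⟨_, h2, rfl⟩)
  rwa [mul_inv_cancel_left] at h3

/-- Fusion in a Hall subgroup of `M_σ`. -/
theorem hall_fusion (hG : IsMinSimpleOddOrder G) (hM : IsCoatom M) (hH : H ≤ sigmaCore M)
    (hco : (Nat.card H).Coprime (H.relIndex (sigmaCore M))) {x : G} (hx : x ∈ H) {g : G} (hgx : g * x * g⁻¹ ∈ H) :
    ∃ n ∈ M ⊓ Subgroup.normalizer (H : Set G), n * x * n⁻¹ = g * x * g⁻¹ := by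
  rcases eq_or_ne x 1 with rfl | hx1
  · exact ⟨1, Subgroup.one_mem _, by group⟩
  have hσM : sigmaCore M ≤ M := Subgroup.map_subtype_le _
  have hFσ := Support.fittingHallOf_le hG hM
  have hall := coprime_relIndex_hall hco hH
  have hxg : x ∈ cj M g⁻¹ := by
    have := Fusion.conj_mem_cj (g := g⁻¹) (hσM (hH hgx))
    rwa [show g⁻¹ * (g * x * g⁻¹) * g⁻¹⁻¹ = x by group] at this
  obtain ⟨ρ, hρ, hρM, -⟩ := Support.transport hG hM (hH hx) hx1 hxg
  have hm : g * ρ ∈ M := by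
    have h2 : g * ρ ∈ Subgroup.normalizer (M : Set G) := by
      refine Fusion.mem_normalizer_of_cj_le (le_of_eq ?_)
      rw [← cj_cj, hρM, Fusion.cj_inv_cj]
    rwa [normalizer_coatom hG hM] at h2
  have hmx : (g * ρ) * x * (g * ρ)⁻¹ = g * x * g⁻¹ := by
    calc _ = g * (ρ * x) * ρ⁻¹ * g⁻¹ := by group
      _ = g * (x * ρ) * ρ⁻¹ * g⁻¹ := by rw [hρ]
      _ = _ := by group
  set F := fittingHallOf M with hF
  have hMF : M ≤ Subgroup.normalizer (F : Set G) := Bender.le_normalizer_map _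
  -- the Frattini step
  have frattini : ∀ a ∈ M, ∃ n ∈ M ⊓ Subgroup.normalizer (H : Set G), ∃ f ∈ F, a = f * n := by
    intro a ha
    have hJ : H ⊔ F ≤ sigmaCore M := sup_le hH hFσ
    have hJt : H ⊔ F ≠ ⊤ := fun h => hM.1 (top_le_iff.1 (h.ge.trans (hJ.trans hσM)))
    have hle := cj_le_sup_fitting hG hM hH hco ha
    have hallJ : IsPiHallOf {q | q ∣ Nat.card H} H (H ⊔ F) := ⟨le_sup_left, hall.2.1, fun q hq h hd => hall.2.2 q hq h
      (by rw [← Subgroup.relIndex_mul_relIndex H (H ⊔ F) _ le_sup_left hJ]; exact hd.mul_right _)⟩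
    obtain ⟨m, n, hmn, hcom, hmπ, hnπ⟩ := Solv.exists_pi_split {q | q ∣ Nat.card H} (Nat.card ↥(H ⊔ F))
      Nat.card_pos.ne'
    have hcH : Nat.card H = m := by
      refine Nat.dvd_antisymm ?_ ?_
      · exact (Solv.coprime_of_pi hall.2.1 hnπ).dvd_of_dvd_mul_right (hmn ▸ Subgroup.card_dvd_of_le le_sup_left)
      · refine Nat.Coprime.dvd_of_dvd_mul_right (Nat.coprime_of_dvd fun q hq h1 h2 =>
          hallJ.2.2 q hq (hmπ q hq h1) h2) ?_
        have e := Subgroup.relIndex_mul_relIndex ⊥ H (H ⊔ F) bot_le le_sup_left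
        rw [Subgroup.relIndex_bot_left, Subgroup.relIndex_bot_left, hmn] at e
        rw [e]
        exact dvd_mul_right m n
    obtain ⟨⟨j, hj⟩, hje⟩ := Solv.hall_conj (hG.2.2.2 _ hJt) hmn hcom ((cj H a).subgroupOf (H ⊔ F))
      (H.subgroupOf (H ⊔ F)) (by rw [Solv.card_subgroupOf hle, card_cj, hcH])
      (by rw [Solv.card_subgroupOf le_sup_left, hcH])
    rw [← SetLike.mem_coe, Subgroup.coe_mul_of_left_le_normalizer_right H F ((hH.trans hσM).trans hMF)] at hj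
    obtain ⟨h, hh, f, hf, rfl⟩ := hj
    refine ⟨f * a, ⟨M.mul_mem (hσM (hFσ hf)) ha, Fusion.mem_normalizer_of_cj_le ?_⟩, f⁻¹, F.inv_mem hf, by group⟩
    rintro _ ⟨y, hy, rfl⟩
    show f * a * y * (f * a)⁻¹ ∈ H
    have hy' : (⟨h * f, hj⟩ : ↥(H ⊔ F)) * ⟨a * y * a⁻¹, hle (Fusion.conj_mem_cj hy)⟩ * (⟨h * f, hj⟩ : ↥(H ⊔ F))⁻¹
        ∈ H.subgroupOf (H ⊔ F) := by
      rw [← hje, Solv.conj_smul_eq_map]
      exact Subgroup.mem_map_of_mem _ (Subgroup.mem_subgroupOf.2 (Fusion.conj_mem_cj hy))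
    have hy2 : h * f * (a * y * a⁻¹) * (h * f)⁻¹ ∈ H := hy'
    have hy3 := H.mul_mem (H.mul_mem (H.inv_mem hh) hy2) hh
    rwa [show h⁻¹ * (h * f * (a * y * a⁻¹) * (h * f)⁻¹) * h = f * a * y * (f * a)⁻¹ by group] at hy3
  obtain ⟨n, hn, f, hf, he⟩ := frattini _ (M.inv_mem hm)
  have he' : g * ρ = n⁻¹ * f⁻¹ := by rw [← inv_inv (g * ρ), he, mul_inv_rev]
  obtain ⟨d, e, hde, -, hd, heb, hdπ, heπ⟩ := exists_parts {q | q ∣ Nat.card H} f⁻¹
  have hdF : d ∈ F := (Subgroup.zpowers_le.2 (F.inv_mem hf)) hd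
  have heF : e ∈ F := (Subgroup.zpowers_le.2 (F.inv_mem hf)) heb
  haveI : Group.IsNilpotent ↥F := by
    haveI := TypePBasic.fittingOf_nilpotent M
    have h : F ≤ fittingOf M := Subgroup.map_mono TypePBasic.fittingHall_le_fitting
    exact isNilpotent_of_le h
  have hallD : IsPiHallOf {q | q ∣ Nat.card H} (H ⊓ F) F := by
    refine ⟨inf_le_right, fun q _ hd => hd.trans (Subgroup.card_dvd_of_le inf_le_left), fun q hq hqH hd => ?_⟩
    haveI := Fact.mk hq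
    obtain ⟨T, hT⟩ := exists_sylIn (p := q) H
    exact ((sylIn_of_hallOf hall (show q ∈ {q | q ∣ Nat.card H} from hqH) hT).inf_normal hFσ
      (hσM.trans hMF)).not_dvd
      (hd.trans (Subgroup.relIndex_dvd_of_le_left F (inf_le_inf_right F hT.le)))
  have hdH : d ∈ H := (nilpotent_hall_le hallD (Subgroup.zpowers_le.2 hdF)
    (fun q hq h => hdπ q hq (Nat.card_zpowers d ▸ h)) (Subgroup.mem_zpowers d)).1
  have hFt : F ≠ ⊤ := fun h => hM.1 (top_le_iff.1 (h.ge.trans (hFσ.trans hσM)))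
  obtain ⟨W, hW, -⟩ := exists_hall_ge hG hFt {q | q ∣ Nat.card H}ᶜ (bot_le : (⊥ : Subgroup G) ≤ F)
    (fun q hq hd => by rw [Subgroup.card_bot] at hd; exact absurd hd hq.not_dvd_one)
  have heW : ∀ z ∈ F, orderOf z = orderOf e → z ∈ W := fun z hz ho => nilpotent_hall_le hW
    (Subgroup.zpowers_le.2 hz) (fun q hq h => heπ q hq (by rwa [Nat.card_zpowers, ho] at h)) (Subgroup.mem_zpowers z)
  -- the conjugate by `e` stays in `H`
  have hfx : f⁻¹ * x * f ∈ H := by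
    have h1 : n⁻¹ * (f⁻¹ * x * f) * n⁻¹⁻¹ ∈ H := by
      rw [show n⁻¹ * (f⁻¹ * x * f) * n⁻¹⁻¹ = (g * ρ) * x * (g * ρ)⁻¹ by rw [he']; group, hmx]
      exact hgx
    exact (Subgroup.mem_normalizer_iff.1 ((Subgroup.normalizer (H : Set G)).inv_mem hn.2) _).2 h1
  have hex : e * x * e⁻¹ ∈ H := by
    have h1 := H.mul_mem (H.mul_mem (H.inv_mem hdH) hfx) hdH
    have hf' : f = (d * e)⁻¹ := by rw [← hde, inv_inv]
    rwa [hf', show d⁻¹ * (((d * e)⁻¹)⁻¹ * x * (d * e)⁻¹) * d = e * x * e⁻¹ by group] at h1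
  have hc : e * x = x * e := by
    refine commutatorElement_eq_one_iff_mul_comm.1 ?_
    have h1 : ⁅e, x⁆ ∈ H ⊓ W := by
      rw [commutatorElement_def]
      refine ⟨H.mul_mem hex (H.inv_mem hx), ?_⟩
      rw [show e * x * e⁻¹ * x⁻¹ = e * (x * e⁻¹ * x⁻¹) by group]
      refine W.mul_mem (heW e heF rfl) (heW _ ((Subgroup.mem_normalizer_iff.1 (hMF (hσM (hH hx))) _).1 (F.inv_mem heF)) ?_)
      rw [← orderOf_inv e]
      exact MulEquiv.orderOf_eq (MulAut.conj x) e⁻¹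
    rwa [Solv.coprime_inf (Nat.coprime_of_dvd fun q hq h1 h2 => hW.2.1 q hq h2 h1), Subgroup.mem_bot] at h1
  refine ⟨n⁻¹ * d, ⟨M.mul_mem (M.inv_mem hn.1) (hσM (hFσ hdF)),
    Subgroup.mul_mem _ (Subgroup.inv_mem _ hn.2) (Subgroup.le_normalizer hdH)⟩, ?_⟩
  rw [← hmx, he', hde]
  calc n⁻¹ * d * x * (n⁻¹ * d)⁻¹ = n⁻¹ * (d * (x * e) * e⁻¹ * d⁻¹) * n := by group
    _ = n⁻¹ * (d * (e * x) * e⁻¹ * d⁻¹) * n := by rw [hc]
    _ = _ := by group

/-- A nilpotent Hall subgroup of `G` lies in some `M_σ`. -/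
theorem nilpotent_hall_core (hG : IsMinSimpleOddOrder G) (hnil : Group.IsNilpotent H)
    (hco : (Nat.card H).Coprime H.index) (hH1 : H ≠ ⊥) :
    ∃ M : Subgroup G, IsCoatom M ∧ H ≤ sigmaCore M := by
  have hsyl : ∀ {q : ℕ} [Fact q.Prime] {Q : Subgroup G}, q ∣ Nat.card H → SylIn q Q H → SylIn q Q ⊤ := by
    intro q hq Q hd hQ
    refine sylIn_of_hallOf (π := {t | t ∣ Nat.card H}) (coprime_relIndex_hall ?_ le_top) hd hQ
    rwa [Subgroup.relIndex_top_right]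
  have hne : ∀ {q : ℕ} [Fact q.Prime] {Q : Subgroup G}, q ∣ Nat.card H → SylIn q Q H → Q ≠ ⊥ := by
    intro q _ Q hd hQ h
    exact hQ.not_dvd (by rw [h, Subgroup.relIndex_bot_left]; exact hd)
  obtain ⟨p, hp, hpd⟩ := Nat.exists_prime_and_dvd fun h => hH1 (Subgroup.card_eq_one.1 h)
  haveI := Fact.mk hp
  obtain ⟨P, hP⟩ := exists_sylIn (p := p) H
  obtain ⟨M, hM, hNM⟩ := exists_coatom _ (normalizer_pgroup_ne_top hG hP.isPGroup (hne hpd hP))
  have hHM : H ≤ M := (SigmaSubgroups.sylow_of_nilpotent_normal hnil Subgroup.le_normalizer hP).trans hNM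
  have hPM : SylIn p P M := (hsyl hpd hP).mono (hP.le.trans hHM) le_top
  have hpσ : p ∈ sigma M := by
    obtain ⟨T, hT⟩ := hPM.exists_sylow_subgroupOf
    refine ⟨hp, hpd.trans (Subgroup.card_dvd_of_le hHM), T, ?_⟩
    rw [hT, Subgroup.map_subgroupOf_eq_of_le hPM.le]
    exact hNM
  have hPσ : P ≤ sigmaCore M := le_of_hall (sigmaCore_hall hG hM).1 le_normalizer_piCoreOf hPM.le
    (piNum_of_pgroup hPM.isPGroup hpσ)
  refine ⟨M, hM, le_of_hall (sigmaCore_hall hG hM).1 le_normalizer_piCoreOf hHM fun q hq hqd => ?_⟩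
  by_contra hqσ
  haveI := Fact.mk hq
  obtain ⟨Q, hQ⟩ := exists_sylIn (p := q) H
  have hQM : SylIn q Q M := (hsyl hqd hQ).mono (hQ.le.trans hHM) le_top
  have hpq : q ≠ p := fun h => hqσ (h ▸ hpσ)
  haveI := hnil
  have hQC : Q ≤ Subgroup.centralizer (P : Set G) := TypePBasic.nilpotent_coprime_commute hP.le hQ.le
    (coprime_pgroup hpq.symm hP.isPGroup hQ.isPGroup)
  obtain ⟨y, hy, hy1⟩ := exists_ne_one (hne hpd hP)
  obtain ⟨z, hz, hz1⟩ := exists_ne_one (hne hqd hQ)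
  obtain ⟨j, hj⟩ := IsPGroup.iff_card.1 (hQ.isPGroup.to_le (Subgroup.zpowers_le.2 hz))
  rw [Nat.card_zpowers] at hj
  have hj0 : j ≠ 0 := fun h => hz1 (orderOf_eq_one_iff.1 (by rw [hj, h, pow_zero]))
  rcases fixed_class hG hM (hQM.le hz) (hPσ hy) hy1 (Subgroup.mem_centralizer_iff.1 (hQC hz) y hy).symm hq
    (hj ▸ dvd_pow_self q hj0) hqσ with hκ | hτ
  · obtain ⟨K, hK, -⟩ := exists_hall_ge hG hM.1 (kappa M) (bot_le : (⊥ : Subgroup G) ≤ M)
      (fun t ht hd => by rw [Subgroup.card_bot] at hd; exact absurd hd ht.not_dvd_one)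
    obtain ⟨m, hm, hk⟩ := mem_hall_conj hG hM hK (hQM.le hz) fun t ht hd => by
      rw [hj] at hd
      exact (Nat.prime_dvd_prime_iff_eq ht hq).1 (ht.dvd_of_dvd_pow hd) ▸ hκ.1
    have hk1 : m⁻¹ * z * m ≠ 1 := fun h => hz1 (by
      calc z = m * (m⁻¹ * z * m) * m⁻¹ := by group
        _ = 1 := by rw [h]; group)
    have hK1 : K ≠ ⊥ := fun h => hk1 (Subgroup.mem_bot.1 (h ▸ hk))
    obtain ⟨E', U', hF⟩ := exists_frame hG hM hK hK1
    refine sylow_not_le_star hG hM hK hF hK1 hpσ (hPM.cj' (Subgroup.le_normalizer (M.inv_mem hm))) ?_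
    rintro _ ⟨w, hw, rfl⟩
    rw [← prime_action hG hM hK hk hk1]
    refine ⟨(Subgroup.mem_normalizer_iff.1 (le_normalizer_piCoreOf (M.inv_mem hm)) w).1 (hPσ hw),
      Subgroup.mem_centralizer_singleton_iff.2 ?_⟩
    have hzw := Subgroup.mem_centralizer_iff.1 (hQC hz) w hw
    show (m⁻¹ * w * m⁻¹⁻¹) * (m⁻¹ * z * m) = (m⁻¹ * z * m) * (m⁻¹ * w * m⁻¹⁻¹)
    calc _ = m⁻¹ * (w * z) * m := by group
      _ = m⁻¹ * (z * w) * m := by rw [hzw]
      _ = _ := by group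
  · obtain ⟨E, hE⟩ := exists_compl hG hM
    obtain ⟨A, hAE, sA⟩ := exists_setup_in_compl hG hM hE hτ
    obtain ⟨a, ha, hAQ⟩ := hQM.conj_le (Fusion.elab_isPGroup sA.elem) sA.le
    refine hne hpd hP (le_bot_iff.1 ?_)
    intro w hw
    have h1 : a⁻¹ * w * a⁻¹⁻¹ ∈ sigmaCore M ⊓ Subgroup.centralizer (A : Set G) := by
      refine ⟨(Subgroup.mem_normalizer_iff.1 (le_normalizer_piCoreOf (M.inv_mem ha)) w).1 (hPσ hw),
        Subgroup.mem_centralizer_iff.2 fun b hb => ?_⟩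
      have h2 := Subgroup.mem_centralizer_iff.1 (hQC (hAQ (Fusion.conj_mem_cj hb))) w hw
      calc b * (a⁻¹ * w * a⁻¹⁻¹) = a⁻¹ * ((a * b * a⁻¹) * w) * a := by group
        _ = a⁻¹ * (w * (a * b * a⁻¹)) * a := by rw [h2]
        _ = _ := by group
    rw [sigmaCore_inf_centralizer sA, Subgroup.mem_bot] at h1
    rw [Subgroup.mem_bot, show w = a * (a⁻¹ * w * a⁻¹⁻¹) * a⁻¹ by group, h1]
    group

end Cfsg.Agent.OddLocal.Kappa
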