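import Cfsg.Agent.Lib.OddLocal.KappaNeighbour
import Cfsg.Agent.Lib.OddLocal.KappaTauOrder
import Cfsg.Agent.Lib.OddLocal.KappaFusion

/-!
A maximal subgroup `M` meeting `τ₂(N)` in `σ(M)` for a maximal subgroup `N` with `κ(N)` nonempty.
-/

set_option autoImplicit false
set_option linter.style.haveILetI false

namespace Cfsg.Agent.OddLocal.Kappa

open scoped Pointwise commutatorElement
open Cfsg
open Cfsg.Agent.Fusion (SylIn cj cj_eq_self cj_mono card_cj exists_sylIn exists_sylIn_ge)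
open Cfsg.Agent.OddLocal.Uniq
open Cfsg.Agent.OddLocal.Sig
open Cfsg.Agent.OddLocal.RankTwo
open Cfsg.Agent.OddLocal.TauTwo
open Cfsg.Agent.OddLocal.Prime
open Cfsg.Agent.OddLocal.Disjoint (mem_centralizer_zpowers zpowers_card)

universe u

variable {G : Type u} [Group G] [Finite G] {M N E K U P : Subgroup G}

/-- A standard factorisation may be conjugated. -/
theorem decomp_cj (hKU : IsSigmaDecomposition M K U) {g : G} (hg : g ∈ M) :
    IsSigmaDecomposition M (cj K g) (cj U g) := by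
  have hMg : cj M g = M := cj_eq_self (Subgroup.le_normalizer hg)
  have hσg : cj (sigmaCore M) g = sigmaCore M := cj_eq_self (le_normalizer_piCoreOf hg)
  have hsup : cj K g ⊔ sigmaCore M = cj (K ⊔ sigmaCore M) g := by rw [Fusion.cj_sup, hσg]
  obtain ⟨h1, h2, h3, h4⟩ := hKU.compl
  refine ⟨?_, ⟨(cj_mono hKU.hall.1 g).trans hMg.le, fun q hq hd => hKU.hall.2.1 q hq (card_cj K g ▸ hd),
    fun q hq hπ hd => hKU.hall.2.2 q hq hπ ?_⟩, ⟨(cj_mono h1 g).trans hMg.le, ?_, ?_, fun m hm => ?_⟩, ?_⟩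
  · haveI := hKU.cyclic
    exact isCyclic_of_surjective (K.equivMapOfInjective (MulAut.conj g).toMonoidHom (MulAut.conj g).injective)
      (MulEquiv.surjective _)
  · rwa [← hMg, Fusion.relIndex_cj] at hd
  · rw [hsup]; exact (cj_mono h2 g).trans hMg.le
  · rw [hsup, ← Fusion.cj_inf, h3]; exact Subgroup.map_bot _
  · obtain ⟨a, ha, b, hb, e⟩ := h4 (g⁻¹ * m * g) (M.mul_mem (M.mul_mem (M.inv_mem hg) hm) hg)
    refine ⟨g * a * g⁻¹, Fusion.conj_mem_cj ha, g * b * g⁻¹, hsup.symm ▸ Fusion.conj_mem_cj hb, ?_⟩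
    calc m = g * (g⁻¹ * m * g) * g⁻¹ := by group
      _ = g * (a * b) * g⁻¹ := by rw [e]
      _ = _ := by group
  · rw [← Fusion.cj_normalizer]
    exact cj_mono hKU.normal g

/-- The derived group of the partner lies in `M` when `τ₂(M)` is not empty. -/
theorem partner_le_normalizer (d : Duo N K U P) (hM : IsCoatom M) {t : ℕ} [Fact t.Prime] {A T : Subgroup G}
    (sA : Setup t M A) (hE : IsComplIn E (sigmaCore M) M) (hAE : A ≤ E) (hKE : K ≤ E) (hEP : E ≤ P)
    (hT : SylIn t T ⊤) (hAT : A ≤ T) (hTab : IsMulCommutative ↥T) (htP : t ∈ sigma P) :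
    T ≤ E ∧ P ≤ Subgroup.normalizer (A : Set G) := by
  have hG := d.minSimple
  haveI := Fact.mk d.prime
  obtain ⟨⟨hEA, hline⟩, ⟨hCA, hMA, -⟩, -⟩ := complement_tau2 sA hE hAE
  have hCE : Subgroup.centralizer (A : Set G) ≤ E := hCA.trans hMA.le
  have hTA : T ≤ Subgroup.centralizer (A : Set G) := fun x hx => Subgroup.mem_centralizer_iff.2 fun a ha =>
    congrArg Subtype.val (hTab.is_comm.comm (⟨a, hAT ha⟩ : T) ⟨x, hx⟩)
  have hTE : T ≤ E := hTA.trans hCE
  refine ⟨hTE, fun g hg => ?_⟩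
  suffices hAg : cj A g ≤ E by
    refine Fusion.mem_normalizer_of_cj_le fun x hx => ?_
    rcases eq_or_ne x 1 with rfl | hx1
    · exact Subgroup.one_mem _
    refine hline _ (Subgroup.zpowers_le.2 (hAg hx)) ?_ (Subgroup.mem_zpowers x)
    rw [Nat.card_zpowers]
    exact orderOf_eq_prime ((Disjoint.elab_cj sA.elem g).2 x hx) hx1
  have hPn : P ≤ Subgroup.normalizer (sigmaCore P : Set G) := le_normalizer_piCoreOf
  have hTσ : T ≤ sigmaCore P := le_of_hall (sigmaCore_hall hG d.coatomN).1 hPn (hTE.trans hEP)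
    (piNum_of_pgroup hT.isPGroup htP)
  have hTsyl : SylIn t T (sigmaCore P) := hT.mono hTσ le_top
  set F := fittingHallOf P with hF
  have hFσ : F ≤ sigmaCore P := Support.fittingHallOf_le hG d.coatomN
  have hPF : P ≤ Subgroup.normalizer (F : Set G) := Bender.le_normalizer_map _
  haveI : Group.IsNilpotent ↥F := by
    haveI := TypePBasic.fittingOf_nilpotent P
    have h : F ≤ fittingOf P := Subgroup.map_mono TypePBasic.fittingHall_le_fitting
    exact isNilpotent_of_le h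
  have hFP : F ≤ P := hFσ.trans (Subgroup.map_subtype_le _)
  have hallF : IsPiHallOf {q | q ∣ Nat.card F} F P :=
    coprime_relIndex_hall (TypePBasic.fittingHallOf_hall P) hFP
  by_cases htF : t ∣ Nat.card F
  · have hTF : T ≤ F := le_of_hall hallF hPF (hTE.trans hEP) (piNum_of_pgroup hT.isPGroup htF)
    have hallT : IsPiHallOf {t} T F := ⟨hTF, fun q hq hd => by
      obtain ⟨i, hi⟩ := IsPGroup.iff_card.1 hT.isPGroup
      exact (Nat.prime_dvd_prime_iff_eq hq Fact.out).1 (hq.dvd_of_dvd_pow (hi ▸ hd)),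
      fun q _ (hqt : q = t) => hqt ▸ (hT.mono hTF le_top).not_dvd⟩
    refine (nilpotent_hall_le hallT ((cj_mono (hAT.trans hTF) g).trans (cj_eq_self (hPF hg)).le) ?_).trans hTE
    exact piNum_of_pgroup (Fusion.isPGroup_cj (Fusion.elab_isPGroup sA.elem) g) (Set.mem_singleton t)
  obtain ⟨UP, hUP⟩ := exists_decomp hG d.coatomN d.hallN (hall_cyclic hG d.coatomN d.hallN)
  have hKF : K ≤ F := d.K_eq'.le.trans (star_le_fittingHall hG d.coatomN hUP d.star_ne)
  have htp : t ≠ Nat.card K := fun h => htF (h ▸ Subgroup.card_dvd_of_le hKF)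
  have hTK : T ≤ Subgroup.centralizer (K : Set G) := by
    refine d.star_commutes (hTE.trans hEP) (hKE.trans ?_) fun h => ?_
    · exact (sylow_normal sA hE hAE (hT.mono hTE le_top) hT).2.2.1
    · obtain ⟨i, hi⟩ := IsPGroup.iff_card.1 hT.isPGroup
      exact htp ((Nat.prime_dvd_prime_iff_eq d.prime Fact.out).1 (d.prime.dvd_of_dvd_pow (hi ▸ h))).symm
  set Ks := sigmaCore N ⊓ Subgroup.centralizer (K : Set G) with hKs
  set W := sigmaCore P ⊓ Subgroup.centralizer (K : Set G) with hW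
  have hKsW : Ks ≤ Subgroup.normalizer (W : Set G) := fun k hk => Fusion.mem_normalizer_of_cj_le (by
    rw [Fusion.cj_inf, cj_eq_self (hPn (d.hallN.1 hk)), cj_eq_self (Subgroup.le_normalizer hk.2)])
  have hcoW : (Nat.card Ks).Coprime (Nat.card (sigmaCore P)) := Nat.coprime_of_dvd fun q hq h1 h2 =>
    (d.hallN.2.1 q hq h1).2.2.1 ((sigmaCore_hall hG d.coatomN).1.2.1 q hq h2)
  have hσsol : Group.IsSolvable ↥(sigmaCore P) :=
    Solv.isSolvable_of_le (Subgroup.map_subtype_le _) (hG.2.2.2 P d.coatomN.1)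
  obtain ⟨T₁, hT₁', hKsT⟩ := Solv.exists_invariant_sylow hKsW
    (hcoW.coprime_dvd_right (Subgroup.card_dvd_of_le inf_le_left))
    (Or.inr (Solv.isSolvable_of_le inf_le_left hσsol)) t
  obtain ⟨Q, hQ⟩ := hT₁'.exists_sylow
  obtain ⟨y, hy, hyT⟩ := ((hQ ▸ Fusion.sylIn_map W Q : SylIn t T₁ W)).conj_eq (hT.mono (le_inf hTσ hTK) le_top)
  set K₁ := cj Ks y with hK₁
  have hK₁P : K₁ ≤ P :=
    (cj_mono d.hallN.1 y).trans (cj_eq_self (Subgroup.le_normalizer ((Subgroup.map_subtype_le _) hy.1))).le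
  have hAM : SylIn t T M := hT.mono (hTE.trans hE.1) le_top
  have hK₁A : K₁ ≤ Subgroup.normalizer (A : Set G) := by
    rw [← omz_eq sA hAM hAT]
    refine le_trans ?_ (normalizer_le_omz T)
    rw [← hyT, ← Fusion.cj_normalizer]
    exact cj_mono hKsT y
  have hfix : ∀ e ∈ K₁, e ≠ 1 → ∀ x ∈ sigmaCore P, e * x = x * e → x ∈ K := by
    rintro _ ⟨e, he, rfl⟩ he1 x hx hex
    have he1' : e ≠ 1 := fun h => he1 (by simp [h])
    replace hex : (y * e * y⁻¹) * x = x * (y * e * y⁻¹) := hex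
    have h1 : y⁻¹ * x * y ∈ sigmaCore P ⊓ Subgroup.centralizer ({e} : Set G) := by
      refine ⟨(sigmaCore P).mul_mem ((sigmaCore P).mul_mem ((sigmaCore P).inv_mem hy.1) hx) hy.1,
        Subgroup.mem_centralizer_singleton_iff.2 ?_⟩
      calc (y⁻¹ * x * y) * e = y⁻¹ * (x * (y * e * y⁻¹)) * y := by group
        _ = y⁻¹ * ((y * e * y⁻¹) * x) * y := by rw [hex]
        _ = _ := by group
    rw [prime_action hG d.coatomN d.hallN he he1', ← d.K_eq'] at h1
    have h2 := Subgroup.mem_centralizer_iff.1 hy.2 _ h1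
    have h3 : x = y⁻¹ * x * y := by
      calc x = y * (y⁻¹ * x * y) * y⁻¹ := by group
        _ = (y⁻¹ * x * y) * y * y⁻¹ := by rw [← h2]
        _ = _ := by group
    rw [h3]
    exact h1
  have hAσ : A ≤ sigmaCore P := hAT.trans hTσ
  obtain ⟨e₀, he₀, he₀1⟩ : ∃ e ∈ K₁, e ≠ 1 := exists_ne_one fun h => d.star_ne (Subgroup.card_eq_one.1 (by
    rw [← card_cj Ks y, ← hK₁, h, Subgroup.card_bot]))
  have hKK₁ : K ≤ Subgroup.centralizer (K₁ : Set G) := fun k hk => Subgroup.mem_centralizer_iff.2 fun e he => by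
    obtain ⟨c, hc, rfl⟩ := he
    show (y * c * y⁻¹) * k = k * (y * c * y⁻¹)
    have h1 : Commute y k := (Subgroup.mem_centralizer_iff.1 hy.2 k hk).symm
    have h2 : Commute c k := (Subgroup.mem_centralizer_iff.1 hc.2 k hk).symm
    exact ((h1.mul_left h2).mul_left h1.inv_left).eq
  have hKA : K ≤ Subgroup.centralizer (A : Set G) := Subgroup.le_centralizer_iff.1 (hAT.trans hTK)
  have hsup : A ⊔ K₁ ≤ P := sup_le (hAσ.trans (Subgroup.map_subtype_le _)) hK₁P
  have key := Solv.FrobFix.formula F A K₁ (Solv.isSolvable_of_le hFσ hσsol)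
    (hsup.trans hPF) hK₁A
    (fun e he he1 a ha hea => by
      have h1 : a ∈ A ⊓ K := ⟨ha, hfix e he he1 a (hAσ ha) hea⟩
      rwa [Solv.coprime_inf (by
        rw [sA.card]
        exact ((Nat.coprime_primes Fact.out d.prime).2 htp).pow_left 2), Subgroup.mem_bot] at h1)
    (Nat.coprime_of_dvd fun q hq h1 h2 => by

      have h3 := h2.trans ⟨_, (Solv.card_sup_mul_card_inf' A K₁ hK₁A).symm⟩
      rcases (Nat.Prime.dvd_mul hq).1 h3 with h4 | h4
      · rw [sA.card] at h4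
        exact htF ((Nat.prime_dvd_prime_iff_eq hq Fact.out).1 (hq.dvd_of_dvd_pow h4) ▸ h1)
      · exact (Nat.Prime.not_coprime_iff_dvd.2 ⟨q, hq, card_cj Ks y ▸ h4, h1.trans (Subgroup.card_dvd_of_le hFσ)⟩)
          hcoW)
  have hfixK : F ⊓ Subgroup.centralizer (K₁ : Set G) = K := le_antisymm
    (fun x hx => hfix e₀ he₀ he₀1 x (hFσ hx.1) (Subgroup.mem_centralizer_iff.1 hx.2 e₀ he₀)) (le_inf hKF hKK₁)
  have hfixS : F ⊓ Subgroup.centralizer ((A ⊔ K₁ : Subgroup G) : Set G) = K := by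
    refine le_antisymm ((inf_le_inf_left _ (centralizer_le_of_le le_sup_right)).trans hfixK.le) (le_inf hKF ?_)
    rw [Subgroup.le_centralizer_iff]
    exact sup_le (Subgroup.le_centralizer_iff.1 hKA) (Subgroup.le_centralizer_iff.1 hKK₁)
  rw [hfixK, hfixS] at key
  have hFA : F ≤ Subgroup.centralizer (A : Set G) := inf_eq_left.1 (Subgroup.eq_of_le_of_card_ge inf_le_left
    (Nat.eq_of_mul_eq_mul_left (pow_pos Nat.card_pos _) key).le)
  refine ((cj_mono hAT g).trans (cj_le_sup_fitting hG d.coatomN hTσ ?_ hg)).trans (sup_le hTE (hFA.trans hCE))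
  obtain ⟨i, hi⟩ := IsPGroup.iff_card.1 hT.isPGroup
  rw [hi]
  exact ((Fact.out : t.Prime).coprime_iff_not_dvd.2 hTsyl.not_dvd).pow_left i

/-- The data from `κ(N)` nonempty. -/
theorem signalizer_P2 (hG : IsMinSimpleOddOrder G) (hM : IsCoatom M) (hN : IsCoatom N) {r : ℕ} [Fact r.Prime]
    (hrσ : r ∈ sigma M) (hr : r ∈ tau2 N) (hc : IsComplIn (M ⊓ N) (sigmaCore N) N) (hκ : (kappa N).Nonempty) :
    kappa M = ∅ ∧ tau2 M = ∅ ∧ Group.IsNilpotent ↥(sigmaCore M) ∧
      ∃ E : Subgroup G, IsComplIn E (sigmaCore M) M ∧ IsCyclic ↥E ∧ E ≠ ⊥ := by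
  obtain ⟨K₀, U₀, hKU₀⟩ := exists_full_decomp hG hN
  have hall : IsPiHallOf (sigma N)ᶜ (M ⊓ N) N := by
    refine ⟨inf_le_right, fun q hq hd => compl_pi hG hN hc hq hd, fun q hq hσ hd => hσ ?_⟩
    have h1 := Subgroup.relIndex_mul_relIndex ⊥ (M ⊓ N) N bot_le inf_le_right
    rw [Subgroup.relIndex_bot_left, Subgroup.relIndex_bot_left, ← (compl_card hc).2] at h1
    exact (sigmaCore_hall hG hN).1.2.1 q hq (Nat.eq_of_mul_eq_mul_left Nat.card_pos h1 ▸ hd)
  have hc0 := Decomp.compl hG hN hKU₀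
  obtain ⟨m, hm, hmE⟩ := hall_conj_le hG hN hall (Y := U₀ ⊔ K₀) hc0.1 fun q hq hd => compl_pi hG hN hc0 hq hd
  set K := cj K₀ m⁻¹ with hKdef
  set U := cj U₀ m⁻¹ with hUdef
  have hKU : IsSigmaDecomposition N K U := decomp_cj hKU₀ (N.inv_mem hm)
  have hUK : U ⊔ K ≤ M ⊓ N := by
    rw [hUdef, hKdef, ← Fusion.cj_sup]
    rintro _ ⟨y, hy, rfl⟩
    show m⁻¹ * y * m⁻¹⁻¹ ∈ M ⊓ N
    rw [inv_inv]
    exact hmE y hy
  have hK1 : K ≠ ⊥ := fun h => by
    obtain ⟨q, hq⟩ := hκ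
    refine hKU.hall.2.2 q hq.1 hq ?_
    rw [h, Subgroup.relIndex_bot_left]
    exact hq.2.1
  have hF := frame_of_decomp hG hN hKU hK1
  have hrU : r ∈ {q | q.Prime ∧ q ∉ kappa N ∧ q ∉ sigma N} := ⟨Fact.out, Support.not_kappa_of_tau2 hr, hr.2.1⟩
  obtain ⟨B, hBE, sB⟩ := exists_setup_in_compl hG hN hF.compl hr
  have hBU : B ≤ U := le_of_hall (π := {q | q.Prime ∧ q ∉ kappa N ∧ q ∉ sigma N}) ⟨hF.U_le, hF.hall.2.1,
    fun q hq hq' hd => hF.hall.2.2 q hq hq' (dvd_relIndex_trans hF.U_le hF.compl.1 hd)⟩ hF.normal hBE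
    (piNum_of_pgroup (Fusion.elab_isPGroup sB.elem) hrU)
  have hU1 : U ≠ ⊥ := fun h => sB.ne_bot (le_bot_iff.1 (h ▸ hBU))
  obtain ⟨P, d⟩ := exists_duo hG hN hKU hK1 hU1
  obtain ⟨R, hR, hBR⟩ := exists_sylIn_ge (Fusion.elab_isPGroup sB.elem) hBU
  have hR1 : R ≠ ⊥ := fun h => sB.ne_bot (le_bot_iff.1 (h ▸ hBR))
  have hBM : B ≤ M := (hBE.trans hUK).trans inf_le_left
  have hNR : Subgroup.normalizer (R : Set G) ≤ M := by
    refine (normalizer_le_omz (q := r) R).trans ?_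
    rw [omz_eq sB (sylIn_of_hallOf hF.hall hrU hR) hBR]
    exact normalizer_le_of_noncyclic hG hM hrσ (Fusion.elab_isPGroup sB.elem) hBM
      (noncyclic_of_card sB.elem sB.card.ge)
  obtain ⟨hκM, hUσ, hNM, -, -, hE⟩ := d.neighbour hR hR1 hM hNR
  have hKM : K ≤ M := (le_sup_right.trans hUK).trans inf_le_left
  have hKP : K ≤ P := d.K_le_core.trans (Subgroup.map_subtype_le _)
  have hKE : K ≤ M ⊓ P := le_inf hKM hKP
  have hMP : M ≠ P := fun h => by
    have h1 := hE.2.2.1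
    have h2 : M ⊓ sigmaCore M = sigmaCore M := inf_eq_right.2 (Subgroup.map_subtype_le _)
    rw [← h, inf_idem, h2] at h1
    exact FitParts.sigmaCore_ne_bot hG hM h1
  set E := M ⊓ P
  obtain ⟨k, hk, hk1⟩ := exists_ne_one hK1
  have hnil : Group.IsNilpotent ↥(sigmaCore M) := by
    refine Solv.fpf_nilpotent (sigmaCore M) k d.prime ?_ (le_normalizer_piCoreOf (hKM hk)) ?_
    · have h1 := pow_card_eq_one' (x := (⟨k, hk⟩ : K))
      exact congrArg Subtype.val h1
    · rw [← centralizer_zpowers, d.zpowers_eq hk hk1]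
      exact d.fixed_bot hM hκM hKM hMP
  have hσE : ∀ x ∈ E, x ∈ sigmaCore M → x = 1 := fun x hx hxσ =>
    Subgroup.mem_bot.1 (hE.2.2.1 ▸ Subgroup.mem_inf.2 ⟨hx, hxσ⟩)
  have hker : ∀ e ∈ E, e ∈ Subgroup.centralizer (B : Set G) → e = 1 := by
    intro e he heB
    have h1 : e ∈ U ⊔ K := hNM.le ⟨sB.centralizer_le heB, he.1⟩
    obtain ⟨u, hu, c, hc', rfl⟩ := hF.mul e h1
    rcases eq_or_ne c 1 with rfl | hc1
    · rw [mul_one] at he ⊢
      exact hσE u he (hUσ hu)
    obtain ⟨b, hb, hb1⟩ := exists_ne_one sB.ne_bot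
    refine absurd (decomp_fpf hG hN hKU c hc' hc1 b (hBU hb) ?_) hb1
    have h2 : b * (u * c) = (u * c) * b := Subgroup.mem_centralizer_iff.1 heB b hb
    have h3 : b * u = u * b := congrArg Subtype.val (hF.abelian.is_comm.comm (⟨b, hBU hb⟩ : U) ⟨u, hu⟩)
    rw [← mul_assoc, h3, mul_assoc, mul_assoc] at h2
    exact mul_left_cancel h2
  have hrβ : r ∉ beta M := fun h => not_ideal_of_tau2 hG hN hr h.2
  obtain ⟨S, hS, hBS⟩ := exists_sylIn_ge (Fusion.elab_isPGroup sB.elem) (hBU.trans hUσ)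
  have hMS : M ≤ Subgroup.normalizer (S : Set G) :=
    SigmaSubgroups.sylow_of_nilpotent_normal hnil le_normalizer_piCoreOf hS
  have hder : ∀ e ∈ E, e ∈ (⁅M, M⁆ : Subgroup G) → e = 1 := fun e he hed => hker e he
    (centralizer_le_of_le hBS (fixes_of_derived hG hM hrβ hS.isPGroup (hS.le.trans (core_le_derived hG hM)) hed
      (((Fact.out : r.Prime).coprime_iff_not_dvd.2 fun h =>
        compl_pi hG hM hE Fact.out (h.trans (Subgroup.orderOf_dvd_natCard E he)) hrσ).symm) (hMS he.1)))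
  have hτ : tau2 M = ∅ := by
    refine Set.eq_empty_iff_forall_notMem.2 fun t ht => ?_
    haveI := Fact.mk ht.1
    obtain ⟨A, hAE, sA⟩ := exists_setup_in_compl hG hM hE ht
    obtain ⟨⟨hEA, hline⟩, -, -⟩ := complement_tau2 sA hE hAE
    have hAP : A ≤ P := hAE.trans inf_le_right
    have htP : t ∈ sigma P := by
      by_contra htP
      have htp : t ≠ Nat.card K := fun h => htP (h ▸ d.prime_sigma)
      have hAK : A ≤ Subgroup.centralizer (K : Set G) := d.star_commutes hAP (hKE.trans hEA) fun h =>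
        htp ((Nat.prime_dvd_prime_iff_eq d.prime ht.1).1 (d.prime.dvd_of_dvd_pow (sA.card ▸ h))).symm
      exact hK1 (le_bot_iff.1 ((le_inf d.K_le_core (Subgroup.le_centralizer_iff.1 hAK)).trans
        (sigmaCore_inf_centralizer (⟨hG, d.coatomN, htP, hAP, sA.elem, sA.card⟩ : Setup t P A)).le))
    obtain ⟨T₀, hT₀ab⟩ : ∃ S : Sylow t G, IsMulCommutative (S : Subgroup G) := by
      by_contra hno
      push Not at hno
      obtain ⟨-, ⟨hec, -⟩, -⟩ := nonabelian_case sA hE hAE ht hno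
      obtain ⟨e, he, he1⟩ := exists_ne_one (X := A ⊓ Subgroup.centralizer (sigmaCore M : Set G)) fun h => by
        rw [h, Subgroup.card_bot] at hec
        exact ht.1.ne_one hec.symm
      exact he1 (hker e (hAE he.1) (centralizer_le_of_le (hBU.trans hUσ) he.2))
    obtain ⟨T, hT, hAT⟩ := exists_sylIn_ge (Fusion.elab_isPGroup sA.elem) (le_top : A ≤ ⊤)
    have hTab : IsMulCommutative ↥T := by
      obtain ⟨x, -, rfl⟩ := (Fusion.sylIn_top T₀).conj_eq hT
      haveI := hT₀ab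
      exact Subgroup.map_isMulCommutative _ _
    obtain ⟨hTE, hPA⟩ := partner_le_normalizer d hM sA hE hAE hKE inf_le_right hT hAT hTab htP
    have hTC : T ≤ Subgroup.centralizer (A : Set G) := fun x hx => Subgroup.mem_centralizer_iff.2 fun a ha =>
      congrArg Subtype.val (hTab.is_comm.comm (⟨a, hAT ha⟩ : T) ⟨x, hx⟩)
    have hP' : ⁅P, P⁆ ≤ M := ((Subgroup.commutator_mono hPA hPA).trans
      (commutator_le_centralizer_A sA hT hTC)).trans sA.centralizer_le
    obtain ⟨UP, hUP⟩ := exists_decomp hG d.coatomN d.hallN (hall_cyclic hG d.coatomN d.hallN)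
    exact hk1 (hder k (hKE hk) ((d.K_eq'.le.trans ((star_le_second hG d.coatomN hUP d.star_ne).trans
      (Subgroup.commutator_mono hP' hP'))) hk))
  refine ⟨hκM, hτ, hnil, E, hE, ?_, fun h => hK1 (le_bot_iff.1 (h ▸ hKE))⟩
  refine cyclic_of_rank_one hG (commute_of_derived_inf fun a ha b hb => hder _
    (Subgroup.commutator_le_self E (Subgroup.commutator_mem_commutator ha hb))
    (Subgroup.commutator_mem_commutator ha.1 hb.1)) fun q hq hd => ?_
  haveI := Fact.mk hq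
  refine Solv.RankTwo.prankLE_of_injective (Subgroup.inclusion (inf_le_left : E ≤ M)) (Subgroup.inclusion_injective _) ?_
  exact ((classify hG hM hq (compl_pi hG hM hE hq hd) (hd.trans (Subgroup.card_dvd_of_le inf_le_left))).resolve_left
    (by rw [hτ]; exact Set.notMem_empty q)).elim (fun h => h.2.2.2.2) fun h => h.2.2.2

end Cfsg.Agent.OddLocal.Kappa
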