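import Cfsg.Agent.Lib.OddLocal.TauTwoAbelian

/-!
Fixed points on `M_σ` of cyclic subgroups of prime power order outside `σ(M)`.
-/

set_option autoImplicit false
set_option linter.style.haveILetI false

namespace Cfsg.Agent.OddLocal.TauTwo

open Cfsg
open scoped commutatorElement
open Cfsg.Agent.Fusion (SylIn cj cj_cj cj_eq_self cj_mono card_cj isPGroup_cj sylIn_map sylIn_top exists_sylIn_ge
  mem_normalizer_of_cj_le)
open Cfsg.Agent.OddLocal.Uniq
open Cfsg.Agent.OddLocal.Sig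
open Cfsg.Agent.OddLocal.RankTwo

universe u

variable {G : Type u} [Group G] [Finite G] {p : ℕ} [hp : Fact p.Prime] {M : Subgroup G}

/-- `p`-subgroups of a group with `p` in its `σ` lie in the derived subgroup. -/
theorem le_derived_of_sigma (hG : IsMinSimpleOddOrder G) {H : Subgroup G} (hH : IsCoatom H) (hσ : p ∈ sigma H)
    {X : Subgroup G} (hX : IsPGroup p X) (hXH : X ≤ H) : X ≤ ⁅H, H⁆ := fun x hx => by
  obtain ⟨S⟩ : Nonempty (Sylow p ↥H) := inferInstance
  obtain ⟨h, hh, hxS⟩ := (sylIn_map H S).conj_le hX hXH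
  have h1 : h * x * h⁻¹ ∈ (⁅H, H⁆ : Subgroup G) := Subgroup.map_subtype_commutator H ▸
    Subgroup.map_mono (sylow_le_derived hG hH hσ S) (hxS ⟨x, hx, rfl⟩)
  have hn : h ∈ Subgroup.normalizer ((⁅H, H⁆ : Subgroup G) : Set G) := mem_normalizer_of_cj_le (by
    rw [Fusion.cj_commutator, Fusion.cj_eq_self_of_mem hh])
  exact (Subgroup.mem_normalizer_iff.1 hn x).2 h1

omit hp in
/-- A commutator of normalised subgroups meeting trivially. -/
theorem centralizes_of_meet {S Q N : Subgroup G} (hSQ : S ≤ Subgroup.normalizer (Q : Set G)) (hSN : S ≤ N)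
    (hQN : Q ≤ Subgroup.normalizer (N : Set G)) (h : Q ⊓ N = ⊥) : Q ≤ Subgroup.centralizer (S : Set G) := by
  intro x hx
  refine Subgroup.mem_centralizer_iff.2 fun s hs => ?_
  have h1 : x * s * x⁻¹ * s⁻¹ ∈ Q ⊓ N := by
    refine ⟨?_, Subgroup.mul_mem _ ((Subgroup.mem_normalizer_iff.1 (hQN hx) s).1 (hSN hs))
      (Subgroup.inv_mem _ (hSN hs))⟩
    rw [show x * s * x⁻¹ * s⁻¹ = x * (s * x⁻¹ * s⁻¹) by group]
    exact Subgroup.mul_mem _ hx ((Subgroup.mem_normalizer_iff.1 (hSQ hs) _).1 (Subgroup.inv_mem _ hx))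
  rw [h, Subgroup.mem_bot, mul_inv_eq_one, mul_inv_eq_iff_eq_mul] at h1
  exact h1.symm

/-- An element of order `p ^ 2` in a nontrivial cyclic `p`-group. -/
theorem exists_root {S U : Subgroup G} (hS : IsPGroup p S) (hSc : IsCyclic ↥S) (hUS : U ≤ S)
    (hUc : Nat.card U = p) (hne : S ≠ U) : ∃ s ∈ S, (s ^ p) ^ p = 1 ∧ Subgroup.zpowers (s ^ p) = U := by
  haveI := hSc
  obtain ⟨g, hg⟩ := IsCyclic.exists_generator (α := ↥S)
  obtain ⟨j, hj⟩ := IsPGroup.iff_card.1 hS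
  have ho : orderOf (g : G) = p ^ j := by
    rw [Subgroup.orderOf_coe, orderOf_eq_card_of_forall_mem_zpowers hg, hj]
  have hj2 : 2 ≤ j := by
    by_contra h
    refine hne (Subgroup.eq_of_le_of_card_ge hUS ?_).symm
    rw [hUc, hj]
    exact (Nat.pow_le_pow_right hp.out.pos (show j ≤ 1 by omega)).trans (pow_one p).le
  have ho' : orderOf ((g : G) ^ p ^ (j - 2)) = p ^ 2 := by
    rw [orderOf_pow_of_dvd (pow_ne_zero _ hp.out.ne_zero) (ho ▸ pow_dvd_pow p (Nat.sub_le j 2)), ho,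
      Nat.pow_div (Nat.sub_le j 2) hp.out.pos, Nat.sub_sub_self hj2]
  set s := (g : G) ^ p ^ (j - 2) with hs
  have hsp : orderOf (s ^ p) = p := by
    rw [orderOf_pow_of_dvd hp.out.ne_zero (ho' ▸ dvd_pow_self p two_ne_zero), ho', pow_two,
      Nat.mul_div_cancel _ hp.out.pos]
  refine ⟨s, pow_mem g.2 _, ?_, ?_⟩
  · have h := pow_orderOf_eq_one (s ^ p)
    rwa [hsp] at h
  · exact cyclic_eq hSc (Subgroup.zpowers_le.2 (pow_mem (pow_mem g.2 _) _)) hUS
      (by rw [Nat.card_zpowers, hsp]) hUc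

/-- A cyclic `p`-subgroup of `M` outside `σ(M)` centralizes the fixed points of its line on `M_σ`. -/
theorem fixed_cyclic (hG : IsMinSimpleOddOrder G) (hM : IsCoatom M) (hσ : p ∉ sigma M) (hr1 : PRankLE p 1 ↥M)
    {S U : Subgroup G} (hS : IsPGroup p S) (hSM : S ≤ M) (hSc : IsCyclic ↥S) (hUS : U ≤ S) (hUc : Nat.card U = p) :
    sigmaCore M ⊓ Subgroup.centralizer (U : Set G) ≤ Subgroup.centralizer (S : Set G) := by
  by_cases hSU : S = U
  · rw [hSU]; exact inf_le_right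
  have hall := (sigmaCore_hall hG hM).1
  have hσn : M ≤ Subgroup.normalizer (sigmaCore M : Set G) := le_normalizer_piCoreOf
  haveI := hSc
  have hSab : IsMulCommutative ↥S := ⟨⟨fun u v => (IsCyclic.commGroup (α := ↥S)).mul_comm u v⟩⟩
  set V := sigmaCore M ⊓ Subgroup.centralizer (U : Set G) with hV
  have hSV : S ≤ Subgroup.normalizer (V : Set G) := normalizes_fixed hSab (hSM.trans hσn) hUS
  have hVσ : V ≤ sigmaCore M := inf_le_left
  have hSC : S ≤ Subgroup.centralizer (U : Set G) := fun x hx => Subgroup.mem_centralizer_iff.2 fun y hy =>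
    congrArg Subtype.val (hSab.is_comm.comm (⟨y, hUS hy⟩ : S) ⟨x, hx⟩)
  obtain ⟨L, hL, hNL⟩ := exists_coatom _ (normalizer_pgroup_ne_top hG (isPGroup_of_card hUc) (ne_bot_of_card hUc))
  have hCL : Subgroup.centralizer (U : Set G) ≤ L := (Subgroup.centralizer_le_normalizer _).trans hNL
  have hSL : S ≤ L := hSC.trans hCL
  have hLM : L ≠ M := fun h => (order_p_normalizer hG hM hσ hUc (h ▸ hNL)).1.2 hr1
  have hco : (Nat.card S).Coprime (Nat.card V) := Nat.coprime_of_dvd fun r hr h1 h2 => by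
    obtain ⟨j, hj⟩ := IsPGroup.iff_card.1 hS
    rw [hj] at h1
    exact hσ ((Nat.prime_dvd_prime_iff_eq hr hp.out).1 (hr.dvd_of_dvd_pow h1) ▸
      hall.2.1 r hr (h2.trans (Subgroup.card_dvd_of_le hVσ)))
  have hSsol : Group.IsSolvable ↥S := hG.2.2.2 S fun h => hM.1 (eq_top_iff.2 (h ▸ hSM))
  rw [← Subgroup.relIndex_eq_one]
  by_contra hne
  obtain ⟨q, hq, hd⟩ := Nat.exists_prime_and_dvd hne
  haveI := Fact.mk hq
  have hqV : q ∣ Nat.card V := hd.trans (Subgroup.relIndex_dvd_card _ _)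
  have hqσ : q ∈ sigma M := hall.2.1 q hq (hqV.trans (Subgroup.card_dvd_of_le hVσ))
  have hqp : q ≠ p := fun h => hσ (h ▸ hqσ)
  obtain ⟨Q, hQ, hSQ⟩ := Solv.exists_invariant_sylow hSV hco (Or.inl hSsol) q
  refine (sylIn_of_isSylIn hQ).not_dvd (hd.trans (Subgroup.relIndex_dvd_of_le_left V ?_))
  have hQL : Q ≤ L := (hQ.1.trans inf_le_right).trans hCL
  have hQq : IsPGroup q Q := hQ.isPGroup
  by_cases hpσ : p ∈ sigma L
  · have hqb : q ∉ beta L := fun h => by
      obtain ⟨R, hR⟩ := Fusion.exists_sylIn (p := q) L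
      obtain ⟨g, hg⟩ := SigmaSubgroups.conjugate_of_shared hG hM hL hqσ (alpha_subset_sigma hG hL h.1) hR (Or.inl h.1)
      exact hσ (sigma_of_cj (hg ▸ hpσ))
    by_cases hpb : p ∈ beta L
    · refine centralizes_of_meet hSQ (N := piCoreOf (beta L) L) (le_of_hall (betaCore_hall hG hL).1
        le_normalizer_piCoreOf hSL (piNum_of_pgroup hS hpb)) (hQL.trans le_normalizer_piCoreOf)
        (Solv.coprime_inf (Nat.coprime_of_dvd fun r hr h1 h2 => hqb ?_))
      obtain ⟨j, hj⟩ := IsPGroup.iff_card.1 hQq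
      rw [hj] at h1
      exact (Nat.prime_dvd_prime_iff_eq hr hq).1 (hr.dvd_of_dvd_pow h1) ▸ (betaCore_hall hG hL).1.2.1 r hr h2
    set W := (⁅Q, S⁆ : Subgroup G) with hW
    obtain ⟨hWQ, -, hSW⟩ := Solv.commutator_normal_in hSQ
    have hWC : W ≤ Subgroup.centralizer (S : Set G) := by
      rw [Subgroup.le_centralizer_iff]
      exact fun a ha => commute_derived hG hL hqp hpb hqb (hQq.to_le hWQ) (Subgroup.commutator_mono hQL hSL)
        (le_derived_of_sigma hG hL hpσ hS hSL ha) (hS.to_le (Subgroup.zpowers_le.2 ha)) (hSW ha)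
    exact (Solv.commutator_sup_fixed hSQ (coprime_pgroup (Ne.symm hqp) hS hQq) (Or.inl hSsol)).ge.trans
      (sup_le hWC inf_le_right)
  -- p has rank two in L
  obtain ⟨⟨hr2, hr21⟩, -, -⟩ := order_p_normalizer hG hL hpσ hUc hNL
  obtain ⟨E, hE⟩ := exists_compl hG hL
  obtain ⟨B, hBE, sB⟩ := exists_setup_in_compl hG hL hE (p := p) ⟨hp.out, hpσ, hr2, hr21⟩
  obtain ⟨P, hP, hSP⟩ := exists_sylIn_ge hS hSL
  obtain ⟨x, -, hxP⟩ := hP.conj_le (Fusion.elab_isPGroup sB.elem) sB.le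
  have sB' : Setup p L (cj B x) := setup_of_tau2 hG hL ⟨hp.out, hpσ, hr2, hr21⟩ (hxP.trans hP.le)
    ⟨haveI := sB.elem.1; Subgroup.map_isMulCommutative B _, by
      rintro _ ⟨y, hy, rfl⟩; rw [← map_pow, sB.elem.2 y hy, map_one]⟩ (by rw [card_cj, sB.card])
  obtain ⟨T, hT, hPT⟩ := exists_sylIn_ge hP.isPGroup (le_top (a := P))
  have hTab : IsMulCommutative ↥T := by
    by_contra hna
    have hTL : ¬ T ≤ L := fun h => hna (pgroup_abelian hG hL hpσ hT.isPGroup h)
    obtain ⟨s, hs, hsp, hsU⟩ := exists_root hS hSc hUS hUc hSU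
    have h1 := roots_central sB' hP hxP hT hPT hna hTL (hSP hs) hsp
    refine hTL ((omz_centralizer (q := p) T).trans ((centralizer_le_of_le ?_).trans hCL))
    rw [← hsU]
    exact Subgroup.zpowers_le.2 h1
  have hTP : T = P := by
    refine hP.eq_of_le hT.isPGroup hPT ?_
    refine le_trans (fun y hy => Subgroup.mem_centralizer_iff.2 fun b hb => ?_) sB'.centralizer_le
    exact congrArg Subtype.val (hTab.is_comm.comm (⟨b, hPT (hxP hb)⟩ : T) ⟨y, hy⟩)
  obtain ⟨P', hP'E⟩ := Fusion.exists_sylIn (p := p) E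
  have hP'L := compl_sylIn hG hL hE hpσ hP'E
  have hP'G : SylIn p P' ⊤ := (hTP ▸ hT).of_card_ge hP'L.isPGroup le_top (hP'L.card_le hP.isPGroup hP.le)
  obtain ⟨-, -, hEP, -⟩ := sylow_normal sB hE hBE hP'E hP'G
  have hallL := (sigmaCore_hall hG hL).1
  by_cases hqL : q ∈ sigma L
  · obtain ⟨R, hR⟩ := Fusion.exists_sylIn (p := q) L
    have hRσ : R ≤ sigmaCore L := le_of_hall hallL le_normalizer_piCoreOf hR.le (piNum_of_pgroup hR.isPGroup hqL)
    obtain ⟨g, hg⟩ := SigmaSubgroups.conjugate_of_shared hG hM hL hqσ hqL hR (Or.inr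
      (SigmaSubgroups.sylow_of_nilpotent_normal (sigmaCore_nilpotent sB) le_normalizer_piCoreOf
        (hR.mono hRσ (Subgroup.map_subtype_le _))))
    refine absurd hr1 (not_prankLE_of_elab (E := cj B g⁻¹) ?_ ⟨haveI := sB.elem.1; Subgroup.map_isMulCommutative B _, by
      rintro _ ⟨y, hy, rfl⟩; rw [← map_pow, sB.elem.2 y hy, map_one]⟩ (by rw [card_cj, sB.card]))
    rw [← Fusion.cj_cj_inv M g, ← hg]
    exact cj_mono sB.le _
  set N := sigmaCore L ⊔ P' with hN
  have hσLn : L ≤ Subgroup.normalizer (sigmaCore L : Set G) := le_normalizer_piCoreOf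
  have hLN : L ≤ Subgroup.normalizer (N : Set G) := by
    intro l hl
    obtain ⟨a, ha, b, hb, rfl⟩ := hE.2.2.2 l hl
    refine mul_mem (mem_normalizer_of_cj_le ?_) (Subgroup.le_normalizer (Subgroup.mem_sup_left hb))
    rw [hN, Fusion.cj_sup, cj_eq_self (hσLn (hE.1 ha)), cj_eq_self (hEP ha)]
  have hSN : S ≤ N := by
    obtain ⟨y, hy, hle⟩ := hP'L.conj_le hS hSL
    have h1 : cj S y ≤ N := hle.trans le_sup_right
    rw [← Fusion.cj_cj_inv S y]
    exact (cj_mono h1 _).trans (cj_eq_self (hLN (inv_mem hy))).le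
  refine centralizes_of_meet hSQ hSN (hQL.trans hLN) (Solv.coprime_inf (Nat.coprime_of_dvd fun r hr h1 h2 => ?_))
  obtain ⟨j, hj⟩ := IsPGroup.iff_card.1 hQq
  rw [hj] at h1
  have hrq := (Nat.prime_dvd_prime_iff_eq hr hq).1 (hr.dvd_of_dvd_pow h1)
  have h3 := Solv.card_sup_mul_card_inf' (sigmaCore L) P' (hP'L.le.trans hσLn)
  rcases hr.dvd_mul.1 ((h2.mul_right _).trans h3.dvd) with h | h
  · exact hqL (hrq ▸ hallL.2.1 r hr h)
  · obtain ⟨i, hi⟩ := IsPGroup.iff_card.1 hP'L.isPGroup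
    rw [hi] at h
    exact hqp (hrq.symm.trans ((Nat.prime_dvd_prime_iff_eq hr hp.out).1 (hr.dvd_of_dvd_pow h)))

end Cfsg.Agent.OddLocal.TauTwo
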