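import Cfsg.Agent.Lib.OddLocal.UniquenessBasics
import Cfsg.Agent.Lib.OddLocal.BenderUniqueness
import Cfsg.Agent.Lib.Lead.InvariantQ
import Cfsg.Agent.Lib.Local.CentralizerTrick
import Cfsg.Agent.Lib.Solv.Subnormal

/-!
Uniqueness subgroups in a Fitting subgroup of rank at least three.
-/

set_option autoImplicit false

namespace Cfsg.Agent.OddLocal.Uniq

open Cfsg
open scoped Pointwise
open Cfsg.Agent.Fusion (SylIn cj cj_eq_self mem_normalizer_of_cj_le exists_sylIn_ge)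
open Cfsg.Agent.OddLocal.Bender (coreP ctr)

universe u

variable {G : Type u} [Group G] [Finite G]

theorem le_normalizer_fittingOf (M : Subgroup G) : M ≤ Subgroup.normalizer (fittingOf M : Set G) :=
  haveI : (fittingSubgroup ↥M).Normal := Solv.fittingSubgroup_normal
  Bender.le_normalizer_map _

omit [Finite G] in
theorem fittingOf_le (M : Subgroup G) : fittingOf M ≤ M := Subgroup.map_subtype_le _

theorem centralizer_fittingOf_le {M : Subgroup G} (hs : Group.IsSolvable M) :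
    M ⊓ Subgroup.centralizer (fittingOf M : Set G) ≤ fittingOf M := by
  rintro y ⟨hyM, hyC⟩
  have h : (⟨y, hyM⟩ : M) ∈ fittingSubgroup M := Solv.centralizer_fitting_le hs
    (Subgroup.mem_centralizer_iff.2 fun z hz => Subtype.ext
      (Subgroup.mem_centralizer_iff.1 hyC _ (Subgroup.mem_map_of_mem M.subtype hz)))
  exact ⟨⟨y, hyM⟩, h, rfl⟩

/-- A coprime subgroup of `M` normalised by `A`, with `C_F(A) ≤ A ≤ F`, is trivial. -/
theorem inv_le_eq_bot {M A Y : Subgroup G} (hs : Group.IsSolvable M) (hAF : A ≤ fittingOf M)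
    (hCA : fittingOf M ⊓ Subgroup.centralizer (A : Set G) ≤ A) (hYM : Y ≤ M)
    (hco : (Nat.card Y).Coprime (Nat.card (fittingOf M)))
    (hAY : A ≤ Subgroup.normalizer (Y : Set G)) : Y = ⊥ := by
  obtain ⟨F, hF⟩ : ∃ F, F = fittingOf M := ⟨_, rfl⟩
  rw [← hF] at hAF hCA hco
  have hMF : M ≤ Subgroup.normalizer (F : Set G) := hF ▸ le_normalizer_fittingOf M
  have hYF : Y ⊓ F = ⊥ := Solv.coprime_inf hco
  have hA_C : A ≤ F ⊓ Subgroup.centralizer (Y : Set G) := by
    refine le_inf hAF fun a ha => Subgroup.mem_centralizer_iff.2 fun y hy => ?_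
    have h1 : y * a * y⁻¹ * a⁻¹ ∈ Y ⊓ F := Subgroup.mem_inf.2
      ⟨Solv.comm_mem_of_mem_normalizer (hAY ha) hy,
        mul_mem ((Subgroup.mem_normalizer_iff.1 (hMF (hYM hy)) a).1 (hAF ha)) (inv_mem (hAF ha))⟩
    rw [hYF, Subgroup.mem_bot, mul_inv_eq_one, mul_inv_eq_iff_eq_mul] at h1
    exact h1
  have hYC : Y ≤ Subgroup.centralizer (F : Set G) := by
    refine CentTrick.centralizes_of_self_centralizing (hF ▸ TypePBasic.fittingOf_nilpotent M)
      (hYM.trans hMF) hco ?_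
    exact ((inf_le_inf_left F (Subgroup.centralizer_le hA_C)).trans hCA).trans hA_C
  rw [← le_bot_iff, ← hYF]
  refine le_inf le_rfl ?_
  exact hF ▸ ((le_inf hYM (hF ▸ hYC)).trans (centralizer_fittingOf_le hs))

theorem coatom_ne_bot (hG : IsMinSimpleOddOrder G) {M : Subgroup G} (hM : IsCoatom M) : M ≠ ⊥ := by
  intro h0
  obtain ⟨-, hS, hnc, -⟩ := hG
  obtain ⟨x, hx⟩ : ∃ x : G, x ≠ 1 := by
    by_contra hno
    push Not at hno
    exact hnc ⟨⟨fun a b => by rw [hno a, hno b]⟩⟩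
  have h1 : Subgroup.zpowers x = ⊤ := hM.2 _ (h0 ▸ bot_lt_iff_ne_bot.2 (fun h => hx (Subgroup.zpowers_eq_bot.1 h)))
  refine hnc ⟨⟨fun a b => ?_⟩⟩
  obtain ⟨i, rfl⟩ := Subgroup.mem_zpowers_iff.1 (show a ∈ Subgroup.zpowers x from h1 ▸ Subgroup.mem_top a)
  obtain ⟨j, rfl⟩ := Subgroup.mem_zpowers_iff.1 (show b ∈ Subgroup.zpowers x from h1 ▸ Subgroup.mem_top b)
  exact (Commute.zpow_zpow_self x i j).eq

/-- No nontrivial `π'`-subgroups are normalised by `A`. -/
theorem finish_inv (hG : IsMinSimpleOddOrder G) {M A : Subgroup G} {n : ℕ} (hM : IsCoatom M)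
    (hAF : A ≤ fittingOf M) (hCA : fittingOf M ⊓ Subgroup.centralizer (A : Set G) ≤ A)
    (hnF : ∀ r : ℕ, r.Prime → r ∣ Nat.card (fittingOf M) → r ∣ n) (hhyp : Transit.Hyp n A)
    (hZ : ¬ RankLE 2 ↥(A ⊓ Subgroup.centralizer (A : Set G)))
    (hCM : Subgroup.centralizer (A : Set G) ≤ M) (hsn : (A.subgroupOf (fittingOf M)).IsSubnormal)
    {Y : Subgroup G} (hY : Transit.Prime' n Y) (hAY : A ≤ Subgroup.normalizer (Y : Set G)) : Y = ⊥ := by
  have hmin := hG.2
  have hsM := hmin.2.2 M hM.1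
  have hcop : ∀ {Z : Subgroup G}, Transit.Prime' n Z →
      (Nat.card Z).Coprime (Nat.card (fittingOf M)) :=
    fun {Z} hZ => Nat.coprime_of_dvd fun r hr h1 h2 => (hZ r hr h1).2 (hnF r hr h2)
  have hK : piCoreOf (primesNotDvd n) (Subgroup.centralizer (A : Set G)) = ⊥ :=
    inv_le_eq_bot hsM hAF hCA ((Transit.piCoreOf_le _).trans hCM) (hcop (Transit.piCoreOf_prime _))
      (Subgroup.le_normalizer.trans (Transit.normalizer_le_core hmin.1 hhyp))
  have hFt : fittingOf M ≠ ⊤ := fun h => hM.1 (eq_top_iff.2 (h ▸ fittingOf_le M))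
  have hmax : ∀ q : ℕ, ∀ [Fact q.Prime], ¬ q ∣ n → ∀ Q ∈ maxInvSubgroups ⊤ A {q}, Q = ⊥ := by
    intro q _ hqn Q₀ m₀
    have htr : ∀ Q₁ ∈ maxInvSubgroups ⊤ A {q}, ∀ Q₂ ∈ maxInvSubgroups ⊤ A {q}, Transit.Rel n A Q₁ Q₂ :=
      fun Q₁ h₁ Q₂ h₂ => Transit.rel_rank_three hmin hhyp hqn hZ h₁ h₂
    have huniq : ∀ Q₁ ∈ maxInvSubgroups ⊤ A {q}, ∀ Q₂ ∈ maxInvSubgroups ⊤ A {q}, Q₂ = Q₁ := by
      intro Q₁ h₁ Q₂ h₂
      obtain ⟨k, hk, rfl⟩ := htr Q₁ h₁ Q₂ h₂
      rw [hK, Subgroup.mem_bot] at hk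
      rw [hk, Fusion.cj_one]
    obtain ⟨-, hsub⟩ := Transit.overgroup hmin hhyp hqn hAF hFt hnF hsn htr
    obtain ⟨Q, -, mQ⟩ := S1480.exists_max (q := q) (E := fittingOf M) ⊥ IsPGroup.of_bot
      (fun _ _ => by rw [Subgroup.normalizer_eq_top]; exact Subgroup.mem_top _)
    rw [huniq Q (hsub mQ) Q₀ m₀]
    have hMQ : M ≤ Subgroup.normalizer (Q : Set G) := fun m hm => mem_normalizer_of_cj_le
      (huniq Q (hsub mQ) _ (hsub (Transit.cj_maxInv (le_normalizer_fittingOf M hm) mQ))).le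
    by_contra hne
    have hQq := (S1480.mem_maxInv.1 mQ).1.1
    have hQM : Q ≤ M := by
      rw [← (hM.le_iff.1 hMQ).resolve_left (Transit.normalizer_ne_top hmin.1 hne (pgroup_ne_top hG hQq))]
      exact Subgroup.le_normalizer
    exact hne (inv_le_eq_bot hsM hAF hCA hQM (hcop (Transit.prime'_of_pgroup hqn hQq))
      (S1480.mem_maxInv.1 (hsub mQ)).1.2)
  refine le_bot_iff.1 (le_of_invariant_sylows fun q hq => ?_)
  obtain ⟨U, hU, hAU⟩ := Solv.exists_invariant_sylow hAY (hhyp.coprime hY) (Or.inl (hmin.2.2 A hhyp.2.1)) q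
  refine ⟨U, hU, ?_⟩
  by_cases hqn : q ∣ n
  · have hd : ¬ q ∣ Nat.card Y := fun h => (hY q hq.out h).2 hqn
    have h1 : Nat.card U = 1 := by rw [hU.2, Nat.factorization_eq_zero_of_not_dvd hd, pow_zero]
    exact (Subgroup.card_eq_one.1 h1).le
  · obtain ⟨Q, hUQ, mQ⟩ := S1480.exists_max U hU.isPGroup hAU
    exact hUQ.trans (hmax q hqn Q mQ).le

section

variable {p : ℕ} [hp : Fact p.Prime]

/-- A central subgroup `Z_q` of the Fitting subgroup lies in the `r'`-core of every solvable group containing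
`Z(F)`-parts. -/
theorem ctr_le_core (hG : IsMinSimpleOddOrder G) {M X : Subgroup G} (hM : IsCoatom M) (hX : X ≠ ⊤)
    {q : ℕ} [hq : Fact q.Prime] (hqp : q ≠ p) (hp' : p ∣ Nat.card (fittingOf M))
    (hpX : ctr p M ≤ X) (hqX : ctr q M ≤ X) : ctr q M ≤ coreP p X := by
  have hmin := hG.2
  have hNp : Subgroup.normalizer (ctr p M : Set G) = M := Bender.normalizer_ctr hmin.1 hM hp'
  obtain ⟨Z, hZdef⟩ : ∃ Z, Z = ctr q M := ⟨_, rfl⟩
  obtain ⟨E, hEdef⟩ : ∃ E, E = ctr p M := ⟨_, rfl⟩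
  rw [← hEdef] at hpX hNp
  rw [← hZdef] at hqX ⊢
  have hEp : IsPGroup p E := hEdef ▸ Bender.isPGroup_ctr M
  have hZq : IsPGroup q Z := hZdef ▸ Bender.isPGroup_ctr M
  have hMZ : M ≤ Subgroup.normalizer (Z : Set G) := hZdef ▸ Bender.le_normalizer_ctr M
  have hEc : ∀ a ∈ E, ∀ b : G, b ∈ fittingOf M → a * b = b * a := fun a ha b hb => by
    rw [hEdef] at ha
    exact (Subgroup.mem_centralizer_iff.1 (Subgroup.mem_inf.1 (Bender.ctr_central M ha)).2 b hb).symm
  have hEF : E ≤ fittingOf M := hEdef ▸ (Bender.ctr_central M).trans inf_le_left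
  have hZF : Z ≤ fittingOf M := hZdef ▸ (Bender.ctr_central M).trans inf_le_left
  have hpZ : ¬ p ∣ Nat.card Z := fun h => by
    obtain ⟨k, hk⟩ := IsPGroup.iff_card.1 hZq
    rw [hk] at h
    exact hqp ((Nat.prime_dvd_prime_iff_eq hp.out hq.out).1 (hp.out.dvd_of_dvd_pow h)).symm
  set W := pPrimeCore p ↥X with hW
  set π := QuotientGroup.mk' W with hπ
  have hcW : (Nat.card W).Coprime p := Fusion.card_pPrimeCore_coprime p _
  haveI : Group.IsSolvable ↥X := hmin.2.2 X hX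
  haveI : Group.IsSolvable (↥X ⧸ W) := Group.isSolvable_of_surjective (QuotientGroup.mk'_surjective _)
  set V := pCore p (↥X ⧸ W) with hV
  haveI : V.Normal := Solv.pCore_normal p
  have hVp : IsPGroup p V := Fusion.isPGroup_pCore p _
  have hcV : Subgroup.centralizer (V : Set (↥X ⧸ W)) ≤ V :=
    Fusion.centralizer_pCore_le_of_solvable inferInstance Fusion.pPrimeCore_quotient_eq_bot
  have hE'p : IsPGroup p ((E.subgroupOf X).map π) := hEp.comap_subtype.map π
  have hE'c : IsMulCommutative ↥((E.subgroupOf X).map π) := by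
    haveI : IsMulCommutative ↥(E.subgroupOf X) :=
      ⟨⟨fun u v => Subtype.ext (Subtype.ext (hEc _ u.2 _ (hEF v.2)))⟩⟩
    exact Subgroup.map_isMulCommutative _ π
  have hZd : ¬ p ∣ Nat.card ((Z.subgroupOf X).map π) := fun h => hpZ (by
    rw [← Solv.card_subgroupOf hqX]
    exact h.trans (Subgroup.card_map_dvd _ π))
  have hZV : (Z.subgroupOf X).map π ⊓ V = ⊥ :=
    Fusion.coprime_inf_pGroup ((Nat.Prime.coprime_iff_not_dvd hp.out).2 hZd).symm hVp
  have hEZ : (E.subgroupOf X).map π ≤ Subgroup.normalizer ((Z.subgroupOf X).map π : Set (↥X ⧸ W)) := by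
    refine le_trans ?_ (Subgroup.centralizer_le_normalizer _)
    rintro _ ⟨e, he, rfl⟩
    refine Subgroup.mem_centralizer_iff.2 ?_
    rintro _ ⟨z, hz, rfl⟩
    rw [← map_mul, ← map_mul]
    exact congrArg π (Subtype.ext (hEc _ he _ (hZF hz)).symm)
  have hcl : Lead.ClassTwoHyp p (↥X ⧸ W) := fun hp2 => by
    exfalso
    rw [hp2] at hp'
    exact Nat.not_even_iff_odd.2 hG.1 (even_iff_two_dvd.2 (hp'.trans (Subgroup.card_subgroup_dvd_card _)))
  have hcen : V ≤ Subgroup.centralizer ((Z.subgroupOf X).map π : Set (↥X ⧸ W)) := by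
    refine Lead.centralizes_of_fixed hVp hE'p hE'c hZd hEZ
      (by rw [Subgroup.normalizer_eq_top]; exact le_top) (by rw [Subgroup.normalizer_eq_top]; exact le_top)
      ?_ hcl
    intro y hy hye z' hz'
    obtain ⟨x, hx, hxy⟩ := Fusion.exists_lift_normalizer hcW (hEp.comap_subtype (K := X)) (y := y) (by
      refine Subgroup.centralizer_le_normalizer _ (Subgroup.mem_centralizer_iff.2 fun e he => hye e he))
    have hxM : (x : G) ∈ M := by
      rw [← hNp]
      have h1 := Subgroup.le_normalizer_map X.subtype (Subgroup.mem_map_of_mem X.subtype hx)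
      have h2 : (Subgroup.comap X.subtype E).map X.subtype = E := Subgroup.map_subgroupOf_eq_of_le hpX
      rwa [h2] at h1
    obtain ⟨z, hz, rfl⟩ := hz'
    have h1 : π z * y * (π z)⁻¹ * y⁻¹ ∈ (Z.subgroupOf X).map π ⊓ V := by
      refine Subgroup.mem_inf.2 ⟨?_, mul_mem ((inferInstance : V.Normal).conj_mem y hy _) (inv_mem hy)⟩
      rw [← hxy, ← map_inv, ← map_inv, ← map_mul, ← map_mul, ← map_mul]
      exact Subgroup.mem_map_of_mem π (show ((z * x * z⁻¹ * x⁻¹ : X) : G) ∈ Z from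
        Solv.comm_mem_of_mem_normalizer (hMZ hxM) hz)
    rw [hZV, Subgroup.mem_bot, mul_inv_eq_one, mul_inv_eq_iff_eq_mul] at h1
    exact h1
  have hbot : (Z.subgroupOf X).map π = ⊥ := by
    rw [← hZV, inf_eq_left.2]
    exact (Subgroup.le_centralizer_iff.1 hcen).trans hcV
  rw [Subgroup.map_eq_bot_iff, hπ, QuotientGroup.ker_mk'] at hbot
  exact fun z hz => ⟨⟨z, hqX hz⟩, hbot hz, rfl⟩

/-- Case of a non-primary Fitting subgroup. -/
theorem iu_fitting_centralizer (hG : IsMinSimpleOddOrder G) {M : Subgroup G} (hM : IsCoatom M) {A₀ : Subgroup G}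
    (hA₀ : A₀ ≤ fittingOf M) (hA₀e : IsElementaryAbelian p A₀) (hA₀3 : p ^ 3 ≤ Nat.card A₀)
    (hnp : ¬ IsPGroup p ↥(fittingOf M)) :
    InUniqueMaximal (fittingOf M ⊓ Subgroup.centralizer (A₀ : Set G)) := by
  have hmin := hG.2
  obtain ⟨F, hF⟩ : ∃ F, F = fittingOf M := ⟨_, rfl⟩
  obtain ⟨A, hA⟩ : ∃ A, A = F ⊓ Subgroup.centralizer (A₀ : Set G) := ⟨_, rfl⟩
  rw [← hF] at hA₀ hnp ⊢
  rw [← hA]
  have hAF : A ≤ F := hA ▸ inf_le_left
  have hFM : F ≤ M := hF ▸ fittingOf_le M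
  have hA₀A : A₀ ≤ A := by
    haveI := hA₀e.1
    exact hA ▸ le_inf hA₀ (Subgroup.le_centralizer A₀)
  have hAA₀ : A₀ ≤ Subgroup.centralizer (A : Set G) := Subgroup.le_centralizer_iff.1 (hA ▸ inf_le_right)
  have hCA : F ⊓ Subgroup.centralizer (A : Set G) ≤ A :=
    (inf_le_inf_left F (Subgroup.centralizer_le hA₀A)).trans hA.ge
  have hZF : F ⊓ Subgroup.centralizer (F : Set G) ≤ A :=
    (inf_le_inf_left F (Subgroup.centralizer_le hA₀)).trans hA.ge
  have hctr : ∀ r : ℕ, r.Prime → ctr r M ≤ A := fun r hr =>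
    haveI := Fact.mk hr
    (Bender.ctr_central M).trans (hF ▸ hZF)
  obtain ⟨n, hn⟩ : ∃ n, n = Nat.card F := ⟨_, rfl⟩
  have hA0 : A ≠ ⊥ := fun h => by
    have := Subgroup.card_le_of_le (hA₀A.trans h.le)
    rw [Subgroup.card_bot] at this
    exact absurd (hA₀3.trans this) (not_le.2 (Nat.one_lt_pow (by omega) hp.out.one_lt))
  have hpF : p ∣ Nat.card F := by
    obtain ⟨j, hj⟩ := IsPGroup.iff_card.1 (Fusion.elab_isPGroup hA₀e)
    have hj3 : 3 ≤ j := (Nat.pow_le_pow_iff_right hp.out.one_lt).1 (hj ▸ hA₀3)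
    exact ((dvd_pow_self p (show 3 ≠ 0 by omega)).trans (pow_dvd_pow p hj3)).trans
      (hj ▸ Subgroup.card_dvd_of_le hA₀)
  obtain ⟨s, hs, hsd, hsp⟩ : ∃ s : ℕ, s.Prime ∧ s ∣ Nat.card F ∧ s ≠ p := by
    by_contra hno
    push Not at hno
    refine hnp (IsPGroup.of_card (n := (Nat.card F).primeFactorsList.length) ?_)
    exact Nat.eq_prime_pow_of_unique_prime_dvd Nat.card_pos.ne' (fun hd h => hno _ hd h)
  have hother : ∀ r : ℕ, ∃ q : ℕ, q.Prime ∧ q ∣ Nat.card F ∧ q ≠ r := by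
    intro r
    by_cases hr : r = p
    · exact ⟨s, hs, hsd, hr ▸ hsp⟩
    · exact ⟨p, hp.out, hpF, Ne.symm hr⟩
  have hsM := hmin.2.2 M hM.1
  have hcop : ∀ {Z : Subgroup G}, Transit.Prime' n Z → (Nat.card Z).Coprime (Nat.card (fittingOf M)) :=
    fun {Z} hZ => hF ▸ Nat.coprime_of_dvd fun r hr h1 h2 => (hZ r hr h1).2 (hn ▸ h2)
  have hhyp : Transit.Hyp n A := by
    refine ⟨hA0, fun h => hM.1 (eq_top_iff.2 (h ▸ hAF.trans hFM)),
      fun r hr hd => hn ▸ hd.trans (Subgroup.card_dvd_of_le hAF), fun X hX hAX Y hYX hAY hY => ?_⟩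
    have hcores : ∀ r : ℕ, r.Prime → r ∣ Nat.card F → Y ≤ coreP r X := by
      intro r hr hrd
      obtain ⟨q, hq, hqd, hqr⟩ := hother r
      haveI := Fact.mk hr
      haveI := Fact.mk hq
      have hqX : ctr q M ≤ X := (hctr q hq).trans hAX
      have hcore := ctr_le_core (p := r) hG hM hX hqr (hF ▸ hrd) ((hctr r hr).trans hAX) hqX
      have hNq : Subgroup.normalizer (ctr q M : Set G) = M := Bender.normalizer_ctr hmin.1 hM (hF ▸ hqd)
      have hZY : ctr q M ≤ Subgroup.normalizer (Y : Set G) := (hctr q hq).trans hAY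
      have hfix : Y ⊓ Subgroup.centralizer (ctr q M : Set G) = ⊥ := by
        refine inv_le_eq_bot hsM (hF ▸ hAF) (hF ▸ hCA)
          (inf_le_right.trans ((Subgroup.centralizer_le_normalizer _).trans hNq.le))
          (hcop (hY.of_le inf_le_left)) fun a ha => ?_
        refine mem_normalizer_of_cj_le ?_
        rintro _ ⟨y, ⟨hy, hyc⟩, rfl⟩
        refine ⟨(Subgroup.mem_normalizer_iff.1 (hAY ha) y).1 hy, Subgroup.mem_centralizer_iff.2 fun z hz => ?_⟩
        have hza : z * a = a * z := (Subgroup.mem_centralizer_iff.1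
          (Subgroup.mem_inf.1 (Bender.ctr_central M hz)).2 a (hF ▸ hAF ha)).symm
        have hzy : z * y = y * z := Subgroup.mem_centralizer_iff.1 hyc z hz
        exact ((show Commute z a from hza).mul_right hzy).mul_right (show Commute z a from hza).inv_right
      have hco : (Nat.card (ctr q M)).Coprime (Nat.card Y) :=
        (hcop hY).symm.coprime_dvd_left (Subgroup.card_dvd_of_le ((Bender.ctr_central M).trans inf_le_left))
      have h1 := Solv.commutator_sup_fixed hZY hco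
        (Or.inl (hmin.2.2 _ (pgroup_ne_top hG (Bender.isPGroup_ctr (p := q) M))))
      rw [hfix, sup_bot_eq] at h1
      rw [← h1, Subgroup.commutator_le]
      intro y hy z hz
      rw [commutatorElement_def]
      exact mul_mem ((Subgroup.mem_normalizer_iff.1 (Bender.le_normalizer_coreP X (hYX hy)) z).1 (hcore hz))
        (inv_mem (hcore hz))
    obtain ⟨N, hN⟩ : ∃ N : Subgroup G, N = ⨅ r : {r : ℕ // r.Prime ∧ r ∣ Nat.card F}, coreP r.1 X := ⟨_, rfl⟩
    have hNX : N ≤ X := by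
      rw [hN]
      exact (iInf_le (fun r : {r : ℕ // r.Prime ∧ r ∣ Nat.card F} => coreP r.1 X) ⟨p, hp.out, hpF⟩).trans
        (Subgroup.map_subtype_le _)
    refine (hN ▸ le_iInf fun r => hcores r.1 r.2.1 r.2.2 : Y ≤ N).trans (Transit.le_piCoreOf hNX ?_ ?_)
    · intro x hx
      refine mem_normalizer_of_cj_le ?_
      rintro _ ⟨y, hy, rfl⟩
      rw [hN, Subgroup.mem_iInf]
      intro r
      rw [hN] at hy
      exact (Subgroup.mem_normalizer_iff.1 (Bender.le_normalizer_coreP X hx) y).1 (Subgroup.mem_iInf.1 hy r)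
    · intro r hr hrd
      refine ⟨hr, fun hrn => ?_⟩
      haveI := Fact.mk hr
      have hrF : r ∣ Nat.card F := hn ▸ hrn
      have hle : N ≤ coreP r X := by
        rw [hN]
        exact iInf_le (fun r : {r : ℕ // r.Prime ∧ r ∣ Nat.card F} => coreP r.1 X) ⟨r, hr, hrF⟩
      exact coreP_coprime (p := r) X (hrd.trans (Subgroup.card_dvd_of_le hle))
  have hZ : ¬ RankLE 2 ↥(A ⊓ Subgroup.centralizer (A : Set G)) :=
    fun h => not_prankLE_of_elab (le_inf hA₀A hAA₀) hA₀e hA₀3 (h p hp.out)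
  have hCM : Subgroup.centralizer (A : Set G) ≤ M :=
    (Subgroup.centralizer_le (hctr p hp.out)).trans ((Subgroup.centralizer_le_normalizer _).trans
      (Bender.normalizer_ctr hmin.1 hM (hF ▸ hpF)).le)
  haveI : Group.IsNilpotent ↥(fittingOf M) := TypePBasic.fittingOf_nilpotent M
  have hinv : ∀ Y ∈ invSubgroups ⊤ A (primesNotDvd (Nat.card (fittingOf M))), Y = ⊥ := fun Y hY =>
    finish_inv hG hM (hF ▸ hAF) (hF ▸ hCA) (fun r _ h => hn ▸ hF ▸ h) hhyp hZ hCM
      (Solv.isSubnormal_of_isNilpotent _) (hn ▸ hF ▸ hY.2.1) hY.2.2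
  have hF2 : 2 ≤ (Nat.card (fittingOf M)).primeFactors.card := by
    rw [← hF]
    exact Finset.one_lt_card.2 ⟨p, Nat.mem_primeFactors.2 ⟨hp.out, hpF, Nat.card_pos.ne'⟩, s,
      Nat.mem_primeFactors.2 ⟨hs, hsd, Nat.card_pos.ne'⟩, hsp.symm⟩
  exact ⟨M, ⟨hM, hAF.trans hFM⟩, fun L hL =>
    Bender.uniqueness hmin hM hF2 (hF ▸ hAF) (hF ▸ hZF) hinv hL.1 hL.2⟩

theorem coreP_eq_bot_of_fitting_pgroup {M : Subgroup G} (hs : Group.IsSolvable M)
    (hFp : IsPGroup p ↥(fittingOf M)) : coreP p M = ⊥ := by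
  have hFp' : IsPGroup p ↥(fittingSubgroup ↥M) := IsPGroup.of_equiv hFp
    (((fittingSubgroup ↥M).equivMapOfInjective M.subtype M.subtype_injective).symm)
  haveI := Solv.fittingSubgroup_normal (G := ↥M)
  have hle : fittingSubgroup ↥M ≤ pCore p ↥M := Fusion.le_pCore hFp'
  rw [Bender.coreP, Subgroup.map_eq_bot_iff_of_injective _ M.subtype_injective, ← le_bot_iff,
    ← Fusion.coprime_inf_pGroup (Fusion.card_pPrimeCore_coprime p ↥M) hFp']
  exact le_inf le_rfl ((Fusion.pPrimeCore_commutes_pCore.trans (Subgroup.centralizer_le hle)).trans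
    (Solv.centralizer_fitting_le hs))

/-- Case of a primary Fitting subgroup. -/
theorem fitting_pgroup_case (hG : IsMinSimpleOddOrder G) {M : Subgroup G} (hM : IsCoatom M)
    (hFp : IsPGroup p ↥(fittingOf M)) (P : Sylow p M) :
    ¬ p ∣ ((P : Subgroup M).map M.subtype).index ∧
      ∀ A : Subgroup G, IsSCN ((P : Subgroup M).map M.subtype) A → ¬ PRankLE p 2 ↥A →
        A ≤ fittingOf M ∧ InUniqueMaximal A := by
  have hmin := hG.2
  have hsM := hmin.2.2 M hM.1
  obtain ⟨T, hT⟩ : ∃ T, T = (P : Subgroup M).map M.subtype := ⟨_, rfl⟩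
  rw [← hT]
  have hFpM : IsPGroup p ↥(fittingOf M) := hFp
  have hTsyl : SylIn p T M := hT ▸ Fusion.sylIn_map M P
  have hW := coreP_eq_bot_of_fitting_pgroup hsM hFpM
  have hFT : fittingOf M ≤ T := by
    rw [hT, fittingOf]
    refine Subgroup.map_mono ?_
    haveI := Solv.fittingSubgroup_normal (G := ↥M)
    refine le_trans (Fusion.le_pCore ?_) (Fusion.pCore_le_sylow P)
    exact IsPGroup.of_equiv hFpM
      (((fittingSubgroup ↥M).equivMapOfInjective M.subtype M.subtype_injective).symm)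
  have hpd : p ∣ Nat.card (fittingOf M) ∧ fittingOf M ≠ ⊥ := by
    haveI := hsM
    haveI : Nontrivial ↥M := (Subgroup.nontrivial_iff_ne_bot M).2 (coatom_ne_bot hG hM)
    have hne : fittingOf M ≠ ⊥ := fun h => Solv.fitting_ne_bot hsM
      ((Subgroup.map_eq_bot_iff_of_injective _ M.subtype_injective).1 h)
    obtain ⟨k, hk⟩ := IsPGroup.iff_card.1 hFpM
    exact ⟨hk ▸ dvd_pow_self p fun h0 => hne (Subgroup.card_eq_one.1 (by rw [hk, h0, pow_zero])), hne⟩
  have hp2 : p ≠ 2 := ne_two hG hFpM hpd.2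
  obtain ⟨hZT, hZne, hNZ⟩ := Fact2.zjOf_facts hTsyl.isPGroup
  have hTne : T ≠ ⊥ := fun h => hpd.2 (le_bot_iff.1 (h ▸ hFT))
  have hNT : Subgroup.normalizer (T : Set G) ≤ M := by
    have hMle : M ≤ Subgroup.normalizer (Fact2.zjOf p T : Set G) :=
      le_of_factor_zj hG hp2 hM.1 hTsyl (hW.le.trans bot_le) inf_le_right
    exact hNZ.trans ((hM.le_iff.1 hMle).resolve_left (Transit.normalizer_ne_top hmin.1 (hZne hTne)
      (pgroup_ne_top hG (hTsyl.isPGroup.to_le hZT)))).le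
  obtain ⟨S, hTS⟩ := hTsyl.isPGroup.exists_le_sylow
  have hTS' : T = (S : Subgroup G) := by
    by_contra hne
    have h := SylIn.normalizer_growth hTS hne S.isPGroup'
    exact h.ne (hTsyl.eq_of_le (S.isPGroup'.to_le inf_le_left) h.le (inf_le_right.trans hNT)).symm
  refine ⟨hTS' ▸ S.not_dvd_index, fun A hA hA3 => ?_⟩
  haveI hAc : IsMulCommutative ↥A := ⟨⟨fun a b => Subtype.ext
    (Subgroup.mem_centralizer_iff.1 (Subgroup.mem_inf.1 (hA.2.2.ge b.2)).2 a a.2)⟩⟩
  have hAF : A ≤ fittingOf M := by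
    obtain ⟨R, hAR, hRP, hfac⟩ := Fact2.abelian_factor hsM (odd_subgroup hG M) hp2 P (A := A.subgroupOf M)
      ⟨⟨fun u v => by
        have h := congrArg Subtype.val (hAc.is_comm.comm (⟨u.1.1, u.2⟩ : A) ⟨v.1.1, v.2⟩)
        exact Subtype.ext (Subtype.ext h)⟩⟩
      (fun a ha => by
        obtain ⟨b, hb, hbe⟩ := hT ▸ hA.1 ha
        rwa [Subtype.ext hbe] at hb)
      (fun t ht => mem_normalizer_of_cj_le (by
        rintro _ ⟨a, ha, rfl⟩
        exact ((Subgroup.mem_normalizer_iff.1 (hA.2.1 (hT ▸ Subgroup.mem_map_of_mem M.subtype ht)) _).1 ha :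
          (t : G) * a * (t : G)⁻¹ ∈ A)))
    rw [Bender.coreP, Subgroup.map_eq_bot_iff_of_injective _ M.subtype_injective] at hW
    rw [hW, bot_sup_eq] at hfac
    haveI hRn : R.Normal := Subgroup.normalizer_eq_top_iff.1 hfac
    intro a ha
    have haM : a ∈ M := hTsyl.1 (hA.1 ha)
    refine ⟨⟨a, haM⟩, Solv.pCore_le_fitting p (Fusion.le_pCore ?_ (hAR ha)), rfl⟩
    exact P.isPGroup'.to_le hRP
  refine ⟨hAF, ?_⟩
  have hCA : fittingOf M ⊓ Subgroup.centralizer (A : Set G) ≤ A :=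
    (inf_le_inf_right _ hFT).trans hA.2.2.le
  have hsn : (A.subgroupOf (fittingOf M)).IsSubnormal := by
    haveI : (A.subgroupOf (fittingOf M)).Normal :=
      (Subgroup.normal_subgroupOf_iff_le_normalizer hAF).2 (hFT.trans hA.2.1)
    exact Subgroup.Normal.isSubnormal inferInstance
  have hd : p ∣ Nat.card G := hpd.1.trans (Subgroup.card_subgroup_dvd_card _)
  have hAp : IsPGroup p A := hFpM.to_le hAF
  have hhyp := Transit.hyp_of_transitivityHypothesis
    (Transit.criteria hG hd hAp hAc (Or.inr ⟨S, hTS' ▸ hA⟩))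
  have hnA : ∀ r : ℕ, r.Prime → r ∣ Nat.card (fittingOf M) → r ∣ Nat.card A := fun r hr hrd => by
    obtain ⟨k, hk⟩ := IsPGroup.iff_card.1 hFpM
    rw [hk] at hrd
    rw [(Nat.prime_dvd_prime_iff_eq hr hp.out).1 (hr.dvd_of_dvd_pow hrd)]
    obtain ⟨j, hj⟩ := IsPGroup.iff_card.1 hAp
    rw [hj]
    exact dvd_pow_self p fun h0 => hhyp.1 (Subgroup.card_eq_one.1 (by rw [hj, h0, pow_zero]))
  have hCM : Subgroup.centralizer (A : Set G) ≤ M := by
    refine (Subgroup.centralizer_le ?_).trans ((Subgroup.centralizer_le_normalizer _).trans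
      (Bender.normalizer_ctr (p := p) hmin.1 hM hpd.1).le)
    exact le_trans ((Bender.ctr_central M).trans (inf_le_inf_left _ (Subgroup.centralizer_le hAF))) hCA
  have hZ : ¬ RankLE 2 ↥(A ⊓ Subgroup.centralizer (A : Set G)) := fun h => by
    rw [inf_eq_left.2 (Subgroup.le_centralizer A)] at h
    exact hA3 (h p hp.out)
  refine ⟨M, ⟨hM, hAF.trans (fittingOf_le M)⟩, fun L hL =>
    criterion hG hM (hAF.trans (fittingOf_le M)) hAp hhyp.1 (fun Y hAY hY => ?_) hL.1 hL.2⟩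
  have := finish_inv hG hM hAF hCA hnA hhyp hZ hCM hsn (Y := Y) (fun r hr hrd => ⟨hr, fun hrA => hY (by
    obtain ⟨j, hj⟩ := IsPGroup.iff_card.1 hAp
    rw [hj] at hrA
    rwa [(Nat.prime_dvd_prime_iff_eq hr hp.out).1 (hr.dvd_of_dvd_pow hrA)] at hrd)⟩) hAY
  exact this.le.trans bot_le

/-- A Fitting subgroup of `p`-rank three makes every abelian `p`-subgroup of rank three a uniqueness subgroup. -/
theorem iu_of_fitting_rank (hG : IsMinSimpleOddOrder G) {M : Subgroup G} (hM : IsCoatom M)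
    (hF : ¬ PRankLE p 2 ↥(fittingOf M)) {A : Subgroup G} (hAp : IsPGroup p A) (hAc : IsMulCommutative A)
    (hA3 : ¬ PRankLE p 2 ↥A) : InUniqueMaximal A := by
  obtain ⟨E, hEF, hEe, hE⟩ := exists_elab_of_prank hF
  obtain ⟨E', hE'A, hE'e, hE'⟩ := exists_elab_of_prank hA3
  have h2 : p ^ 2 ≤ p ^ (2 + 1) := Nat.pow_le_pow_right hp.out.pos (by omega)
  suffices hEU : InUniqueMaximal E from
    iu_mono (rank_three_all hG hEe hE hEU hE'e hE') hE'A (pgroup_ne_top hG hAp)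
  by_cases hFp : IsPGroup p ↥(fittingOf M)
  · obtain ⟨P⟩ : Nonempty (Sylow p M) := inferInstance
    obtain ⟨-, hall⟩ := fitting_pgroup_case hG hM hFp P
    have hFP : fittingOf M ≤ (P : Subgroup M).map M.subtype := by
      rw [fittingOf]
      refine Subgroup.map_mono (le_trans ?_ (Fusion.pCore_le_sylow P))
      haveI := Solv.fittingSubgroup_normal (G := ↥M)
      exact Fusion.le_pCore (IsPGroup.of_equiv hFp
        (((fittingSubgroup ↥M).equivMapOfInjective M.subtype M.subtype_injective).symm))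
    obtain ⟨T, hT⟩ : ∃ T, T = (P : Subgroup M).map M.subtype := ⟨_, rfl⟩
    rw [← hT] at hall hFP
    have hTp : IsPGroup p T := hT ▸ P.isPGroup'.map _
    have hTr : ¬ PRankLE p 2 ↥T := not_prankLE_of_elab (hEF.trans hFP) hEe hE
    obtain ⟨A₀, hA₀n, hA₀C, hA₀r⟩ := Fact2.exists_scn_three (ne_two_of_elab hG hEe (h2.trans hE)) hTp hTr
    have hscn : IsSCN T (A₀.map T.subtype) := by
      refine ⟨Subgroup.map_subtype_le A₀, Bender.le_normalizer_map A₀, le_antisymm ?_ ?_⟩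
      · rintro x ⟨hxT, hxC⟩
        refine ⟨⟨x, hxT⟩, ?_, rfl⟩
        show (⟨x, hxT⟩ : ↥T) ∈ A₀
        rw [← hA₀C]
        exact Subgroup.mem_centralizer_iff.2 fun a ha =>
          Subtype.ext (Subgroup.mem_centralizer_iff.1 hxC _ ⟨a, ha, rfl⟩)
      · refine le_inf (Subgroup.map_subtype_le A₀) ?_
        rintro _ ⟨a, ha, rfl⟩
        refine Subgroup.mem_centralizer_iff.2 ?_
        rintro _ ⟨b, hb, rfl⟩
        exact congrArg Subtype.val (Subgroup.mem_centralizer_iff.1 (hA₀C.ge ha) b hb)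
    have hA₀3 : ¬ PRankLE p 2 ↥(A₀.map T.subtype) := fun h => hA₀r (Solv.RankTwo.prankLE_mulEquiv
      (A₀.equivMapOfInjective _ T.subtype_injective).symm h)
    obtain ⟨-, hU⟩ := hall _ hscn hA₀3
    obtain ⟨E₁, hE₁A, hE₁e, hE₁⟩ := exists_elab_of_prank hA₀3
    have hE₁U : InUniqueMaximal E₁ := by
      refine iu_of_commute' hG hU ?_ hE₁e (h2.trans hE₁)
      exact hE₁A.trans (hscn.2.2.ge.trans inf_le_right)
    exact rank_three_all hG hE₁e hE₁ hE₁U hEe hE
  · exact iu_of_commute' hG (iu_fitting_centralizer hG hM hEF hEe hE hFp)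
      (Subgroup.le_centralizer_iff.1 inf_le_right) hEe (h2.trans hE)

end

end Cfsg.Agent.OddLocal.Uniq
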