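import Cfsg.Agent.Lib.OddLocal.PrimeCentralizer

/-!
The maximal subgroups over the centralizers of elements of `M_σ`.
-/

set_option autoImplicit false
set_option linter.style.haveILetI false

namespace Cfsg.Agent.OddLocal.Support

open scoped Pointwise commutatorElement
open Cfsg
open Cfsg.Agent.Fusion (SylIn cj cj_cj cj_eq_self cj_mono card_cj isPGroup_cj exists_sylIn_ge exists_sylIn
  mem_normalizer_of_cj_le)
open Cfsg.Agent.OddLocal.Uniq
open Cfsg.Agent.OddLocal.Sig
open Cfsg.Agent.OddLocal.RankTwo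
open Cfsg.Agent.OddLocal.TauTwo
open Cfsg.Agent.OddLocal.Prime
open Cfsg.Agent.OddLocal.Disjoint (mem_centralizer_zpowers zpowers_card mem_zpowers_of_order elab_cj exists_sq
  cyclic_of_prank tau2_commute conjugate_of_sigma)

universe u

variable {G : Type u} [Group G] [Finite G] {r : ℕ} [hr : Fact r.Prime] {M : Subgroup G}

omit hr in
/-- The centralizer of an element is contained in that of its powers. -/
theorem centralizer_le_pow (x : G) (n : ℕ) :
    Subgroup.centralizer ({x} : Set G) ≤ Subgroup.centralizer (Subgroup.zpowers (x ^ n) : Set G) := fun g hg =>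
  mem_centralizer_zpowers.2 ((show Commute x g from (Subgroup.mem_centralizer_singleton_iff.1 hg).symm).pow_left n).eq

/-- A second maximal subgroup over the normaliser of an element for a prime of `σ(M)` is split by `M`. -/
theorem over_compl (hG : IsMinSimpleOddOrder G) (hM : IsCoatom M) {c : G} (hrσ : r ∈ sigma M) (hcM : c ∈ M)
    (hco : orderOf c = r) {H : Subgroup G} (hH : IsCoatom H)
    (hNH : Subgroup.normalizer (Subgroup.zpowers c : Set G) ≤ H) (hne : H ≠ M) :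
    IsComplIn (M ⊓ H) (sigmaCore H) H ∧ sigmaCore H ⊓ M = ⊥ ∧ Group.IsNilpotent ↥(sigmaCore H) ∧ r ∈ tau2 H := by
  obtain ⟨-, hσH, B, hBM, sB, -⟩ := over_setup hG hM hrσ hcM hco hH hNH hne
  refine ⟨?_, sigmaCore_inf_coatom sB hM (Ne.symm hne) hBM, sigmaCore_nilpotent sB,
    ⟨hr.out, hσH, sB.rank, sB.rank_one⟩⟩
  obtain ⟨E, hE, hBE⟩ := exists_compl_ge hG hH (Y := B) sB.le fun t ht htd => by
    rw [sB.card] at htd
    rw [(Nat.prime_dvd_prime_iff_eq ht hr.out).1 (ht.dvd_of_dvd_pow htd)]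
    exact hσH
  have hEq : H ⊓ Subgroup.normalizer (B : Set G) = E := (complement_tau2 sB hE hBE).2.1.2.1
  have hNB : Subgroup.normalizer (B : Set G) ≤ M :=
    normalizer_le_of_noncyclic hG hM hrσ (Fusion.elab_isPGroup sB.elem) hBM
      (noncyclic_of_card sB.elem sB.card.ge)
  suffices he : M ⊓ H = E by rw [he]; exact hE
  refine le_antisymm (fun z hz => hEq.le ⟨hz.2, normalizes_setup sB hM (Ne.symm hne) hBM hz.2 hz.1⟩)
    (le_inf ((hEq.ge.trans inf_le_right).trans hNB) hE.1)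

omit hr in
/-- A prime of `τ₂(H)` is not in `κ(H)`. -/
theorem not_kappa_of_tau2 {t : ℕ} {H : Subgroup G} (hr2 : t ∈ tau2 H) : t ∉ kappa H := by
  intro h
  haveI := Fact.mk hr2.1
  obtain ⟨-, -, -, hcyc⟩ := h
  obtain ⟨F, hF, hFe, hFc⟩ := exists_sq hr2.2.2.2
  obtain ⟨S, hS, hFS⟩ := exists_sylIn_ge (Fusion.elab_isPGroup hFe) hF
  obtain ⟨T, hT⟩ := exists_sylow hS
  haveI := (hcyc T).1
  refine noncyclic_of_card hFe hFc.ge ?_
  haveI : IsCyclic ↥((T : Subgroup ↥H).map H.subtype) :=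
    isCyclic_of_surjective ((T : Subgroup ↥H).equivMapOfInjective H.subtype H.subtype_injective)
      (MulEquiv.surjective _)
  exact isCyclic_of_injective (Subgroup.inclusion (hT.symm ▸ hFS : F ≤ (T : Subgroup ↥H).map H.subtype))
    (Subgroup.inclusion_injective _)

omit hr in
/-- The maximal subgroup over the centralizer of an element of `M_σ` not contained in `M`. -/
theorem over_centralizer (hG : IsMinSimpleOddOrder G) (hM : IsCoatom M) {x : G} (hx : x ∈ sigmaCore M)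
    (hx1 : x ≠ 1) (hxM : ¬ Subgroup.centralizer ({x} : Set G) ≤ M) :
    ∃ H : Subgroup G, IsCoatom H ∧ Subgroup.centralizer ({x} : Set G) ≤ H ∧
      (∀ L : Subgroup G, IsCoatom L → Subgroup.centralizer ({x} : Set G) ≤ L → L = H) ∧
      IsComplIn (M ⊓ H) (sigmaCore H) H ∧ sigmaCore H ⊓ M = ⊥ ∧ Group.IsNilpotent ↥(sigmaCore H) ∧
      sigmaCore H ⊓ Subgroup.centralizer ({x} : Set G) ≠ ⊥ ∧
      ∀ t : ℕ, t.Prime → t ∣ orderOf x → t ∈ tau2 H := by
  have hσM : sigmaCore M ≤ M := Subgroup.map_subtype_le _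
  obtain ⟨r, n, hr, hrd, hxn⟩ := exists_prime_power_order hx1
  haveI := Fact.mk hr
  have hrσ : r ∈ sigma M := (sigmaCore_hall hG hM).1.2.1 r hr (hrd.trans (Subgroup.orderOf_dvd_natCard _ hx))
  obtain ⟨H, hH, hNH, -⟩ := exists_over hG hxn
  have hCH : Subgroup.centralizer ({x} : Set G) ≤ H :=
    ((centralizer_le_pow x n).trans (Subgroup.centralizer_le_normalizer _)).trans hNH
  have hne : H ≠ M := fun h => hxM (h ▸ hCH)
  obtain ⟨hcompl, hinf, hnil, hr2⟩ := over_compl hG hM hrσ (pow_mem (hσM hx) n) hxn hH hNH hne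
  have hxH : x ∈ H := hCH (Subgroup.mem_centralizer_singleton_iff.2 rfl)
  have hfix : sigmaCore H ⊓ Subgroup.centralizer ({x} : Set G) ≠ ⊥ := by
    intro hbot
    refine hxM fun g hg => ?_
    obtain ⟨a, ha, b, hb, rfl⟩ := hcompl.2.2.2 g (hCH hg)
    have hcomm : (a * b) * x = x * (a * b) := Subgroup.mem_centralizer_singleton_iff.1 hg
    -- both factors commute with `x`
    have hbn : x * b * x⁻¹ ∈ sigmaCore H :=
      (Subgroup.mem_normalizer_iff.1 (le_normalizer_piCoreOf hxH) b).1 hb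
    have h1 : a⁻¹ * x * a * x⁻¹ ∈ sigmaCore H ⊓ M := by
      refine ⟨?_, M.mul_mem (M.mul_mem (M.mul_mem (M.inv_mem ha.1) (hσM hx)) ha.1) (M.inv_mem (hσM hx))⟩
      rw [show a⁻¹ * x * a * x⁻¹ = b * (x * b * x⁻¹)⁻¹ by
        calc a⁻¹ * x * a * x⁻¹ = a⁻¹ * (x * (a * b)) * b⁻¹ * x⁻¹ := by group
          _ = a⁻¹ * (a * b * x) * b⁻¹ * x⁻¹ := by rw [hcomm]
          _ = _ := by group]
      exact Subgroup.mul_mem _ hb (Subgroup.inv_mem _ hbn)
    rw [hinf, Subgroup.mem_bot] at h1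
    have hax : Commute a x := by
      have h2 : a⁻¹ * x * a = x := mul_inv_eq_one.1 h1
      calc a * x = a * (a⁻¹ * x * a) := by rw [h2]
        _ = x * a := by group
    have hbx : Commute b x := by
      calc b * x = a⁻¹ * (a * b * x) := by group
        _ = a⁻¹ * (x * (a * b)) := by rw [hcomm]
        _ = a⁻¹ * (x * a) * b := by group
        _ = _ := by rw [← hax.eq]; group
    have h3 : b ∈ sigmaCore H ⊓ Subgroup.centralizer ({x} : Set G) :=
      ⟨hb, Subgroup.mem_centralizer_singleton_iff.2 hbx.eq⟩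
    rw [hbot, Subgroup.mem_bot] at h3
    rw [h3, mul_one]
    exact ha.1
  obtain ⟨u, hu, hu1⟩ := exists_ne_one hfix
  have hux : x * u = u * x := (Subgroup.mem_centralizer_singleton_iff.1 hu.2).symm
  have hσ' : ∀ t : ℕ, t.Prime → t ∣ orderOf x → t ∉ sigma H := fun t ht htd hσ => by
    haveI := Fact.mk ht
    have hwo : orderOf (x ^ (orderOf x / t)) = t := orderOf_pow_orderOf_div (orderOf_pos x).ne' htd
    exact ne_one_of_order hwo (Subgroup.mem_bot.1 (hinf ▸ Subgroup.mem_inf.2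
      ⟨mem_sigmaCore hG hH (pow_mem hxH _) (k := 1) (by rw [pow_one, hwo]) hσ, pow_mem (hσM hx) _⟩))
  have hτ : ∀ t : ℕ, t.Prime → t ∣ orderOf x → t ∈ tau2 H := by
    refine (fixed_dichotomy hG hH hxH hu.1 hu1 hux hx1 hσ').resolve_left fun h => ?_
    exact not_kappa_of_tau2 hr2 (h.1 r hr hrd)
  refine ⟨H, hH, hCH, ?_, hcompl, hinf, hnil, hfix, hτ⟩
  obtain ⟨E, hE⟩ := exists_compl hG hH
  exact (element_unique hG hH hE hxH hx1 hτ hu.1 hu1 hux).2

omit hr in
/-- The conjugates of `M` holding an element `x` of `M_σ` are obtained inside its centralizer. -/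
theorem transport (hG : IsMinSimpleOddOrder G) (hM : IsCoatom M) {x : G} (hx : x ∈ sigmaCore M) (hx1 : x ≠ 1)
    {g : G} (hxg : x ∈ cj M g) :
    ∃ ρ : G, ρ * x = x * ρ ∧ cj M ρ = cj M g ∧
      (ρ = 1 ∨ ¬ Subgroup.centralizer ({x} : Set G) ≤ M ∧
        ∀ L : Subgroup G, IsCoatom L → Subgroup.centralizer ({x} : Set G) ≤ L → ρ ∈ sigmaCore L) := by
  have hσM : sigmaCore M ≤ M := Subgroup.map_subtype_le _
  obtain ⟨r, n, hr, hrd, hxn⟩ := exists_prime_power_order hx1
  haveI := Fact.mk hr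
  have hrσ : r ∈ sigma M := (sigmaCore_hall hG hM).1.2.1 r hr (hrd.trans (Subgroup.orderOf_dvd_natCard _ hx))
  have hle : cj (Subgroup.zpowers (x ^ n)) g⁻¹ ≤ M := by
    have h1 : Subgroup.zpowers (x ^ n) ≤ cj M g := Subgroup.zpowers_le.2 (pow_mem hxg n)
    exact (cj_mono h1 g⁻¹).trans (Fusion.cj_cj_inv M g).le
  obtain ⟨m, hm, d, hd, hmd⟩ := conj_factor hG hrσ hM _ (isPGroup_of_card (zpowers_card hxn))
    (ne_bot_of_card (zpowers_card hxn)) (Subgroup.zpowers_le.2 (pow_mem (hσM hx) n)) g⁻¹ hle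
  obtain ⟨H, hH, hNH, -⟩ := exists_over hG hxn
  have hdH : d ∈ H := hNH (Subgroup.centralizer_le_normalizer _ hd)
  have hg : cj M g = cj M d⁻¹ := by
    rw [show g = d⁻¹ * m⁻¹ by rw [← mul_inv_rev, ← hmd, inv_inv], ← cj_cj,
      Fusion.cj_eq_self_of_mem (inv_mem hm)]
  by_cases hne : H = M
  · exact ⟨1, by rw [one_mul, mul_one],
      by rw [hg, Fusion.cj_one, Fusion.cj_eq_self_of_mem (inv_mem (hne ▸ hdH))], Or.inl rfl⟩
  obtain ⟨hcompl, hinf, -, -⟩ := over_compl hG hM hrσ (pow_mem (hσM hx) n) hxn hH hNH hne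
  obtain ⟨a, ha, b, hb, rfl⟩ := hcompl.2.2.2 d hdH
  have hρ : cj M b⁻¹ = cj M g := by
    rw [hg, mul_inv_rev, ← cj_cj, Fusion.cj_eq_self_of_mem (inv_mem ha.1)]
  have hxρ : b * x * b⁻¹ ∈ M := by
    have h1 := hρ.symm ▸ hxg
    obtain ⟨y, hy, rfl⟩ := h1
    show b * (b⁻¹ * y * b⁻¹⁻¹) * b⁻¹ ∈ M
    simpa [mul_assoc] using hy
  have hCH : Subgroup.centralizer ({x} : Set G) ≤ H :=
    ((centralizer_le_pow x n).trans (Subgroup.centralizer_le_normalizer _)).trans hNH
  have hxH : x ∈ H := hCH (Subgroup.mem_centralizer_singleton_iff.2 rfl)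
  have h1 : b * x * b⁻¹ * x⁻¹ ∈ sigmaCore H ⊓ M := by
    refine ⟨?_, M.mul_mem hxρ (M.inv_mem (hσM hx))⟩
    rw [mul_assoc, mul_assoc, ← mul_assoc x]
    exact Subgroup.mul_mem _ hb ((Subgroup.mem_normalizer_iff.1 (le_normalizer_piCoreOf hxH) _).1 (inv_mem hb))
  rw [hinf, Subgroup.mem_bot] at h1
  have hbx : b * x = x * b := mul_inv_eq_iff_eq_mul.1 (mul_inv_eq_one.1 h1)
  refine ⟨b⁻¹, (Commute.inv_left (show Commute b x from hbx)).eq, hρ, ?_⟩
  by_cases hxM : Subgroup.centralizer ({x} : Set G) ≤ M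
  · left
    have h2 : b ∈ sigmaCore H ⊓ M := ⟨hb, hxM (Subgroup.mem_centralizer_singleton_iff.2 hbx)⟩
    rw [hinf, Subgroup.mem_bot] at h2
    rw [h2, inv_one]
  · refine Or.inr ⟨hxM, fun L hL hCL => ?_⟩
    obtain ⟨H', -, -, hu, -⟩ := over_centralizer hG hM hx hx1 hxM
    rw [hu L hL hCL, ← hu H hH hCH]
    exact inv_mem hb

omit hr in
/-- The centralizer of `x` is split by `C_M(x)` and `C_{H_σ}(x)`. -/
theorem centralizer_compl (hG : IsMinSimpleOddOrder G) (hM : IsCoatom M) {x : G} (hx : x ∈ sigmaCore M)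
    {H : Subgroup G} (hH : IsCoatom H) (hCH : Subgroup.centralizer ({x} : Set G) ≤ H)
    (hcompl : IsComplIn (M ⊓ H) (sigmaCore H) H) (hinf : sigmaCore H ⊓ M = ⊥) :
    Subgroup.centralizer ({x} : Set G) ≤
        Subgroup.normalizer ((sigmaCore H ⊓ Subgroup.centralizer ({x} : Set G) : Subgroup G) : Set G) ∧
      IsComplIn (M ⊓ Subgroup.centralizer ({x} : Set G)) (sigmaCore H ⊓ Subgroup.centralizer ({x} : Set G))
        (Subgroup.centralizer ({x} : Set G)) ∧
      (Nat.card ↥(M ⊓ Subgroup.centralizer ({x} : Set G))).Coprime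
        ((M ⊓ Subgroup.centralizer ({x} : Set G)).relIndex (Subgroup.centralizer ({x} : Set G))) := by
  set C := Subgroup.centralizer ({x} : Set G) with hC
  have hσn : H ≤ Subgroup.normalizer (sigmaCore H : Set G) := le_normalizer_piCoreOf
  have hn : C ≤ Subgroup.normalizer ((sigmaCore H ⊓ C : Subgroup G) : Set G) := fun g hg =>
    mem_normalizer_of_cj_le (by
      rw [Fusion.cj_inf, cj_eq_self (hσn (hCH hg)), Fusion.cj_eq_self_of_mem hg])
  have hxH : x ∈ H := hCH (Subgroup.mem_centralizer_singleton_iff.2 rfl)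
  have hxM : x ∈ M := (Subgroup.map_subtype_le _ : sigmaCore M ≤ M) hx
  have hcomp : IsComplIn (M ⊓ C) (sigmaCore H ⊓ C) C := by
    refine ⟨inf_le_right, inf_le_right, eq_bot_iff.2 fun z hz => hinf.le ⟨hz.2.1, hz.1.1⟩, fun g hg => ?_⟩
    obtain ⟨a, ha, b, hb, rfl⟩ := hcompl.2.2.2 g (hCH hg)
    have hcomm : (a * b) * x = x * (a * b) := Subgroup.mem_centralizer_singleton_iff.1 hg
    have h1 : a⁻¹ * x * a * x⁻¹ ∈ sigmaCore H ⊓ M := by
      refine ⟨?_, M.mul_mem (M.mul_mem (M.mul_mem (M.inv_mem ha.1) hxM) ha.1) (M.inv_mem hxM)⟩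
      rw [show a⁻¹ * x * a * x⁻¹ = b * (x * b * x⁻¹)⁻¹ by
        calc a⁻¹ * x * a * x⁻¹ = a⁻¹ * (x * (a * b)) * b⁻¹ * x⁻¹ := by group
          _ = a⁻¹ * (a * b * x) * b⁻¹ * x⁻¹ := by rw [hcomm]
          _ = _ := by group]
      exact Subgroup.mul_mem _ hb (Subgroup.inv_mem _ ((Subgroup.mem_normalizer_iff.1 (hσn hxH) b).1 hb))
    rw [hinf, Subgroup.mem_bot] at h1
    have hax : a ∈ C := Subgroup.mem_centralizer_singleton_iff.2 (by
      have h2 : a⁻¹ * x * a = x := mul_inv_eq_one.1 h1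
      calc a * x = a * (a⁻¹ * x * a) := by rw [h2]
        _ = x * a := by group)
    exact ⟨a, ⟨ha.1, hax⟩, b, ⟨hb, by simpa using C.mul_mem (C.inv_mem hax) hg⟩, rfl⟩
  refine ⟨hn, hcomp, ?_⟩
  obtain ⟨hA, hB, hI, hp⟩ := hcomp
  have hc : Subgroup.IsComplement' ((M ⊓ C).subgroupOf C) ((sigmaCore H ⊓ C).subgroupOf C) := by
    refine Subgroup.isComplement'_of_disjoint_and_mul_eq_univ ?_ ?_
    · rw [disjoint_iff, eq_bot_iff]
      intro z hz
      exact Subgroup.mem_bot.2 (Subtype.ext (Subgroup.mem_bot.1 (hI ▸ ⟨hz.1, hz.2⟩ : (z : G) ∈ (⊥ : Subgroup G))))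
    · refine Set.eq_univ_of_forall fun z => ?_
      obtain ⟨a, ha, b, hb, e⟩ := hp z z.2
      exact ⟨⟨a, hA ha⟩, ha, ⟨b, hB hb⟩, hb, Subtype.ext e.symm⟩
  rw [show (M ⊓ C).relIndex C = Nat.card ↥(sigmaCore H ⊓ C : Subgroup G) from
    hc.symm.index_eq_card.trans (Solv.card_subgroupOf hB)]
  refine Nat.coprime_of_dvd fun t ht h1 h2 => compl_pi hG hH hcompl ht (h1.trans (Subgroup.card_dvd_of_le ?_))
    ((sigmaCore_hall hG hH).1.2.1 t ht (h2.trans (Subgroup.card_dvd_of_le inf_le_left)))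
  exact le_inf inf_le_left (inf_le_right.trans hCH)

omit hr in
/-- The normal nilpotent Hall subgroups lie in `M_σ`. -/
theorem fittingHallOf_le (hG : IsMinSimpleOddOrder G) (hM : IsCoatom M) : fittingHallOf M ≤ sigmaCore M := by
  refine Subgroup.map_mono (sSup_le fun N ⟨hN, hnil, hco⟩ => le_piCore _ fun q hq hd => ?_)
  haveI := Fact.mk hq
  haveI := hN
  haveI := hnil
  have hqM : q ∣ Nat.card M := hd.trans (Subgroup.card_subgroup_dvd_card N)
  obtain ⟨S⟩ : Nonempty (Sylow q N) := inferInstance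
  haveI hSn : (S : Subgroup N).Normal :=
    Sylow.normal_of_normalizerCondition Group.normalizerCondition_of_isNilpotent S
  haveI hSc : (S : Subgroup N).Characteristic := S.characteristic_of_normal hSn
  set T : Subgroup M := (S : Subgroup N).map N.subtype with hT
  haveI hTn : T.Normal := ConjAct.normal_of_characteristic_of_normal
  have hTp : IsPGroup q T := S.isPGroup'.map _
  have hidx : ¬ q ∣ T.index := by
    rw [hT, Subgroup.index_map_subtype]
    exact hq.not_dvd_mul S.not_dvd_index fun h => hq.ne_one (Nat.eq_one_of_dvd_coprimes hco hd h)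
  refine ⟨hq, hqM, (hTp.toSylow hidx), ?_⟩
  rw [IsPGroup.toSylow_coe]
  have hne : T.map M.subtype ≠ ⊥ := by
    rw [Ne, Subgroup.map_eq_bot_iff_of_injective _ M.subtype_injective]
    intro h
    exact hidx (by rw [h, Subgroup.index_bot]; exact hqM)
  have hle : M ≤ Subgroup.normalizer ((T.map M.subtype : Subgroup G) : Set G) :=
    (MonoidHom.range_eq_map M.subtype ▸ M.range_subtype).ge.trans
      (((Subgroup.map_mono (Subgroup.normalizer_eq_top T).ge).trans (Subgroup.le_normalizer_map M.subtype)))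
  exact ((hM.le_iff).1 hle).elim (fun h => absurd h (normalizer_pgroup_ne_top hG (hTp.map _) hne)) fun h => h.le

omit hr in
/-- A nilpotent `M_σ` is the largest normal nilpotent Hall subgroup. -/
theorem fittingHallOf_eq (hG : IsMinSimpleOddOrder G) (hM : IsCoatom M)
    (hnil : Group.IsNilpotent ↥(sigmaCore M)) : sigmaCore M = fittingHallOf M := by
  refine le_antisymm (Subgroup.map_mono (le_sSup ⟨inferInstance, ?_, ?_⟩)) (fittingHallOf_le hG hM)
  · haveI : Group.IsNilpotent ↥((piCore (sigma M) M).map M.subtype) := hnil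
    exact Group.nilpotent_of_mulEquiv
      (Subgroup.equivMapOfInjective (piCore (sigma M) M) M.subtype M.subtype_injective).symm
  · have h := (sigmaCore_hall hG hM).1
    have hc : Nat.card (piCore (sigma M) M) = Nat.card (sigmaCore M) :=
      (Subgroup.card_map_of_injective M.subtype_injective).symm
    have hi : (piCore (sigma M) M).index = (sigmaCore M).relIndex M := by
      rw [sigmaCore, Subgroup.relIndex, Subgroup.subgroupOf, Subgroup.comap_map_eq_self_of_injective M.subtype_injective]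
    rw [hc, hi]
    exact Nat.coprime_of_dvd fun t ht h1 h2 => h.2.2 t ht (h.2.1 t ht h1) h2

end Cfsg.Agent.OddLocal.Support
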