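import Cfsg.Agent.Lib.OddLocal.PrimeDerived
import Cfsg.Agent.Lib.OddLocal.Support

/-!
The prime action of a Hall `κ(M)`-subgroup on `M_σ`.
-/

set_option autoImplicit false
set_option linter.style.haveILetI false

namespace Cfsg.Agent.OddLocal.Kappa

open scoped Pointwise commutatorElement
open Cfsg
open Cfsg.Agent.Fusion (SylIn cj cj_cj cj_eq_self cj_mono card_cj isPGroup_cj exists_sylIn_ge exists_sylIn
  mem_normalizer_of_cj_le)
open Cfsg.Agent.OddLocal.Uniq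
open Cfsg.Agent.OddLocal.Sig
open Cfsg.Agent.OddLocal.RankTwo
open Cfsg.Agent.OddLocal.TauTwo
open Cfsg.Agent.OddLocal.Prime
open Cfsg.Agent.OddLocal.Disjoint (mem_centralizer_zpowers zpowers_card mem_zpowers_of_order elab_cj
  cyclic_of_prank conjugate_of_sigma)

universe u

variable {G : Type u} [Group G] [Finite G] {M E K : Subgroup G}

theorem rank_one (hG : IsMinSimpleOddOrder G) (hM : IsCoatom M) {t : ℕ} (h : t ∈ kappa M) : PRankLE t 1 ↥M :=
  ((classify hG hM h.1 h.2.2.1 h.2.1).resolve_left fun h2 => Support.not_kappa_of_tau2 h2 h).elim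
    (fun h => h.2.2.2.2) fun h => h.2.2.2

/-- An element of prime order of `κ(M)` has a fixed point of prime order on `M_σ`. -/
theorem exists_fixed {x : G} {t : ℕ} [ht : Fact t.Prime] (hκ : t ∈ kappa M) (hxM : x ∈ M) (hxo : orderOf x = t) :
    ∃ (r : ℕ) (c : G), r.Prime ∧ c ∈ sigmaCore M ∧ orderOf c = r ∧ x * c = c * x := by
  obtain ⟨S, hS, hxS⟩ := exists_sylIn_ge (isPGroup_of_card (zpowers_card hxo)) (Subgroup.zpowers_le.2 hxM)
  obtain ⟨P, hP⟩ := exists_sylow hS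
  obtain ⟨hc, a, haP, ha1, y, hy, hy1, hay⟩ := hκ.2.2.2 P
  have hSc : IsCyclic ↥S := by
    haveI := hc
    rw [← hP]
    exact isCyclic_of_surjective ((P : Subgroup ↥M).equivMapOfInjective M.subtype M.subtype_injective)
      (MulEquiv.surjective _)
  have haS : (a : G) ∈ S := hP ▸ Subgroup.mem_map_of_mem M.subtype haP
  obtain ⟨j, hj⟩ := IsPGroup.iff_card.1 (hS.isPGroup.to_le (Subgroup.zpowers_le.2 haS))
  rw [Nat.card_zpowers] at hj
  have hj0 : j ≠ 0 := fun h => ha1 (Subtype.ext (orderOf_eq_one_iff.1 (by rw [hj, h, pow_zero]) : (a : G) = 1))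
  set b := (a : G) ^ (orderOf (a : G) / t)
  have hbo : orderOf b = t := orderOf_pow_orderOf_div (orderOf_pos _).ne' (hj ▸ dvd_pow_self t hj0)
  have heq : Subgroup.zpowers b = Subgroup.zpowers x := cyclic_eq hSc (Subgroup.zpowers_le.2 (pow_mem haS _)) hxS
    (zpowers_card hbo) (zpowers_card hxo)
  obtain ⟨r, n, hr, -, hyn⟩ := exists_prime_power_order hy1
  refine ⟨r, y ^ n, hr, pow_mem hy n, hyn, ?_⟩
  obtain ⟨i, hi⟩ := Subgroup.mem_zpowers_iff.1 (heq.ge (Subgroup.mem_zpowers x))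
  rw [← hi]
  exact ((((show Commute (a : G) y from hay).pow_left _).zpow_left i).pow_right n).eq

/-- An element of prime power order fixes what its socle fixes on `M_σ`. -/
theorem fixes_of_socle (hG : IsMinSimpleOddOrder G) (hM : IsCoatom M) {u y : G} {t k : ℕ} [ht : Fact t.Prime]
    (huM : u ∈ M) (huo : orderOf u = t ^ (k + 1)) (hσt : t ∉ sigma M) (ht1 : PRankLE t 1 ↥M)
    (hy : y ∈ sigmaCore M) (hfix : u ^ t ^ k * y = y * u ^ t ^ k) : u * y = y * u := by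
  by_cases hy1 : y = 1
  · rw [hy1, mul_one, one_mul]
  obtain ⟨r, n, hr, -, hyn⟩ := exists_prime_power_order hy1
  haveI := Fact.mk hr
  have hwo : orderOf (u ^ t ^ k) = t := by
    rw [orderOf_pow' u (pow_ne_zero _ ht.out.ne_zero), huo,
      Nat.gcd_eq_right (pow_dvd_pow t k.le_succ), pow_succ', Nat.mul_div_cancel _ (pow_pos ht.out.pos k)]
  obtain ⟨L, hL, hNL, hCL⟩ := exists_over hG hwo
  have htL : t ∈ sigma L := sigma_over hG hM (pow_mem huM _) hwo hσt ht1 (pow_mem hy n) hyn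
    ((show Commute _ y from hfix).pow_right n).eq hL hNL
  exact (cores_commute hG hM hL (over_not_conj hG hσt ht1 hL hwo hNL) hy (hCL y hfix)
    (mem_sigmaCore hG hL (hCL u ((Commute.refl u).pow_left _).eq) huo htL) huM).symm

/-- A prime of `κ(M)` dividing `|M'|` puts all primes outside `σ(M)` into `κ(M)`. -/
theorem kappa_all (hG : IsMinSimpleOddOrder G) (hM : IsCoatom M) {t : ℕ} (hκ : t ∈ kappa M)
    (htd : t ∣ Nat.card ↥⁅M, M⁆) {s : ℕ} (hs : s.Prime) (hσs : s ∉ sigma M) (hsM : s ∣ Nat.card M) :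
    s ∈ kappa M := by
  haveI := Fact.mk hκ.1
  haveI := Fact.mk hs
  obtain ⟨⟨x, hxd⟩, hxo⟩ := exists_prime_orderOf_dvd_card' t htd
  rw [Subgroup.orderOf_mk] at hxo
  have hxM : x ∈ M := Subgroup.commutator_le_self M hxd
  obtain ⟨r, c, hr, hc, hco, hxc⟩ := exists_fixed hκ hxM hxo
  haveI := Fact.mk hr
  have ht1 := rank_one hG hM hκ
  obtain ⟨E, hE, hxE⟩ := exists_compl_ge hG hM (Subgroup.zpowers_le.2 hxM) fun u hu hud => by
    rw [zpowers_card hxo] at hud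
    rw [(Nat.prime_dvd_prime_iff_eq hu hκ.1).1 hud]
    exact hκ.2.2.1
  have hEc := compl_centralizes hG hM hE hxo hκ.2.2.1 ht1 hxd (hxE (Subgroup.mem_zpowers x))
    (Subgroup.mem_inf.2 ⟨hc, mem_centralizer_zpowers.2 hxc⟩)
  have hsE : s ∣ Nat.card E := by
    have h1 : s ∣ Nat.card (sigmaCore M) * Nat.card E := by
      rw [mul_comm, (compl_card hE).2]
      exact hsM
    exact ((Nat.Prime.dvd_mul hs).1 h1).resolve_left fun h => hσs ((sigmaCore_hall hG hM).1.2.1 s hs h)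
  obtain ⟨⟨e, he⟩, heo⟩ := exists_prime_orderOf_dvd_card' s hsE
  rw [Subgroup.orderOf_mk] at heo
  rcases fixed_class hG hM (hE.1 he) hc (ne_one_of_order hco) (Subgroup.mem_centralizer_iff.1 hEc e he) hs
    (heo ▸ dvd_rfl) hσs with h | h
  · exact h.1
  · exact (tau2_empty hG hM hxd hxo hκ.2.2.1 ht1 hc hco hxc h).elim

/-- A Hall `κ(M)`-subgroup is commutative or a complement of `M_σ`. -/
theorem kappa_cases (hG : IsMinSimpleOddOrder G) (hM : IsCoatom M) (hK : IsPiHallOf (kappa M) K M)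
    (hE : IsComplIn E (sigmaCore M) M) (hKE : K ≤ E) :
    ((∀ t ∈ kappa M, ¬ t ∣ Nat.card ↥⁅M, M⁆) ∧ ∀ a ∈ K, ∀ b ∈ K, a * b = b * a) ∨
      (K = E ∧ ∀ t : ℕ, t.Prime → t ∣ Nat.card M → t ∉ sigma M → t ∈ kappa M) := by
  by_cases h : ∀ t ∈ kappa M, ¬ t ∣ Nat.card ↥⁅M, M⁆
  · refine Or.inl ⟨h, fun a ha b hb => commutatorElement_eq_one_iff_mul_comm.1 (orderOf_eq_one_iff.1 ?_)⟩
    by_contra hne
    obtain ⟨t, ht, htd⟩ := Nat.exists_prime_and_dvd hne
    refine h t (hK.2.1 t ht (htd.trans (Subgroup.orderOf_dvd_natCard K ?_))) (htd.trans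
      (Subgroup.orderOf_dvd_natCard _ (Subgroup.commutator_mem_commutator (hK.1 ha) (hK.1 hb))))
    exact Subgroup.commutator_le_self K (Subgroup.commutator_mem_commutator ha hb)
  push Not at h
  obtain ⟨t, hκ, htd⟩ := h
  have hall : ∀ s : ℕ, s.Prime → s ∣ Nat.card M → s ∉ sigma M → s ∈ kappa M :=
    fun s hs h1 h2 => kappa_all hG hM hκ htd hs h2 h1
  refine Or.inr ⟨le_antisymm hKE (Subgroup.relIndex_eq_one.1 ?_), hall⟩
  by_contra hne
  obtain ⟨s, hs, hsd⟩ := Nat.exists_prime_and_dvd hne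
  have hsE : s ∣ Nat.card E := hsd.trans (Subgroup.relIndex_dvd_card _ _)
  refine hK.2.2 s hs (hall s hs (hsE.trans (Subgroup.card_dvd_of_le hE.1)) (compl_pi hG hM hE hs hsE)) ?_
  rw [← Subgroup.relIndex_mul_relIndex K E M hKE hE.1]
  exact hsd.mul_right _

theorem exists_compl_ge_hall (hG : IsMinSimpleOddOrder G) (hM : IsCoatom M) (hK : IsPiHallOf (kappa M) K M) :
    ∃ E : Subgroup G, IsComplIn E (sigmaCore M) M ∧ K ≤ E :=
  exists_compl_ge hG hM hK.1 fun t ht htd => (hK.2.1 t ht htd).2.2.1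

/-- The elements of prime order of a Hall `κ(M)`-subgroup have the same fixed points on `M_σ`. -/
theorem fixed_pair (hG : IsMinSimpleOddOrder G) (hM : IsCoatom M) (hK : IsPiHallOf (kappa M) K M) {k l : G}
    {t s : ℕ} [ht : Fact t.Prime] [hs : Fact s.Prime] (hk : k ∈ K) (hl : l ∈ K) (hko : orderOf k = t)
    (hlo : orderOf l = s) :
    sigmaCore M ⊓ Subgroup.centralizer (Subgroup.zpowers k : Set G) ≤
      Subgroup.centralizer (Subgroup.zpowers l : Set G) := by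
  obtain ⟨E, hE, hKE⟩ := exists_compl_ge_hall hG hM hK
  have htκ : t ∈ kappa M := hK.2.1 t ht.out (hko ▸ Subgroup.orderOf_dvd_natCard K hk)
  have hsκ : s ∈ kappa M := hK.2.1 s hs.out (hlo ▸ Subgroup.orderOf_dvd_natCard K hl)
  have ht1 := rank_one hG hM htκ
  rcases kappa_cases hG hM hK hE hKE with ⟨h, hcomm⟩ | ⟨rfl, hall⟩
  · exact fixed_le_centralizer hG hM (hK.1 hk) hko htκ.2.2.1 ht1 (h t htκ) (hK.1 hl) hlo hsκ.2.2.1 (hcomm l hl k hk)
  -- in this case an element of `M'` has its fixed points centralized by `K`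
  have hderived : ∀ {x : G} {u : ℕ} [Fact u.Prime], x ∈ K → x ∈ ⁅M, M⁆ → orderOf x = u →
      sigmaCore M ⊓ Subgroup.centralizer (Subgroup.zpowers x : Set G) ≤ Subgroup.centralizer (K : Set G) := by
    intro x u _ hx hxd hxo
    have huκ : u ∈ kappa M := hK.2.1 u Fact.out (hxo ▸ Subgroup.orderOf_dvd_natCard K hx)
    exact compl_centralizes hG hM hE hxo huκ.2.2.1 (rank_one hG hM huκ) hxd hx
  have hlK : ∀ {z : G}, z ∈ Subgroup.centralizer (K : Set G) → z ∈ Subgroup.centralizer (Subgroup.zpowers l : Set G) :=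
    fun {z} hz => mem_centralizer_zpowers.2 (Subgroup.mem_centralizer_iff.1 hz l hl)
  by_cases htd : t ∣ Nat.card ↥⁅M, M⁆
  · obtain ⟨P, hP, hkP⟩ := exists_sylIn_ge (isPGroup_of_card (zpowers_card hko)) (Subgroup.zpowers_le.2 hk)
    have hkd : k ∈ ⁅M, M⁆ := Subgroup.commutator_mono hE.1 hE.1
      (tau3_sylow hG hM hE ⟨ht.out, htκ.2.2.1, htd, ht1⟩ hP (hkP (Subgroup.mem_zpowers k)))
    exact fun z hz => hlK (hderived hk hkd hko hz)
  by_cases hall1 : ∀ u ∈ kappa M, ¬ u ∣ Nat.card ↥⁅M, M⁆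
  · have hcomm : l * k = k * l := commutatorElement_eq_one_iff_mul_comm.1 (orderOf_eq_one_iff.1 (by
      by_contra hne
      obtain ⟨u, hu, hud⟩ := Nat.exists_prime_and_dvd hne
      exact hall1 u (hK.2.1 u hu (hud.trans (Subgroup.orderOf_dvd_natCard K
        (Subgroup.commutator_le_self K (Subgroup.commutator_mem_commutator hl hk)))))
        (hud.trans (Subgroup.orderOf_dvd_natCard _ (Subgroup.commutator_mem_commutator (hK.1 hl) (hK.1 hk))))))
    exact fixed_le_centralizer hG hM (hK.1 hk) hko htκ.2.2.1 ht1 htd (hK.1 hl) hlo hsκ.2.2.1 hcomm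
  push Not at hall1
  obtain ⟨q, hqκ, hqd⟩ := hall1
  haveI := Fact.mk hqκ.1
  obtain ⟨P, hP⟩ := exists_sylIn (p := q) K
  have hq1 := rank_one hG hM hqκ
  have hPd : P ≤ ⁅M, M⁆ := (tau3_sylow hG hM hE ⟨hqκ.1, hqκ.2.2.1, hqd, hq1⟩ hP).trans
    (Subgroup.commutator_mono hE.1 hE.1)
  have hqK : q ∣ Nat.card K := by
    by_contra hno
    refine hK.2.2 q hqκ.1 hqκ ?_
    have h1 := Subgroup.relIndex_mul_relIndex ⊥ K M bot_le hK.1
    rw [Subgroup.relIndex_bot_left, Subgroup.relIndex_bot_left] at h1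
    exact ((Nat.Prime.dvd_mul hqκ.1).1 (h1.symm ▸ hqκ.2.1)).resolve_left hno
  have hqP : q ∣ Nat.card P := by
    have h1 := Subgroup.relIndex_mul_relIndex ⊥ P K bot_le hP.le
    rw [Subgroup.relIndex_bot_left, Subgroup.relIndex_bot_left] at h1
    exact ((Nat.Prime.dvd_mul hqκ.1).1 (h1.symm ▸ hqK)).resolve_right hP.not_dvd
  obtain ⟨⟨x, hxP⟩, hxo⟩ := exists_prime_orderOf_dvd_card' q hqP
  rw [Subgroup.orderOf_mk] at hxo
  obtain ⟨r, c, hr, hc, hco, hxc⟩ := exists_fixed hqκ (hK.1 (hP.le hxP)) hxo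
  haveI := Fact.mk hr
  have hC := hderived (hP.le hxP) (hPd hxP) hxo
  have hkx : x * k = k * x := by
    by_contra hne
    exact no_mover hG hM (hK.1 (hP.le hxP)) (hK.1 hk) hxo hko hqκ.2.2.1 htκ.2.2.1 hq1 ht1
      (compl_le_normalizer hG hM hE hxo (hPd hxP) (hP.le hxP) hq1 hk) (fun h => hne h.symm) hc hco hxc
      (Subgroup.mem_centralizer_iff.1 (hC (Subgroup.mem_inf.2 ⟨hc, mem_centralizer_zpowers.2 hxc⟩)) k hk)
  have hle := fixed_le_centralizer hG hM (hK.1 hk) hko htκ.2.2.1 ht1 htd (hK.1 (hP.le hxP)) hxo hqκ.2.2.1 hkx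
  exact fun z hz => hlK (hC (Subgroup.mem_inf.2 ⟨hz.1, hle hz⟩))

/-- A Hall `κ(M)`-subgroup acts on `M_σ` in a prime manner. -/
theorem prime_action (hG : IsMinSimpleOddOrder G) (hM : IsCoatom M) (hK : IsPiHallOf (kappa M) K M) {k : G}
    (hk : k ∈ K) (hk1 : k ≠ 1) :
    sigmaCore M ⊓ Subgroup.centralizer ({k} : Set G) = sigmaCore M ⊓ Subgroup.centralizer (K : Set G) := by
  refine le_antisymm (fun y hy => ?_)
    (inf_le_inf_left _ (Subgroup.centralizer_le (Set.singleton_subset_iff.2 hk)))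
  obtain ⟨hyσ, hyk⟩ := Subgroup.mem_inf.1 hy
  refine Subgroup.mem_inf.2 ⟨hyσ, Subgroup.mem_centralizer_iff.2 fun v hv => ?_⟩
  by_contra hne
  obtain ⟨n, s, hs, ⟨j, hj⟩, hmove⟩ := exists_moving_part hne
  haveI := Fact.mk hs
  set u := v ^ n
  obtain ⟨j, rfl⟩ : ∃ i, j = i + 1 := Nat.exists_eq_succ_of_ne_zero fun h => hmove (by
    rw [orderOf_eq_one_iff.1 (hj.trans (by rw [h, pow_zero]) : orderOf u = 1), one_mul, mul_one])
  have huK : u ∈ K := pow_mem hv n
  have hsκ : s ∈ kappa M :=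
    hK.2.1 s hs ((dvd_pow_self s j.succ_ne_zero).trans (hj ▸ Subgroup.orderOf_dvd_natCard K huK))
  obtain ⟨t, i, ht, -, hko⟩ := exists_prime_power_order hk1
  haveI := Fact.mk ht
  have hlo : orderOf (u ^ s ^ j) = s := by
    rw [orderOf_pow' u (pow_ne_zero _ hs.ne_zero), hj, Nat.gcd_eq_right (pow_dvd_pow s j.le_succ), pow_succ',
      Nat.mul_div_cancel _ (pow_pos hs.pos j)]
  have h := fixed_pair hG hM hK (pow_mem hk i) (pow_mem huK _) hko hlo (Subgroup.mem_inf.2 ⟨hyσ,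
    mem_centralizer_zpowers.2 ((show Commute k y from (Subgroup.mem_centralizer_singleton_iff.1 hyk).symm).pow_left i).eq⟩)
  exact hmove (fixes_of_socle hG hM (hK.1 huK) hj hsκ.2.2.1 (rank_one hG hM hsκ) hyσ (mem_centralizer_zpowers.1 h))

/-- The common fixed points are nontrivial. -/
theorem star_ne_bot (hG : IsMinSimpleOddOrder G) (hM : IsCoatom M) (hK : IsPiHallOf (kappa M) K M) (hK1 : K ≠ ⊥) :
    sigmaCore M ⊓ Subgroup.centralizer (K : Set G) ≠ ⊥ := by
  obtain ⟨k, hk, hk1⟩ := exists_ne_one hK1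
  obtain ⟨t, i, ht, -, hko⟩ := exists_prime_power_order hk1
  haveI := Fact.mk ht
  have htκ : t ∈ kappa M := hK.2.1 t ht (hko ▸ Subgroup.orderOf_dvd_natCard K (pow_mem hk i))
  obtain ⟨r, c, hr, hc, hco, hkc⟩ := exists_fixed htκ (hK.1 (pow_mem hk i)) hko
  haveI := Fact.mk hr
  intro h
  refine ne_one_of_order hco (Subgroup.mem_bot.1 (h ▸ ?_))
  rw [← prime_action hG hM hK (pow_mem hk i) (ne_one_of_order hko)]
  exact Subgroup.mem_inf.2 ⟨hc, Subgroup.mem_centralizer_singleton_iff.2 hkc.symm⟩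

end Cfsg.Agent.OddLocal.Kappa
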