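import Cfsg.Agent.Lib.OddLocal.Kappa
import Cfsg.Agent.Lib.Solv.ThompsonFPF

/-!
A complement `E = U K` of `M_σ` holding a Hall `κ(M)`-subgroup `K`, and normalisers of subgroups of `K`.
-/

set_option autoImplicit false
set_option linter.style.haveILetI false

namespace Cfsg.Agent.OddLocal.Kappa

open scoped Pointwise commutatorElement
open Cfsg
open Cfsg.Agent.Fusion (SylIn cj mem_normalizer_of_cj_le exists_sylIn_ge)
open Cfsg.Agent.OddLocal.Uniq
open Cfsg.Agent.OddLocal.Sig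
open Cfsg.Agent.OddLocal.RankTwo
open Cfsg.Agent.OddLocal.TauTwo
open Cfsg.Agent.OddLocal.Prime
open Cfsg.Agent.OddLocal.Disjoint (mem_centralizer_zpowers zpowers_card mem_zpowers_of_order)

universe u

variable {G : Type u} [Group G] [Finite G] {M E K U : Subgroup G}

/-- A complement `E = U K` of `M_σ` with its normal abelian Hall factor `U`. -/
structure Frame (M K E U : Subgroup G) : Prop where
  compl : IsComplIn E (sigmaCore M) M
  le : K ≤ E
  U_le : U ≤ E
  normal : E ≤ Subgroup.normalizer (U : Set G)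
  abelian : IsMulCommutative ↥U
  hall : IsPiHallOf {q | q.Prime ∧ q ∉ kappa M ∧ q ∉ sigma M} U M
  mul : ∀ e ∈ E, ∃ u ∈ U, ∃ k ∈ K, e = u * k
  inf : U ⊓ K = ⊥
  fpf : ∀ k ∈ K, k ≠ 1 → ∀ u ∈ U, u * k = k * u → u = 1
  line : ∀ x ∈ K, (orderOf x).Prime → K ≤ Subgroup.normalizer (Subgroup.zpowers x : Set G)

/-- Two conjugate elements of a complement are conjugate in it. -/
theorem conj_split (hE : IsComplIn E (sigmaCore M) M) {x m : G} (hx : x ∈ E) (hm : m ∈ M)
    (hmx : m * x * m⁻¹ ∈ E) : ∃ e ∈ E, ∃ s ∈ sigmaCore M, m = e * s ∧ s * x = x * s := by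
  obtain ⟨e, he, s, hs, rfl⟩ := hE.2.2.2 m hm
  refine ⟨e, he, s, hs, rfl, commutatorElement_eq_one_iff_mul_comm.1 (Subgroup.mem_bot.1 (hE.2.2.1 ▸ ?_))⟩
  have h1 : s * x * s⁻¹ ∈ E := by
    have h := E.mul_mem (E.mul_mem (E.inv_mem he) hmx) he
    simpa [mul_assoc] using h
  refine Subgroup.mem_inf.2 ⟨?_, ?_⟩
  · rw [commutatorElement_def]
    exact E.mul_mem h1 (E.inv_mem hx)
  · have h2 : x * s⁻¹ * x⁻¹ ∈ sigmaCore M :=
      (Subgroup.mem_normalizer_iff.1 ((hE.1.trans le_normalizer_piCoreOf) hx) _).1 ((sigmaCore M).inv_mem hs)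
    have h3 := (sigmaCore M).mul_mem hs h2
    rwa [commutatorElement_def, mul_assoc s x, mul_assoc s]

omit [Finite G] in
theorem dvd_relIndex_trans {q : ℕ} {H : Subgroup G} (hHE : H ≤ E) (hEM : E ≤ M) (h : q ∣ H.relIndex E) :
    q ∣ H.relIndex M := by
  rw [← Subgroup.relIndex_mul_relIndex H E M hHE hEM]
  exact h.mul_right _

theorem prime_mem (hG : IsMinSimpleOddOrder G) (hM : IsCoatom M) (hK : IsPiHallOf (kappa M) K M)
    (hE : IsComplIn E (sigmaCore M) M) {x : G} (hx : x ∈ K) {t : ℕ} (ht : t.Prime) (h : t ∣ orderOf x) :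
    t ∈ kappa M :=
  hK.2.1 t ht (h.trans (Subgroup.orderOf_dvd_natCard K hx))

/-- The fixed point free action of `K` on a normalized subgroup for the other primes outside `σ(M)`. -/
theorem fpf_factor (hG : IsMinSimpleOddOrder G) (hM : IsCoatom M) (hK : IsPiHallOf (kappa M) K M)
    (hτ : ∀ t ∈ kappa M, ¬ t ∣ Nat.card ↥⁅M, M⁆) (hUM : U ≤ M)
    (hUp : ∀ q : ℕ, q.Prime → q ∣ Nat.card U → q ∉ kappa M ∧ q ∉ sigma M) :
    ∀ k ∈ K, k ≠ 1 → ∀ u ∈ U, u * k = k * u → u = 1 := by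
  intro k hk hk1 u hu huk
  by_contra hu1
  obtain ⟨t, i, ht, -, hko⟩ := exists_prime_power_order hk1
  obtain ⟨s, j, hs, -, huo⟩ := exists_prime_power_order hu1
  haveI := Fact.mk ht
  haveI := Fact.mk hs
  have hκ : t ∈ kappa M := hK.2.1 t ht (hko ▸ Subgroup.orderOf_dvd_natCard K (pow_mem hk i))
  obtain ⟨r, c, hr, hc, hco, hkc⟩ := exists_fixed hκ (hK.1 (pow_mem hk i)) hko
  haveI := Fact.mk hr
  have huM : u ^ j ∈ M := hUM (pow_mem hu j)
  have hw := hUp s hs (huo ▸ Subgroup.orderOf_dvd_natCard U (pow_mem hu j))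
  have hcomm : Commute (k ^ i) (u ^ j) := (show Commute k u from huk.symm).pow_pow i j
  have hwc := mem_centralizer_zpowers.1 (fixed_le_centralizer hG hM (hK.1 (pow_mem hk i)) hko hκ.2.2.1
    (rank_one hG hM hκ) (hτ t hκ) huM huo hw.2 hcomm.symm.eq ⟨hc, mem_centralizer_zpowers.2 hkc⟩)
  rcases fixed_class hG hM huM hc (ne_one_of_order hco) hwc hs (huo ▸ dvd_rfl) hw.2 with h | h
  · exact hw.1 h.1
  · exact not_commute_tau2 hG hM (hK.1 (pow_mem hk i)) huM hko huo hκ.2.2.1 (rank_one hG hM hκ) h hc hco hkc hwc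
      hcomm.eq

/-- A normalized subgroup without fixed points under `K` for primes outside `σ(M)` is abelian. -/
theorem factor_abelian (hG : IsMinSimpleOddOrder G) (hM : IsCoatom M) (hK1 : K ≠ ⊥)
    (hUM : U ≤ M) (hn : K ≤ Subgroup.normalizer (U : Set G))
    (hUp : ∀ q : ℕ, q.Prime → q ∣ Nat.card U → q ∉ sigma M)
    (hfpf : ∀ k ∈ K, k ≠ 1 → ∀ u ∈ U, u * k = k * u → u = 1) : IsMulCommutative ↥U := by
  obtain ⟨k, hk, hk1⟩ := exists_ne_one hK1
  obtain ⟨t, i, ht, -, hko⟩ := exists_prime_power_order hk1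
  haveI := Fact.mk ht
  exact nilpotent_abelian hG hM hUM (Solv.fpf_nilpotent U (k ^ i) ht (hko ▸ pow_orderOf_eq_one _)
    (hn (pow_mem hk i)) (eq_bot_iff.2 fun u hu => Subgroup.mem_bot.2 (hfpf _ (pow_mem hk i)
      (ne_one_of_order hko) u hu.1 (Subgroup.mem_centralizer_singleton_iff.1 hu.2)))) hUp

/-- The frame exists. -/
theorem exists_frame (hG : IsMinSimpleOddOrder G) (hM : IsCoatom M) (hK : IsPiHallOf (kappa M) K M)
    (hK1 : K ≠ ⊥) : ∃ E U : Subgroup G, Frame M K E U := by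
  classical
  obtain ⟨E, hE, hKE⟩ := exists_compl_ge_hall hG hM hK
  rcases kappa_cases hG hM hK hE hKE with ⟨hτ, hcomm⟩ | ⟨rfl, hall⟩
  swap
  · -- all primes outside `σ(M)` lie in `κ(M)`
    refine ⟨K, ⊥, hE, le_rfl, bot_le, fun e _ => ?_, inferInstance, ⟨bot_le, ?_, ?_⟩, ?_, bot_inf_eq _,
      fun _ _ _ u hu _ => Subgroup.mem_bot.1 hu, ?_⟩
    · exact mem_normalizer_of_cj_le (by rintro _ ⟨y, hy, rfl⟩; simp [Subgroup.mem_bot.1 hy])
    · intro q hq h
      rw [Subgroup.card_bot] at h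
      exact absurd h hq.not_dvd_one
    · intro q hq ⟨_, h1, h2⟩ h
      rw [Subgroup.relIndex_bot_left] at h
      exact h1 (hall q hq h h2)
    · exact fun e he => ⟨1, one_mem _, e, he, (one_mul e).symm⟩
    intro x hx hxp
    set t := orderOf x with hxo
    haveI := Fact.mk hxp
    have hκ : t ∈ kappa M := prime_mem hG hM hK hE hx hxp dvd_rfl
    have ht1 := rank_one hG hM hκ
    by_cases htd : t ∣ Nat.card ↥⁅M, M⁆
    · obtain ⟨P, hP, hxP⟩ := exists_sylIn_ge (isPGroup_of_card (zpowers_card hxo.symm)) (Subgroup.zpowers_le.2 hx)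
      exact compl_le_normalizer hG hM hE hxo.symm (Subgroup.commutator_mono hE.1 hE.1
        (tau3_sylow hG hM hE ⟨hxp, hκ.2.2.1, htd, ht1⟩ hP (hxP (Subgroup.mem_zpowers x)))) hx ht1
    -- `x` centralizes `E'`
    have hDM : ⁅K, K⁆ ≤ ⁅M, M⁆ := Subgroup.commutator_mono hE.1 hE.1
    have hcen : ⁅K, K⁆ ≤ Subgroup.centralizer (Subgroup.zpowers x : Set G) := by
      by_contra hmove
      have htop : ⁅K, K⁆ ≠ ⊤ := fun h =>
        hM.1 (top_le_iff.1 (h ▸ (Subgroup.commutator_le_self K).trans hE.1))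
      have hn : x ∈ Subgroup.normalizer ((⁅K, K⁆ : Subgroup G) : Set G) := mem_normalizer_of_cj_le (by
        rw [Fusion.cj_commutator, Fusion.cj_eq_self_of_mem hx])
      have hco : (orderOf x).Coprime (Nat.card ↥⁅K, K⁆) :=
        hxp.coprime_iff_not_dvd.2 fun h => htd (h.trans (Subgroup.card_dvd_of_le hDM))
      have hrk : ∀ r : ℕ, r.Prime → PRankLE r 1 ↥⁅K, K⁆ := by
        intro r hr
        haveI := Fact.mk hr
        by_contra hno
        obtain ⟨F, hF, hFe, hFc⟩ := exists_elab_of_prank hno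
        obtain ⟨i, hi⟩ := IsPGroup.iff_card.1 (Fusion.elab_isPGroup hFe)
        have hi0 : i ≠ 0 := fun h => by
          rw [hi, h, pow_zero] at hFc
          exact absurd hFc (Nat.one_lt_pow two_ne_zero hr.one_lt).not_ge
        have hrK : r ∣ Nat.card K :=
          (dvd_pow_self r hi0).trans (hi ▸ Subgroup.card_dvd_of_le (hF.trans (Subgroup.commutator_le_self K)))
        exact not_prankLE_of_elab (hF.trans ((Subgroup.commutator_le_self K).trans hE.1)) hFe hFc
          (rank_one hG hM (hK.2.1 r hr hrK))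
      obtain ⟨c₀, r, hr, hc₀, hc₀o, hxn, hxc⟩ := exists_moved_prime hG htop hn hco hrk hmove
      haveI := Fact.mk hr
      have hc₀K := Subgroup.commutator_le_self K hc₀
      have hrκ : r ∈ kappa M := prime_mem hG hM hK hE hc₀K hr (hc₀o ▸ dvd_rfl)
      obtain ⟨s, c, hs, hc, hco', hc₀c⟩ := exists_fixed hrκ (hK.1 hc₀K) hc₀o
      haveI := Fact.mk hs
      refine no_mover hG hM (hK.1 hc₀K) (hK.1 hx) hc₀o hxo.symm hrκ.2.2.1 hκ.2.2.1 (rank_one hG hM hrκ) ht1 hxn
        hxc hc hco' hc₀c (Subgroup.mem_centralizer_iff.1 (compl_centralizes hG hM hE hc₀o hrκ.2.2.1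
          (rank_one hG hM hrκ) (hDM hc₀) hc₀K ⟨hc, mem_centralizer_zpowers.2 hc₀c⟩) x hx)
    intro e he
    refine Subgroup.centralizer_le_normalizer _ (mem_centralizer_zpowers.2 ?_)
    have hz : ⁅e, x⁆ ∈ ⁅K, K⁆ := Subgroup.commutator_mem_commutator he hx
    have hzx : Commute x ⁅e, x⁆ := mem_centralizer_zpowers.1 (hcen hz)
    have hz1 : ⁅e, x⁆ = 1 := by
      have h1 : (⁅e, x⁆ * x) ^ t = 1 := by
        rw [commutatorElement_def, inv_mul_cancel_right, conj_pow, hxo, pow_orderOf_eq_one]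
        simp
      rw [hzx.symm.mul_pow, hxo, pow_orderOf_eq_one x, mul_one, ← hxo, ← orderOf_dvd_iff_pow_eq_one] at h1
      refine orderOf_eq_one_iff.1 (((Nat.dvd_prime hxp).1 h1).resolve_right fun h => htd ?_)
      rw [← h]
      exact (Subgroup.orderOf_dvd_natCard _ hz).trans (Subgroup.card_dvd_of_le hDM)
    exact (commutatorElement_eq_one_iff_mul_comm.1 hz1).symm
  -- `κ(M)` is prime to `|M'|`
  set n := K.relIndex E with hn
  have hnK : n * Nat.card K = Nat.card E := by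
    have h := Subgroup.relIndex_mul_relIndex ⊥ K E bot_le hKE
    rw [Subgroup.relIndex_bot_left, Subgroup.relIndex_bot_left] at h
    rw [← h, mul_comm]
  set φ : ↥E →* Abelianization ↥E := (powMonoidHom n).comp Abelianization.of with hφ
  set U := φ.ker.map E.subtype with hU
  have hUE : U ≤ E := Subgroup.map_subtype_le _
  have hUn : E ≤ Subgroup.normalizer (U : Set G) := fun e he => mem_normalizer_of_cj_le (by
    rintro _ ⟨_, ⟨y, hy, rfl⟩, rfl⟩
    exact ⟨⟨e, he⟩ * y * (⟨e, he⟩ : ↥E)⁻¹, Subgroup.Normal.conj_mem inferInstance y hy _, rfl⟩)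
  have hUcard : Nat.card U = Nat.card φ.ker := Nat.card_congr (φ.ker.equivMapOfInjective _ E.subtype_injective).toEquiv.symm
  have hUp : ∀ q : ℕ, q.Prime → q ∣ Nat.card U → q ∉ kappa M := by
    intro q hq hd hκ
    haveI := Fact.mk hq
    rw [hUcard] at hd
    obtain ⟨⟨a, ha⟩, hao⟩ := exists_prime_orderOf_dvd_card' q hd
    rw [Subgroup.orderOf_mk] at hao
    have h2 : Abelianization.of a ^ n = 1 := ha
    have h3 : Abelianization.of a ^ q = 1 := by rw [← map_pow, ← hao, pow_orderOf_eq_one, map_one]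
    have h4 : a ∈ commutator ↥E := by
      rw [← Abelianization.ker_of, MonoidHom.mem_ker, ← orderOf_eq_one_iff]
      refine Nat.eq_one_of_dvd_coprimes ((hq.coprime_iff_not_dvd).2 fun h => ?_)
        (orderOf_dvd_of_pow_eq_one h3) (orderOf_dvd_of_pow_eq_one h2)
      exact hK.2.2 q hq hκ (dvd_relIndex_trans hKE hE.1 h)
    refine hτ q hκ (hao ▸ ?_)
    rw [← Subgroup.orderOf_coe]
    exact Subgroup.orderOf_dvd_natCard _ (Subgroup.commutator_mono hE.1 hE.1
      (Subgroup.map_subtype_commutator E ▸ Subgroup.mem_map_of_mem E.subtype h4))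
  have hUi : ∀ q : ℕ, q.Prime → q ∣ U.relIndex E → q ∈ kappa M := by
    intro q hq hd
    haveI := Fact.mk hq
    have hi : U.relIndex E = φ.ker.index := by
      rw [Subgroup.relIndex, hU, Subgroup.subgroupOf, Subgroup.comap_map_eq_self_of_injective E.subtype_injective]
    rw [hi, Subgroup.index_ker] at hd
    obtain ⟨⟨w, hw⟩, hwo⟩ := exists_prime_orderOf_dvd_card' q hd
    rw [Subgroup.orderOf_mk] at hwo
    obtain ⟨a, ha⟩ := hw
    refine hK.2.1 q hq (hwo ▸ orderOf_dvd_of_pow_eq_one ?_)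
    rw [← ha, hφ, MonoidHom.comp_apply, powMonoidHom_apply, ← pow_mul, hnK, ← map_pow, pow_card_eq_one', map_one]
  have hinf : U ⊓ K = ⊥ :=
    Solv.coprime_inf (Nat.coprime_of_dvd fun q hq h1 h2 => hUp q hq h1 (hK.2.1 q hq h2))
  have hsup : E ≤ U ⊔ K := Subgroup.relIndex_eq_one.1 (by
    by_contra hne
    obtain ⟨q, hq, hd⟩ := Nat.exists_prime_and_dvd hne
    exact hK.2.2 q hq (hUi q hq (hd.trans (Subgroup.relIndex_dvd_of_le_left E le_sup_left)))
      (dvd_relIndex_trans hKE hE.1 (hd.trans (Subgroup.relIndex_dvd_of_le_left E le_sup_right))))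
  have hmul : ∀ e ∈ E, ∃ u ∈ U, ∃ k ∈ K, e = u * k := by
    intro e he
    have h : e ∈ ((U ⊔ K : Subgroup G) : Set G) := hsup he
    rw [Subgroup.coe_mul_of_right_le_normalizer_left _ _ (hKE.trans hUn)] at h
    obtain ⟨u, hu, k, hk, rfl⟩ := h
    exact ⟨u, hu, k, hk, rfl⟩
  have hHall : IsPiHallOf {q | q.Prime ∧ q ∉ kappa M ∧ q ∉ sigma M} U M := by
    refine ⟨hUE.trans hE.1, fun q hq hd => ⟨hq, hUp q hq hd, compl_pi hG hM hE hq (hd.trans (Subgroup.card_dvd_of_le hUE))⟩,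
      fun q hq ⟨_, h1, h2⟩ hd => ?_⟩
    rw [← Subgroup.relIndex_mul_relIndex U E M hUE hE.1] at hd
    rcases (Nat.Prime.dvd_mul hq).1 hd with h | h
    · exact h1 (hUi q hq h)
    have he : E.relIndex M = Nat.card (sigmaCore M) := by
      have h3 := Subgroup.relIndex_mul_relIndex ⊥ E M bot_le hE.1
      rw [Subgroup.relIndex_bot_left, Subgroup.relIndex_bot_left, ← (compl_card hE).2] at h3
      exact Nat.eq_of_mul_eq_mul_left Nat.card_pos h3
    exact h2 ((sigmaCore_hall hG hM).1.2.1 q hq (he ▸ h))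
  have hfpf : ∀ k ∈ K, k ≠ 1 → ∀ u ∈ U, u * k = k * u → u = 1 :=
    fpf_factor hG hM hK hτ (hUE.trans hE.1) fun q hq hd => (hHall.2.1 q hq hd).2
  refine ⟨E, U, hE, hKE, hUE, hUn, ?_, hHall, hmul, hinf, hfpf, fun x hx _ => ?_⟩
  · exact factor_abelian hG hM hK1 (hUE.trans hE.1) (hKE.trans hUn) (fun q hq hd => (hHall.2.1 q hq hd).2.2) hfpf
  · exact fun k hk => Subgroup.centralizer_le_normalizer _
      (mem_centralizer_zpowers.2 (hcomm x hx k hk))

/-- The normaliser in `M` of a subgroup of `K` normalized by `K`. -/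
theorem normalizer_eq (hG : IsMinSimpleOddOrder G) (hM : IsCoatom M) (hK : IsPiHallOf (kappa M) K M)
    (hF : Frame M K E U) {X : Subgroup G} (hXK : X ≤ K) (hX1 : X ≠ ⊥)
    (hKX : K ≤ Subgroup.normalizer (X : Set G)) :
    M ⊓ Subgroup.normalizer (X : Set G) = K ⊔ (sigmaCore M ⊓ Subgroup.centralizer (K : Set G)) := by
  refine le_antisymm (fun m hm => ?_) (sup_le (le_inf hK.1 hKX) (le_inf (inf_le_left.trans
    (Subgroup.map_subtype_le _)) (inf_le_right.trans ((Subgroup.centralizer_le hXK).trans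
      (Subgroup.centralizer_le_normalizer _)))))
  obtain ⟨hmM, hmX⟩ := Subgroup.mem_inf.1 hm
  obtain ⟨x, hx, hx1⟩ := exists_ne_one hX1
  have hmx : m * x * m⁻¹ ∈ X := (Subgroup.mem_normalizer_iff.1 hmX x).1 hx
  obtain ⟨e, he, s, hs, rfl, hsx⟩ := conj_split hF.compl (hF.le (hXK hx)) hmM (hF.le (hXK hmx))
  have hsK : s ∈ sigmaCore M ⊓ Subgroup.centralizer (K : Set G) := by
    rw [← prime_action hG hM hK (hXK hx) hx1]
    exact ⟨hs, Subgroup.mem_centralizer_singleton_iff.2 hsx⟩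
  have hsX : s ∈ Subgroup.normalizer (X : Set G) :=
    Subgroup.centralizer_le_normalizer _ (Subgroup.centralizer_le hXK hsK.2)
  have heX : e ∈ Subgroup.normalizer (X : Set G) := by
    simpa using Subgroup.mul_mem _ hmX (Subgroup.inv_mem _ hsX)
  obtain ⟨u, hu, k, hk, rfl⟩ := hF.mul e he
  have huX : u ∈ Subgroup.normalizer (X : Set G) := by
    simpa using Subgroup.mul_mem _ heX (Subgroup.inv_mem _ (hKX hk))
  have hux : u * x = x * u := commutatorElement_eq_one_iff_mul_comm.1 (Subgroup.mem_bot.1 (hF.inf ▸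
    Subgroup.mem_inf.2 ⟨?_, ?_⟩))
  · rw [hF.fpf x (hXK hx) hx1 u hu hux, one_mul]
    exact Subgroup.mul_mem _ (Subgroup.mem_sup_left hk) (Subgroup.mem_sup_right hsK)
  · have h2 : x * u⁻¹ * x⁻¹ ∈ U :=
      (Subgroup.mem_normalizer_iff.1 (hF.normal (hF.le (hXK hx))) _).1 (U.inv_mem hu)
    have h3 := U.mul_mem hu h2
    rwa [commutatorElement_def, mul_assoc u x, mul_assoc u]
  · rw [commutatorElement_def]
    exact hXK (X.mul_mem ((Subgroup.mem_normalizer_iff.1 huX x).1 hx) (X.inv_mem hx))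

/-- A subgroup of prime order of `K` is normal in `K`, and the over maximal subgroups have it in their core. -/
theorem line_facts (hG : IsMinSimpleOddOrder G) (hM : IsCoatom M) (hK : IsPiHallOf (kappa M) K M)
    (hF : Frame M K E U) {X : Subgroup G} (hXK : X ≤ K) (hX : (Nat.card X).Prime) :
    K ≤ Subgroup.normalizer (X : Set G) ∧
      ∀ L : Subgroup G, IsCoatom L → Subgroup.normalizer (X : Set G) ≤ L → X ≤ sigmaCore L := by
  set t := Nat.card X with htX
  haveI := Fact.mk hX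
  obtain ⟨⟨x, hxX⟩, hxo⟩ := exists_prime_orderOf_dvd_card' t (dvd_refl (Nat.card X))
  rw [Subgroup.orderOf_mk] at hxo
  have he : Subgroup.zpowers x = X :=
    Subgroup.eq_of_le_of_card_ge (Subgroup.zpowers_le.2 hxX) (by rw [Nat.card_zpowers, hxo])
  have hκ : t ∈ kappa M := prime_mem hG hM hK hF.compl (hXK hxX) hX (hxo ▸ dvd_rfl)
  refine ⟨he ▸ hF.line x (hXK hxX) (hxo ▸ hX), fun L hL hNL => ?_⟩
  obtain ⟨r, c, hr, hc, hco, hxc⟩ := exists_fixed hκ (hK.1 (hXK hxX)) hxo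
  haveI := Fact.mk hr
  rw [← he] at hNL ⊢
  exact Subgroup.zpowers_le.2 (mem_sigmaCore hG hL (hNL (Subgroup.le_normalizer (Subgroup.mem_zpowers x)))
    (k := 1) (by rw [pow_one, hxo])
    (sigma_over hG hM (hK.1 (hXK hxX)) hxo hκ.2.2.1 (rank_one hG hM hκ) hc hco hxc hL hNL))

end Cfsg.Agent.OddLocal.Kappa
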