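import Cfsg.Agent.Lib.OddLocal.KappaComplement
import Cfsg.Agent.Lib.OddLocal.TauTwoLines
import Cfsg.Agent.Lib.OddLocal.SigmaTI
import Cfsg.Agent.Lib.OddLocal.SigmaCentralizer
import Cfsg.Agent.S1429

/-!
The fixed points `K^*` on `M_σ` of a Hall `κ(M)`-subgroup `K`.
-/

set_option autoImplicit false
set_option linter.style.haveILetI false

namespace Cfsg.Agent.OddLocal.Kappa

open scoped Pointwise commutatorElement
open Cfsg
open Cfsg.Agent.Fusion (SylIn cj cj_cj cj_eq_self cj_mono card_cj mem_normalizer_of_cj_le exists_sylIn_ge)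
open Cfsg.Agent.OddLocal.Uniq
open Cfsg.Agent.OddLocal.Sig
open Cfsg.Agent.OddLocal.RankTwo
open Cfsg.Agent.OddLocal.TauTwo
open Cfsg.Agent.OddLocal.Prime
open Cfsg.Agent.OddLocal.Disjoint (mem_centralizer_zpowers zpowers_card mem_zpowers_of_order elab_cj
  cyclic_of_prank conjugate_of_sigma)

universe u

variable {G : Type u} [Group G] [Finite G] {M E K U : Subgroup G}

theorem core_le_derived (hG : IsMinSimpleOddOrder G) (hM : IsCoatom M) : sigmaCore M ≤ ⁅M, M⁆ :=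
  (Subgroup.map_mono (sigmaCore_le_derived hG hM)).trans (Subgroup.map_subtype_commutator M).le

/-- The centralizer of a nontrivial point of `K^*` lies in `M`. -/
theorem star_centralizer_le (hG : IsMinSimpleOddOrder G) (hM : IsCoatom M) (hK : IsPiHallOf (kappa M) K M)
    (hK1 : K ≠ ⊥) {y : G} (hy : y ∈ sigmaCore M ⊓ Subgroup.centralizer (K : Set G)) (hy1 : y ≠ 1) :
    Subgroup.centralizer ({y} : Set G) ≤ M := by
  obtain ⟨k, hk, hk1⟩ := exists_ne_one hK1
  obtain ⟨t, i, ht, -, hko⟩ := exists_prime_power_order hk1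
  haveI := Fact.mk ht
  have hκ : t ∈ kappa M := hK.2.1 t ht (hko ▸ Subgroup.orderOf_dvd_natCard K (pow_mem hk i))
  exact centralizer_le_of_fixed hG hM (hK.1 (pow_mem hk i)) hko hκ.2.2.1 (rank_one hG hM hκ) hy.1 hy1
    (Subgroup.mem_centralizer_iff.1 hy.2 _ (pow_mem hk i))

/-- `K^*` meets no other conjugate of `M`. -/
theorem star_inf_conj (hG : IsMinSimpleOddOrder G) (hM : IsCoatom M) (hK : IsPiHallOf (kappa M) K M)
    (hK1 : K ≠ ⊥) {g : G} (hg : g ∉ M) :
    (sigmaCore M ⊓ Subgroup.centralizer (K : Set G)) ⊓ cj M g = ⊥ := by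
  refine eq_bot_iff.2 fun x hx => Subgroup.mem_bot.2 ?_
  by_contra hx1
  obtain ⟨ρ, hρx, hρ, -⟩ := Support.transport hG hM hx.1.1 hx1 hx.2
  rw [cj_eq_self (Subgroup.le_normalizer
    (star_centralizer_le hG hM hK hK1 hx.1 hx1 (Subgroup.mem_centralizer_singleton_iff.2 hρx)))] at hρ
  refine hg ?_
  have h : g ∈ Subgroup.normalizer (M : Set G) := mem_normalizer_of_cj_le hρ.symm.le
  rwa [normalizer_coatom hG hM] at h

/-- `K` meets its conjugates in `M` by elements outside `K K^*` trivially. -/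
theorem inf_conj (hG : IsMinSimpleOddOrder G) (hM : IsCoatom M) (hK : IsPiHallOf (kappa M) K M)
    (hF : Frame M K E U) {g : G} (hgM : g ∈ M)
    (hg : g ∉ K ⊔ (sigmaCore M ⊓ Subgroup.centralizer (K : Set G))) : K ⊓ cj K g = ⊥ := by
  refine eq_bot_iff.2 fun x hx => Subgroup.mem_bot.2 ?_
  by_contra hx1
  obtain ⟨hxK, y, hy, hyx⟩ := hx
  change g * y * g⁻¹ = x at hyx
  have hy1 : y ≠ 1 := fun h => hx1 (by rw [← hyx, h, mul_one, mul_inv_cancel])
  obtain ⟨e, he, s, hs, rfl, hsy⟩ := conj_split hF.compl (hF.le hy) hgM (hyx ▸ hF.le hxK)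
  have hsK : s ∈ sigmaCore M ⊓ Subgroup.centralizer (K : Set G) := by
    rw [← prime_action hG hM hK hy hy1]
    exact ⟨hs, Subgroup.mem_centralizer_singleton_iff.2 hsy⟩
  obtain ⟨u, hu, k, hk, rfl⟩ := hF.mul e he
  set y' := k * y * k⁻¹ with hy'def
  have hy' : y' ∈ K := K.mul_mem (K.mul_mem hk hy) (K.inv_mem hk)
  have hxu : x = u * y' * u⁻¹ := by
    rw [← hyx, hy'def, mul_assoc (u * k) s y, hsy]
    group
  have huy : u * y' = y' * u := commutatorElement_eq_one_iff_mul_comm.1 (Subgroup.mem_bot.1 (hF.inf ▸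
    Subgroup.mem_inf.2 ⟨?_, ?_⟩))
  · refine hg ?_
    have hy'1 : y' ≠ 1 := fun h => hy1 (conj_eq_one_iff.1 h)
    rw [hF.fpf y' hy' hy'1 u hu huy, one_mul]
    exact Subgroup.mul_mem _ (Subgroup.mem_sup_left hk) (Subgroup.mem_sup_right hsK)
  · have h2 : y' * u⁻¹ * y'⁻¹ ∈ U :=
      (Subgroup.mem_normalizer_iff.1 (hF.normal (hF.le hy')) _).1 (U.inv_mem hu)
    have h3 := U.mul_mem hu h2
    rwa [commutatorElement_def, mul_assoc u y', mul_assoc u]
  · rw [commutatorElement_def, ← hxu]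
    exact K.mul_mem hxK (K.inv_mem hy')

/-- `σ(M)`-subgroups meeting `K^*` lie in `M_σ`. -/
theorem le_core_of_star (hG : IsMinSimpleOddOrder G) (hM : IsCoatom M) (hK : IsPiHallOf (kappa M) K M)
    (hK1 : K ≠ ⊥) {Y : Subgroup G} (hY : ∀ p : ℕ, p.Prime → p ∣ Nat.card Y → p ∈ sigma M)
    (hmeet : Y ⊓ (sigmaCore M ⊓ Subgroup.centralizer (K : Set G)) ≠ ⊥) : Y ≤ sigmaCore M := by
  obtain ⟨h, hh⟩ := SigmaSubgroups.exists_conj_le hG hM (fun h => hmeet (by rw [h, bot_inf_eq])) hY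
  have hYh : Y ≤ cj (sigmaCore M) h⁻¹ := (Fusion.cj_cj_inv Y h).ge.trans (cj_mono hh h⁻¹)
  by_cases hhM : h⁻¹ ∈ M
  · exact hYh.trans (cj_eq_self (le_normalizer_piCoreOf hhM)).le
  refine absurd (le_bot_iff.1 ?_) hmeet
  rw [← star_inf_conj hG hM hK hK1 hhM]
  exact le_inf inf_le_right (inf_le_left.trans (hYh.trans (cj_mono (Subgroup.map_subtype_le _) _)))

/-- A Sylow subgroup of `M_σ` for a prime of `K^*` does not lie in `K^*`. -/
theorem sylow_not_le_star (hG : IsMinSimpleOddOrder G) (hM : IsCoatom M) (hK : IsPiHallOf (kappa M) K M)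
    (hF : Frame M K E U) (hK1 : K ≠ ⊥) {p : ℕ} [hp : Fact p.Prime] (hσ : p ∈ sigma M) {S : Subgroup G}
    (hS : SylIn p S M) : ¬ S ≤ sigmaCore M ⊓ Subgroup.centralizer (K : Set G) := by
  intro hle
  obtain ⟨k₀, hk₀, hk₀1⟩ := exists_ne_one hK1
  obtain ⟨t, i, ht, -, hxo⟩ := exists_prime_power_order hk₀1
  haveI := Fact.mk ht
  set x := k₀ ^ i
  have hx : x ∈ K := pow_mem hk₀ i
  have hκ : t ∈ kappa M := hK.2.1 t ht (hxo ▸ Subgroup.orderOf_dvd_natCard K hx)
  have ht1 := rank_one hG hM hκ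
  have hSK : S ≤ Subgroup.centralizer (K : Set G) := hle.trans inf_le_right
  have hSc : IsCyclic ↥S := fixed_cyclic hG hM (hK.1 hx) hxo hκ.2.2.1 ht1 hS.isPGroup (hle.trans inf_le_left)
    (hSK.trans (Subgroup.centralizer_le (Subgroup.zpowers_le.2 hx)))
  have hS1 : S ≠ ⊥ := fun h => (sigma_sylow hσ hS).2.1 h
  obtain ⟨c, hcS, hco⟩ : ∃ c ∈ S, orderOf c = p := by
    obtain ⟨j, hj⟩ := IsPGroup.iff_card.1 hS.isPGroup
    have hj0 : j ≠ 0 := fun h => hS1 (Subgroup.card_eq_one.1 (by rw [hj, h, pow_zero]))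
    obtain ⟨⟨c, hc⟩, hco⟩ := exists_prime_orderOf_dvd_card' (G := ↥S) p (hj ▸ dvd_pow_self p hj0)
    rw [Subgroup.orderOf_mk] at hco
    exact ⟨c, hc, hco⟩
  have hxC : x ∈ Subgroup.centralizer (S : Set G) :=
    Subgroup.mem_centralizer_iff.2 fun z hz => (Subgroup.mem_centralizer_iff.1 (hSK hz) x hx).symm
  obtain ⟨m, hmM, hmx, hmc, hmove⟩ := exists_mover_over hG hxo ht1 hσ hS hcS hco hSc hxC
  have hX : Subgroup.zpowers x ≤ K := Subgroup.zpowers_le.2 hx
  have hm : m ∈ K ⊔ (sigmaCore M ⊓ Subgroup.centralizer (K : Set G)) := by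
    rw [← normalizer_eq hG hM hK hF hX (fun h => ne_one_of_order hxo (Subgroup.zpowers_eq_bot.1 h))
      (hF.line x hx (hxo ▸ ht))]
    exact ⟨hmM, hmx⟩
  rw [← SetLike.mem_coe, Subgroup.coe_mul_of_left_le_normalizer_right _ _
    (le_trans le_rfl fun k hk => ?_)] at hm
  swap
  · refine mem_normalizer_of_cj_le ?_
    rintro _ ⟨y, hy, rfl⟩
    have hyk : k * y = y * k := Subgroup.mem_centralizer_iff.1 hy.2 k hk
    show k * y * k⁻¹ ∈ _
    rw [hyk, mul_inv_cancel_right]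
    exact hy
  obtain ⟨k, hk, s, hs, rfl⟩ := hm
  have hkc : k * c = c * k := Subgroup.mem_centralizer_iff.1 (hSK hcS) k hk
  have hsc : s ∈ Subgroup.normalizer (Subgroup.zpowers c : Set G) := by
    have h1 : k ∈ Subgroup.normalizer (Subgroup.zpowers c : Set G) :=
      Subgroup.centralizer_le_normalizer _ (mem_centralizer_zpowers.2 hkc.symm)
    simpa using Subgroup.mul_mem _ (Subgroup.inv_mem _ h1) hmc
  have hne : s * c ≠ c * s := fun h => hmove (by
    show k * s * c = c * (k * s)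
    rw [mul_assoc, h, ← mul_assoc, hkc, mul_assoc])
  obtain ⟨n, a, ha, ⟨j, hj⟩, hmove'⟩ := exists_moving_part hne
  haveI := Fact.mk ha
  have hcd : Subgroup.zpowers c ≤ ⁅M, M⁆ :=
    Subgroup.zpowers_le.2 (core_le_derived hG hM (hle hcS).1)
  refine hmove' (mem_centralizer_zpowers.1 ?_).symm
  by_cases hap : a = p
  · refine line_centralized (R := Subgroup.zpowers c ⊔ Subgroup.zpowers (s ^ n)) ?_ le_sup_left (zpowers_card hco)
      (sup_le Subgroup.le_normalizer (Subgroup.zpowers_le.2 (pow_mem hsc n)))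
      (Subgroup.mem_sup_right (Subgroup.mem_zpowers _))
    exact (isPGroup_of_card (zpowers_card hco)).to_sup_of_normal_left'
      (IsPGroup.of_card (n := j) (by rw [Nat.card_zpowers, hj, hap]))
      (Subgroup.zpowers_le.2 (pow_mem hsc n))
  have hβ : p ∉ beta M := fun hβ => by
    obtain ⟨F, hF, hFe, hFc⟩ := exists_elab_of_prank hβ.1.2
    obtain ⟨g, -, hg⟩ := hS.conj_le (Fusion.elab_isPGroup hFe) hF
    have hFc' : Nat.card ↥(cj F g) ≤ p ^ 1 := by
      haveI := hSc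
      haveI : IsCyclic ↥(cj F g) := isCyclic_of_injective _ (Subgroup.inclusion_injective hg)
      rw [pow_one]
      refine Nat.le_of_dvd hp.out.pos ((IsCyclic.exponent_eq_card (α := ↥(cj F g))) ▸
        Monoid.exponent_dvd_of_forall_pow_eq_one fun z => Subtype.ext ((elab_cj hFe g).2 z z.2))
    rw [card_cj] at hFc'
    exact absurd (hFc.trans hFc') (Nat.pow_lt_pow_right hp.out.one_lt (by norm_num)).not_ge
  exact fixes_of_derived hG hM hβ (isPGroup_of_card (zpowers_card hco)) hcd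
    (pow_mem (core_le_derived hG hM hs.1) n)
    (by rw [hj]; exact ((Nat.coprime_primes ha hp.out).2 hap).pow_left j) (pow_mem hsc n)

/-- The factor `U` lies in `M'`. -/
theorem factor_le_derived (hF : Frame M K E U) (hK : IsPiHallOf (kappa M) K M) (hK1 : K ≠ ⊥) :
    U ≤ ⁅M, M⁆ := by
  obtain ⟨k, hk, hk1⟩ := exists_ne_one hK1
  have hmem : ∀ u : ↥U, ⁅(u : G), k⁆ ∈ U := fun u => by
    have h2 : k * (u : G)⁻¹ * k⁻¹ ∈ U :=
      (Subgroup.mem_normalizer_iff.1 (hF.normal (hF.le hk)) _).1 (U.inv_mem u.2)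
    have h3 := U.mul_mem u.2 h2
    rwa [commutatorElement_def, mul_assoc (u : G) k, mul_assoc (u : G)]
  have hinj : Function.Injective fun u : ↥U => (⟨⁅(u : G), k⁆, hmem u⟩ : ↥U) := by
    intro u v h
    have h1 := congrArg Subtype.val h
    simp only [commutatorElement_def] at h1
    have h2 : (u : G) * k * (u : G)⁻¹ = v * k * (v : G)⁻¹ := mul_right_cancel h1
    have h3 : ((v : G)⁻¹ * u) * k = k * ((v : G)⁻¹ * u) := by
      calc ((v : G)⁻¹ * u) * k = (v : G)⁻¹ * ((u : G) * k * (u : G)⁻¹) * u := by group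
        _ = (v : G)⁻¹ * ((v : G) * k * (v : G)⁻¹) * u := by rw [h2]
        _ = _ := by group
    exact Subtype.ext (inv_mul_eq_one.1 (hF.fpf k hk hk1 _ (U.mul_mem (U.inv_mem v.2) u.2) h3)).symm
  intro u hu
  obtain ⟨v, hv⟩ := (Finite.injective_iff_surjective.1 hinj) ⟨u, hu⟩
  rw [← show ⁅(v : G), k⁆ = u from congrArg Subtype.val hv]
  exact Subgroup.commutator_mem_commutator ((hF.U_le.trans hF.compl.1) v.2) (hK.1 hk)

/-- A Sylow subgroup of `M_σ` for a prime of `K^*` lies in `M` only. -/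
theorem sylow_unique (hG : IsMinSimpleOddOrder G) (hM : IsCoatom M) (hK : IsPiHallOf (kappa M) K M)
    (hF : Frame M K E U) (hK1 : K ≠ ⊥) {p : ℕ} [hp : Fact p.Prime]
    (hpd : p ∣ Nat.card ↥(sigmaCore M ⊓ Subgroup.centralizer (K : Set G))) {S : Subgroup G}
    (hS : SylIn p S (sigmaCore M)) : InUniqueMaximal S := by
  have hσM : sigmaCore M ≤ M := Subgroup.map_subtype_le _
  obtain ⟨⟨z, hz⟩, hzo⟩ := exists_prime_orderOf_dvd_card' p hpd
  rw [Subgroup.orderOf_mk] at hzo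
  have hσ : p ∈ sigma M := (sigmaCore_hall hG hM).1.2.1 p hp.out (hzo ▸ Subgroup.orderOf_dvd_natCard _ hz.1)
  have hz1 : z ≠ 1 := ne_one_of_order hzo
  by_cases hU : U = ⊥
  · -- then `K` is a complement and `K^*` lies in `M_σ'`
    have hEK : E ≤ K := fun e he => by
      obtain ⟨u, hu, k, hk, rfl⟩ := hF.mul e he
      rw [hU, Subgroup.mem_bot] at hu
      rwa [hu, one_mul]
    have hzd : z ∈ ⁅sigmaCore M, sigmaCore M⁆ :=
      SigmaTI.fixed_le_derived hG hM hF.compl ⟨hz.1, Subgroup.centralizer_le hEK hz.2⟩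
    exact (SigmaCentralizer.sigma_centralizer hG hM hσ (Subgroup.zpowers_le.2 (hσM hz.1)) (zpowers_card hzo) hS
      (Or.inr (Subgroup.zpowers_le.2 hzd))).2.1
  refine ⟨M, ⟨hM, hS.le.trans hσM⟩, fun L hL => ?_⟩
  obtain ⟨hLc, hSL⟩ := hL
  obtain ⟨S₀, hS₀, hzS₀⟩ := exists_sylIn_ge (isPGroup_of_card (zpowers_card hzo)) (Subgroup.zpowers_le.2 hz.1)
  have hzS₀' : z ∈ S₀ := hzS₀ (Subgroup.mem_zpowers z)
  by_cases hσL : p ∈ sigma L
  · obtain ⟨g, rfl⟩ := conjugate_of_sigma hG hM hLc hσ hσL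
    obtain ⟨m, hm, hme⟩ := hS.conj_eq hS₀
    have hzg : z ∈ cj M (m * g) := by
      rw [← cj_cj]
      exact cj_mono hSL m (hme.symm ▸ hzS₀')
    by_contra hne
    refine hz1 (Subgroup.mem_bot.1 (star_inf_conj hG hM hK hK1 (fun h => hne ?_) ▸ ⟨hz, hzg⟩))
    have hg : g ∈ M := by
      have h1 := M.mul_mem (M.inv_mem (hσM hm)) h
      rwa [inv_mul_cancel_left] at h1
    exact Fusion.cj_eq_self_of_mem hg
  exfalso
  -- `S` is normal in `M`
  obtain ⟨q, hq, hqd⟩ := Nat.exists_prime_and_dvd fun h => hU (Subgroup.card_eq_one.1 h)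
  haveI := Fact.mk hq
  have hqU := hF.hall.2.1 q hq hqd
  have hqM : q ∣ Nat.card M := hqd.trans (Subgroup.card_dvd_of_le hF.hall.1)
  obtain ⟨Q⟩ : Nonempty (Sylow q ↥M) := inferInstance
  have hnil := (Cfsg.Agent.S1429.result hG M hM (fun h => hqU.2.1 (h q hq hqM hqU.2.2)) q hqM
    (fun h => h.elim hqU.2.2 hqU.2.1) Q).2.2
  have hn : M ≤ Subgroup.normalizer (S : Set G) :=
    SigmaSubgroups.sylow_of_nilpotent_normal hnil le_normalizer_piCoreOf hS
  have hzS : z ∈ S := by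
    obtain ⟨m, hm, hme⟩ := hS.conj_eq hS₀
    rwa [← hme, cj_eq_self (hn (hσM hm))] at hzS₀'
  have hSM : SylIn p S M := ⟨hS.le.trans hσM, hS.isPGroup, by
    rw [← Subgroup.relIndex_mul_relIndex S (sigmaCore M) M hS.le hσM]
    exact hp.out.prime.not_dvd_mul hS.not_dvd ((sigmaCore_hall hG hM).1.2.2 p hp.out hσ)⟩
  have hzM' : ⁅M, M⁆ ≤ Subgroup.centralizer (Subgroup.zpowers z : Set G) := by
    by_cases hc : IsCyclic ↥S
    · exact (commutator_le_centralizer hc hn).trans (Subgroup.centralizer_le (Subgroup.zpowers_le.2 hzS))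
    have hp2 : p ≠ 2 := Uniq.ne_two hG hS.isPGroup fun h => hc (by rw [h]; infer_instance)
    obtain ⟨A, hAS, hAe, hAc⟩ := exists_elab_sq hp2 hS.isPGroup hc
    have s : Setup p L A := ⟨hG, hLc, hσL, hAS.trans hSL, hAe, hAc⟩
    have htop : SylIn p S ⊤ := (sigma_sylow hσ hSM).1
    have hSLs : SylIn p S L := ⟨hSL, hS.isPGroup, fun hd =>
      htop.not_dvd (hd.trans (Dvd.intro _ (Subgroup.relIndex_mul_relIndex S L ⊤ hSL le_top)))⟩
    have hA := omz_eq s hSLs hAS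
    have hSC : S ≤ Subgroup.centralizer (A : Set G) := by
      have hab := pgroup_abelian hG hLc hσL hS.isPGroup hSL
      exact fun a ha => Subgroup.mem_centralizer_iff.2 fun b hb =>
        congrArg Subtype.val (hab.is_comm.comm (⟨b, hAS hb⟩ : S) ⟨a, ha⟩)
    have hMN : M ≤ Subgroup.normalizer (A : Set G) := hn.trans (hA ▸ normalizer_le_omz S)
    exact ((Subgroup.commutator_mono hMN hMN).trans (commutator_le_centralizer_A s htop hSC)).trans
      (Subgroup.centralizer_le (Subgroup.zpowers_le.2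
        ((omega_iff s hSLs hAS z hzS).1 (hzo ▸ pow_orderOf_eq_one z))))
  have hUz : U ≤ Subgroup.centralizer (Subgroup.zpowers z : Set G) := (factor_le_derived hF hK hK1).trans hzM'
  obtain ⟨⟨u, hu⟩, huo⟩ := exists_prime_orderOf_dvd_card' q hqd
  rw [Subgroup.orderOf_mk] at huo
  have huz : u * z = z * u := (Subgroup.mem_centralizer_iff.1 (hUz hu) z (Subgroup.mem_zpowers z)).symm
  rcases fixed_class hG hM (hF.hall.1 hu) hz.1 hz1 huz hq (huo ▸ dvd_rfl) hqU.2.2 with h | h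
  · exact hqU.2.1 h.1
  obtain ⟨A, hAE, sA⟩ := exists_setup_in_compl hG hM hF.compl h
  have hAU : A ≤ U := by
    refine le_of_hall (π := {r | r.Prime ∧ r ∉ kappa M ∧ r ∉ sigma M}) ⟨hF.U_le, hF.hall.2.1, fun r hr hr' hd =>
      hF.hall.2.2 r hr hr' (dvd_relIndex_trans hF.U_le hF.compl.1 hd)⟩ hF.normal hAE ?_
    exact piNum_of_pgroup (Fusion.elab_isPGroup sA.elem)
      (show q ∈ {r | r.Prime ∧ r ∉ kappa M ∧ r ∉ sigma M} from hqU)
  refine hz1 (Subgroup.mem_bot.1 (sigmaCore_inf_centralizer sA ▸ Subgroup.mem_inf.2 ⟨hz.1,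
    Subgroup.mem_centralizer_iff.2 fun a ha => ?_⟩))
  exact (Subgroup.mem_centralizer_iff.1 (hUz (hAU ha)) z (Subgroup.mem_zpowers z)).symm

end Cfsg.Agent.OddLocal.Kappa
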