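import Cfsg.Prelude.Def_OddOrder
import Cfsg.Agent.Lib.OddLocal.Transitivity
import Cfsg.Agent.Lib.Fusion.InvariantOrderP

/-!
Criteria for the transitivity hypothesis.
-/

set_option autoImplicit false

namespace Cfsg.Agent.OddLocal.Transit

open Cfsg
open scoped Pointwise
open Cfsg.Agent.Fusion (cj cj_cj cj_eq_self mem_normalizer_of_cj_le)

universe u

theorem pConstrained_of_solvable {X : Type u} [Group X] [Finite X] (p : ℕ) [Fact p.Prime]
    (hs : Group.IsSolvable X) : IsPConstrained p X := by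
  haveI := hs
  haveI : Group.IsSolvable (X ⧸ pPrimeCore p X) :=
    Group.isSolvable_of_surjective (QuotientGroup.mk'_surjective _)
  exact Fusion.isPConstrained_iff.2
    (Fusion.centralizer_pCore_le_of_solvable inferInstance Fusion.pPrimeCore_quotient_eq_bot)

variable {G : Type u} [Group G] [Finite G] {p : ℕ} [hp : Fact p.Prime]

/-- A normal self-centralizing subgroup of a Sylow group contains the `p`-elements centralizing it. -/
theorem mem_of_scn {P : Sylow p G} {A : Subgroup G} (hscn : IsSCN (P : Subgroup G) A) {x : G}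
    (hx : x ∈ Subgroup.centralizer (A : Set G)) (hxp : IsPGroup p ↥(Subgroup.zpowers x)) : x ∈ A := by
  obtain ⟨hAP, hPN, hC⟩ := hscn
  set N := Subgroup.normalizer (A : Set G) with hN
  let P' : Sylow p ↥N := P.subtype hPN
  have hxN : x ∈ N := Subgroup.centralizer_le_normalizer _ hx
  obtain ⟨T, hT⟩ := IsPGroup.exists_le_sylow (hxp.comap_subtype (K := N))
  obtain ⟨g, hg⟩ := MulAction.exists_smul_eq ↥N T P'
  have hxT : (⟨x, hxN⟩ : N) ∈ (T : Subgroup N) := hT (Subgroup.mem_zpowers x)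
  have h1 : g * ⟨x, hxN⟩ * g⁻¹ ∈ (P' : Subgroup N) := by
    rw [← hg]
    exact Subgroup.smul_mem_pointwise_smul _ (MulAut.conj g) _ hxT
  have h2 : (g : G) * x * (g : G)⁻¹ ∈ (P : Subgroup G) := h1
  have h3 : (g : G) * x * (g : G)⁻¹ ∈ Subgroup.centralizer (A : Set G) := by
    refine Subgroup.mem_centralizer_iff.2 fun a ha => ?_
    have ha' : (g : G)⁻¹ * a * g ∈ A := by
      simpa using (Subgroup.mem_normalizer_iff.1 (inv_mem g.2) a).1 ha
    have e : ((g : G)⁻¹ * a * g) * x = x * ((g : G)⁻¹ * a * g) :=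
      Subgroup.mem_centralizer_iff.1 hx _ ha'
    calc a * ((g : G) * x * (g : G)⁻¹) = g * (((g : G)⁻¹ * a * g) * x) * (g : G)⁻¹ := by group
      _ = g * (x * ((g : G)⁻¹ * a * g)) * (g : G)⁻¹ := by rw [e]
      _ = (g : G) * x * (g : G)⁻¹ * a := by group
  have h4 : (g : G) * x * (g : G)⁻¹ ∈ A := hC ▸ Subgroup.mem_inf.2 ⟨h2, h3⟩
  exact (Subgroup.mem_normalizer_iff.1 g.2 x).2 h4

/-- The criterion: an abelian `p`-group containing the elements of order `p` of its centralizer. -/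
theorem hypothesis_of_order_p (hG : IsMinSimpleOddOrder G) (hd : p ∣ Nat.card G) {A : Subgroup G}
    (hAp : IsPGroup p A) (hAc : IsMulCommutative A)
    (hfull : ∀ x ∈ Subgroup.centralizer (A : Set G), x ^ p = 1 → x ∈ A) : TransitivityHypothesis A := by
  obtain ⟨hodd, hS, hnc, hsol⟩ := hG
  have hp2 : p ≠ 2 := fun h => by
    rw [h] at hd
    exact Nat.not_even_iff_odd.2 hodd (even_iff_two_dvd.2 hd)
  have hAbot : A ≠ ⊥ := by
    rintro rfl
    obtain ⟨x, hx⟩ := exists_prime_orderOf_dvd_card' (G := G) p hd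
    have h1 := hfull x (Subgroup.mem_centralizer_iff.2 fun a ha => by
      rw [Subgroup.mem_bot.1 ha, one_mul, mul_one]) (hx ▸ pow_orderOf_eq_one x)
    rw [Subgroup.mem_bot.1 h1, orderOf_one] at hx
    exact hp.out.ne_one hx.symm
  refine ⟨hAbot, ?_, fun X hX hAX => le_antisymm (sSup_le ?_) ?_⟩
  · rintro rfl
    exact hnc ⟨⟨fun a b => congrArg Subtype.val
      (hAc.is_comm.comm (⟨a, Subgroup.mem_top a⟩ : (⊤ : Subgroup G)) ⟨b, Subgroup.mem_top b⟩)⟩⟩
  · rintro Y ⟨hYX, hYp, hAY⟩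
    have hpA : p ∣ Nat.card A := by
      obtain ⟨k, hk⟩ := IsPGroup.iff_card.1 hAp
      rw [hk]
      exact dvd_pow_self p fun hk0 => hAbot (Subgroup.card_eq_one.1 (by rw [hk, hk0, pow_zero]))
    have hYd : ¬ p ∣ Nat.card Y := fun h => (hYp p hp.out h).2 hpA
    haveI hAc' : IsMulCommutative ↥(A.subgroupOf X) := ⟨⟨fun u v => by
      have h := congrArg Subtype.val (hAc.is_comm.comm (⟨u.1.1, u.2⟩ : A) ⟨v.1.1, v.2⟩)
      exact Subtype.ext (Subtype.ext h)⟩⟩
    have h := Fusion.invariant_le_pPrimeCore_prime (pConstrained_of_solvable p (hsol X hX))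
      (E := A.subgroupOf X) (Q := Y.subgroupOf X) hAp.comap_subtype hAc'
      (fun x hx hxp => hfull x.1 (Subgroup.mem_centralizer_iff.2 fun a ha =>
        congrArg Subtype.val (hx ⟨a, hAX ha⟩ ha)) (congrArg Subtype.val hxp))
      (by rw [Solv.card_subgroupOf hYX]; exact hYd)
      (fun a ha => mem_normalizer_of_cj_le (by
        rintro _ ⟨y, hy, rfl⟩
        exact ((Subgroup.mem_normalizer_iff.1 (hAY ha) _).1 hy :
          (a : G) * y * (a : G)⁻¹ ∈ Y)))
      hp2
    refine le_trans ?_ (le_piCoreOf (Y := Bender.coreP p X) (Subgroup.map_subtype_le _)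
      (Bender.le_normalizer_coreP X) ?_)
    · exact fun y hy => ⟨⟨y, hYX hy⟩, h hy, rfl⟩
    · intro r hr hrd
      rw [Bender.coreP, Subgroup.card_map_of_injective X.subtype_injective] at hrd
      refine ⟨hr, fun hrA => ?_⟩
      obtain ⟨k, hk⟩ := IsPGroup.iff_card.1 hAp
      rw [hk] at hrA
      rw [(Nat.prime_dvd_prime_iff_eq hr hp.out).1 (hr.dvd_of_dvd_pow hrA)] at hrd
      exact (Nat.Prime.coprime_iff_not_dvd hp.out).1 (Fusion.card_pPrimeCore_coprime p _).symm hrd
  · exact le_sSup ⟨piCoreOf_le X, piCoreOf_prime X, hAX.trans (le_normalizer_piCoreOf X)⟩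

theorem criteria (hG : IsMinSimpleOddOrder G) (hd : p ∣ Nat.card G) {A : Subgroup G}
    (hAp : IsPGroup p A) (hAc : IsMulCommutative A)
    (h : (∀ x ∈ Subgroup.centralizer (A : Set G), x ^ p = 1 ↔ x ∈ A) ∨
      ∃ P : Sylow p G, IsSCN (P : Subgroup G) A) : TransitivityHypothesis A := by
  refine hypothesis_of_order_p hG hd hAp hAc fun x hx hxp => ?_
  rcases h with h | ⟨P, hP⟩
  · exact (h x hx).1 hxp
  · refine mem_of_scn hP hx (fun y => ⟨1, ?_⟩)
    obtain ⟨y, i, rfl⟩ := y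
    refine Subtype.ext ?_
    show (x ^ i) ^ p ^ 1 = 1
    rw [pow_one, ← zpow_natCast, ← zpow_mul, mul_comm, zpow_mul, zpow_natCast, hxp, one_zpow]

end Cfsg.Agent.OddLocal.Transit
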