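import Cfsg.Agent.S1452
import Cfsg.Agent.Lib.Solv.Kulakoff
import Cfsg.Agent.Lib.Solv.RankTwoGroups
import Cfsg.Agent.Lib.SSF.HU
import Cfsg.Agent.Lib.Fusion.ZJControl
import Cfsg.Agent.Lib.OddLocal.TransitivityCriteria

/-!
Frattini factorizations of solvable groups of odd order, and self-centralizing normal subgroups of large rank.
-/

set_option autoImplicit false

namespace Cfsg.Agent.OddLocal.Fact2

open Cfsg
open Cfsg.Agent.Fusion (SylIn cj cj_eq_self mem_normalizer_of_cj_le isPGroup_pCore pPrimeCore_quotient_eq_bot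
  card_pPrimeCore_coprime exists_lift_normalizer centralizer_pCore_le_of_solvable)

universe u

/-- The `ZJ` functor on subgroups. -/
def zjOf {G : Type u} [Group G] (p : ℕ) (T : Subgroup G) : Subgroup G := inducedFunctor (Fusion.wZE p) T

theorem zjOf_map {X Y : Type u} [Group X] [Group Y] [Finite X] {p : ℕ} [Fact p.Prime] (f : X →* Y)
    {T : Subgroup X} (hT : IsPGroup p T) (hf : Function.Injective (f.comp T.subtype)) :
    (zjOf p T).map f = zjOf p (T.map f) := by
  have hr : (f.comp T.subtype).range = T.map f := by rw [MonoidHom.range_comp, Subgroup.range_subtype]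
  let e : ↥T ≃* ↥(T.map f) := (MonoidHom.ofInjective hf).trans (MulEquiv.subgroupCongr hr)
  have h := (Fusion.isCharPFunctor_wZE (p := p)).2 ↥T ↥(T.map f) hT e
  show ((Fusion.wZE p ↥T).map T.subtype).map f = (Fusion.wZE p ↥(T.map f)).map (T.map f).subtype
  rw [← h, Subgroup.map_map, Subgroup.map_map]
  rfl

theorem zjOf_facts {G : Type u} [Group G] [Finite G] {p : ℕ} [Fact p.Prime] {T : Subgroup G}
    (hT : IsPGroup p T) : zjOf p T ≤ T ∧ (T ≠ ⊥ → zjOf p T ≠ ⊥) ∧
      Subgroup.normalizer (T : Set G) ≤ Subgroup.normalizer (zjOf p T : Set G) := by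
  obtain ⟨h1, h2, h3⟩ :=
    Fusion.isConjugacyFunctor_induced (G := G) (Fusion.isCharPFunctor_wZE (p := p)) T hT
  refine ⟨h1, h2, fun g hg => mem_normalizer_of_cj_le (le_of_eq ?_)⟩
  show (inducedFunctor (Fusion.wZE p) T).map (MulAut.conj g).toMonoidHom = _
  rw [← h3 g, show T.map (MulAut.conj g).toMonoidHom = T from Fusion.cj_eq_self hg]
  rfl

variable {X : Type u} [Group X] [Finite X] {p : ℕ} [hp : Fact p.Prime]

theorem injective_comp_of_sylow (T : Sylow p X) :
    Function.Injective ((QuotientGroup.mk' (pPrimeCore p X)).comp (T : Subgroup X).subtype) :=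
  fun a b h => Subtype.ext (Fusion.injOn_mk_of_coprime (card_pPrimeCore_coprime p X) T.isPGroup' a.2 b.2 h)

/-- The Frattini argument modulo the `p'`-core. -/
theorem frattini_mod {R : Subgroup X} (hR : IsPGroup p R)
    (hn : (R.map (QuotientGroup.mk' (pPrimeCore p X))).Normal) :
    pPrimeCore p X ⊔ Subgroup.normalizer (R : Set X) = ⊤ := by
  refine eq_top_iff.2 fun g _ => ?_
  obtain ⟨x, hx, hxg⟩ := exists_lift_normalizer (card_pPrimeCore_coprime p X) hR
    (y := QuotientGroup.mk' _ g) (by rw [Subgroup.normalizer_eq_top]; exact Subgroup.mem_top _)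
  have h1 : g * x⁻¹ ∈ pPrimeCore p X := by
    refine (QuotientGroup.eq_one_iff _).1 ?_
    show QuotientGroup.mk' (pPrimeCore p X) (g * x⁻¹) = 1
    rw [map_mul, map_inv, hxg, mul_inv_cancel]
  have h2 := mul_mem (Subgroup.mem_sup_left h1 : _ ∈ pPrimeCore p X ⊔ Subgroup.normalizer (R : Set X))
    (Subgroup.mem_sup_right hx)
  rwa [inv_mul_cancel_right] at h2

theorem quotient_stable (hodd : Odd (Nat.card X)) (hp2 : p ≠ 2) :
    ∀ (P : Subgroup (X ⧸ pPrimeCore p X)) [P.Normal], IsPGroup p P → IsPStableOn p P :=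
  fun P _ hP => Fusion.isPStableOn_of_qd_free hp2 (fun hinv =>
    (Nat.not_even_iff_odd.2 (Odd.of_dvd_nat hodd (dvd_trans (SSF.involves_card_dvd hinv)
      (Subgroup.card_quotient_dvd_card _)))) (even_iff_two_dvd.2 (SSF.even_card_qd hp2))) P hP

theorem zj_factor (hs : Group.IsSolvable X) (hodd : Odd (Nat.card X)) (hp2 : p ≠ 2) (T : Sylow p X) :
    pPrimeCore p X ⊔ Subgroup.normalizer (zjOf p (T : Subgroup X) : Set X) = ⊤ := by
  haveI := hs
  haveI : Group.IsSolvable (X ⧸ pPrimeCore p X) :=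
    Group.isSolvable_of_surjective (QuotientGroup.mk'_surjective _)
  have h := Fusion.centerThompsonOf_normal hp2
    (centralizer_pCore_le_of_solvable inferInstance pPrimeCore_quotient_eq_bot)
    (quotient_stable hodd hp2) (T.mapSurjective (QuotientGroup.mk'_surjective (pPrimeCore p X)))
  refine frattini_mod (T.isPGroup'.to_le (zjOf_facts T.isPGroup').1) ?_
  rw [zjOf_map _ T.isPGroup' (injective_comp_of_sylow T)]
  exact h

theorem rank_two_factor (hs : Group.IsSolvable X) (hodd : Odd (Nat.card X)) (T : Sylow p X)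
    (hr : PRankLE p 2 ↥(T : Subgroup X)) :
    pPrimeCore p X ⊔ Subgroup.normalizer ((T : Subgroup X) : Set X) = ⊤ := by
  haveI := hs
  refine frattini_mod T.isPGroup' ?_
  by_cases hpX : p ∣ Nat.card X
  swap
  · have hT : (T : Subgroup X) = ⊥ := by
      obtain ⟨k, hk⟩ := IsPGroup.iff_card.1 T.isPGroup'
      refine Subgroup.card_eq_one.1 ?_
      rcases Nat.eq_zero_or_pos k with h0 | h0
      · rw [hk, h0, pow_zero]
      · exact absurd ((dvd_pow_self p h0.ne').trans (hk ▸ Subgroup.card_subgroup_dvd_card _)) hpX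
    rw [hT, Subgroup.map_bot]
    infer_instance
  obtain ⟨-, -, -, -, -, hidx⟩ := Solv.RankTwo.narrow_core hodd hpX
    (Solv.RankTwo.narrow_core_of_sylow T (Or.inl hr) fun h => absurd hr h)
  rw [pPrimePCore, Subgroup.index_comap_of_surjective _ (QuotientGroup.mk'_surjective _)] at hidx
  haveI : (pCore p (X ⧸ pPrimeCore p X)).Normal := Solv.pCore_normal p
  have heq : (T : Subgroup X).map (QuotientGroup.mk' (pPrimeCore p X)) = pCore p (X ⧸ pPrimeCore p X) := by
    refine le_antisymm (fun y hy => ?_)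
      (Fusion.pCore_le_sylow (T.mapSurjective (QuotientGroup.mk'_surjective (pPrimeCore p X))))
    obtain ⟨k, hk⟩ := (T.isPGroup'.map (QuotientGroup.mk' (pPrimeCore p X))) ⟨y, hy⟩
    rw [← QuotientGroup.eq_one_iff, ← orderOf_eq_one_iff]
    refine Nat.eq_one_of_dvd_coprimes (hidx.pow_right k) ?_ ((orderOf_map_dvd (QuotientGroup.mk' _) y).trans
      (orderOf_dvd_of_pow_eq_one (congrArg Subtype.val hk)))
    rw [Subgroup.index_eq_card]
    exact orderOf_dvd_natCard _
  rw [heq]
  infer_instance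

/-- An abelian subgroup normalised by `O_p` lies in it, in the stable constrained case. -/
theorem abelian_le_pCore {Y : Type u} [Group Y] [Finite Y]
    (hc : Subgroup.centralizer (pCore p Y : Set Y) ≤ pCore p Y) (hst : IsPStableOn p (pCore p Y))
    {A : Subgroup Y} (hA : IsMulCommutative A) (hQA : pCore p Y ≤ Subgroup.normalizer (A : Set Y)) :
    A ≤ pCore p Y := by
  intro z hz
  set Q := pCore p Y
  set C := Subgroup.centralizer (Q : Set Y)
  have hzD := Fusion.mem_of_quadratic_stable hst hA hQA hz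
  refine Fusion.le_pCore (N := (pCore p (Y ⧸ C)).comap (QuotientGroup.mk' C)) ?_ hzD
  exact (isPGroup_pCore p _).comap_of_ker_isPGroup (QuotientGroup.mk' C)
    (by rw [QuotientGroup.ker_mk']; exact (isPGroup_pCore p Y).to_le hc)

/-- An abelian subgroup normal in a Sylow subgroup lies in a subgroup with factorizing normalizer. -/
theorem abelian_factor (hs : Group.IsSolvable X) (hodd : Odd (Nat.card X)) (hp2 : p ≠ 2) (T : Sylow p X)
    {A : Subgroup X} (hAc : IsMulCommutative A) (hAT : A ≤ (T : Subgroup X))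
    (hTA : (T : Subgroup X) ≤ Subgroup.normalizer (A : Set X)) :
    ∃ R : Subgroup X, A ≤ R ∧ R ≤ (T : Subgroup X) ∧
      pPrimeCore p X ⊔ Subgroup.normalizer (R : Set X) = ⊤ := by
  haveI := hs
  set π := QuotientGroup.mk' (pPrimeCore p X) with hπ
  haveI : Group.IsSolvable (X ⧸ pPrimeCore p X) :=
    Group.isSolvable_of_surjective (QuotientGroup.mk'_surjective _)
  set Q := pCore p (X ⧸ pPrimeCore p X) with hQ
  haveI : Q.Normal := Solv.pCore_normal p
  have hc : Subgroup.centralizer (Q : Set (X ⧸ pPrimeCore p X)) ≤ Q :=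
    centralizer_pCore_le_of_solvable inferInstance pPrimeCore_quotient_eq_bot
  have hQT : Q ≤ (T : Subgroup X).map π :=
    Fusion.pCore_le_sylow (T.mapSurjective (QuotientGroup.mk'_surjective (pPrimeCore p X)))
  have hAQ : A.map π ≤ Q := by
    haveI := hAc
    exact abelian_le_pCore hc (quotient_stable hodd hp2 Q (isPGroup_pCore p _))
      (Subgroup.map_isMulCommutative A π)
      (hQT.trans (le_trans (Subgroup.map_mono hTA) (Subgroup.le_normalizer_map π)))
  refine ⟨(T : Subgroup X) ⊓ Q.comap π, le_inf hAT (Subgroup.map_le_iff_le_comap.1 hAQ), inf_le_left,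
    frattini_mod (T.isPGroup'.to_le inf_le_left) ?_⟩
  have h : ((T : Subgroup X) ⊓ Q.comap π).map π = Q := by
    refine le_antisymm ((Subgroup.map_mono inf_le_right).trans (Subgroup.map_comap_le _ _)) fun y hy => ?_
    obtain ⟨t, ht, rfl⟩ := hQT hy
    exact ⟨t, ⟨ht, hy⟩, rfl⟩
  rw [h]
  infer_instance

/-- Self-centralizing normal abelian subgroups of rank at least three exist in groups of rank at least three. -/
theorem exists_scn_three {R : Type u} [Group R] [Finite R] (hp2 : p ≠ 2) (hR : IsPGroup p R)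
    (hr : ¬ PRankLE p 2 R) : ∃ A : Subgroup R, A.Normal ∧ Subgroup.centralizer (A : Set R) = A ∧
      ¬ PRankLE p 2 A := by
  have hnc : ¬ IsCyclic R := by
    intro hc
    refine hr fun B hB hBe => ?_
    haveI := hc
    haveI : IsCyclic ↥B := Subgroup.isCyclic B
    obtain ⟨g, hg⟩ := IsCyclic.exists_generator (α := ↥B)
    calc Nat.card B = orderOf g := (orderOf_eq_card_of_forall_mem_zpowers hg).symm
      _ ≤ p := Nat.le_of_dvd hp.out.pos (orderOf_dvd_of_pow_eq_one (Subtype.ext (hBe g g.2)))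
      _ ≤ p ^ 2 := Nat.le_self_pow two_ne_zero p
  obtain ⟨E, hEn, hEe, hE2⟩ := Solv.exists_normal_elementary_sq hp2 hR hnc
  haveI := hEn
  obtain ⟨A, -, hA⟩ := S1452.result p hp2 hR hr E hEe hE2
  exact ⟨A, hA⟩

/-- A subgroup normalized by a Sylow subgroup and of `p'`-order lies in the `p'`-core. -/
theorem le_pPrimeCore_of_sylow (hs : Group.IsSolvable X) (hp2 : p ≠ 2) (T : Sylow p X)
    {Y : Subgroup X} (hY : ¬ p ∣ Nat.card Y) (hTY : (T : Subgroup X) ≤ Subgroup.normalizer (Y : Set X)) :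
    Y ≤ pPrimeCore p X := by
  obtain ⟨A, hAn, hAab, hAC⟩ := Solv.exists_maximal_abelian_normal T.isPGroup'
  haveI hAc : IsMulCommutative ↥(A.map (T : Subgroup X).subtype) := by
    haveI : IsMulCommutative ↥A := ⟨⟨fun a b => Subtype.ext (hAab a a.2 b b.2)⟩⟩
    exact Subgroup.map_isMulCommutative A _
  have hscn : IsSCN (T : Subgroup X) (A.map (T : Subgroup X).subtype) := by
    refine ⟨Subgroup.map_subtype_le A, Bender.le_normalizer_map A, le_antisymm ?_ ?_⟩
    · rintro x ⟨hxT, hxC⟩
      refine ⟨⟨x, hxT⟩, ?_, rfl⟩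
      show (⟨x, hxT⟩ : ↥(T : Subgroup X)) ∈ A
      rw [← hAC]
      exact Subgroup.mem_centralizer_iff.2 fun a ha =>
        Subtype.ext (Subgroup.mem_centralizer_iff.1 hxC _ ⟨a, ha, rfl⟩)
    · exact le_inf (Subgroup.map_subtype_le A) (Subgroup.le_centralizer _)
  refine Fusion.invariant_le_pPrimeCore_prime (Transit.pConstrained_of_solvable p hs)
    (T.isPGroup'.to_le (Subgroup.map_subtype_le A)) hAc (fun x hx hxp => ?_) hY
    ((Subgroup.map_subtype_le A).trans hTY) hp2
  refine Transit.mem_of_scn hscn (Subgroup.mem_centralizer_iff.2 hx) ?_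
  intro y
  obtain ⟨y, i, rfl⟩ := y
  refine ⟨1, Subtype.ext ?_⟩
  show (x ^ i) ^ p ^ 1 = 1
  rw [pow_one, ← zpow_natCast, ← zpow_mul, mul_comm, zpow_mul, zpow_natCast, hxp, one_zpow]

end Cfsg.Agent.OddLocal.Fact2
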