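import Cfsg.Agent.Lib.SSF.HU
import Cfsg.Agent.Lib.Fusion.SolvableBalance

/-!
Odd order groups: abelian `p`-subgroups normalized by a normal `p`-subgroup.
-/

set_option autoImplicit false
open Cfsg

namespace Cfsg.Agent.OddLocal.OddStable

universe u

variable {G : Type u} [Group G] [Finite G] {p : ℕ} [Fact p.Prime]

/-- `p`-stability for an abelian `p`-subgroup normalized by a normal `p`-subgroup -/
theorem mk_mem_pCore (hodd : Odd (Nat.card G)) (hp : p ≠ 2) (P : Subgroup G) [P.Normal] (hP : IsPGroup p P)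
    (B : Subgroup G) (hBc : IsMulCommutative B) (hPB : P ≤ Subgroup.normalizer (B : Set G)) {b : G}
    (hb : b ∈ B) : QuotientGroup.mk' (Subgroup.centralizer (P : Set G)) b ∈
      pCore p (G ⧸ Subgroup.centralizer (P : Set G)) := by
  have hst : IsNormalizerPStable p G := Fusion.isNormalizerPStable_of_qd_free hp fun hinv =>
    (Nat.not_even_iff_odd.2 hodd) (even_iff_two_dvd.2
      ((SSF.even_card_qd hp).trans (SSF.involves_card_dvd hinv)))
  have hN : Subgroup.normalizer (P : Set G) = ⊤ := Subgroup.normalizer_eq_top P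
  have hbN : b ∈ Subgroup.normalizer (P : Set G) := hN ▸ Subgroup.mem_top b
  have hquad : ⁅⁅P, Subgroup.zpowers b⁆, Subgroup.zpowers b⁆ = ⊥ := by
    have h1 : ⁅P, Subgroup.zpowers b⁆ ≤ B :=
      (Subgroup.commutator_mono le_rfl (Subgroup.zpowers_le.2 hb)).trans
        (Subgroup.commutator_le.2 fun x hx y hy => by
          show x * y * x⁻¹ * y⁻¹ ∈ B
          exact mul_mem ((Subgroup.mem_normalizer_iff.1 (hPB hx) y).1 hy) (inv_mem hy))
    refine le_bot_iff.1 ((Subgroup.commutator_mono h1 (Subgroup.zpowers_le.2 hb)).trans ?_)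
    rw [le_bot_iff, Subgroup.commutator_eq_bot_iff_le_centralizer]
    exact fun x hx => Subgroup.mem_centralizer_iff.2 fun y hy =>
      congrArg Subtype.val (hBc.is_comm.comm ⟨y, hy⟩ ⟨x, hx⟩)
  have h := hst P hP b hbN hquad
  let φ : ↥(Subgroup.normalizer (P : Set G)) ⧸ (Subgroup.centralizer (P : Set G)).subgroupOf
      (Subgroup.normalizer (P : Set G)) →* G ⧸ Subgroup.centralizer (P : Set G) :=
    QuotientGroup.map _ _ (Subgroup.normalizer (P : Set G)).subtype (fun x hx => hx)
  have hφ : Function.Surjective φ := by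
    intro y
    obtain ⟨x, rfl⟩ := QuotientGroup.mk_surjective y
    exact ⟨QuotientGroup.mk ⟨x, hN ▸ Subgroup.mem_top x⟩, rfl⟩
  haveI : ((pCore p (↥(Subgroup.normalizer (P : Set G)) ⧸ (Subgroup.centralizer (P : Set G)).subgroupOf
      (Subgroup.normalizer (P : Set G)))).map φ).Normal := Subgroup.Normal.map inferInstance φ hφ
  exact Fusion.le_pCore ((Fusion.isPGroup_pCore p _).map φ) ⟨_, h, rfl⟩

theorem centralizer_le_pCore [Group.IsSolvable G] (P : Subgroup G) [P.Normal]
    (h0 : pPrimeCore p G = ⊥) (hCP : pCore p G ⊓ Subgroup.centralizer (P : Set G) ≤ P) :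
    Subgroup.centralizer (P : Set G) ≤ pCore p G := by
  obtain ⟨C, hC⟩ : ∃ C, C = Subgroup.centralizer (P : Set G) := ⟨_, rfl⟩
  rw [← hC] at hCP ⊢
  haveI : C.Normal := hC ▸ inferInstance
  have h0C : pPrimeCore p ↥C = ⊥ := by
    haveI : ((pPrimeCore p ↥C).map C.subtype).Normal := by
      have : (pPrimeCore p ↥C).Characteristic := Fusion.pPrimeCore_characteristic
      exact ConjAct.normal_of_characteristic_of_normal
    refine (Subgroup.map_eq_bot_iff_of_injective _ C.subtype_injective).1 (le_bot_iff.1 (h0 ▸ Fusion.le_pPrimeCore ?_))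
    rw [Subgroup.card_map_of_injective C.subtype_injective]
    exact Fusion.card_pPrimeCore_coprime p _
  have hcore : (pCore p ↥C).map C.subtype ≤ pCore p G := by
    haveI : ((pCore p ↥C).map C.subtype).Normal := by
      have : (pCore p ↥C).Characteristic := Fusion.pCore_characteristic
      exact ConjAct.normal_of_characteristic_of_normal
    exact Fusion.le_pCore ((Fusion.isPGroup_pCore p _).map _)
  have hcent := Fusion.centralizer_pCore_le_of_solvable (G := ↥C) inferInstance h0C
  intro c hc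
  refine hcore ⟨⟨c, hc⟩, hcent (Subgroup.mem_centralizer_iff.2 fun z hz => Subtype.ext ?_), rfl⟩
  have hzP : (z : G) ∈ P := hCP (Subgroup.mem_inf.2 ⟨hcore ⟨z, hz, rfl⟩, z.2⟩)
  rw [hC] at hc
  exact Subgroup.mem_centralizer_iff.1 hc (z : G) hzP

/-- such a subgroup lies in the `p`-core -/
theorem le_pCore_of_normalized [Group.IsSolvable G] (hodd : Odd (Nat.card G)) (hp : p ≠ 2) (P : Subgroup G)
    [P.Normal] (hP : IsPGroup p P) (h0 : pPrimeCore p G = ⊥)
    (hCP : pCore p G ⊓ Subgroup.centralizer (P : Set G) ≤ P) (B : Subgroup G) (hBc : IsMulCommutative B)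
    (hPB : P ≤ Subgroup.normalizer (B : Set G)) : B ≤ pCore p G := by
  intro b hb
  obtain ⟨D, hD⟩ : ∃ D, D = (pCore p (G ⧸ Subgroup.centralizer (P : Set G))).comap
      (QuotientGroup.mk' (Subgroup.centralizer (P : Set G))) := ⟨_, rfl⟩
  haveI : D.Normal := hD ▸ inferInstance
  have hDp : IsPGroup p ↥D := hD ▸ (Fusion.isPGroup_pCore p _).comap_of_ker_isPGroup _
    (by rw [QuotientGroup.ker_mk']; exact (Fusion.isPGroup_pCore p G).to_le (centralizer_le_pCore P h0 hCP))
  exact Fusion.le_pCore hDp (hD ▸ mk_mem_pCore hodd hp P hP B hBc hPB hb)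

end Cfsg.Agent.OddLocal.OddStable
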