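import Cfsg.Prelude.Def_OddOrderLocal
import Cfsg.Agent.S1451
import Cfsg.Agent.Lib.Solv.RankTwoGroups
import Cfsg.Agent.Lib.Fusion.Basic
import Cfsg.Agent.Lib.Solv.Cores

/-!
The largest normal `π`-subgroup and ranks of quotients.
-/

set_option autoImplicit false

namespace Cfsg.Agent.OddLocal.Sig

open Cfsg

universe u v

/-- All prime divisors of `n` lie in `π`. -/
def PiNum (π : Set ℕ) (n : ℕ) : Prop := ∀ p : ℕ, p.Prime → p ∣ n → p ∈ π

variable {X : Type u} [Group X] [Finite X] {π ρ : Set ℕ}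

theorem PiNum.mul {a b : ℕ} (ha : PiNum π a) (hb : PiNum π b) : PiNum π (a * b) := fun p hp h =>
  ((Nat.Prime.dvd_mul hp).1 h).elim (ha p hp) (hb p hp)

theorem PiNum.of_dvd {a b : ℕ} (ha : PiNum π a) (h : b ∣ a) : PiNum π b := fun p hp hb => ha p hp (hb.trans h)

theorem card_sup_dvd (H K : Subgroup X) [K.Normal] :
    Nat.card (H ⊔ K : Subgroup X) ∣ Nat.card K * Nat.card H := by
  have h := Subgroup.relIndex_mul_relIndex ⊥ K (H ⊔ K) bot_le le_sup_right
  rw [Subgroup.relIndex_bot_left, Subgroup.relIndex_bot_left, Subgroup.relIndex_sup_right] at h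
  exact h ▸ Nat.mul_dvd_mul_left _ (Subgroup.relIndex_dvd_card K H)

theorem piCore_pi : PiNum π (Nat.card (piCore π X)) := by
  obtain ⟨N, -, ⟨hNn, hNp⟩, hmax⟩ := Finite.exists_le_maximal
    (p := fun N : Subgroup X => N.Normal ∧ PiNum π (Nat.card N)) (a := ⊥)
    ⟨inferInstance, by intro p hp h; rw [Subgroup.card_bot] at h; exact absurd (Nat.dvd_one.1 h) hp.ne_one⟩
  haveI := hNn
  have hle : piCore π X ≤ N := by
    refine sSup_le fun K hK => ?_
    haveI := hK.1
    exact le_sup_left.trans (hmax (y := K ⊔ N)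
      ⟨inferInstance, (hNp.mul hK.2).of_dvd (card_sup_dvd K N)⟩ le_sup_right)
  exact hNp.of_dvd (Subgroup.card_dvd_of_le hle)

omit [Finite X] in
theorem le_piCore (N : Subgroup X) [hN : N.Normal] (h : PiNum π (Nat.card N)) : N ≤ piCore π X :=
  le_sSup ⟨hN, h⟩

theorem piCore_mono (h : π ⊆ ρ) : piCore π X ≤ piCore ρ X :=
  le_piCore _ fun p hp hd => h (piCore_pi p hp hd)

theorem piCore_quotient : piCore π (X ⧸ piCore π X) = ⊥ := by
  set N := (piCore π (X ⧸ piCore π X)).comap (QuotientGroup.mk' (piCore π X)) with hN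
  have hle : piCore π X ≤ N := fun x hx => by
    rw [hN, Subgroup.mem_comap, show QuotientGroup.mk' (piCore π X) x = 1 from
      (QuotientGroup.eq_one_iff x).2 hx]
    exact one_mem _
  have hcard : PiNum π (Nat.card N) := by
    have h := Subgroup.relIndex_mul_relIndex ⊥ (piCore π X) N bot_le hle
    rw [Subgroup.relIndex_bot_left, Subgroup.relIndex_bot_left] at h
    rw [← h]
    refine piCore_pi.mul (piCore_pi (X := X ⧸ piCore π X).of_dvd ?_)
    have h2 := Subgroup.relIndex_ker N (QuotientGroup.mk' (piCore π X))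
    rw [QuotientGroup.ker_mk'] at h2
    rw [h2, hN, Subgroup.map_comap_eq_self_of_surjective (QuotientGroup.mk'_surjective _)]
  have h1 := le_piCore N hcard
  refine eq_bot_iff.2 fun y hy => ?_
  obtain ⟨x, rfl⟩ := QuotientGroup.mk'_surjective _ y
  exact Subgroup.mem_bot.2 ((QuotientGroup.eq_one_iff x).2 (h1 hy))

/-- The `p`-rank of a quotient by a normal `p'`-subgroup. -/
theorem prankLE_quotient {p k : ℕ} [hp : Fact p.Prime] {O : Subgroup X} [O.Normal]
    (hco : ¬ p ∣ Nat.card O) (h : PRankLE p k X) : PRankLE p k (X ⧸ O) := fun A hAc hAe => by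
  haveI := hAc
  have hAp : IsPGroup p A := fun a => ⟨1, Subtype.ext (by rw [pow_one]; exact hAe _ a.2)⟩
  obtain ⟨T, hT, -⟩ := Fusion.exists_sylIn_ge (p := p) (Q := (⊥ : Subgroup X))
    (H := A.comap (QuotientGroup.mk' O)) IsPGroup.of_bot bot_le
  obtain ⟨m, hm⟩ := IsPGroup.iff_card.1 hT.isPGroup
  have hinj : Function.Injective ((QuotientGroup.mk' O).comp T.subtype) := by
    rw [injective_iff_map_eq_one]
    intro t ht
    refine Subtype.ext (Subgroup.mem_bot.1 ?_)
    rw [← Subgroup.inf_eq_bot_of_coprime (H := O) (K := T)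
      (hm ▸ Nat.Coprime.pow_right m ((Nat.Prime.coprime_iff_not_dvd hp.out).2 hco).symm)]
    exact ⟨(QuotientGroup.eq_one_iff _).1 ht, t.2⟩
  haveI : IsMulCommutative T := ⟨⟨fun a b => hinj (by
    rw [map_mul, map_mul]
    exact congrArg Subtype.val (hAc.is_comm.comm (⟨_, hT.le a.2⟩ : A) ⟨_, hT.le b.2⟩))⟩⟩
  refine le_trans ?_ (h T inferInstance fun t ht => congrArg Subtype.val (hinj
    (a₁ := (⟨t, ht⟩ : T) ^ p) (a₂ := 1) (by rw [map_pow, map_one]; exact hAe _ (hT.le ht))))
  obtain ⟨j, hj⟩ := IsPGroup.iff_card.1 hAp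
  rw [hj, hm]
  refine Nat.pow_le_pow_right hp.out.pos ?_
  have hdvd : p ^ j ∣ Nat.card (A.comap (QuotientGroup.mk' O) : Subgroup X) := by
    rw [← hj]
    have := Subgroup.card_map_dvd (H := A.comap (QuotientGroup.mk' O)) (QuotientGroup.mk' O)
    rwa [Subgroup.map_comap_eq_self_of_surjective (QuotientGroup.mk'_surjective _)] at this
  have h2 := Subgroup.relIndex_mul_relIndex ⊥ T _ bot_le hT.le
  rw [Subgroup.relIndex_bot_left, Subgroup.relIndex_bot_left, hm] at h2
  rw [← h2] at hdvd
  have h3 := (Nat.Coprime.pow_left j ((Nat.Prime.coprime_iff_not_dvd hp.out).2 hT.not_dvd)).dvd_of_dvd_mul_right hdvd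
  exact (Nat.pow_dvd_pow_iff_le_right hp.out.one_lt).1 h3

/-- A nilpotent derived subgroup of the quotient puts `π`-subgroups of the derived subgroup into the core. -/
theorem le_piCore_of_nilpotent (hnil : Group.IsNilpotent ↥(commutator (X ⧸ piCore π X)))
    {q : ℕ} [hq : Fact q.Prime] (hqπ : q ∈ π) {P : Subgroup X} (hP : IsPGroup q P)
    (hPX : P ≤ commutator X) : P ≤ piCore π X := by
  haveI := hnil
  obtain ⟨S⟩ : Nonempty (Sylow q ↥(commutator (X ⧸ piCore π X))) := inferInstance
  haveI : (S : Subgroup ↥(commutator (X ⧸ piCore π X))).Normal :=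
    Sylow.normal_of_normalizerCondition Group.normalizerCondition_of_isNilpotent S
  haveI : (S : Subgroup ↥(commutator (X ⧸ piCore π X))).Characteristic :=
    Sylow.characteristic_of_normal S inferInstance
  have hS : (S : Subgroup ↥(commutator (X ⧸ piCore π X))).map (commutator (X ⧸ piCore π X)).subtype = ⊥ := by
    refine eq_bot_iff.2 ((le_piCore (π := π) _ ?_).trans piCore_quotient.le)
    intro r hr hd
    obtain ⟨j, hj⟩ := IsPGroup.iff_card.1 (S.isPGroup'.map (commutator (X ⧸ piCore π X)).subtype)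
    rw [hj] at hd
    exact (Nat.prime_dvd_prime_iff_eq hr hq.out).1 (hr.dvd_of_dvd_pow hd) ▸ hqπ
  intro x hx
  have hxC : QuotientGroup.mk' (piCore π X) x ∈ commutator (X ⧸ piCore π X) := by
    have h1 := Subgroup.mem_map_of_mem (QuotientGroup.mk' (piCore π X)) (hPX hx)
    rw [commutator_def, Subgroup.map_commutator] at h1
    exact Subgroup.commutator_mono le_top le_top h1
  obtain ⟨j, hj⟩ := IsPGroup.iff_orderOf.1 hP ⟨x, hx⟩
  rw [Subgroup.orderOf_mk] at hj
  have hz : IsPGroup q (Subgroup.zpowers (⟨_, hxC⟩ : ↥(commutator (X ⧸ piCore π X)))) := by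
    obtain ⟨i, -, hi⟩ := (Nat.dvd_prime_pow hq.out).1 (hj ▸ orderOf_map_dvd (QuotientGroup.mk' (piCore π X)) x)
    exact IsPGroup.of_card (n := i) (by rw [Nat.card_zpowers, Subgroup.orderOf_mk, hi])
  obtain ⟨S', hS'⟩ := hz.exists_le_sylow
  haveI := Sylow.unique_of_normal S inferInstance
  have h2 : (⟨_, hxC⟩ : ↥(commutator (X ⧸ piCore π X))) ∈ (S : Subgroup _) :=
    Subsingleton.elim S' S ▸ hS' (Subgroup.mem_zpowers _)
  have h3 := Subgroup.mem_map_of_mem (commutator (X ⧸ piCore π X)).subtype h2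
  rw [hS, Subgroup.mem_bot] at h3
  exact (QuotientGroup.eq_one_iff x).1 h3

theorem not_dvd_index_piCore {q : ℕ} [Fact q.Prime] (P : Sylow q X) (h : (P : Subgroup X) ≤ piCore π X) :
    ¬ q ∣ (piCore π X).index := fun hd => P.not_dvd_index (hd.trans (Subgroup.index_dvd_of_le h))

/-- Ranks of the quotient by the core. -/
theorem rankLE_quotient {k : ℕ} (hin : ∀ q : ℕ, q.Prime → q ∈ π → ¬ q ∣ (piCore π X).index)
    (hout : ∀ q : ℕ, q.Prime → q ∉ π → PRankLE q k X) : RankLE k (X ⧸ piCore π X) := by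
  intro q hq
  haveI := Fact.mk hq
  by_cases hqπ : q ∈ π
  · intro A hAc hAe
    obtain ⟨j, hj⟩ := (IsPGroup.iff_card (G := A) (p := q)).1 fun a =>
      ⟨1, Subtype.ext (by rw [pow_one]; exact hAe _ a.2)⟩
    rcases Nat.eq_zero_or_pos j with h0 | h0
    · rw [hj, h0, pow_zero]; exact Nat.one_le_pow _ _ hq.pos
    · refine absurd ?_ (hin q hq hqπ)
      exact ((dvd_pow_self q h0.ne').trans (hj ▸ Subgroup.card_subgroup_dvd_card A)).trans
        (Subgroup.index_eq_card _).symm.dvd
  · exact prankLE_quotient (fun h => hqπ (piCore_pi q hq h)) (hout q hq hqπ)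

/-- The derived subgroup modulo the core of large-rank primes is nilpotent. -/
theorem commutator_quotient_nilpotent [Group.IsSolvable X] (hodd : Odd (Nat.card X))
    (hout : ∀ q : ℕ, q.Prime → q ∉ π → PRankLE q 2 X) :
    Group.IsNilpotent ↥(commutator (X ⧸ piCore π X)) := by
  haveI : Group.IsSolvable (X ⧸ piCore π X) :=
    Group.isSolvable_of_surjective (QuotientGroup.mk'_surjective _)
  refine (Cfsg.Agent.S1451.result (hodd.of_dvd_nat (Subgroup.card_quotient_dvd_card _)) (Or.inr ?_)).1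
  intro q hq
  haveI := Fact.mk hq
  by_cases hqπ : q ∈ π
  · intro A hAc hAe
    haveI := Solv.pCore_normal (G := X ⧸ piCore π X) q
    haveI : (fittingSubgroup (X ⧸ piCore π X)).Normal := inferInstance
    obtain ⟨S, hS⟩ := IsPGroup.exists_le_sylow (G := ↥(fittingSubgroup (X ⧸ piCore π X))) (p := q) (P := A)
      fun a => ⟨1, Subtype.ext (by rw [pow_one]; exact hAe _ a.2)⟩
    haveI : (S : Subgroup ↥(fittingSubgroup (X ⧸ piCore π X))).Normal :=
      haveI := Solv.fittingSubgroup_nilpotent (G := X ⧸ piCore π X)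
      Sylow.normal_of_normalizerCondition Group.normalizerCondition_of_isNilpotent S
    haveI : (S : Subgroup ↥(fittingSubgroup (X ⧸ piCore π X))).Characteristic :=
      Sylow.characteristic_of_normal S inferInstance
    have hbot : (S : Subgroup ↥(fittingSubgroup (X ⧸ piCore π X))).map
        (fittingSubgroup (X ⧸ piCore π X)).subtype = ⊥ := by
      refine eq_bot_iff.2 ((le_piCore (π := π) _ ?_).trans piCore_quotient.le)
      intro r hr hd
      obtain ⟨j, hj⟩ := IsPGroup.iff_card.1 (S.isPGroup'.map (fittingSubgroup (X ⧸ piCore π X)).subtype)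
      rw [hj] at hd
      exact (Nat.prime_dvd_prime_iff_eq hr hq).1 (hr.dvd_of_dvd_pow hd) ▸ hqπ
    rw [(Subgroup.map_eq_bot_iff_of_injective _ (Subgroup.subtype_injective _)).1 hbot, le_bot_iff] at hS
    rw [hS, Subgroup.card_bot]
    exact Nat.one_le_pow _ _ hq.pos
  · exact Solv.RankTwo.prankLE_of_injective _ (Subgroup.subtype_injective _)
      (prankLE_quotient (fun h => hqπ (piCore_pi q hq h)) (hout q hq hqπ))

/-- A larger core still has nilpotent derived subgroup modulo it. -/
theorem commutator_quotient_mono {N K : Subgroup X} [N.Normal] [K.Normal] (hle : N ≤ K)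
    (h : Group.IsNilpotent ↥(commutator (X ⧸ N))) : Group.IsNilpotent ↥(commutator (X ⧸ K)) := by
  haveI := h
  let f : (X ⧸ N) →* (X ⧸ K) := QuotientGroup.map N K (MonoidHom.id X) hle
  have hf : Function.Surjective f := fun y => by
    obtain ⟨x, rfl⟩ := QuotientGroup.mk'_surjective K y
    exact ⟨QuotientGroup.mk' N x, rfl⟩
  have he : (commutator (X ⧸ N)).map f = commutator (X ⧸ K) := by
    rw [commutator_def, commutator_def, Subgroup.map_commutator, Subgroup.map_top_of_surjective f hf]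
  exact he ▸ Group.nilpotent_of_surjective (f.subgroupMap (commutator (X ⧸ N)))
    (MonoidHom.subgroupMap_surjective _ _)

/-- The image of the derived subgroup is nilpotent when the derived subgroup of the quotient is. -/
theorem map_commutator_nilpotent (N : Subgroup X) [N.Normal] (h : Group.IsNilpotent ↥(commutator (X ⧸ N))) :
    Group.IsNilpotent ↥((commutator X).map (QuotientGroup.mk' N)) := by
  rwa [commutator_def, Subgroup.map_commutator,
    Subgroup.map_top_of_surjective _ (QuotientGroup.mk'_surjective N)]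

end Cfsg.Agent.OddLocal.Sig
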