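import Cfsg.Agent.Lib.OddLocal.SigmaDisjoint

/-!
Elements of prime order outside `σ(M)` of rank one and their fixed points on `M_σ`.
-/

set_option autoImplicit false
set_option linter.style.haveILetI false

namespace Cfsg.Agent.OddLocal.Prime

open scoped Pointwise commutatorElement
open Cfsg
open Cfsg.Agent.Fusion (SylIn cj cj_cj cj_eq_self cj_mono card_cj isPGroup_cj exists_sylIn_ge exists_sylIn
  mem_normalizer_of_cj_le)
open Cfsg.Agent.OddLocal.Uniq
open Cfsg.Agent.OddLocal.Sig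
open Cfsg.Agent.OddLocal.RankTwo
open Cfsg.Agent.OddLocal.TauTwo
open Cfsg.Agent.OddLocal.Disjoint (mem_centralizer_zpowers zpowers_card mem_zpowers_of_order elab_cj exists_sq
  cyclic_of_prank tau2_commute conjugate_of_sigma exists_sq_centralized)

universe u

variable {G : Type u} [Group G] [Finite G] {q : ℕ} [hq : Fact q.Prime] {M L : Subgroup G}

omit hq in
theorem isCoatom_cj {H : Subgroup G} (hH : IsCoatom H) (g : G) : IsCoatom (cj H g) :=
  (OrderIso.isCoatom_iff (MulEquiv.mapSubgroup (MulAut.conj g)) H).2 hH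

/-- Rank bounds pass to conjugates. -/
theorem prank_cj {k : ℕ} {g : G} (h : PRankLE q k ↥M) : PRankLE q k ↥(cj M g) := by
  by_contra hr
  obtain ⟨F, hF, hFe, hFc⟩ := exists_elab_of_prank hr
  exact not_prankLE_of_elab ((cj_mono hF g⁻¹).trans (Fusion.cj_cj_inv M g).le) (elab_cj hFe g⁻¹)
    (by rw [card_cj]; exact hFc) h

theorem sigma_cj {g : G} (h : q ∈ sigma M) : q ∈ sigma (cj M g) :=
  sigma_of_cj (g := g⁻¹) (by rw [Fusion.cj_cj_inv]; exact h)

theorem sigma_eq_of_conj {g : G} (he : L = cj M g) : q ∈ sigma L ↔ q ∈ sigma M :=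
  ⟨fun h => sigma_of_cj (he ▸ h), fun h => he ▸ sigma_cj h⟩

omit hq in
/-- The cores for nonconjugate maximal subgroups meet trivially. -/
theorem sigmaCore_inf (hG : IsMinSimpleOddOrder G) (hM : IsCoatom M) (hL : IsCoatom L)
    (hne : ∀ g : G, L ≠ cj M g) : sigmaCore M ⊓ sigmaCore L = ⊥ :=
  Solv.coprime_inf (Nat.coprime_of_dvd fun r hr h1 h2 => by
    haveI := Fact.mk hr
    obtain ⟨g, hg⟩ := conjugate_of_sigma hG hM hL ((sigmaCore_hall hG hM).1.2.1 r hr h1)
      ((sigmaCore_hall hG hL).1.2.1 r hr h2)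
    exact hne g hg)

omit hq in
/-- `M_σ ∩ L` and `L_σ ∩ M` centralize each other. -/
theorem cores_commute (hG : IsMinSimpleOddOrder G) (hM : IsCoatom M) (hL : IsCoatom L) (hne : ∀ g : G, L ≠ cj M g)
    {a b : G} (ha : a ∈ sigmaCore M) (haL : a ∈ L) (hb : b ∈ sigmaCore L) (hbM : b ∈ M) : a * b = b * a := by
  have hn : ∀ {X : Subgroup G}, X ≤ Subgroup.normalizer (sigmaCore X : Set G) := fun {X} => le_normalizer_piCoreOf
  refine commutatorElement_eq_one_iff_mul_comm.1 (Subgroup.mem_bot.1 (sigmaCore_inf hG hM hL hne ▸ ⟨?_, ?_⟩))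
  · rw [commutatorElement_def, mul_assoc, mul_assoc, ← mul_assoc b]
    exact Subgroup.mul_mem _ ha ((Subgroup.mem_normalizer_iff.1 (hn hbM) _).1 (Subgroup.inv_mem _ ha))
  · rw [commutatorElement_def]
    exact Subgroup.mul_mem _ ((Subgroup.mem_normalizer_iff.1 (hn haL) _).1 hb) (Subgroup.inv_mem _ hb)

theorem not_conj_of_sigma {r : ℕ} [Fact r.Prime] (hσ : r ∈ sigma M) (hσ' : r ∉ sigma L) (g : G) :
    L ≠ cj M g := fun h => hσ' (h ▸ sigma_cj hσ)

/-- An element of prime power order of `σ(M)` lying in `M` lies in `M_σ`. -/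
theorem mem_sigmaCore (hG : IsMinSimpleOddOrder G) (hM : IsCoatom M) {x : G} (hx : x ∈ M) {k : ℕ}
    (ho : orderOf x = q ^ k) (hσ : q ∈ sigma M) : x ∈ sigmaCore M :=
  le_of_hall (sigmaCore_hall hG hM).1 le_normalizer_piCoreOf (Subgroup.zpowers_le.2 hx)
    (piNum_of_pgroup (IsPGroup.of_card (n := k) (zpowers_card ho)) hσ) (Subgroup.mem_zpowers x)

theorem ne_one_of_order {x : G} (hx : orderOf x = q) : x ≠ 1 := fun h =>
  hq.out.ne_one (by rw [← hx, h, orderOf_one])

/-- A maximal subgroup over the normaliser of a line. -/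
theorem exists_over (hG : IsMinSimpleOddOrder G) {x : G} (hx : orderOf x = q) :
    ∃ H : Subgroup G, IsCoatom H ∧ Subgroup.normalizer (Subgroup.zpowers x : Set G) ≤ H ∧
      (∀ g : G, x * g = g * x → g ∈ H) := by
  obtain ⟨H, hH, hN⟩ := exists_coatom _ (normalizer_pgroup_ne_top hG (isPGroup_of_card (zpowers_card hx))
    (ne_bot_of_card (zpowers_card hx)))
  exact ⟨H, hH, hN, fun g hg => hN (Subgroup.centralizer_le_normalizer _ (mem_centralizer_zpowers.2 hg))⟩

/-- A maximal subgroup over the normaliser of a line of a rank one prime outside `σ(M)` is not conjugate to `M`. -/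
theorem over_not_conj (hG : IsMinSimpleOddOrder G) (hσ : q ∉ sigma M) (hr : PRankLE q 1 ↥M) {H : Subgroup G}
    (hH : IsCoatom H) {x : G} (hx : orderOf x = q)
    (hN : Subgroup.normalizer (Subgroup.zpowers x : Set G) ≤ H) (g : G) : H ≠ cj M g := by
  rintro rfl
  exact (order_p_normalizer hG hH (fun h => hσ (sigma_of_cj h)) (zpowers_card hx) hN).1.2 (prank_cj hr)

/-- The fixed points on `M_σ` of an element of a rank one prime outside `σ(M)` have cyclic Sylow subgroups. -/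
theorem fixed_rank_one (hG : IsMinSimpleOddOrder G) (hM : IsCoatom M) {w : G} (hwM : w ∈ M)
    (hwo : orderOf w = q) (hσ : q ∉ sigma M) (hr : PRankLE q 1 ↥M) {r : ℕ} [hrp : Fact r.Prime] :
    PRankLE r 1 ↥(sigmaCore M ⊓ Subgroup.centralizer (Subgroup.zpowers w : Set G)) := by
  by_contra hr2
  obtain ⟨B, hB, hBe, hBc⟩ := exists_sq hr2
  have hBσ : B ≤ sigmaCore M := hB.trans inf_le_left
  have hBM : B ≤ M := hBσ.trans (Subgroup.map_subtype_le _)
  have hrσ : r ∈ sigma M := (sigmaCore_hall hG hM).1.2.1 r hrp.out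
    ((dvd_pow_self r two_ne_zero).trans (hBc ▸ Subgroup.card_dvd_of_le hBσ))
  obtain ⟨H, hH, hN, hC⟩ := exists_over hG hwo
  have hBH : B ≤ H := fun b hb => hC b (mem_centralizer_zpowers.1 (hB hb).2)
  by_cases hσH : r ∈ sigma H
  · obtain ⟨g, hg⟩ := conjugate_of_sigma hG hM hH hrσ hσH
    exact over_not_conj hG hσ hr hH hwo hN g hg
  have s : Setup r H B := ⟨hG, hH, hσH, hBH, hBe, hBc⟩
  have hinf := sigmaCore_inf_coatom s hM (fun h => hσH (h ▸ hrσ)) hBM
  have hwH : w ∈ H := hC w rfl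
  have hqH : q ∉ sigma H := fun h => ne_one_of_order hwo (Subgroup.mem_bot.1 (hinf ▸ ⟨mem_sigmaCore hG hH hwH
    (k := 1) (by rw [pow_one, hwo]) h, hwM⟩))
  obtain ⟨A, hA, hAe, hAc⟩ := exists_sq (order_p_normalizer hG hH hqH (zpowers_card hwo) hN).1.2
  have hrq : r ≠ q := fun h => hσ (h ▸ hrσ)
  obtain ⟨u, -, hu⟩ := tau2_commute hrq s (⟨hG, hH, hqH, hA, hAe, hAc⟩ : Setup q H A)
  exact not_prankLE_of_elab (hu.trans (rank_two_lemma hG hM hBM hBe hBc).1) (elab_cj hAe u)
    (by rw [card_cj, hAc]) hr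

/-- Fixed `r`-subgroups are cyclic. -/
theorem fixed_cyclic (hG : IsMinSimpleOddOrder G) (hM : IsCoatom M) {w : G} (hwM : w ∈ M)
    (hwo : orderOf w = q) (hσ : q ∉ sigma M) (hr : PRankLE q 1 ↥M) {r : ℕ} [Fact r.Prime] {X : Subgroup G}
    (hX : IsPGroup r X) (hXσ : X ≤ sigmaCore M) (hXw : X ≤ Subgroup.centralizer (Subgroup.zpowers w : Set G)) :
    IsCyclic ↥X :=
  cyclic_of_prank hG hX (le_inf hXσ hXw) (fixed_rank_one hG hM hwM hwo hσ hr)

/-- A prime of `σ(M)` of an element commuting with a nontrivial element of `M ∩ L_σ` has rank one in `L`. -/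
theorem foreign_rank_one (hG : IsMinSimpleOddOrder G) (hM : IsCoatom M) (hL : IsCoatom L) {r : ℕ}
    [hr : Fact r.Prime] (hσ : r ∈ sigma M) (hσ' : r ∉ sigma L) {w u : G} (hwM : w ∈ M) (hwL : w ∈ L)
    (hwo : orderOf w = r) (huM : u ∈ M) (hu : u ∈ sigmaCore L) (hu1 : u ≠ 1) (hcomm : w * u = u * w) :
    PRankLE r 1 ↥L := by
  by_contra hr2
  obtain ⟨E, hE⟩ := exists_compl hG hL
  obtain ⟨hCw, huniq⟩ := element_unique hG hL hE hwL (ne_one_of_order hwo) (fun t ht htd => by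
    rw [hwo] at htd
    rw [(Nat.prime_dvd_prime_iff_eq ht hr.out).1 htd]
    exact ⟨hr.out, hσ', prankLE_of_not_alpha hr.out (not_alpha_of_not_sigma hG hL hσ'), hr2⟩) hu hu1 hcomm
  have hNw : Subgroup.normalizer (Subgroup.zpowers w : Set G) ≤ L := fun g hg => by
    have h1 : cj (Subgroup.centralizer ({w} : Set G)) g = Subgroup.centralizer ({w} : Set G) := by
      rw [← centralizer_zpowers, Fusion.cj_centralizer, cj_eq_self hg]
    have h2 : cj L g = L := huniq _ (isCoatom_cj hL g) (h1.symm.le.trans (cj_mono hCw g))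
    exact normalizer_coatom hG hL ▸ mem_normalizer_of_cj_le h2.le
  obtain ⟨S, hS, hwS⟩ := exists_sylIn_ge (isPGroup_of_card (zpowers_card hwo))
    (le_inf (Subgroup.zpowers_le.2 hwM) (Subgroup.zpowers_le.2 hwL) : Subgroup.zpowers w ≤ M ⊓ L)
  obtain ⟨-, -, hidx⟩ := sigma_embedding hG hM hσ (isPGroup_of_card (zpowers_card hwo))
    (ne_bot_of_card (zpowers_card hwo)) (Subgroup.zpowers_le.2 hwM) (fun h => hσ' (by rw [h]; exact hσ)) hNw hS hwS
  obtain ⟨F, hF, hFe, hFc⟩ := exists_sq hr2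
  obtain ⟨x, -, hx⟩ := (⟨hS.le.trans inf_le_right, hS.isPGroup, hidx⟩ : SylIn r S L).conj_le
    (Fusion.elab_isPGroup hFe) hF
  have s : Setup r L (cj F x) := ⟨hG, hL, hσ', hx.trans (hS.le.trans inf_le_right), elab_cj hFe x, by rw [card_cj, hFc]⟩
  exact hu1 (Subgroup.mem_bot.1 (sigmaCore_inf_coatom s hM (fun h => hσ' (h ▸ hσ))
    (hx.trans (hS.le.trans inf_le_left)) ▸ ⟨hu, huM⟩))

/-- The commutator of elements of `E` acts trivially on an elementary subgroup of order `q²`. -/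
theorem derived_centralizes_setup {p : ℕ} [hp : Fact p.Prime] (hpq : q ≠ p) (hG : IsMinSimpleOddOrder G)
    {H A : Subgroup G} (s : Setup q H A) {b : G} (hb : b ∈ ⁅H, H⁆) (hbn : b ∈ Subgroup.normalizer (A : Set G))
    {k : ℕ} (hbo : orderOf b = p ^ k) (hσp : p ∉ sigma H) : b ∈ Subgroup.centralizer (A : Set G) := by
  obtain ⟨E, hE⟩ := exists_compl hG s.coatom
  obtain ⟨R, hR⟩ := exists_sylIn (p := q) E
  obtain ⟨g, hg, hle⟩ := (compl_sylIn hG s.coatom hE s.not_sigma hR).conj_le (Fusion.elab_isPGroup s.elem) s.le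
  have hB : cj A g ≤ E := hle.trans hR.le
  have s' : Setup q H (cj A g) := ⟨hG, s.coatom, s.not_sigma, hB.trans hE.1, elab_cj s.elem g, by rw [card_cj, s.card]⟩
  obtain ⟨⟨hEN, -⟩, ⟨-, heq, -⟩, -⟩ := complement_tau2 s' hE hB
  set c := g * b * g⁻¹ with hc
  have hcD : c ∈ ⁅H, H⁆ := by
    have h1 : c ∈ cj ⁅H, H⁆ g := Fusion.conj_mem_cj hb
    rwa [Fusion.cj_commutator, Fusion.cj_eq_self_of_mem hg] at h1
  have hcE : c ∈ ⁅E, E⁆ := Disjoint.compl_inf_derived hE ⟨heq.le ⟨Subgroup.commutator_le_self H hcD, by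
    rw [← Fusion.cj_normalizer]; exact Fusion.conj_mem_cj hbn⟩, hcD⟩
  set φ := (Subgroup.normalizerMonoidHom (cj A g)).comp (Subgroup.inclusion hEN) with hφ
  haveI : Group.IsSolvable ↥E := Solv.isSolvable_of_le hE.1 (hG.2.2.2 H s.coatom.1)
  haveI : Group.IsSolvable ↥φ.range := Group.isSolvable_of_surjective φ.rangeRestrict_surjective
  have hodd : Odd (Nat.card ↥φ.range) := Odd.of_dvd_nat (odd_subgroup hG E) (Subgroup.card_range_dvd φ)
  have hrk : PRankLE q 2 ↥(cj A g) := fun C _ _ =>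
    (Nat.le_of_dvd Nat.card_pos (Subgroup.card_subgroup_dvd_card C)).trans s'.card.le
  have h := Solv.RankTwo.commutator_rank_two s'.ne_two (Fusion.elab_isPGroup s'.elem) hrk hodd φ.range.subtype
    φ.range.subtype_injective
  rw [← Subgroup.map_subtype_commutator] at hcE
  obtain ⟨c', hc', hce⟩ := hcE
  have h1 : φ.rangeRestrict c' ∈ commutator ↥φ.range := by
    have h2 : φ.rangeRestrict c' ∈ (commutator ↥E).map φ.rangeRestrict := Subgroup.mem_map_of_mem _ hc'
    rwa [commutator_def, Subgroup.map_commutator,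
      Subgroup.map_top_of_surjective _ φ.rangeRestrict_surjective, ← commutator_def] at h2
  obtain ⟨j, hj⟩ := IsPGroup.iff_card.1 h
  have hco : orderOf c = p ^ k :=
    (orderOf_injective (MulAut.conj g).toMonoidHom (MulAut.conj g).injective b).trans hbo
  have h4 : orderOf (φ.rangeRestrict c') ∣ p ^ k := by
    refine (orderOf_map_dvd _ _).trans ?_
    rw [← Subgroup.orderOf_coe]
    exact (hce ▸ hco).dvd
  have h5 : φ c' = 1 := congrArg Subtype.val (orderOf_eq_one_iff.1 (Nat.eq_one_of_dvd_coprimes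
    (Nat.Coprime.pow j k ((Nat.coprime_primes hq.out hp.out).2 hpq))
    (hj ▸ Subgroup.orderOf_dvd_natCard _ h1) h4))
  have h6 : Subgroup.inclusion hEN c' ∈ (Subgroup.normalizerMonoidHom (cj A g)).ker := h5
  rw [Subgroup.normalizerMonoidHom_ker, Subgroup.mem_subgroupOf] at h6
  have h7 : c ∈ cj (Subgroup.centralizer (A : Set G)) g := by rw [Fusion.cj_centralizer]; exact hce ▸ h6
  obtain ⟨b', hb', hbe⟩ := h7
  exact (MulAut.conj g).injective hbe ▸ hb'

omit hq in
/-- A prime outside `σ(M)` normalising and moving a cyclic group of prime order is smaller. -/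
theorem lt_of_moves {Y : Subgroup G} {r : ℕ} [hr : Fact r.Prime] (hY : Nat.card Y = r) {g : G} {p : ℕ}
    (hp : p.Prime) (hg : orderOf g = p) (hn : g ∈ Subgroup.normalizer (Y : Set G))
    (hm : g ∉ Subgroup.centralizer (Y : Set G)) : p < r := by
  haveI : IsCyclic ↥Y := isCyclic_of_prime_card hY
  set φ := Subgroup.normalizerMonoidHom Y
  have h1 : orderOf (φ ⟨g, hn⟩) ∣ r - 1 := by
    refine (orderOf_dvd_natCard _).trans ?_
    rw [IsCyclic.card_mulAut, hY, Nat.totient_prime hr.out]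
  have h2 : orderOf (φ ⟨g, hn⟩) = p := by
    have h3 : orderOf (φ ⟨g, hn⟩) ∣ p := (orderOf_map_dvd φ _).trans (by rw [Subgroup.orderOf_mk, hg])
    refine ((Nat.dvd_prime hp).1 h3).resolve_left fun h => hm ?_
    have h4 : (⟨g, hn⟩ : ↥(Subgroup.normalizer (Y : Set G))) ∈ φ.ker := orderOf_eq_one_iff.1 h
    rw [Subgroup.normalizerMonoidHom_ker, Subgroup.mem_subgroupOf] at h4
    exact h4
  have h5 := Nat.le_of_dvd (by have := hr.out.two_le; omega) (h2 ▸ h1)
  have := hr.out.two_le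
  omega

end Cfsg.Agent.OddLocal.Prime
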