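import Cfsg.Agent.Lib.OddLocal.PrimeContain
import Cfsg.Agent.Lib.OddLocal.DecompositionFixed

/-!
The centralizers of the elements of `M_σ` fixed by elements of order prime to `σ(M)`.
-/

set_option autoImplicit false
set_option linter.style.haveILetI false

namespace Cfsg.Agent.OddLocal.Prime

open scoped Pointwise commutatorElement
open Cfsg
open Cfsg.Agent.Fusion (SylIn cj cj_cj cj_eq_self cj_mono card_cj isPGroup_cj exists_sylIn_ge exists_sylIn
  mem_normalizer_of_cj_le)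
open Cfsg.Agent.OddLocal.Uniq
open Cfsg.Agent.OddLocal.Sig
open Cfsg.Agent.OddLocal.RankTwo
open Cfsg.Agent.OddLocal.TauTwo
open Cfsg.Agent.OddLocal.Disjoint (mem_centralizer_zpowers zpowers_card mem_zpowers_of_order elab_cj exists_sq
  cyclic_of_prank tau2_commute conjugate_of_sigma)

universe u

variable {G : Type u} [Group G] [Finite G] {q : ℕ} [hq : Fact q.Prime] {M : Subgroup G}

omit hq in
/-- A power of prime order. -/
theorem exists_prime_power_order {y : G} (hy : y ≠ 1) :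
    ∃ (t : ℕ) (n : ℕ), t.Prime ∧ t ∣ orderOf y ∧ orderOf (y ^ n) = t := by
  obtain ⟨t, ht, hd⟩ := Nat.exists_prime_and_dvd (fun h => hy (orderOf_eq_one_iff.1 h) : orderOf y ≠ 1)
  exact ⟨t, _, ht, hd, orderOf_pow_orderOf_div (orderOf_pos y).ne' hd⟩

/-- The normaliser of a point of `M_σ` fixed by an element of a rank one prime lies in `M` only. -/
theorem over_eq_of_fixed (hG : IsMinSimpleOddOrder G) (hM : IsCoatom M) {x c : G} {r : ℕ} [hr : Fact r.Prime]
    (hxM : x ∈ M) (hxo : orderOf x = q) (hσq : q ∉ sigma M) (hq1 : PRankLE q 1 ↥M) (hc : c ∈ sigmaCore M)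
    (hco : orderOf c = r) (hxc : x * c = c * x) {H : Subgroup G} (hH : IsCoatom H)
    (hNH : Subgroup.normalizer (Subgroup.zpowers c : Set G) ≤ H) : H = M := by
  by_contra hne
  have hcM : c ∈ M := Subgroup.map_subtype_le _ hc
  have hrσ : r ∈ sigma M :=
    (sigmaCore_hall hG hM).1.2.1 r hr.out (hco ▸ Subgroup.orderOf_dvd_natCard _ hc)
  obtain ⟨-, hσH, -⟩ := over_setup hG hM hrσ hcM hco hH hNH hne
  obtain ⟨L, hL, hNL, hCL⟩ := exists_over hG hxo
  have hqL : q ∈ sigma L := sigma_over hG hM hxM hxo hσq hq1 hc hco hxc hL hNL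
  have hσrL : r ∉ sigma L := fun h => by
    obtain ⟨g, hg⟩ := conjugate_of_sigma hG hM hL hrσ h
    exact over_not_conj hG hσq hq1 hL hxo hNL g hg
  have hxσ : x ∈ sigmaCore L := mem_sigmaCore hG hL (hCL x rfl) (k := 1) (by rw [pow_one, hxo]) hqL
  have hrL : PRankLE r 1 ↥L :=
    foreign_rank_one hG hM hL hrσ hσrL hcM (hCL c hxc) hco hxM hxσ (ne_one_of_order hxo) hxc.symm
  exact hσH (sigma_over hG hL (hCL c hxc) hco hσrL hrL hxσ hxo hxc.symm hH hNH)

/-- The centralizer of a point of `M_σ` fixed by an element of a rank one prime lies in `M`. -/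
theorem centralizer_le_of_fixed (hG : IsMinSimpleOddOrder G) (hM : IsCoatom M) {x y : G}
    (hxM : x ∈ M) (hxo : orderOf x = q) (hσq : q ∉ sigma M) (hq1 : PRankLE q 1 ↥M) (hy : y ∈ sigmaCore M)
    (hy1 : y ≠ 1) (hxy : x * y = y * x) : Subgroup.centralizer ({y} : Set G) ≤ M := by
  obtain ⟨t, n, ht, -, hyn⟩ := exists_prime_power_order hy1
  haveI := Fact.mk ht
  obtain ⟨H, hH, hNH, hCH⟩ := exists_over hG hyn
  obtain rfl := over_eq_of_fixed hG hM hxM hxo hσq hq1 (pow_mem hy n) hyn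
    ((show Commute x y from hxy).pow_right n).eq hH hNH
  intro g hg
  exact hCH g ((show Commute y g from (Subgroup.mem_centralizer_singleton_iff.1 hg).symm).pow_left n).eq

/-- An element of a rank one prime and one of a prime of `τ₂(M)` with a common fixed point do not commute. -/
theorem not_commute_tau2 (hG : IsMinSimpleOddOrder G) (hM : IsCoatom M) {x w c : G} {s r : ℕ}
    [hs : Fact s.Prime] [hr : Fact r.Prime] (hxM : x ∈ M) (hwM : w ∈ M) (hxo : orderOf x = q)
    (hwo : orderOf w = s) (hσq : q ∉ sigma M) (hq1 : PRankLE q 1 ↥M) (hs2 : s ∈ tau2 M) (hc : c ∈ sigmaCore M)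
    (hco : orderOf c = r) (hxc : x * c = c * x) (hwc : w * c = c * w) : x * w ≠ w * x := by
  intro hxw
  obtain ⟨E, hE⟩ := exists_compl hG hM
  have hc1 : c ≠ 1 := ne_one_of_order hco
  obtain ⟨hCw, huniq⟩ := element_unique hG hM hE hwM (ne_one_of_order hwo) (fun t ht htd => by
    rw [hwo] at htd; rw [(Nat.prime_dvd_prime_iff_eq ht hs.out).1 htd]; exact hs2) hc hc1 hwc
  obtain ⟨L, hL, hNL, hCL⟩ := exists_over hG hxo
  have hqL : q ∈ sigma L := sigma_over hG hM hxM hxo hσq hq1 hc hco hxc hL hNL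
  have hLM := over_not_conj hG hσq hq1 hL hxo hNL
  have hne : M ≠ L := fun h => hLM 1 (by rw [Fusion.cj_one, h])
  have hxσ : x ∈ sigmaCore L := mem_sigmaCore hG hL (hCL x rfl) (k := 1) (by rw [pow_one, hxo]) hqL
  have hwL : w ∈ L := hCL w hxw
  obtain ⟨H, hH, hNH, hCH⟩ := exists_over hG hwo
  obtain rfl : H = M := huniq H hH fun g hg => hCH g (Subgroup.mem_centralizer_singleton_iff.1 hg).symm
  by_cases hσsL : s ∈ sigma L
  · obtain ⟨-, -, B, hBL, sB, -⟩ := over_setup hG hL hσsL hwL hwo hH hNH hne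
    refine hc1 (Subgroup.mem_bot.1 (sigmaCore_inf_centralizer sB ▸ Subgroup.mem_inf.2 ⟨hc,
      Subgroup.mem_centralizer_iff.2 fun b hb => ?_⟩))
    exact (cores_commute hG hM hL hLM hc (hCL c hxc) (le_of_hall (sigmaCore_hall hG hL).1 le_normalizer_piCoreOf hBL
      (piNum_of_pgroup (Fusion.elab_isPGroup sB.elem) hσsL) hb) (sB.le hb)).symm
  by_cases hs1 : PRankLE s 1 ↥L
  · exact hs2.2.1 (sigma_over hG hL hwL hwo hσsL hs1 hxσ hxo hxw.symm hH hNH)
  obtain ⟨F, hF, hYF⟩ := exists_compl_ge hG hL (Y := Subgroup.zpowers w) (Subgroup.zpowers_le.2 hwL)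
    fun t ht htd => by
      rw [zpowers_card hwo] at htd
      rw [(Nat.prime_dvd_prime_iff_eq ht hs.out).1 htd]
      exact hσsL
  obtain ⟨A, hAF, sA⟩ := exists_setup_in_compl hG hL hF
    ⟨hs.out, hσsL, prankLE_of_not_alpha hs.out (not_alpha_of_not_sigma hG hL hσsL), hs1⟩
  have hwA : w ∈ A := (complement_tau2 sA hF hAF).1.2 _ hYF (zpowers_card hwo) (Subgroup.mem_zpowers w)
  have hAM : A ≤ H := fun a ha => hCH a
    (congrArg Subtype.val (sA.elem.1.is_comm.comm (⟨w, hwA⟩ : A) ⟨a, ha⟩))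
  exact ne_one_of_order hxo (Subgroup.mem_bot.1 (sigmaCore_inf_coatom sA hH hne hAM ▸
    Subgroup.mem_inf.2 ⟨hxσ, hxM⟩))

omit hq in
/-- All primes of `τ₂(M)` lie in `σ(H)` for `H` over the normaliser of an elementary subgroup for one of them. -/
theorem tau2_common {s : ℕ} [hs : Fact s.Prime] {A E : Subgroup G} (sA : Setup s M A)
    (hE : IsComplIn E (sigmaCore M) M) (hAE : A ≤ E) {H : Subgroup G} (hH : IsCoatom H)
    (hNH : Subgroup.normalizer (A : Set G) ≤ H) {t : ℕ} (ht : t ∈ tau2 M) : t ∈ sigma H := by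
  haveI := Fact.mk ht.1
  have hG := sA.minSimple
  have hAH : A ≤ H := Subgroup.le_normalizer.trans hNH
  have hsH : s ∈ sigma H := by
    by_contra h
    exact (⟨hG, hH, h, hAH, sA.elem, sA.card⟩ : Setup s H A).normalizer_not_le hNH
  by_contra htH
  obtain ⟨B, hBE, sB⟩ := exists_setup_in_compl hG sA.coatom hE ht
  have sB' : Setup t H B :=
    ⟨hG, hH, htH, hBE.trans ((complement_tau2 sA hE hAE).1.1.trans hNH), sB.elem, sB.card⟩
  refine sA.ne_bot (le_bot_iff.1 ?_)
  rw [← sigmaCore_inf_coatom sB' sA.coatom (fun h => sA.not_sigma (h ▸ hsH)) sB.le]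
  exact le_inf (le_of_hall (sigmaCore_hall hG hH).1 le_normalizer_piCoreOf hAH
    (piNum_of_pgroup (Fusion.elab_isPGroup sA.elem) hsH)) sA.le

omit hq in
/-- The prime divisors outside `σ(M)` of an element with a fixed point on `M_σ`. -/
theorem fixed_class (hG : IsMinSimpleOddOrder G) (hM : IsCoatom M) {y x : G} (hx : x ∈ M) (hy : y ∈ sigmaCore M)
    (hy1 : y ≠ 1) (hxy : x * y = y * x) {t : ℕ} (ht : t.Prime) (hd : t ∣ orderOf x) (hσ : t ∉ sigma M) :
    t ∈ kappa M ∧ PRankLE t 1 ↥M ∨ t ∈ tau2 M := by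
  have hdM := hd.trans (Subgroup.orderOf_dvd_natCard _ hx)
  rcases classify hG hM ht hσ hdM with h | h
  · exact Or.inr h
  · have hr : PRankLE t 1 ↥M := h.elim (fun h => h.2.2.2.2) fun h => h.2.2.2
    exact Or.inl ⟨Decomp.kappa_of_fixed hG hM ht hσ hdM hr hx hd hy hy1 hxy, hr⟩

omit hq in
/-- The primes outside `σ(M)` of an element with a fixed point lie all in `κ(M)` or all in `τ₂(M)`. -/
theorem fixed_dichotomy (hG : IsMinSimpleOddOrder G) (hM : IsCoatom M) {y x : G} (hx : x ∈ M)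
    (hy : y ∈ sigmaCore M) (hy1 : y ≠ 1) (hxy : x * y = y * x) (hx1 : x ≠ 1)
    (hσ : ∀ t : ℕ, t.Prime → t ∣ orderOf x → t ∉ sigma M) :
    ((∀ t : ℕ, t.Prime → t ∣ orderOf x → t ∈ kappa M) ∧ Subgroup.centralizer ({y} : Set G) ≤ M) ∨
      ∀ t : ℕ, t.Prime → t ∣ orderOf x → t ∈ tau2 M := by
  obtain ⟨r, n, hr, -, hyn⟩ := exists_prime_power_order hy1
  haveI := Fact.mk hr
  by_cases h2 : ∀ t : ℕ, t.Prime → t ∣ orderOf x → t ∈ tau2 M
  · exact Or.inr h2
  push Not at h2
  obtain ⟨q, hq, hdq, hq2⟩ := h2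
  haveI := Fact.mk hq
  obtain ⟨-, hq1⟩ := (fixed_class hG hM hx hy hy1 hxy hq hdq (hσ q hq hdq)).resolve_right hq2
  have hko : orderOf (x ^ (orderOf x / q)) = q := orderOf_pow_orderOf_div (orderOf_pos x).ne' hdq
  have hc : ∀ a, x ^ a * y = y * x ^ a := fun a => ((show Commute x y from hxy).pow_left a).eq
  refine Or.inl ⟨fun t ht htd => ?_, centralizer_le_of_fixed hG hM (pow_mem hx _) hko (hσ q hq hdq) hq1 hy hy1 (hc _)⟩
  rcases fixed_class hG hM hx hy hy1 hxy ht htd (hσ t ht htd) with h | h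
  · exact h.1
  haveI := Fact.mk ht
  have hwo : orderOf (x ^ (orderOf x / t)) = t := orderOf_pow_orderOf_div (orderOf_pos x).ne' htd
  exact absurd ((Commute.refl x).pow_pow _ _).eq (not_commute_tau2 hG hM (pow_mem hx _) (pow_mem hx _) hko hwo
    (hσ q hq hdq) hq1 h (pow_mem hy n) hyn ((show Commute _ y from hc _).pow_right n).eq
    ((show Commute _ y from hc _).pow_right n).eq)

end Cfsg.Agent.OddLocal.Prime
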