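import Cfsg.Agent.Lib.OddLocal.PrimeOver

/-!
The fixed points on `M_σ` of an element of a prime of `τ₁(M)` are fixed by the elements of prime order outside
`σ(M)` which centralize it.
-/

set_option autoImplicit false
set_option linter.style.haveILetI false

namespace Cfsg.Agent.OddLocal.Prime

open scoped Pointwise commutatorElement
open Cfsg
open Cfsg.Agent.Fusion (SylIn cj cj_cj cj_eq_self cj_mono card_cj isPGroup_cj exists_sylIn_ge exists_sylIn
  mem_normalizer_of_cj_le)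
open Cfsg.Agent.OddLocal.Uniq
open Cfsg.Agent.OddLocal.Sig
open Cfsg.Agent.OddLocal.RankTwo
open Cfsg.Agent.OddLocal.TauTwo
open Cfsg.Agent.OddLocal.Disjoint (mem_centralizer_zpowers zpowers_card mem_zpowers_of_order elab_cj exists_sq
  cyclic_of_prank tau2_commute conjugate_of_sigma)

universe u

variable {G : Type u} [Group G] [Finite G] {q : ℕ} [hq : Fact q.Prime] {M L : Subgroup G}

/-- The maximal subgroups other than `M` over the normaliser of an element of `M` for a prime of `σ(M)`. -/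
theorem over_setup (hG : IsMinSimpleOddOrder G) (hM : IsCoatom M) {c : G} {r : ℕ} [hr : Fact r.Prime]
    (hrσ : r ∈ sigma M) (hcM : c ∈ M) (hco : orderOf c = r) {H : Subgroup G} (hH : IsCoatom H)
    (hNH : Subgroup.normalizer (Subgroup.zpowers c : Set G) ≤ H) (hne : H ≠ M) :
    (∀ g : G, H ≠ cj M g) ∧ r ∉ sigma H ∧ ∃ B : Subgroup G, B ≤ M ∧ Setup r H B ∧ c ∈ B := by
  obtain ⟨S, hS, hcS⟩ := exists_sylIn_ge (isPGroup_of_card (zpowers_card hco))
    (le_inf (Subgroup.zpowers_le.2 hcM) (Subgroup.le_normalizer.trans hNH) : Subgroup.zpowers c ≤ M ⊓ H)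
  obtain ⟨hconj, -, hidx⟩ := sigma_embedding hG hM hrσ (isPGroup_of_card (zpowers_card hco))
    (ne_bot_of_card (zpowers_card hco)) (Subgroup.zpowers_le.2 hcM) hne hNH hS hcS
  have hσH : r ∉ sigma H := fun h => by
    obtain ⟨g, hg⟩ := conjugate_of_sigma hG hM hH hrσ h
    exact hconj g hg
  obtain ⟨F, hF, hFe, hFc⟩ := exists_sq (order_p_normalizer hG hH hσH (zpowers_card hco) hNH).1.2
  have hSH : SylIn r S H := ⟨hS.le.trans inf_le_right, hS.isPGroup, hidx⟩
  obtain ⟨m, -, hm⟩ := hSH.conj_le (Fusion.elab_isPGroup hFe) hF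
  have sB : Setup r H (cj F m) := ⟨hG, hH, hσH, hm.trans hSH.le, elab_cj hFe m, by rw [card_cj, hFc]⟩
  exact ⟨hconj, hσH, cj F m, hm.trans (hS.le.trans inf_le_left), sB,
    (omega_iff sB hSH hm c (hcS (Subgroup.mem_zpowers c))).1 (hco ▸ pow_orderOf_eq_one c)⟩

omit hq in
/-- A moved point of coprime action on a group with cyclic Sylow subgroups may be taken of prime order. -/
theorem exists_moved_prime (hG : IsMinSimpleOddOrder G) {C : Subgroup G} (hC : C ≠ ⊤) {w : G}
    (hwC : w ∈ Subgroup.normalizer (C : Set G)) (hco : (orderOf w).Coprime (Nat.card C))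
    (hrank : ∀ r : ℕ, r.Prime → PRankLE r 1 ↥C) (hmove : ¬ C ≤ Subgroup.centralizer (Subgroup.zpowers w : Set G)) :
    ∃ c r, r.Prime ∧ c ∈ C ∧ orderOf c = r ∧ w ∈ Subgroup.normalizer (Subgroup.zpowers c : Set G) ∧
      w * c ≠ c * w := by
  classical
  set D := C ⊓ Subgroup.centralizer (Subgroup.zpowers w : Set G) with hD
  have hne : D.relIndex C ≠ 1 := fun h => hmove ((Subgroup.relIndex_eq_one.1 h).trans inf_le_right)
  obtain ⟨r, hr, hd⟩ := Nat.exists_prime_and_dvd hne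
  haveI := Fact.mk hr
  have hWn : Subgroup.zpowers w ≤ Subgroup.normalizer (C : Set G) := Subgroup.zpowers_le.2 hwC
  have hsol : Group.IsSolvable ↥(Subgroup.zpowers w) :=
    haveI : IsMulCommutative ↥(Subgroup.zpowers w) := inferInstance
    inferInstance
  obtain ⟨T, hT₀, -, hWT⟩ := Solv.exists_invariant_sylow_ge (p := r) hWn
    (by rw [Nat.card_zpowers]; exact hco) (Or.inl hsol) ⊥ bot_le IsPGroup.of_bot
    (fun g _ => by rw [Subgroup.normalizer_eq_top]; exact Subgroup.mem_top g)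
  have hT := sylIn_of_isSylIn hT₀
  have hTc : IsCyclic ↥T := cyclic_of_prank hG hT.isPGroup hT.le (hrank r hr)
  have hwT : w ∈ Subgroup.normalizer (T : Set G) := hWT (Subgroup.mem_zpowers w)
  have hTmove : ¬ T ≤ Subgroup.centralizer (Subgroup.zpowers w : Set G) := fun h =>
    hT.not_dvd (hd.trans (Subgroup.relIndex_dvd_of_le_left C (le_inf hT.le h)))
  have hT1 : r ∣ Nat.card T := by
    obtain ⟨i, hi⟩ := IsPGroup.iff_card.1 hT.isPGroup
    refine hi ▸ dvd_pow_self r fun h => hTmove ?_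
    rw [Subgroup.card_eq_one.1 (hi.trans (by rw [h, pow_zero]))]
    exact bot_le
  obtain ⟨⟨c, hcT⟩, hcr⟩ := exists_prime_orderOf_dvd_card' r hT1
  rw [Subgroup.orderOf_mk] at hcr
  have hcC : Subgroup.zpowers c ≤ T := Subgroup.zpowers_le.2 hcT
  refine ⟨c, r, hr, hT.le hcT, hcr, mem_normalizer_of_cj_le (cyclic_eq hTc
    ((cj_mono hcC w).trans (cj_eq_self hwT).le) hcC (by rw [card_cj, zpowers_card hcr]) (zpowers_card hcr)).le,
    fun hwc => hTmove ?_⟩
  -- the action on the socle detects the action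
  set φ := Subgroup.normalizerMonoidHom T
  obtain ⟨Ω, -, -, hΩd, hΩdet⟩ := Local.FS.exists_detect hT.isPGroup φ.range
  have hr2 : r ≠ 2 := Uniq.ne_two hG (isPGroup_of_card (zpowers_card hcr)) (ne_bot_of_card (zpowers_card hcr))
  have hker : φ ⟨w, hwT⟩ = 1 := by
    refine hΩdet _ ⟨_, rfl⟩ (Nat.Coprime.coprime_dvd_left ((orderOf_map_dvd φ _).trans
      (Subgroup.orderOf_mk _ _).dvd) (hco.coprime_dvd_right (hT1.trans (Subgroup.card_dvd_of_le hT.le))))
      fun d hd => Subtype.ext ?_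
    show w * (d : G) * w⁻¹ = d
    by_cases hd1 : d = 1
    · simp [hd1]
    have hdo : orderOf (d : G) = r := by
      rw [Subgroup.orderOf_coe]
      exact orderOf_eq_prime ((hΩd d hd).resolve_right fun h => hr2 h.1) hd1
    obtain ⟨i, hi⟩ := Subgroup.mem_zpowers_iff.1 ((cyclic_eq hTc (Subgroup.zpowers_le.2 d.2) hcC
      (zpowers_card hdo) (zpowers_card hcr)) ▸ Subgroup.mem_zpowers (d : G))
    rw [← hi, ((show Commute w c from hwc).zpow_right i).eq, mul_inv_cancel_right]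
  have h6 : (⟨w, hwT⟩ : ↥(Subgroup.normalizer (T : Set G))) ∈ φ.ker := hker
  rw [Subgroup.normalizerMonoidHom_ker, Subgroup.mem_subgroupOf] at h6
  exact Subgroup.le_centralizer_iff.1 (Subgroup.zpowers_le.2 h6)

/-- The fixed points on `M_σ` of an element `x` are `M_σ ∩ L`, for `L` over the normaliser of `⟨x⟩`. -/
theorem fixed_eq_inf (hG : IsMinSimpleOddOrder G) (hM : IsCoatom M) {x : G} (hxM : x ∈ M) (hxo : orderOf x = q)
    (hσq : q ∉ sigma M) (hq1 : PRankLE q 1 ↥M) (hL : IsCoatom L)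
    (hNL : Subgroup.normalizer (Subgroup.zpowers x : Set G) ≤ L) (hqL : q ∈ sigma L) :
    sigmaCore M ⊓ Subgroup.centralizer (Subgroup.zpowers x : Set G) = sigmaCore M ⊓ L := by
  have hxL : x ∈ L := hNL (Subgroup.le_normalizer (Subgroup.mem_zpowers x))
  refine le_antisymm (inf_le_inf_left _ ((Subgroup.centralizer_le_normalizer _).trans hNL)) fun c hc =>
    ⟨hc.1, mem_centralizer_zpowers.2 ?_⟩
  exact (cores_commute hG hM hL (over_not_conj hG hσq hq1 hL hxo hNL) hc.1 hc.2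
    (mem_sigmaCore hG hL hxL (k := 1) (by rw [pow_one, hxo]) hqL) hxM).symm

/-- An element of prime order commuting with an element of a prime of `τ₁(M)` centralizes its fixed points. -/
theorem fixed_le_centralizer (hG : IsMinSimpleOddOrder G) (hM : IsCoatom M) {x w : G} {s : ℕ} [hs : Fact s.Prime]
    (hxM : x ∈ M) (hxo : orderOf x = q) (hσq : q ∉ sigma M) (hq1 : PRankLE q 1 ↥M)
    (hqd : ¬ q ∣ Nat.card ↥⁅M, M⁆) (hwM : w ∈ M) (hwo : orderOf w = s) (hσs : s ∉ sigma M)
    (hwx : w * x = x * w) :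
    sigmaCore M ⊓ Subgroup.centralizer (Subgroup.zpowers x : Set G) ≤
      Subgroup.centralizer (Subgroup.zpowers w : Set G) := by
  set C := sigmaCore M ⊓ Subgroup.centralizer (Subgroup.zpowers x : Set G) with hC
  by_contra hle
  have hCσ : C ≤ sigmaCore M := inf_le_left
  have hσM : sigmaCore M ≤ M := Subgroup.map_subtype_le _
  obtain ⟨c₀, hc₀, hc₀1⟩ := exists_ne_one (fun h => hle (h ▸ bot_le) : C ≠ ⊥)
  obtain ⟨t, ht, htd⟩ := Nat.exists_prime_and_dvd (fun h => hc₀1 (orderOf_eq_one_iff.1 h) : orderOf c₀ ≠ 1)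
  haveI := Fact.mk ht
  have hc₁C : c₀ ^ (orderOf c₀ / t) ∈ C := pow_mem hc₀ _
  obtain ⟨L, hL, hNL, hCL⟩ := exists_over hG hxo
  have hqL : q ∈ sigma L := sigma_over_tau1 hG hM hxM hxo hσq hq1 hqd (hCσ hc₁C)
    (orderOf_pow_orderOf_div (orderOf_pos c₀).ne' htd) (mem_centralizer_zpowers.1 hc₁C.2) hL hNL
  have hCeq := fixed_eq_inf hG hM hxM hxo hσq hq1 hL hNL hqL
  have hLM := over_not_conj hG hσq hq1 hL hxo hNL
  have hwL : w ∈ L := hCL w hwx.symm
  have hxσ : x ∈ sigmaCore L := mem_sigmaCore hG hL (hCL x rfl) (k := 1) (by rw [pow_one, hxo]) hqL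
  have hσsL : s ∉ sigma L := fun h => hle fun c hc => mem_centralizer_zpowers.2
    (cores_commute hG hM hL hLM hc.1 (hCeq.le hc).2 (mem_sigmaCore hG hL hwL (k := 1) (by rw [pow_one, hwo]) h)
      hwM).symm
  have hwC : w ∈ Subgroup.normalizer (C : Set G) := mem_normalizer_of_cj_le (le_of_eq (by
    rw [hC, Fusion.cj_inf, cj_eq_self (H := sigmaCore M) (le_normalizer_piCoreOf hwM), Fusion.cj_centralizer,
      cj_zpowers, hwx, mul_inv_cancel_right]))
  obtain ⟨c, r, hr, hcC, hco, hwn, hwc⟩ := exists_moved_prime hG (C := C)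
    (fun h => hM.1 (eq_top_iff.2 (h ▸ hCσ.trans hσM))) hwC (Nat.coprime_of_dvd fun t ht h1 h2 => hσs (by
      rw [hwo] at h1
      exact (Nat.prime_dvd_prime_iff_eq ht hs.out).1 h1 ▸ (sigmaCore_hall hG hM).1.2.1 t ht
        (h2.trans (Subgroup.card_dvd_of_le hCσ))))
    (fun r hr => haveI := Fact.mk hr; fixed_rank_one hG hM hxM hxo hσq hq1) hle
  haveI := Fact.mk hr
  have hrσ : r ∈ sigma M := (sigmaCore_hall hG hM).1.2.1 r hr
    (hco ▸ Subgroup.orderOf_dvd_natCard _ (hCσ hcC))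
  have hcM : c ∈ M := hσM (hCσ hcC)
  have hxc : x * c = c * x := mem_centralizer_zpowers.1 hcC.2
  have hcL : c ∈ L := hCL c hxc
  have hσrL : r ∉ sigma L := fun h => by
    obtain ⟨g, hg⟩ := conjugate_of_sigma hG hM hL hrσ h
    exact hLM g hg
  have hrL : PRankLE r 1 ↥L :=
    foreign_rank_one hG hM hL hrσ hσrL hcM hcL hco hxM hxσ (ne_one_of_order hxo) hxc.symm
  have hsL : PRankLE s 1 ↥L := by
    by_contra hs2
    have hsne : r ≠ s := fun h => hσs (h ▸ hrσ)
    obtain ⟨E, hE, hYE⟩ := exists_compl_ge hG hL (Y := Subgroup.zpowers c ⊔ Subgroup.zpowers w)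
      (sup_le (Subgroup.zpowers_le.2 hcL) (Subgroup.zpowers_le.2 hwL)) fun u hu hud hσu => by
        have h1 := Solv.card_sup_mul_card_inf' (Subgroup.zpowers c) (Subgroup.zpowers w) (Subgroup.zpowers_le.2 hwn)
        rcases (Nat.Prime.dvd_mul hu).1
            (h1 ▸ hud.mul_right _ : u ∣ Nat.card (Subgroup.zpowers c) * Nat.card (Subgroup.zpowers w)) with h | h
        · rw [zpowers_card hco] at h
          exact hσrL ((Nat.prime_dvd_prime_iff_eq hu hr).1 h ▸ hσu)
        · rw [zpowers_card hwo] at h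
          exact hσsL ((Nat.prime_dvd_prime_iff_eq hu hs.out).1 h ▸ hσu)
    obtain ⟨A, hAE, sA⟩ := exists_setup_in_compl hG hL hE
      ⟨hs.out, hσsL, prankLE_of_not_alpha hs.out (not_alpha_of_not_sigma hG hL hσsL), hs2⟩
    obtain ⟨⟨hEA, hlines⟩, -, -⟩ := complement_tau2 sA hE hAE
    have hwA : w ∈ A := hlines _ (le_sup_right.trans hYE) (zpowers_card hwo) (Subgroup.mem_zpowers w)
    have hcA : c ∈ Subgroup.normalizer (A : Set G) := hEA (hYE (Subgroup.mem_sup_left (Subgroup.mem_zpowers c)))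
    have h1 : ⁅w, c⁆ ∈ Subgroup.zpowers c ⊓ A := by
      refine ⟨?_, ?_⟩
      · rw [commutatorElement_def]
        exact Subgroup.mul_mem _ ((Subgroup.mem_normalizer_iff.1 hwn c).1 (Subgroup.mem_zpowers c))
          (Subgroup.inv_mem _ (Subgroup.mem_zpowers c))
      · rw [commutatorElement_def, mul_assoc, mul_assoc, ← mul_assoc c]
        exact Subgroup.mul_mem _ hwA ((Subgroup.mem_normalizer_iff.1 hcA _).1 (Subgroup.inv_mem _ hwA))
    rw [Solv.coprime_inf (by
      rw [zpowers_card hco, sA.card]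
      exact ((Nat.coprime_primes hr hs.out).2 hsne).pow_right 2), Subgroup.mem_bot] at h1
    exact hwc (commutatorElement_eq_one_iff_mul_comm.1 h1)
  obtain ⟨T, hT, -, hxT, hTc, hcT⟩ :=
    centralizes_sylow hG hL hcL hwL hco hwo hσrL hσsL hrL hsL hwn hwc hxσ hxo hxc.symm hwx
  obtain ⟨m, hmL, hmc, hmx, hm⟩ := exists_mover_over hG hco hrL hqL hT hxT hxo hTc hcT
  obtain ⟨H, hH, hNH, hCH⟩ := exists_over hG hco
  by_cases hHM : H = M
  · exact hqd (hxo ▸ Subgroup.orderOf_dvd_natCard _ (line_le_derived hxo hxM (hHM ▸ hNH hmc) hmx hm))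
  obtain ⟨hconj, hσH, B, hBM, sB, -⟩ := over_setup hG hM hrσ hcM hco hH hNH hHM
  have hxH : x ∈ H := hCH x hxc.symm
  have hqH : q ∉ sigma H := fun h => ne_one_of_order hxo (Subgroup.mem_bot.1
    (sigmaCore_inf_coatom sB hM (Ne.symm hHM) hBM ▸
      Subgroup.mem_inf.2 ⟨mem_sigmaCore hG hH hxH (k := 1) (by rw [pow_one, hxo]) h, hxM⟩))
  have hxB : x ∈ Subgroup.centralizer (B : Set G) := derived_centralizes_setup (fun h : r = q => hσq (h ▸ hrσ))
    hG sB (line_le_derived hxo hxH (hNH hmc) hmx hm) (normalizes_setup sB hM (Ne.symm hHM) hBM hxH hxM)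
    (k := 1) (by rw [pow_one, hxo]) hqH
  exact not_prankLE_of_elab (le_inf (le_of_hall (sigmaCore_hall hG hM).1 le_normalizer_piCoreOf hBM
    (piNum_of_pgroup (Fusion.elab_isPGroup sB.elem) hrσ))
    (Subgroup.le_centralizer_iff.1 (Subgroup.zpowers_le.2 hxB))) sB.elem sB.card.ge
    (fixed_rank_one hG hM hxM hxo hσq hq1)

end Cfsg.Agent.OddLocal.Prime
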