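import Cfsg.Agent.Lib.OddLocal.PrimeMover

/-!
The fixed points on `M_σ` of an element of `M'` of a rank one prime are centralized by a complement of `M_σ`.
-/

set_option autoImplicit false
set_option linter.style.haveILetI false

namespace Cfsg.Agent.OddLocal.Prime

open scoped Pointwise commutatorElement
open Cfsg
open Cfsg.Agent.Fusion (SylIn cj cj_cj cj_eq_self cj_mono card_cj isPGroup_cj exists_sylIn_ge exists_sylIn
  mem_normalizer_of_cj_le)
open Cfsg.Agent.OddLocal.Uniq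
open Cfsg.Agent.OddLocal.Sig
open Cfsg.Agent.OddLocal.RankTwo
open Cfsg.Agent.OddLocal.TauTwo
open Cfsg.Agent.OddLocal.Disjoint (mem_centralizer_zpowers zpowers_card mem_zpowers_of_order elab_cj exists_sq
  cyclic_of_prank tau2_commute conjugate_of_sigma)

universe u

variable {G : Type u} [Group G] [Finite G] {q : ℕ} [hq : Fact q.Prime] {M L E : Subgroup G}

/-- The line of an element of `M'` of a rank one prime is normal in a complement holding it. -/
theorem compl_le_normalizer (hG : IsMinSimpleOddOrder G) (hM : IsCoatom M) (hE : IsComplIn E (sigmaCore M) M)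
    {x : G} (hxo : orderOf x = q) (hxd : x ∈ ⁅M, M⁆) (hxE : x ∈ E) (hq1 : PRankLE q 1 ↥M) :
    E ≤ Subgroup.normalizer (Subgroup.zpowers x : Set G) := by
  have hxD : x ∈ ⁅E, E⁆ := Disjoint.compl_inf_derived hE ⟨hxE, hxd⟩
  obtain ⟨S, hS, hxS⟩ := exists_sylIn_ge (isPGroup_of_card (zpowers_card hxo)) (Subgroup.zpowers_le.2 hxD)
  have hSn : E ≤ Subgroup.normalizer (S : Set G) :=
    SigmaSubgroups.sylow_of_nilpotent_normal (compl_derived hG hM hE) (fun e he => mem_normalizer_of_cj_le (by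
      rw [Fusion.cj_commutator, Fusion.cj_eq_self_of_mem he])) hS
  have hSc : IsCyclic ↥S :=
    cyclic_of_prank hG hS.isPGroup ((hS.le.trans (Subgroup.commutator_le_self E)).trans hE.1) hq1
  exact fun e he => mem_normalizer_of_cj_le (cyclic_eq hSc ((cj_mono hxS e).trans (cj_eq_self (hSn he)).le) hxS
    (by rw [card_cj, zpowers_card hxo]) (zpowers_card hxo)).le

omit hq in
/-- An element of order prime to `σ(M)` is conjugate into any complement. -/
theorem conj_into_compl (hG : IsMinSimpleOddOrder G) (hM : IsCoatom M) (hE : IsComplIn E (sigmaCore M) M)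
    {z : G} (hz : z ∈ M) {b : ℕ} (hb : b.Prime) (hzo : orderOf z = b) (hσb : b ∉ sigma M) :
    ∃ a ∈ M, a * z * a⁻¹ ∈ E := by
  have hall := (sigmaCore_hall hG hM).1
  have hle : Subgroup.zpowers z ≤ sigmaCore M ⊔ E := Subgroup.zpowers_le.2 (by
    obtain ⟨a, ha, b, hb, rfl⟩ := hE.2.2.2 z hz
    exact Subgroup.mul_mem _ (Subgroup.mem_sup_right ha) (Subgroup.mem_sup_left hb))
  obtain ⟨g, hg, hYg⟩ := Solv.sz_contain (sigmaCore M) E (Subgroup.zpowers z) (hE.1.trans le_normalizer_piCoreOf) hle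
    (Nat.coprime_of_dvd fun r hr h1 h2 => by
      rw [Nat.card_zpowers, hzo] at h2
      exact hσb ((Nat.prime_dvd_prime_iff_eq hr hb).1 h2 ▸ hall.2.1 r hr h1))
    (Nat.coprime_of_dvd fun r hr h1 h2 => compl_pi hG hM hE hr h2 (hall.2.1 r hr h1))
    (Or.inl (Solv.isSolvable_of_le (Subgroup.map_subtype_le _) (hG.2.2.2 M hM.1)))
  rw [Solv.conj_smul_eq_map] at hYg
  refine ⟨g⁻¹, M.inv_mem ((Subgroup.map_subtype_le _ : sigmaCore M ≤ M) hg), ?_⟩
  rw [inv_inv]
  exact Fusion.mem_cj.1 (hYg (Subgroup.mem_zpowers z))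

/-- A prime outside `σ(L)` moving a line outside `σ(L)` has rank one in `L`. -/
theorem rank_one_of_mover (hG : IsMinSimpleOddOrder G) (hL : IsCoatom L) {c w : G} {s : ℕ} [hs : Fact s.Prime]
    (hcL : c ∈ L) (hwL : w ∈ L) (hco : orderOf c = q) (hwo : orderOf w = s) (hσq : q ∉ sigma L) (hσs : s ∉ sigma L)
    (hwn : w ∈ Subgroup.normalizer (Subgroup.zpowers c : Set G)) (hwc : w * c ≠ c * w) : PRankLE s 1 ↥L := by
  by_contra hs2
  have hsne : q ≠ s := by
    rintro rfl
    have := lt_of_moves (zpowers_card hco) hq.out hwo hwn fun h => hwc (mem_centralizer_zpowers.1 h).symm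
    omega
  obtain ⟨F, hF, hYF⟩ := exists_compl_ge hG hL (Y := Subgroup.zpowers c ⊔ Subgroup.zpowers w)
    (sup_le (Subgroup.zpowers_le.2 hcL) (Subgroup.zpowers_le.2 hwL)) fun u hu hud hσu => by
      have h1 := Solv.card_sup_mul_card_inf' (Subgroup.zpowers c) (Subgroup.zpowers w) (Subgroup.zpowers_le.2 hwn)
      rcases (Nat.Prime.dvd_mul hu).1
          (h1 ▸ hud.mul_right _ : u ∣ Nat.card (Subgroup.zpowers c) * Nat.card (Subgroup.zpowers w)) with h | h
      · rw [zpowers_card hco] at h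
        exact hσq ((Nat.prime_dvd_prime_iff_eq hu hq.out).1 h ▸ hσu)
      · rw [zpowers_card hwo] at h
        exact hσs ((Nat.prime_dvd_prime_iff_eq hu hs.out).1 h ▸ hσu)
  obtain ⟨A, hAF, sA⟩ := exists_setup_in_compl hG hL hF
    ⟨hs.out, hσs, prankLE_of_not_alpha hs.out (not_alpha_of_not_sigma hG hL hσs), hs2⟩
  obtain ⟨⟨hFA, hlines⟩, -, -⟩ := complement_tau2 sA hF hAF
  have hwA : w ∈ A := hlines _ (le_sup_right.trans hYF) (zpowers_card hwo) (Subgroup.mem_zpowers w)
  have hcA : c ∈ Subgroup.normalizer (A : Set G) := hFA (hYF (Subgroup.mem_sup_left (Subgroup.mem_zpowers c)))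
  have h1 : ⁅w, c⁆ ∈ Subgroup.zpowers c ⊓ A := by
    refine ⟨?_, ?_⟩
    · rw [commutatorElement_def]
      exact Subgroup.mul_mem _ ((Subgroup.mem_normalizer_iff.1 hwn c).1 (Subgroup.mem_zpowers c))
        (Subgroup.inv_mem _ (Subgroup.mem_zpowers c))
    · rw [commutatorElement_def, mul_assoc, mul_assoc, ← mul_assoc c]
      exact Subgroup.mul_mem _ hwA ((Subgroup.mem_normalizer_iff.1 hcA _).1 (Subgroup.inv_mem _ hwA))
  rw [Solv.coprime_inf (by
    rw [zpowers_card hco, sA.card]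
    exact ((Nat.coprime_primes hq.out hs.out).2 hsne).pow_right 2), Subgroup.mem_bot] at h1
  exact hwc (commutatorElement_eq_one_iff_mul_comm.1 h1)

/-- An element moving a line of `M'` of a rank one prime with fixed points has fixed points. -/
theorem mover_fixed (hG : IsMinSimpleOddOrder G) (hM : IsCoatom M) {x c w : G} {s r : ℕ} [hs : Fact s.Prime]
    [hr : Fact r.Prime] (hxo : orderOf x = q) (hσq : q ∉ sigma M) (hq1 : PRankLE q 1 ↥M) (hxd : x ∈ ⁅M, M⁆)
    (hc : c ∈ sigmaCore M) (hco : orderOf c = r) (hxc : x * c = c * x) (hwM : w ∈ M) (hwo : orderOf w = s)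
    (hσs : s ∉ sigma M) (hwn : w ∈ Subgroup.normalizer (Subgroup.zpowers x : Set G)) (hwx : w * x ≠ x * w) :
    sigmaCore M ⊓ Subgroup.centralizer (Subgroup.zpowers w : Set G) ≠ ⊥ := by
  intro hbot
  have hxM : x ∈ M := Subgroup.commutator_le_self M hxd
  have hall := (sigmaCore_hall hG hM).1
  have hσM : sigmaCore M ≤ M := Subgroup.map_subtype_le _
  set X := Subgroup.zpowers x
  set W := Subgroup.zpowers w
  have hco' : (Nat.card (sigmaCore M)).Coprime (Nat.card ↥(X ⊔ W : Subgroup G)) := by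
    refine (Nat.Coprime.mul_left ((Nat.Prime.coprime_iff_not_dvd hq.out).2 fun h => hσq (hall.2.1 q hq.out h))
      ((Nat.Prime.coprime_iff_not_dvd hs.out).2 fun h => hσs (hall.2.1 s hs.out h))).coprime_dvd_left ?_ |>.symm
    have h1 := Solv.card_sup_mul_card_inf' X W (Subgroup.zpowers_le.2 hwn)
    rw [zpowers_card hxo, zpowers_card hwo] at h1
    exact ⟨_, h1.symm⟩
  have key := Solv.FrobFix.formula (sigmaCore M) X W (hG.2.2.2 _ fun h => hM.1 (eq_top_iff.2 (h ▸ hσM)))
    ((sup_le (Subgroup.zpowers_le.2 hxM) (Subgroup.zpowers_le.2 hwM)).trans le_normalizer_piCoreOf)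
    (Subgroup.zpowers_le.2 hwn) (fun e he he1 u hu h => by
      by_contra hu1
      obtain ⟨i, rfl⟩ := Subgroup.mem_zpowers_iff.1 (mem_zpowers_of_order hs.out hwo he he1)
      obtain ⟨j, rfl⟩ := Subgroup.mem_zpowers_iff.1 (mem_zpowers_of_order hq.out hxo hu hu1)
      exact hwx ((show Commute e u from h).zpow_zpow i j).eq) hco'
  have he : sigmaCore M ⊓ Subgroup.centralizer ((X ⊔ W : Subgroup G) : Set G) = ⊥ :=
    le_bot_iff.1 ((inf_le_inf_left _ (centralizer_le_of_le le_sup_right)).trans hbot.le)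
  rw [he, hbot, Subgroup.card_bot] at key
  simp only [one_pow, one_mul, mul_one] at key
  have h2 : sigmaCore M ≤ Subgroup.centralizer (X : Set G) :=
    (Subgroup.eq_of_le_of_card_ge (inf_le_left : sigmaCore M ⊓ Subgroup.centralizer (X : Set G) ≤ _) key.le).ge.trans
      inf_le_right
  obtain ⟨L, hL, hNL, -⟩ := exists_over hG hxo
  obtain ⟨E, hE, hxE⟩ := exists_compl_ge hG hM (Subgroup.zpowers_le.2 hxM) fun t ht htd => by
    rw [zpowers_card hxo] at htd
    rw [(Nat.prime_dvd_prime_iff_eq ht hq.out).1 htd]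
    exact hσq
  have hML : M ≤ L := fun m hm => by
    obtain ⟨a, ha, b, hb, rfl⟩ := hE.2.2.2 m hm
    exact L.mul_mem (hNL (compl_le_normalizer hG hM hE hxo hxd (hxE (Subgroup.mem_zpowers x)) hq1 ha))
      (hNL (Subgroup.centralizer_le_normalizer _ (h2 hb)))
  exact over_not_conj hG hσq hq1 hL hxo hNL 1 (by rw [Fusion.cj_one]; exact ((hM.le_iff).1 hML).resolve_left hL.1)

omit hq in
/-- Of two elements of prime order centralizing `w` one normalizes a conjugate of the line of the other. -/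
theorem pair_normalizes (hG : IsMinSimpleOddOrder G) {H : Subgroup G} (hH : IsCoatom H) {w y z : G} {a b : ℕ}
    [ha : Fact a.Prime] [hb : Fact b.Prime] (hWH : Subgroup.centralizer (Subgroup.zpowers w : Set G) ≤ H)
    (hab : a ≠ b) (hyo : orderOf y = a) (hzo : orderOf z = b) (hwy : w * y = y * w) (hwz : w * z = z * w)
    (hra : PRankLE a 1 ↥H) (hrb : PRankLE b 1 ↥H) :
    ∃ g : G, g * w = w * g ∧ (g * z * g⁻¹ ∈ Subgroup.normalizer (Subgroup.zpowers y : Set G) ∨
      g * y * g⁻¹ ∈ Subgroup.normalizer (Subgroup.zpowers z : Set G)) := by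
  classical
  set W := Subgroup.centralizer (Subgroup.zpowers w : Set G) with hW
  haveI hsolW : Group.IsSolvable ↥W := Solv.isSolvable_of_le hWH (hG.2.2.2 H hH.1)
  set i := (Nat.card W).factorization a
  set j := (Nat.card W).factorization b
  obtain ⟨n, hn⟩ : a ^ i * b ^ j ∣ Nat.card W := Nat.Coprime.mul_dvd_of_dvd_of_dvd
    (Nat.Coprime.pow i j ((Nat.coprime_primes ha.out hb.out).2 hab)) (Nat.ordProj_dvd _ _) (Nat.ordProj_dvd _ _)
  have hna : ¬ a ∣ n := fun h => by
    have h1 : a ^ (i + 1) ∣ Nat.card W := by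
      rw [hn, pow_succ, mul_right_comm]
      exact (mul_dvd_mul_left _ h).mul_right _
    exact Nat.pow_succ_factorization_not_dvd Nat.card_pos.ne' ha.out h1
  have hnb : ¬ b ∣ n := fun h => by
    have h1 : b ^ (j + 1) ∣ Nat.card W := by
      rw [hn, pow_succ, mul_assoc]
      exact (mul_dvd_mul_left _ h).mul_left _
    exact Nat.pow_succ_factorization_not_dvd Nat.card_pos.ne' hb.out h1
  have hca : ∀ e, (a ^ e).Coprime n := fun e =>
    Nat.Coprime.pow_left _ ((Nat.Prime.coprime_iff_not_dvd ha.out).2 hna)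
  have hcb : ∀ e, (b ^ e).Coprime n := fun e =>
    Nat.Coprime.pow_left _ ((Nat.Prime.coprime_iff_not_dvd hb.out).2 hnb)
  obtain ⟨K, hK⟩ := Solv.hall_exists hsolW hn (Nat.Coprime.mul_left (hca i) (hcb j))
  let y' : W := ⟨y, mem_centralizer_zpowers.2 hwy⟩
  let z' : W := ⟨z, mem_centralizer_zpowers.2 hwz⟩
  obtain ⟨g₁, hg₁⟩ := Solv.hall_contain hsolW hn (Nat.Coprime.mul_left (hca i) (hcb j)) (Subgroup.zpowers y') K
    (by rw [zpowers_card ((Subgroup.orderOf_coe y').symm.trans hyo), ← pow_one a]; exact hca 1) hK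
  obtain ⟨g₂, hg₂⟩ := Solv.hall_contain hsolW hn (Nat.Coprime.mul_left (hca i) (hcb j)) (Subgroup.zpowers z') K
    (by rw [zpowers_card ((Subgroup.orderOf_coe z').symm.trans hzo), ← pow_one b]; exact hcb 1) hK
  have hy' := Subgroup.mem_pointwise_smul_iff_inv_smul_mem.1 (hg₁ (Subgroup.mem_zpowers y'))
  have hz' := Subgroup.mem_pointwise_smul_iff_inv_smul_mem.1 (hg₂ (Subgroup.mem_zpowers z'))
  set y₁ : W := g₁⁻¹ * y' * g₁ with hy₁
  set z₁ : W := g₂⁻¹ * z' * g₂ with hz₁
  have hy₁K : y₁ ∈ K := by simpa [hy₁, MulAut.smul_def, mul_assoc] using hy'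
  have hz₁K : z₁ ∈ K := by simpa [hz₁, MulAut.smul_def, mul_assoc] using hz'
  have hcyc : ∀ t : ℕ, t.Prime → ∀ Q : Sylow t ↥K, IsCyclic ↥(Q : Subgroup ↥K) := by
    intro t ht Q
    haveI := Fact.mk ht
    obtain ⟨e, he⟩ := IsPGroup.iff_card.1 Q.isPGroup'
    by_cases he0 : e = 0
    · exact (by
        haveI := (Nat.card_eq_one_iff_unique.1 (show Nat.card ↥(Q : Subgroup ↥K) = 1 by rw [he, he0, pow_zero])).1
        infer_instance)
    have htK : t ∣ a ^ i * b ^ j := hK ▸ (he ▸ dvd_pow_self t he0).trans (Subgroup.card_subgroup_dvd_card _)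
    have hr1 : PRankLE t 1 ↥H := by
      rcases (Nat.Prime.dvd_mul ht).1 htK with h | h
      · exact ((Nat.prime_dvd_prime_iff_eq ht ha.out).1 (ht.dvd_of_dvd_pow h)) ▸ hra
      · exact ((Nat.prime_dvd_prime_iff_eq ht hb.out).1 (ht.dvd_of_dvd_pow h)) ▸ hrb
    haveI := cyclic_of_prank hG ((Q.isPGroup'.map K.subtype).map W.subtype)
      ((Subgroup.map_subtype_le _).trans hWH) hr1
    exact isCyclic_of_surjective (((Q : Subgroup ↥K).equivMapOfInjective K.subtype K.subtype_injective).trans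
      (((Q : Subgroup ↥K).map K.subtype).equivMapOfInjective W.subtype W.subtype_injective)).symm
      (MulEquiv.surjective _)
  haveI hZ : IsZGroup ↥K := ⟨hcyc⟩
  haveI := IsZGroup.isCyclic_commutator (G := ↥K)
  -- in `K` one of the two lines is normal
  set yK : K := ⟨y₁, hy₁K⟩ with hyK
  set zK : K := ⟨z₁, hz₁K⟩ with hzK
  have hconj : ∀ {g v : W}, orderOf (g⁻¹ * v * g) = orderOf v := fun {g v} => by
    conv_rhs => rw [← orderOf_injective (MulAut.conj g⁻¹).toMonoidHom (MulAut.conj g⁻¹).injective v]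
    simp
  have hyo' : orderOf yK = a := by
    rw [hyK, Subgroup.orderOf_mk, hy₁, hconj]
    exact (Subgroup.orderOf_coe y').symm.trans hyo
  have hzo' : orderOf zK = b := by
    rw [hzK, Subgroup.orderOf_mk, hz₁, hconj]
    exact (Subgroup.orderOf_coe z').symm.trans hzo
  have key : ∀ {u : K} {t : ℕ}, t.Prime → orderOf u = t → ¬ t ∣ (commutator ↥K).index →
      ∀ v : K, v ∈ Subgroup.normalizer (Subgroup.zpowers u : Set ↥K) := by
    intro u t ht huo hidx v
    have hu : u ∈ commutator ↥K := by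
      rw [← QuotientGroup.eq_one_iff, ← QuotientGroup.mk'_apply, ← orderOf_eq_one_iff]
      have h1 : orderOf (QuotientGroup.mk' (commutator ↥K) u) ∣ t := huo ▸ orderOf_map_dvd _ _
      have h2 : orderOf (QuotientGroup.mk' (commutator ↥K) u) ∣ (commutator ↥K).index := orderOf_dvd_natCard _
      exact Nat.eq_one_of_dvd_coprimes ((Nat.Prime.coprime_iff_not_dvd ht).2 hidx) h1 h2
    exact mem_normalizer_of_cj_le (Disjoint.eq_of_card_cyclic (C := commutator ↥K)
      ((cj_mono (Subgroup.zpowers_le.2 hu) v).trans (cj_eq_self (by simp [Subgroup.normalizer_eq_top])).le)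
      (Subgroup.zpowers_le.2 hu) (card_cj _ _)).le
  have hnorm : zK ∈ Subgroup.normalizer (Subgroup.zpowers yK : Set ↥K) ∨
      yK ∈ Subgroup.normalizer (Subgroup.zpowers zK : Set ↥K) := by
    by_cases h1 : a ∣ (commutator ↥K).index
    swap
    · exact Or.inl (key ha.out hyo' h1 _)
    by_cases h2 : b ∣ (commutator ↥K).index
    swap
    · exact Or.inr (key hb.out hzo' h2 _)
    have hbot : commutator ↥K = ⊥ := Subgroup.card_eq_one.1 (by
      by_contra h0
      obtain ⟨t, ht, htd⟩ := Nat.exists_prime_and_dvd h0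
      have htK : t ∣ a ^ i * b ^ j := hK ▸ htd.trans (Subgroup.card_subgroup_dvd_card _)
      refine ht.ne_one (Nat.eq_one_of_dvd_coprimes (IsZGroup.coprime_commutator_index (G := ↥K)) htd ?_)
      rcases (Nat.Prime.dvd_mul ht).1 htK with h | h
      · exact ((Nat.prime_dvd_prime_iff_eq ht ha.out).1 (ht.dvd_of_dvd_pow h)) ▸ h1
      · exact ((Nat.prime_dvd_prime_iff_eq ht hb.out).1 (ht.dvd_of_dvd_pow h)) ▸ h2)
    refine Or.inl (Subgroup.centralizer_le_normalizer _ (mem_centralizer_zpowers.2 ?_))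
    have h3 : ⁅yK, zK⁆ ∈ commutator ↥K := commutator_def ↥K ▸
      Subgroup.commutator_mem_commutator (Subgroup.mem_top _) (Subgroup.mem_top _)
    rw [hbot, Subgroup.mem_bot] at h3
    exact commutatorElement_eq_one_iff_mul_comm.1 h3
  have hsub : ∀ {u v : W} {hu : u ∈ K} {hv : v ∈ K},
      (⟨v, hv⟩ : K) ∈ Subgroup.normalizer (Subgroup.zpowers (⟨u, hu⟩ : K) : Set ↥K) →
      (v : G) ∈ Subgroup.normalizer (Subgroup.zpowers (u : G) : Set G) := fun {u v hu hv} h => by
    refine mem_normalizer_of_cj_le ?_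
    rw [Fusion.cj, MonoidHom.map_zpowers, Subgroup.zpowers_le]
    obtain ⟨e, he⟩ := Subgroup.mem_zpowers_iff.1
      ((Subgroup.mem_normalizer_iff.1 h _).1 (Subgroup.mem_zpowers _))
    exact Subgroup.mem_zpowers_iff.2 ⟨e, by simpa using congrArg (fun v : K => ((v : W) : G)) he⟩
  have hgc : ∀ g : W, (g : G) * w = w * g := fun g => (mem_centralizer_zpowers.1 g.2).symm
  rcases hnorm with h | h
  · refine ⟨(g₁ : G) * (g₂ : G)⁻¹, hgc (g₁ * g₂⁻¹), Or.inl ?_⟩
    have h2 : Subgroup.zpowers (y : G) = cj (Subgroup.zpowers (y₁ : G)) (g₁ : G) := by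
      rw [Fusion.cj, MonoidHom.map_zpowers]
      congr 1
      simp [hy₁, y', mul_assoc]
    rw [h2, ← Fusion.cj_normalizer]
    exact ⟨_, hsub h, by simp [hz₁, z', mul_assoc]⟩
  · refine ⟨(g₂ : G) * (g₁ : G)⁻¹, hgc (g₂ * g₁⁻¹), Or.inr ?_⟩
    have h2 : Subgroup.zpowers (z : G) = cj (Subgroup.zpowers (z₁ : G)) (g₂ : G) := by
      rw [Fusion.cj, MonoidHom.map_zpowers]
      congr 1
      simp [hz₁, z', mul_assoc]
    rw [h2, ← Fusion.cj_normalizer]
    exact ⟨_, hsub h, by simp [hy₁, y', mul_assoc]⟩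

/-- No element moving `x` commutes with an element of `M` for a prime of `σ(L)` and a fixed point. -/
theorem commuting_false (hG : IsMinSimpleOddOrder G) (hM : IsCoatom M) {x c w y z : G} {r s a b : ℕ}
    [hr : Fact r.Prime] [hs : Fact s.Prime] [ha : Fact a.Prime] [hb : Fact b.Prime]
    (hxo : orderOf x = q) (hσq : q ∉ sigma M) (hq1 : PRankLE q 1 ↥M) (hxd : x ∈ ⁅M, M⁆) (hc : c ∈ sigmaCore M)
    (hco : orderOf c = r) (hxc : x * c = c * x) (hL : IsCoatom L)
    (hNL : Subgroup.normalizer (Subgroup.zpowers x : Set G) ≤ L) (hwM : w ∈ M) (hwo : orderOf w = s)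
    (hσs : s ∉ sigma M) (hs1 : PRankLE s 1 ↥M) (hwn : w ∈ Subgroup.normalizer (Subgroup.zpowers x : Set G))
    (hwx : w * x ≠ x * w) (hy : y ∈ sigmaCore M) (hyo : orderOf y = a) (hwy : w * y = y * w) (hzM : z ∈ M)
    (hzo : orderOf z = b) (hbL : b ∈ sigma L) (hwz : w * z = z * w) : False := by
  have hxM : x ∈ M := Subgroup.commutator_le_self M hxd
  have hqL : q ∈ sigma L := sigma_over hG hM hxM hxo hσq hq1 hc hco hxc hL hNL
  have hLM := over_not_conj hG hσq hq1 hL hxo hNL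
  have hCL : ∀ g : G, x * g = g * x → g ∈ L := fun g hg =>
    hNL (Subgroup.centralizer_le_normalizer _ (mem_centralizer_zpowers.2 hg))
  have hσb : b ∉ sigma M := fun h => by
    obtain ⟨g, hg⟩ := conjugate_of_sigma hG hM hL h hbL
    exact hLM g hg
  have hsd : ¬ s ∣ Nat.card ↥⁅M, M⁆ := by
    intro hd
    have hsq : q ≠ s := by
      rintro rfl
      have := lt_of_moves (zpowers_card hxo) hq.out hwo hwn fun h => hwx (mem_centralizer_zpowers.1 h).symm
      omega
    have hwp : IsPGroup s ↥(Subgroup.zpowers w) := isPGroup_of_card (zpowers_card hwo)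
    obtain ⟨E, hE, hwE⟩ := exists_compl_ge hG hM (Subgroup.zpowers_le.2 hwM) fun t ht htd => by
      rw [zpowers_card hwo] at htd
      rw [(Nat.prime_dvd_prime_iff_eq ht hs.out).1 htd]
      exact hσs
    obtain ⟨P, hP, hwP⟩ := exists_sylIn_ge hwp hwE
    have hwd : w ∈ ⁅M, M⁆ :=
      Subgroup.commutator_mono hE.1 hE.1 (tau3_sylow hG hM hE ⟨hs.out, hσs, hd, hs1⟩ hP (hwP (Subgroup.mem_zpowers w)))
    exact hwx (mem_centralizer_zpowers.1 (commute_derived hG hM (p := s) (r := q) hsq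
      (fun h => hσs (alpha_subset_sigma hG hM h.1)) (fun h => hσq (alpha_subset_sigma hG hM h.1))
      (isPGroup_of_card (zpowers_card hxo)) (Subgroup.zpowers_le.2 hxd) hwd hwp hwn)).symm
  obtain ⟨E, hE, hxE⟩ := exists_compl_ge hG hM (Subgroup.zpowers_le.2 hxM) fun t ht htd => by
    rw [zpowers_card hxo] at htd
    rw [(Nat.prime_dvd_prime_iff_eq ht hq.out).1 htd]
    exact hσq
  have hEn := compl_le_normalizer hG hM hE hxo hxd (hxE (Subgroup.mem_zpowers x)) hq1
  obtain ⟨g, hg, hgE⟩ := conj_into_compl hG hM hE hzM hb.out hzo hσb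
  set e := g * z * g⁻¹ with he
  have heo : orderOf e = b := (orderOf_injective (MulAut.conj g).toMonoidHom (MulAut.conj g).injective z).trans hzo
  have heσ : e ∈ sigmaCore L := mem_sigmaCore hG hL (hNL (hEn hgE)) (k := 1) (by rw [pow_one, heo]) hbL
  have heM : e ∈ M := hE.1 hgE
  have hxσ : x ∈ sigmaCore L := mem_sigmaCore hG hL (hCL x rfl) (k := 1) (by rw [pow_one, hxo]) hqL
  -- the centralizer of `e` lies in `L`
  have hcL : c ∈ L := hCL c hxc
  have hrσ : r ∈ sigma M :=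
    (sigmaCore_hall hG hM).1.2.1 r hr.out (hco ▸ Subgroup.orderOf_dvd_natCard _ hc)
  have hσrL : r ∉ sigma L := fun h => by
    obtain ⟨g', hg'⟩ := conjugate_of_sigma hG hM hL hrσ h
    exact hLM g' hg'
  have hrL : PRankLE r 1 ↥L := foreign_rank_one hG hM hL hrσ hσrL ((Subgroup.map_subtype_le _ : sigmaCore M ≤ M) hc)
    hcL hco hxM hxσ (ne_one_of_order hxo) hxc.symm
  have hCe : ∀ v : G, e * v = v * e → v ∈ L := fun v hv => by
    have h := cores_commute hG hM hL hLM hc hcL heσ heM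
    exact centralizer_le_of_fixed hG hL hcL hco hσrL hrL heσ (ne_one_of_order heo) h
      (Subgroup.mem_centralizer_singleton_iff.2 hv.symm)
  have hzy : z * y = y * z := by
    have h := fixed_le_centralizer (w := z) (s := b) hG hM hwM hwo hσs hs1 hsd hzM hzo hσb hwz.symm
      (Subgroup.mem_inf.2 ⟨hy, mem_centralizer_zpowers.2 hwy⟩)
    exact mem_centralizer_zpowers.1 h
  set w' := g * w * g⁻¹ with hw'
  set y' := g * y * g⁻¹ with hy'
  have hyo' : orderOf y' = a := (orderOf_injective (MulAut.conj g).toMonoidHom (MulAut.conj g).injective y).trans hyo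
  have hwo' : orderOf w' = s := (orderOf_injective (MulAut.conj g).toMonoidHom (MulAut.conj g).injective w).trans hwo
  have hy'σ : y' ∈ sigmaCore M := (Subgroup.mem_normalizer_iff.1 (le_normalizer_piCoreOf hg) y).1 hy
  have hw'M : w' ∈ M := M.mul_mem (M.mul_mem hg hwM) (M.inv_mem hg)
  have hw'L : w' ∈ L := hCe w' (by rw [he, hw', conj_mul, conj_mul, hwz])
  have hy'L : y' ∈ L := hCe y' (by rw [he, hy', conj_mul, conj_mul, hzy])
  have hxy' : x * y' = y' * x := (cores_commute hG hM hL hLM hy'σ hy'L hxσ hxM).symm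
  -- `M ∩ L` normalizes the line of `x`
  have hYn : M ⊓ L ≤ Subgroup.normalizer (Subgroup.zpowers x : Set G) := fun m hm => by
    obtain ⟨u, hu, v, hv, rfl⟩ := hE.2.2.2 m hm.1
    have hvL : v ∈ L := by simpa using L.mul_mem (L.inv_mem (hNL (hEn hu))) hm.2
    exact Subgroup.mul_mem _ (hEn hu) (Subgroup.centralizer_le_normalizer _
      (mem_centralizer_zpowers.2 (cores_commute hG hM hL hLM hv hvL hxσ hxM).symm))
  by_cases hw'x : w' * x = x * w'
  swap
  · exact no_mover hG hM hxM hw'M hxo hwo' hσq hσs hq1 hs1 (hYn ⟨hw'M, hw'L⟩) hw'x hy'σ hyo' hxy'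
      (by rw [hw', hy', conj_mul, conj_mul, hwy])
  obtain ⟨P, hP, hwP⟩ := exists_sylIn_ge (isPGroup_of_card (zpowers_card hwo))
    (Subgroup.zpowers_le.2 (Subgroup.mem_inf.2 ⟨hwM, hNL hwn⟩) : Subgroup.zpowers w ≤ M ⊓ L)
  have hPc : IsCyclic ↥P := cyclic_of_prank hG hP.isPGroup (hP.le.trans inf_le_left) hs1
  obtain ⟨h, hh, hhP⟩ := hP.conj_le (isPGroup_of_card (zpowers_card hwo') : IsPGroup s ↥(Subgroup.zpowers w'))
    (Subgroup.zpowers_le.2 (Subgroup.mem_inf.2 ⟨hw'M, hw'L⟩) : Subgroup.zpowers w' ≤ M ⊓ L)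
  have heq := cyclic_eq hPc hhP hwP (by rw [card_cj, zpowers_card hwo']) (zpowers_card hwo)
  refine hwx ((mem_centralizer_zpowers.1 ?_).symm)
  have h1 : cj (Subgroup.zpowers w') h ≤ Subgroup.centralizer (Subgroup.zpowers x : Set G) := by
    refine (cj_mono (Subgroup.zpowers_le.2 (mem_centralizer_zpowers.2 hw'x.symm)) h).trans ?_
    rw [Fusion.cj_centralizer, cj_eq_self (hYn hh)]
  exact h1 (heq.ge (Subgroup.mem_zpowers w))

/-- A complement centralizes the fixed points of an element of `M'` of a rank one prime it holds. -/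
theorem compl_centralizes (hG : IsMinSimpleOddOrder G) (hM : IsCoatom M) (hE : IsComplIn E (sigmaCore M) M)
    {x : G} (hxo : orderOf x = q) (hσq : q ∉ sigma M) (hq1 : PRankLE q 1 ↥M) (hxd : x ∈ ⁅M, M⁆) (hxE : x ∈ E) :
    sigmaCore M ⊓ Subgroup.centralizer (Subgroup.zpowers x : Set G) ≤ Subgroup.centralizer (E : Set G) := by
  set C := sigmaCore M ⊓ Subgroup.centralizer (Subgroup.zpowers x : Set G) with hC
  refine Subgroup.le_centralizer_iff.1 fun e he => Subgroup.mem_centralizer_iff.2 fun c₀ hc₀ => ?_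
  by_contra hne
  obtain ⟨n, s, hs, ⟨k, hk⟩, hmove⟩ := exists_moving_part (v := e) (x := c₀) fun h => hne h.symm
  haveI := Fact.mk hs
  set v := e ^ n with hv
  obtain ⟨k, rfl⟩ : ∃ i, k = i + 1 := Nat.exists_eq_succ_of_ne_zero fun h => hmove (by
    rw [orderOf_eq_one_iff.1 (hk.trans (by rw [h, pow_zero]) : orderOf v = 1), one_mul, mul_one])
  have hvE : v ∈ E := pow_mem he n
  have hvM : v ∈ M := hE.1 hvE
  have hxM : x ∈ M := hE.1 hxE
  have hσM : sigmaCore M ≤ M := Subgroup.map_subtype_le _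
  have hsE : s ∣ Nat.card E := (dvd_pow_self s k.succ_ne_zero).trans (hk ▸ Subgroup.orderOf_dvd_natCard _ hvE)
  have hσs : s ∉ sigma M := compl_pi hG hM hE hs hsE
  obtain ⟨t, j, ht, -, hct⟩ := exists_prime_power_order (fun h => hmove (by rw [h, mul_one, one_mul]) : c₀ ≠ 1)
  haveI := Fact.mk ht
  have hc' : c₀ ^ j ∈ C := pow_mem hc₀ j
  obtain ⟨hc'σ, hc'x'⟩ := Subgroup.mem_inf.1 hc'
  have hxc' : x * c₀ ^ j = c₀ ^ j * x := mem_centralizer_zpowers.1 hc'x'
  obtain ⟨L, hL, hNL, hCL⟩ := exists_over hG hxo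
  have hqL : q ∈ sigma L := sigma_over hG hM hxM hxo hσq hq1 hc'σ hct hxc' hL hNL
  have hLM := over_not_conj hG hσq hq1 hL hxo hNL
  have hxσ : x ∈ sigmaCore L := mem_sigmaCore hG hL (hCL x rfl) (k := 1) (by rw [pow_one, hxo]) hqL
  have hEn := compl_le_normalizer hG hM hE hxo hxd hxE hq1
  have hvL : v ∈ L := hNL (hEn hvE)
  have hvC : v ∈ Subgroup.normalizer (C : Set G) := mem_normalizer_of_cj_le (le_of_eq (by
    rw [hC, Fusion.cj_inf, cj_eq_self (H := sigmaCore M) (le_normalizer_piCoreOf hvM), Fusion.cj_centralizer,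
      cj_eq_self (hEn hvE)]))
  obtain ⟨c, r, hr, hcC, hco, hvn, hvc⟩ := exists_moved_prime hG (C := C)
    (fun h => hM.1 (eq_top_iff.2 (h ▸ inf_le_left.trans hσM))) hvC (Nat.coprime_of_dvd fun u hu h1 h2 => hσs (by
      rw [hk] at h1
      exact (Nat.prime_dvd_prime_iff_eq hu hs).1 (hu.dvd_of_dvd_pow h1) ▸ (sigmaCore_hall hG hM).1.2.1 u hu
        (h2.trans (Subgroup.card_dvd_of_le inf_le_left))))
    (fun r hr => haveI := Fact.mk hr; fixed_rank_one hG hM hxM hxo hσq hq1)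
    (fun h => hmove (mem_centralizer_zpowers.1 (h hc₀)))
  haveI := Fact.mk hr
  obtain ⟨hc, hcx⟩ := Subgroup.mem_inf.1 hcC
  have hxc : x * c = c * x := mem_centralizer_zpowers.1 hcx
  have hcL : c ∈ L := hCL c hxc
  have hσsL : s ∉ sigma L := fun h =>
    hvc (cores_commute hG hM hL hLM hc hcL (mem_sigmaCore hG hL hvL hk h) hvM).symm
  have hs1 : PRankLE s 1 ↥M := by
    rcases classify hG hM hs hσs (hsE.trans (Subgroup.card_dvd_of_le hE.1)) with h | h
    · exact (tau2_empty hG hM hxd hxo hσq hq1 hc hco hxc h).elim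
    · exact h.elim (fun h => h.2.2.2.2) fun h => h.2.2.2
  set w := v ^ s ^ k with hw
  have hwo : orderOf w = s := by
    rw [hw, orderOf_pow' v (pow_ne_zero _ hs.ne_zero), hk, Nat.gcd_eq_right (pow_dvd_pow s k.le_succ), pow_succ',
      Nat.mul_div_cancel _ (pow_pos hs.pos k)]
  by_cases hwc : w * c = c * w
  · exact hvc (fixes_of_socle hG hM hvM hk hσs hs1 hc hco hwc)
  have hwM : w ∈ M := pow_mem hvM _
  have hwL : w ∈ L := pow_mem hvL _
  have hwn : w ∈ Subgroup.normalizer (Subgroup.zpowers c : Set G) := pow_mem hvn _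
  have hwxn : w ∈ Subgroup.normalizer (Subgroup.zpowers x : Set G) := pow_mem (hEn hvE) _
  have hrσ : r ∈ sigma M := (sigmaCore_hall hG hM).1.2.1 r hr (hco ▸ Subgroup.orderOf_dvd_natCard _ hc)
  have hσrL : r ∉ sigma L := fun h => by
    obtain ⟨g, hg⟩ := conjugate_of_sigma hG hM hL hrσ h
    exact hLM g hg
  have hrL : PRankLE r 1 ↥L :=
    foreign_rank_one hG hM hL hrσ hσrL (hσM hc) hcL hco hxM hxσ (ne_one_of_order hxo) hxc.symm
  have hsL : PRankLE s 1 ↥L := rank_one_of_mover hG hL hcL hwL hco hwo hσrL hσsL hwn hwc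
  by_cases hwx : w * x = x * w
  · exact no_mover hG hL hcL hwL hco hwo hσrL hσsL hrL hsL hwn hwc hxσ hxo hxc.symm hwx
  obtain ⟨M', hM', hNM, -⟩ := exists_over hG hco
  obtain rfl := over_eq_of_fixed hG hM hxM hxo hσq hq1 hc hco hxc hM' hNM
  have hcd : c ∈ ⁅L, L⁆ := line_le_derived hco hcL hwL hwn hwc
  obtain ⟨y₀, hy₀', hy₀1⟩ := exists_ne_one (mover_fixed hG hM hxo hσq hq1 hxd hc hco hxc hwM hwo hσs hwxn hwx)
  obtain ⟨z₀, hz₀', hz₀1⟩ :=
    exists_ne_one (mover_fixed hG hL hco hσrL hrL hcd hxσ hxo hxc.symm hwL hwo hσsL hwn hwc)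
  obtain ⟨a, i, ha, -, hyo⟩ := exists_prime_power_order hy₀1
  obtain ⟨b, l, hb, -, hzo⟩ := exists_prime_power_order hz₀1
  haveI := Fact.mk ha
  haveI := Fact.mk hb
  set y := y₀ ^ i
  set z := z₀ ^ l
  have hy : y ∈ sigmaCore M' := pow_mem hy₀'.1 i
  have hz : z ∈ sigmaCore L := pow_mem hz₀'.1 l
  have hwy : w * y = y * w := ((show Commute w y₀ from mem_centralizer_zpowers.1 hy₀'.2).pow_right i).eq
  have hwz : w * z = z * w := ((show Commute w z₀ from mem_centralizer_zpowers.1 hz₀'.2).pow_right l).eq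
  have haσ : a ∈ sigma M' := (sigmaCore_hall hG hM).1.2.1 a ha (hyo ▸ Subgroup.orderOf_dvd_natCard _ hy)
  have hbσ : b ∈ sigma L := (sigmaCore_hall hG hL).1.2.1 b hb (hzo ▸ Subgroup.orderOf_dvd_natCard _ hz)
  obtain ⟨H, hH, hNH, hCH⟩ := exists_over hG hwo
  have hsH : s ∈ sigma H := sigma_over hG hM hwM hwo hσs hs1 hy hyo hwy hH hNH
  have hHM := over_not_conj hG hσs hs1 hH hwo hNH
  have hHL := over_not_conj hG hσsL hsL hH hwo hNH
  have hwH : w ∈ sigmaCore H := mem_sigmaCore hG hH (hCH w rfl) (k := 1) (by rw [pow_one, hwo]) hsH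
  have hσaH : a ∉ sigma H := fun h => by
    obtain ⟨g, hg⟩ := conjugate_of_sigma hG hM hH haσ h
    exact hHM g hg
  have hσbH : b ∉ sigma H := fun h => by
    obtain ⟨g, hg⟩ := conjugate_of_sigma hG hL hH hbσ h
    exact hHL g hg
  have hyM : y ∈ M' := hσM hy
  have hzL : z ∈ L := (Subgroup.map_subtype_le _ : sigmaCore L ≤ L) hz
  have haH : PRankLE a 1 ↥H :=
    foreign_rank_one hG hM hH haσ hσaH hyM (hCH y hwy) hyo hwM hwH (ne_one_of_order hwo) hwy.symm
  have hbH : PRankLE b 1 ↥H :=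
    foreign_rank_one hG hL hH hbσ hσbH hzL (hCH z hwz) hzo hwL hwH (ne_one_of_order hwo) hwz.symm
  have hab : a ≠ b := fun h => by
    obtain ⟨g, hg⟩ := conjugate_of_sigma hG hM hL haσ (h ▸ hbσ)
    exact hLM g hg
  obtain ⟨g, hgw, hg⟩ := pair_normalizes hG hH
    (fun g hg => hCH g (mem_centralizer_zpowers.1 hg)) hab hyo hzo hwy hwz haH hbH
  have hconj : ∀ {d : G}, w * d = d * w → w * (g * d * g⁻¹) = g * d * g⁻¹ * w := fun {d} hd =>
    (((show Commute w g from hgw.symm).mul_right (show Commute w d from hd)).mul_right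
      (show Commute w g from hgw.symm).inv_right).eq
  rcases hg with hg | hg
  · obtain ⟨My, hMy, hNy, -⟩ := exists_over hG hyo
    obtain rfl := over_eq_of_fixed hG hM hwM hwo hσs hs1 hy hyo hwy hMy hNy
    exact commuting_false hG hM hxo hσq hq1 hxd hc hco hxc hL hNL hwM hwo hσs hs1 hwxn hwx hy hyo hwy
      (hNy hg) ((orderOf_injective (MulAut.conj g).toMonoidHom (MulAut.conj g).injective z).trans hzo) hbσ
      (hconj hwz)
  · obtain ⟨Lz, hLz, hNz, -⟩ := exists_over hG hzo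
    obtain rfl := over_eq_of_fixed hG hL hwL hwo hσsL hsL hz hzo hwz hLz hNz
    exact commuting_false hG hL hco hσrL hrL hcd hxσ hxo hxc.symm hM hNM hwL hwo hσsL hsL hwn hwc hz hzo hwz
      (hNz hg) ((orderOf_injective (MulAut.conj g).toMonoidHom (MulAut.conj g).injective y).trans hyo) haσ
      (hconj hwy)

end Cfsg.Agent.OddLocal.Prime
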