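import Cfsg.Agent.Lib.OddLocal.PrimeCentralizer

/-!
An element of a rank one prime does not move another one having a fixed point with it on `M_σ`.
-/

set_option autoImplicit false
set_option linter.style.haveILetI false

namespace Cfsg.Agent.OddLocal.Prime

open scoped Pointwise commutatorElement
open Cfsg
open Cfsg.Agent.Fusion (SylIn cj cj_cj cj_eq_self cj_mono card_cj isPGroup_cj exists_sylIn_ge exists_sylIn
  mem_normalizer_of_cj_le)
open Cfsg.Agent.OddLocal.Uniq
open Cfsg.Agent.OddLocal.Sig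
open Cfsg.Agent.OddLocal.RankTwo
open Cfsg.Agent.OddLocal.TauTwo
open Cfsg.Agent.OddLocal.Disjoint (mem_centralizer_zpowers zpowers_card mem_zpowers_of_order elab_cj exists_sq
  cyclic_of_prank tau2_commute conjugate_of_sigma)

universe u

variable {G : Type u} [Group G] [Finite G] {q : ℕ} [hq : Fact q.Prime] {M : Subgroup G}

/-- No prime lies in `τ₂(M)` when an element of a rank one prime in `M'` has a fixed point on `M_σ`. -/
theorem tau2_empty (hG : IsMinSimpleOddOrder G) (hM : IsCoatom M) {x c : G} {r : ℕ} [hr : Fact r.Prime]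
    (hxd : x ∈ ⁅M, M⁆) (hxo : orderOf x = q) (hσq : q ∉ sigma M) (hq1 : PRankLE q 1 ↥M) (hc : c ∈ sigmaCore M)
    (hco : orderOf c = r) (hxc : x * c = c * x) {s : ℕ} (hs2 : s ∈ tau2 M) : False := by
  haveI := Fact.mk hs2.1
  have hxM : x ∈ M := Subgroup.commutator_le_self M hxd
  have hsq : s ≠ q := fun h => hs2.2.2.2 (h ▸ hq1)
  obtain ⟨E, hE, hxE⟩ := exists_compl_ge hG hM (Subgroup.zpowers_le.2 hxM) fun t ht htd => by
    rw [zpowers_card hxo] at htd
    rw [(Nat.prime_dvd_prime_iff_eq ht hq.out).1 htd]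
    exact hσq
  obtain ⟨A, hAE, sA⟩ := exists_setup_in_compl hG hM hE hs2
  have hxA : x ∈ Subgroup.centralizer (A : Set G) :=
    derived_centralizes_setup hsq hG sA hxd ((complement_tau2 sA hE hAE).1.1 (hxE (Subgroup.mem_zpowers x)))
      (k := 1) (by rw [pow_one, hxo]) hσq
  obtain ⟨L, hL, hNL, hCL⟩ := exists_over hG hxo
  have hqL : q ∈ sigma L := sigma_over hG hM hxM hxo hσq hq1 hc hco hxc hL hNL
  have hLM := over_not_conj hG hσq hq1 hL hxo hNL
  have hAL : A ≤ L := fun a ha => hCL a (Subgroup.mem_centralizer_iff.1 hxA a ha).symm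
  by_cases hσsL : s ∈ sigma L
  · refine ne_one_of_order hco (Subgroup.mem_bot.1 (sigmaCore_inf_centralizer sA ▸ Subgroup.mem_inf.2 ⟨hc,
      Subgroup.mem_centralizer_iff.2 fun a ha => ?_⟩))
    exact (cores_commute hG hM hL hLM hc (hCL c hxc) (le_of_hall (sigmaCore_hall hG hL).1 le_normalizer_piCoreOf hAL
      (piNum_of_pgroup (Fusion.elab_isPGroup sA.elem) hσsL) ha) (sA.le ha)).symm
  · exact ne_one_of_order hxo (Subgroup.mem_bot.1 (sigmaCore_inf_coatom
      (⟨hG, hL, hσsL, hAL, sA.elem, sA.card⟩ : Setup s L A) hM (fun h => hLM 1 (by rw [Fusion.cj_one, h])) sA.le ▸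
        Subgroup.mem_inf.2 ⟨mem_sigmaCore hG hL (hCL x rfl) (k := 1) (by rw [pow_one, hxo]) hqL, hxM⟩))

omit hq in
/-- An element of a prime power order whose element of prime order fixes a point of `M_σ` fixes it. -/
theorem fixes_of_socle (hG : IsMinSimpleOddOrder G) (hM : IsCoatom M) {u c : G} {t k r : ℕ} [ht : Fact t.Prime]
    [hr : Fact r.Prime] (huM : u ∈ M) (huo : orderOf u = t ^ (k + 1)) (hσt : t ∉ sigma M) (ht1 : PRankLE t 1 ↥M)
    (hc : c ∈ sigmaCore M) (hco : orderOf c = r) (hfix : u ^ t ^ k * c = c * u ^ t ^ k) : u * c = c * u := by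
  have hwo : orderOf (u ^ t ^ k) = t := by
    rw [orderOf_pow' u (pow_ne_zero _ ht.out.ne_zero), huo,
      Nat.gcd_eq_right (pow_dvd_pow t k.le_succ), pow_succ', Nat.mul_div_cancel _ (pow_pos ht.out.pos k)]
  obtain ⟨L, hL, hNL, hCL⟩ := exists_over hG hwo
  have htL : t ∈ sigma L := sigma_over hG hM (pow_mem huM _) hwo hσt ht1 hc hco hfix hL hNL
  exact (cores_commute hG hM hL (over_not_conj hG hσt ht1 hL hwo hNL) hc (hCL c hfix)
    (mem_sigmaCore hG hL (hCL u ((Commute.refl u).pow_left _).eq) huo htL) huM).symm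

/-- An element of a rank one prime does not move another one with a common fixed point on `M_σ`. -/
theorem no_mover (hG : IsMinSimpleOddOrder G) (hM : IsCoatom M) {x w c : G} {s r : ℕ} [hs : Fact s.Prime]
    [hr : Fact r.Prime] (hxM : x ∈ M) (hwM : w ∈ M) (hxo : orderOf x = q) (hwo : orderOf w = s)
    (hσq : q ∉ sigma M) (hσs : s ∉ sigma M) (hq1 : PRankLE q 1 ↥M) (hs1 : PRankLE s 1 ↥M)
    (hwn : w ∈ Subgroup.normalizer (Subgroup.zpowers x : Set G)) (hwx : w * x ≠ x * w) (hc : c ∈ sigmaCore M)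
    (hco : orderOf c = r) (hxc : x * c = c * x) (hwc : w * c = c * w) : False := by
  classical
  have hxd : x ∈ ⁅M, M⁆ := line_le_derived hxo hxM hwM hwn hwx
  have hcM : c ∈ M := Subgroup.map_subtype_le _ hc
  have hrσ : r ∈ sigma M :=
    (sigmaCore_hall hG hM).1.2.1 r hr.out (hco ▸ Subgroup.orderOf_dvd_natCard _ hc)
  have hwp : IsPGroup s ↥(Subgroup.zpowers w) := isPGroup_of_card (zpowers_card hwo)
  have hsq : s ≠ q := by
    rintro rfl
    have := lt_of_moves (zpowers_card hxo) hs.out hwo hwn fun h => hwx (mem_centralizer_zpowers.1 h).symm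
    omega
  -- the prime of `w` does not divide the order of `M'`
  have hsd : ¬ s ∣ Nat.card ↥⁅M, M⁆ := by
    intro hd
    obtain ⟨E, hE, hwE⟩ := exists_compl_ge hG hM (Subgroup.zpowers_le.2 hwM) fun t ht htd => by
      rw [zpowers_card hwo] at htd
      rw [(Nat.prime_dvd_prime_iff_eq ht hs.out).1 htd]
      exact hσs
    obtain ⟨P, hP, hwP⟩ := exists_sylIn_ge hwp hwE
    have hwd : w ∈ ⁅M, M⁆ :=
      Subgroup.commutator_mono hE.1 hE.1 (tau3_sylow hG hM hE ⟨hs.out, hσs, hd, hs1⟩ hP (hwP (Subgroup.mem_zpowers w)))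
    exact hwx (mem_centralizer_zpowers.1 (commute_derived hG hM (p := s) (r := q) hsq.symm
      (fun h => hσs (alpha_subset_sigma hG hM h.1)) (fun h => hσq (alpha_subset_sigma hG hM h.1))
      (isPGroup_of_card (zpowers_card hxo)) (Subgroup.zpowers_le.2 hxd) hwd hwp hwn)).symm
  obtain ⟨T, hT, -, hcT, hTc, hxT⟩ := centralizes_sylow hG hM hxM hwM hxo hwo hσq hσs hq1 hs1 hwn hwx hc hco hxc hwc
  obtain ⟨m, hmM, -, hmc, hm⟩ := exists_mover_over hG hxo hq1 hrσ hT hcT hco hTc hxT
  have hrb : r ∉ beta M := by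
    intro h
    obtain ⟨F, hF, hFe, hFc⟩ := exists_elab_of_prank h.1.2
    obtain ⟨g, -, hg⟩ := hT.conj_le (Fusion.elab_isPGroup hFe) hF
    exact noncyclic_of_card (elab_cj hFe g)
      (by rw [card_cj]; exact (Nat.pow_le_pow_right hr.out.pos (show 2 ≤ 3 by omega)).trans hFc)
      (isCyclic_of_injective (Subgroup.inclusion hg) (Subgroup.inclusion_injective hg))
  -- replace `m` by an element commuting with `w`
  set Y := M ⊓ Subgroup.normalizer (Subgroup.zpowers c : Set G) with hY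
  have hwY : w ∈ Y :=
    ⟨hwM, Subgroup.centralizer_le_normalizer _ (mem_centralizer_zpowers.2 hwc.symm)⟩
  set N := ⁅Y, Y⁆ ⊔ Subgroup.zpowers w with hN
  have hNY : N ≤ Y := sup_le (Subgroup.commutator_le_self Y) (Subgroup.zpowers_le.2 hwY)
  have hYN : Y ≤ Subgroup.normalizer (N : Set G) := fun g hg => mem_normalizer_of_cj_le (by
    rintro _ ⟨z, hz, rfl⟩
    show g * z * g⁻¹ ∈ N
    rw [show g * z * g⁻¹ = ⁅g, z⁆ * z by rw [commutatorElement_def]; group]
    exact N.mul_mem (Subgroup.mem_sup_left (Subgroup.commutator_mem_commutator hg (hNY hz))) hz)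
  have hNc : N ≤ Subgroup.centralizer (Subgroup.zpowers c : Set G) := by
    refine sup_le ?_ (Subgroup.zpowers_le.2 (mem_centralizer_zpowers.2 hwc.symm))
    refine Subgroup.commutator_le.2 fun a ha b hb => ?_
    have ha' : a ∈ Subgroup.normalizer (Subgroup.zpowers c : Set G) := ha.2
    have hb' : b ∈ Subgroup.normalizer (Subgroup.zpowers c : Set G) := hb.2
    haveI : IsCyclic ↥(Subgroup.zpowers c) := inferInstance
    have h1 : (⁅(⟨a, ha'⟩ : ↥(Subgroup.normalizer (Subgroup.zpowers c : Set G))), ⟨b, hb'⟩⁆) ∈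
        (Subgroup.normalizerMonoidHom (Subgroup.zpowers c)).ker := by
      rw [MonoidHom.mem_ker, map_commutatorElement, commutatorElement_eq_one_iff_mul_comm]
      apply (IsCyclic.mulAutMulEquiv ↥(Subgroup.zpowers c)).injective
      rw [map_mul, map_mul]
      exact mul_comm _ _
    rw [Subgroup.normalizerMonoidHom_ker, Subgroup.mem_subgroupOf] at h1
    exact h1
  have hsN : ¬ s ∣ (Subgroup.zpowers w).relIndex N := fun h => by
    have h1 := Solv.card_sup_mul_card_inf' ⁅Y, Y⁆ (Subgroup.zpowers w)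
      (Subgroup.zpowers_le.2 (mem_normalizer_of_cj_le (by rw [Fusion.cj_commutator, Fusion.cj_eq_self_of_mem hwY])))
    have hco' : (Nat.card ↥⁅Y, Y⁆).Coprime (Nat.card (Subgroup.zpowers w)) := by
      rw [zpowers_card hwo]
      exact ((Nat.Prime.coprime_iff_not_dvd hs.out).2 fun h => hsd (h.trans
        (Subgroup.card_dvd_of_le (Subgroup.commutator_mono inf_le_left inf_le_left)))).symm
    rw [Solv.coprime_inf hco', Subgroup.card_bot, mul_one] at h1
    have h2 := Subgroup.relIndex_mul_relIndex ⊥ (Subgroup.zpowers w) N bot_le le_sup_right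
    rw [Subgroup.relIndex_bot_left, Subgroup.relIndex_bot_left, h1, mul_comm (Nat.card ↥⁅Y, Y⁆)] at h2
    exact ((Nat.Prime.coprime_iff_not_dvd hs.out).1 (zpowers_card hwo ▸ hco'.symm))
      (Nat.eq_of_mul_eq_mul_left Nat.card_pos h2 ▸ h)
  obtain ⟨n, hn, hnm⟩ := Fusion.frattini_conj (⟨le_sup_right, hwp, hsN⟩ : SylIn s (Subgroup.zpowers w) N) hYN
    (⟨hmM, hmc⟩ : m ∈ Y)
  set u := n * m with hu
  have huM : u ∈ M := M.mul_mem (hNY hn).1 hmM
  have hun : u ∈ Subgroup.normalizer (Subgroup.zpowers c : Set G) := Subgroup.mul_mem _ (hNY hn).2 hmc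
  have huc : u * c ≠ c * u := fun h => hm (by
    have hnc : Commute n c := (mem_centralizer_zpowers.1 (hNc hn)).symm
    have hm' : Commute (n⁻¹ * u) c := hnc.inv_left.mul_left h
    rwa [hu, inv_mul_cancel_left] at hm')
  have huw : u * w = w * u := by
    by_contra hne
    exact hsd (hwo ▸ Subgroup.orderOf_dvd_natCard _ (line_le_derived hwo hwM huM hnm hne))
  obtain ⟨j, t, ht, ⟨k, hk⟩, hjc⟩ := exists_moving_part huc
  haveI := Fact.mk ht
  set v := u ^ j with hv
  have hvM : v ∈ M := pow_mem huM j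
  obtain ⟨k, rfl⟩ : ∃ i, k = i + 1 := Nat.exists_eq_succ_of_ne_zero fun h => hjc (by
    rw [orderOf_eq_one_iff.1 (hk.trans (by rw [h, pow_zero]) : orderOf v = 1), one_mul, mul_one])
  by_cases htσ : t ∈ sigma M
  · -- the Sylow subgroup at `r` is cyclic
    refine hjc (mem_centralizer_zpowers.1 ?_).symm
    by_cases htr : t = r
    · subst htr
      refine Subgroup.mem_centralizer_iff.2 fun z hz => ?_
      obtain ⟨e, he⟩ := Subgroup.mem_zpowers_iff.1 hz
      obtain ⟨P, hP, hvP⟩ := exists_sylIn_ge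
        ((IsPGroup.of_card (n := k + 1) (by rw [Nat.card_zpowers, hk]) :
          IsPGroup t ↥(Subgroup.zpowers v)).to_sup_of_normal_right' (isPGroup_of_card (zpowers_card hco))
            (Subgroup.zpowers_le.2 (pow_mem hun j))) (sup_le (Subgroup.zpowers_le.2 hvM) (Subgroup.zpowers_le.2 hcM))
      obtain ⟨g, -, hgT⟩ := hT.conj_le hP.isPGroup hP.le
      haveI : IsCyclic ↥(cj P g) := isCyclic_of_injective (Subgroup.inclusion hgT) (Subgroup.inclusion_injective hgT)
      have h1 := congrArg Subtype.val ((IsCyclic.commGroup (α := ↥(cj P g))).mul_comm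
        ⟨_, Fusion.conj_mem_cj (g := g) (hvP (Subgroup.mem_sup_left (Subgroup.mem_zpowers v)))⟩
        ⟨_, Fusion.conj_mem_cj (g := g) (hvP (Subgroup.mem_sup_right hz))⟩)
      simp only [Subgroup.coe_mul, conj_mul] at h1
      exact (mul_left_cancel (mul_right_cancel h1)).symm
    · exact fixes_of_derived hG hM hrb (isPGroup_of_card (zpowers_card hco))
        (le_derived_of_sigma hG hM hrσ (isPGroup_of_card (zpowers_card hco)) (Subgroup.zpowers_le.2 hcM))
        (le_derived_of_sigma hG hM htσ (IsPGroup.of_card (n := k + 1) (by rw [Nat.card_zpowers, hk]))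
          (Subgroup.zpowers_le.2 hvM) (Subgroup.mem_zpowers v))
        (hk ▸ ((Nat.coprime_primes ht hr.out).2 htr).pow_left _) (pow_mem hun j)
  have htdM : t ∣ Nat.card M := (dvd_pow_self t k.succ_ne_zero).trans (hk ▸ Subgroup.orderOf_dvd_natCard _ hvM)
  have ht1 : PRankLE t 1 ↥M := by
    rcases classify hG hM ht htσ htdM with h | h
    · exact (tau2_empty hG hM hxd hxo hσq hq1 hc hco hxc h).elim
    · exact h.elim (fun h => h.2.2.2.2) fun h => h.2.2.2
  refine hjc (fixes_of_socle hG hM hvM hk htσ ht1 hc hco ?_)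
  have hto : orderOf (v ^ t ^ k) = t := by
    rw [orderOf_pow' v (pow_ne_zero _ ht.ne_zero), hk, Nat.gcd_eq_right (pow_dvd_pow t k.le_succ), pow_succ',
      Nat.mul_div_cancel _ (pow_pos ht.pos k)]
  have hle := fixed_le_centralizer (w := v ^ t ^ k) (s := t) hG hM hwM hwo hσs hs1 hsd (pow_mem hvM _) hto htσ
    (((show Commute u w from huw).pow_left j).pow_left _).eq
    (Subgroup.mem_inf.2 ⟨hc, mem_centralizer_zpowers.2 hwc⟩)
  exact mem_centralizer_zpowers.1 hle

end Cfsg.Agent.OddLocal.Prime
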