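import Cfsg.Agent.Lib.OddLocal.PrimeScaler

/-!
An element of prime order of a rank one prime with a fixed point on `M_σ` has its normaliser in a maximal
subgroup whose `σ`-set holds that prime.
-/

set_option autoImplicit false
set_option linter.style.haveILetI false

namespace Cfsg.Agent.OddLocal.Prime

open scoped Pointwise commutatorElement
open Cfsg
open Cfsg.Agent.Fusion (SylIn cj cj_cj cj_eq_self cj_mono card_cj isPGroup_cj exists_sylIn_ge exists_sylIn
  mem_normalizer_of_cj_le)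
open Cfsg.Agent.OddLocal.Uniq
open Cfsg.Agent.OddLocal.Sig
open Cfsg.Agent.OddLocal.RankTwo
open Cfsg.Agent.OddLocal.TauTwo
open Cfsg.Agent.OddLocal.Disjoint (mem_centralizer_zpowers zpowers_card mem_zpowers_of_order elab_cj exists_sq
  cyclic_of_prank tau2_commute conjugate_of_sigma)

universe u

variable {G : Type u} [Group G] [Finite G] {q : ℕ} [hq : Fact q.Prime] {M L : Subgroup G}

/-- A nontrivial commutator in a line generates it. -/
theorem line_le_derived {x v : G} (hxo : orderOf x = q) (hx : x ∈ M) (hv : v ∈ M)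
    (hn : v ∈ Subgroup.normalizer (Subgroup.zpowers x : Set G)) (hne : v * x ≠ x * v) : x ∈ ⁅M, M⁆ := by
  refine Subgroup.zpowers_le.2 (Subgroup.commutator_mem_commutator hv hx)
    (mem_zpowers_of_order hq.out hxo ?_ fun h => hne (commutatorElement_eq_one_iff_mul_comm.1 h))
  rw [commutatorElement_def]
  exact Subgroup.mul_mem _ ((Subgroup.mem_normalizer_iff.1 hn x).1 (Subgroup.mem_zpowers x))
    (Subgroup.inv_mem _ (Subgroup.mem_zpowers x))

omit hq in
/-- Some part of prime power order of an element moves what the element moves. -/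
theorem exists_moving_part {v x : G} (h : v * x ≠ x * v) :
    ∃ n : ℕ, ∃ s : ℕ, s.Prime ∧ (∃ k, orderOf (v ^ n) = s ^ k) ∧ v ^ n * x ≠ x * v ^ n := by
  by_contra hno
  push Not at hno
  refine h ?_
  set C := Subgroup.zpowers v ⊓ Subgroup.centralizer (Subgroup.zpowers x : Set G) with hC
  suffices hmem : v ∈ C from (mem_centralizer_zpowers.1 hmem.2).symm
  refine (Subgroup.eq_of_le_of_card_ge inf_le_left (Nat.le_of_dvd Nat.card_pos ?_)).ge (Subgroup.mem_zpowers v)
  rw [Nat.card_zpowers]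
  refine (Nat.dvd_iff_prime_pow_dvd_dvd _ _).2 fun s k hs hd => ?_
  have ho := orderOf_pow_orderOf_div (orderOf_pos v).ne' hd
  rw [← ho]
  exact Subgroup.orderOf_dvd_natCard _ ⟨Subgroup.npow_mem_zpowers v _,
    mem_centralizer_zpowers.2 (hno _ s hs ⟨k, ho⟩).symm⟩

/-- An element of `H'` of order prime to `q` normalizing a `q`-subgroup of `H'` centralizes it, for `q ∉ β(H)`. -/
theorem fixes_of_derived (hG : IsMinSimpleOddOrder G) {H : Subgroup G} (hH : IsCoatom H) (hqb : q ∉ beta H)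
    {R : Subgroup G} (hR : IsPGroup q R) (hRd : R ≤ ⁅H, H⁆) {a : G} (ha : a ∈ ⁅H, H⁆)
    (hao : (orderOf a).Coprime q) (hn : a ∈ Subgroup.normalizer (R : Set G)) :
    a ∈ Subgroup.centralizer (R : Set G) := by
  refine Subgroup.mem_centralizer_iff.2 fun z hz => (mul_inv_eq_iff_eq_mul.1 ?_).symm
  by_contra hne
  obtain ⟨i, hi⟩ := IsPGroup.iff_card.1 hR
  have hqd : q ∣ Nat.card H := by
    have hi0 : i ≠ 0 := fun h => hne (by
      rw [show z = 1 from (Subgroup.eq_bot_iff_forall R).1 (Subgroup.card_eq_one.1 (by rw [hi, h, pow_zero])) z hz,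
        mul_one, mul_inv_cancel])
    exact (dvd_pow_self q hi0).trans (hi ▸ Subgroup.card_dvd_of_le (hRd.trans (Subgroup.commutator_le_self H)))
  obtain ⟨S, K, hKn, hKc⟩ := (hnpc_derived hG hH hqd hqb).1
  haveI := hKn
  set z' : ↥(⁅H, H⁆ : Subgroup G) := ⟨z, hRd hz⟩ with hz'
  set a' : ↥(⁅H, H⁆ : Subgroup G) := ⟨a, ha⟩ with ha'
  have haK : a' ∈ K := by
    refine (QuotientGroup.eq_one_iff a').1 (orderOf_eq_one_iff.1 (Nat.eq_one_of_dvd_coprimes ?_
      (orderOf_map_dvd (QuotientGroup.mk' K) a') ((orderOf_dvd_natCard _).trans (Subgroup.index_eq_card K).symm.dvd)))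
    obtain ⟨j, hj⟩ := IsPGroup.iff_card.1 S.isPGroup'
    rw [hKc.symm.index_eq_card, hj, Subgroup.orderOf_mk]
    exact hao.pow_right j
  have hcK : a' * z' * a'⁻¹ * z'⁻¹ ∈ K := by
    rw [show a' * z' * a'⁻¹ * z'⁻¹ = a' * (z' * a'⁻¹ * z'⁻¹) by group]
    exact mul_mem haK (hKn.conj_mem _ (inv_mem haK) z')
  have hcz : a * z * a⁻¹ * z⁻¹ ∈ R := mul_mem ((Subgroup.mem_normalizer_iff.1 hn z).1 hz) (inv_mem hz)
  have hKr : ¬ q ∣ Nat.card K := fun h => S.not_dvd_index (by rw [hKc.index_eq_card]; exact h)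
  refine hne (mul_inv_eq_one.1 (orderOf_eq_one_iff.1 (Nat.eq_one_of_dvd_coprimes
    (((Nat.Prime.coprime_iff_not_dvd hq.out).2 hKr).pow_left i) ?_ ?_)))
  · exact hi ▸ Subgroup.orderOf_dvd_natCard _ hcz
  · have := Subgroup.orderOf_dvd_natCard K hcK
    rwa [← Subgroup.orderOf_coe] at this

/-- The case of a prime not dividing `|M'|`. -/
theorem sigma_over_tau1 (hG : IsMinSimpleOddOrder G) (hM : IsCoatom M) {x c : G} {r : ℕ} [Fact r.Prime]
    (hxM : x ∈ M) (hxo : orderOf x = q) (hσq : q ∉ sigma M) (hq1 : PRankLE q 1 ↥M)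
    (hqd : ¬ q ∣ Nat.card ↥⁅M, M⁆) (hc : c ∈ sigmaCore M) (hco : orderOf c = r) (hxc : x * c = c * x)
    (hL : IsCoatom L) (hNL : Subgroup.normalizer (Subgroup.zpowers x : Set G) ≤ L) : q ∈ sigma L := by
  by_contra hσL
  obtain ⟨H, v, hv⟩ := exists_scaler hG hM hxM hxo hσq hq1 hc hco hxc hL hNL hσL
  exact hqd (hxo ▸ Subgroup.orderOf_dvd_natCard _ (line_le_derived hxo hxM hv.v_M hv.v_norm hv.v_move))

/-- A prime of rank one with a fixed point on `M_σ` lies in `σ(L)` for `L` over the normaliser of its line. -/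
theorem sigma_over (hG : IsMinSimpleOddOrder G) (hM : IsCoatom M) {x c : G} {r : ℕ} [Fact r.Prime]
    (hxM : x ∈ M) (hxo : orderOf x = q) (hσq : q ∉ sigma M) (hq1 : PRankLE q 1 ↥M) (hc : c ∈ sigmaCore M)
    (hco : orderOf c = r) (hxc : x * c = c * x) (hL : IsCoatom L)
    (hNL : Subgroup.normalizer (Subgroup.zpowers x : Set G) ≤ L) : q ∈ sigma L := by
  by_contra hσL
  obtain ⟨H, v₀, h₀⟩ := exists_scaler hG hM hxM hxo hσq hq1 hc hco hxc hL hNL hσL
  have hxd : x ∈ ⁅M, M⁆ := line_le_derived hxo hxM h₀.v_M h₀.v_norm h₀.v_move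
  obtain ⟨n, s, hs, ⟨k, hvo⟩, hvx⟩ := exists_moving_part h₀.v_move
  haveI := Fact.mk hs
  set v := v₀ ^ n with hv
  have hvM : v ∈ M := pow_mem h₀.v_M n
  have hvH : v ∈ H := pow_mem h₀.v_mem n
  have hvn : v ∈ Subgroup.normalizer (Subgroup.zpowers x : Set G) := pow_mem h₀.v_norm n
  have hvc : v * c = c * v := ((show Commute v₀ c from h₀.v_comm).pow_left n).eq
  have hCx : Subgroup.centralizer (Subgroup.zpowers x : Set G) ≤ L :=
    (Subgroup.centralizer_le_normalizer _).trans hNL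
  have hcL : c ∈ L := hCx (mem_centralizer_zpowers.2 hxc)
  have hxp : IsPGroup q ↥(Subgroup.zpowers x) := isPGroup_of_card (zpowers_card hxo)
  have hk : k ≠ 0 := fun h => hvx (by
    rw [orderOf_eq_one_iff.1 (hvo.trans (by rw [h, pow_zero]) : orderOf v = 1), one_mul, mul_one])
  have hsdM : s ∣ Nat.card M :=
    (dvd_pow_self s hk).trans (hvo ▸ Subgroup.orderOf_dvd_natCard _ hvM)
  have hbad : v ∈ Subgroup.centralizer (Subgroup.zpowers x : Set G) → False := fun h =>
    hvx (mem_centralizer_zpowers.1 h).symm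
  -- the prime of `v` differs from `q`
  have hsq : s ≠ q := by
    rintro rfl
    refine hbad ?_
    set φ := Subgroup.normalizerMonoidHom (Subgroup.zpowers x)
    haveI : IsCyclic ↥(Subgroup.zpowers x) := isCyclic_of_prime_card (zpowers_card hxo)
    have h1 : orderOf (φ ⟨v, hvn⟩) ∣ s - 1 := by
      refine (orderOf_dvd_natCard _).trans ?_
      rw [IsCyclic.card_mulAut, zpowers_card hxo, Nat.totient_prime hs]
    have h2 : orderOf (φ ⟨v, hvn⟩) ∣ s ^ k := (orderOf_map_dvd φ _).trans (by rw [Subgroup.orderOf_mk, hvo])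
    have h3 : Nat.Coprime (s ^ k) (s - 1) := (Nat.Coprime.pow_left k ((Nat.Prime.coprime_iff_not_dvd hs).2
      fun h => by have := Nat.le_of_dvd (by have := hs.two_le; omega) h; have := hs.two_le; omega))
    have h4 : (⟨v, hvn⟩ : ↥(Subgroup.normalizer (Subgroup.zpowers x : Set G))) ∈ φ.ker :=
      orderOf_eq_one_iff.1 (Nat.eq_one_of_dvd_coprimes h3 h2 h1)
    rw [Subgroup.normalizerMonoidHom_ker, Subgroup.mem_subgroupOf] at h4
    exact h4
  have hσs : s ∉ sigma M := fun h => hvx (by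
    have h1 : ⁅v, x⁆ ∈ sigmaCore M ⊓ Subgroup.zpowers x := by
      refine ⟨?_, ?_⟩
      · rw [commutatorElement_def, mul_assoc, mul_assoc, ← mul_assoc x]
        exact Subgroup.mul_mem _ (mem_sigmaCore hG hM hvM hvo h)
          ((Subgroup.mem_normalizer_iff.1 (le_normalizer_piCoreOf hxM) _).1
            (Subgroup.inv_mem _ (mem_sigmaCore hG hM hvM hvo h)))
      · rw [commutatorElement_def]
        exact Subgroup.mul_mem _ ((Subgroup.mem_normalizer_iff.1 hvn x).1 (Subgroup.mem_zpowers x))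
          (Subgroup.inv_mem _ (Subgroup.mem_zpowers x))
    rw [Solv.coprime_inf (Nat.coprime_of_dvd fun t ht h1 h2 => hσq (by
      rw [zpowers_card hxo] at h2
      exact (Nat.prime_dvd_prime_iff_eq ht hq.out).1 h2 ▸ (sigmaCore_hall hG hM).1.2.1 t ht h1)),
      Subgroup.mem_bot] at h1
    exact commutatorElement_eq_one_iff_mul_comm.1 h1)
  have hqb : q ∉ beta M := fun h => hσq (alpha_subset_sigma hG hM h.1)
  have hsb : s ∉ beta M := fun h => hσs (alpha_subset_sigma hG hM h.1)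
  have hσsH : s ∉ sigma H := fun h => hbad (fixes_of_derived hG h₀.coatom h₀.not_beta hxp
    (le_derived_of_sigma hG h₀.coatom h₀.sigma hxp (Subgroup.zpowers_le.2 (Subgroup.map_subtype_le _ h₀.x_mem)))
    (le_derived_of_sigma hG h₀.coatom h (IsPGroup.of_card (n := k) (by rw [Nat.card_zpowers, hvo]))
      (Subgroup.zpowers_le.2 hvH) (Subgroup.mem_zpowers v))
    (hvo ▸ ((Nat.coprime_primes hs hq.out).2 hsq).pow_left k) hvn)
  obtain ⟨E, hE, hYE⟩ := exists_compl_ge hG hM (Y := Subgroup.zpowers x ⊔ Subgroup.zpowers v)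
    (sup_le (Subgroup.zpowers_le.2 hxM) (Subgroup.zpowers_le.2 hvM)) fun t ht htd hσt => by
      have h1 := Solv.card_sup_mul_card_inf' (Subgroup.zpowers x) (Subgroup.zpowers v) (Subgroup.zpowers_le.2 hvn)
      rcases (Nat.Prime.dvd_mul ht).1
          (h1 ▸ htd.mul_right _ : t ∣ Nat.card (Subgroup.zpowers x) * Nat.card (Subgroup.zpowers v)) with h | h
      · rw [zpowers_card hxo] at h
        exact hσq ((Nat.prime_dvd_prime_iff_eq ht hq.out).1 h ▸ hσt)
      · rw [Nat.card_zpowers, hvo] at h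
        exact hσs ((Nat.prime_dvd_prime_iff_eq ht hs).1 (ht.dvd_of_dvd_pow h) ▸ hσt)
  rcases classify hG hM hs hσs hsdM with hs2 | hs1 | hs3
  · -- `s ∈ τ₂(M)`
    obtain ⟨A, hAE, sA⟩ := exists_setup_in_compl hG hM hE hs2
    obtain ⟨⟨hEA, -⟩, -, -⟩ := complement_tau2 sA hE hAE
    have hxA : x ∈ Subgroup.centralizer (A : Set G) :=
      derived_centralizes_setup hsq hG sA hxd (hEA (hYE (Subgroup.mem_sup_left (Subgroup.mem_zpowers x))))
        (k := 1) (by rw [pow_one, hxo]) hσq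
    have hAL : A ≤ L := fun a ha =>
      hCx (mem_centralizer_zpowers.2 (Subgroup.mem_centralizer_iff.1 hxA a ha).symm)
    have hLM := over_not_conj hG hσq hq1 hL hxo hNL
    by_cases hσsL : s ∈ sigma L
    · refine ne_one_of_order hco (Subgroup.mem_bot.1 (sigmaCore_inf_centralizer sA ▸ Subgroup.mem_inf.2 ⟨hc,
        Subgroup.mem_centralizer_iff.2 fun a ha => ?_⟩))
      exact (cores_commute hG hM hL hLM hc hcL (le_of_hall (sigmaCore_hall hG hL).1 le_normalizer_piCoreOf hAL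
        (piNum_of_pgroup (Fusion.elab_isPGroup sA.elem) hσsL) ha) (sA.le ha)).symm
    obtain ⟨B, hB, hBe, hBc⟩ := exists_sq (order_p_normalizer hG hL hσL (zpowers_card hxo) hNL).1.2
    obtain ⟨u, -, hu⟩ := tau2_commute hsq (⟨hG, hL, hσsL, hAL, sA.elem, sA.card⟩ : Setup s L A)
      (⟨hG, hL, hσL, hB, hBe, hBc⟩ : Setup q L B)
    exact not_prankLE_of_elab (hu.trans sA.centralizer_le) (elab_cj hBe u) (by rw [card_cj, hBc]) hq1
  · -- `s ∈ τ₁(M)`
    have hsr : PRankLE s 1 ↥M := hs1.2.2.2.2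
    set w := v ^ (orderOf v / s) with hw
    have hwo : orderOf w = s := orderOf_pow_orderOf_div (orderOf_pos v).ne' (hvo ▸ dvd_pow_self s hk)
    have hwc : w * c = c * w := ((show Commute v c from hvc).pow_left _).eq
    have hwM : w ∈ M := pow_mem hvM _
    by_cases hwx : w * x = x * w
    swap
    · have hrσ : r ∈ sigma M :=
        (sigmaCore_hall hG hM).1.2.1 r Fact.out (hco ▸ Subgroup.orderOf_dvd_natCard _ hc)
      obtain ⟨T, hT, -, hcT, hTc, hxT⟩ :=
        centralizes_sylow hG hM hxM hwM hxo hwo hσq hσs hq1 hsr (pow_mem hvn _) hwx hc hco hxc hwc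
      obtain ⟨m, -, hmx, hmc, hm⟩ := exists_mover_over hG hxo hq1 hrσ hT hcT hco hTc hxT
      exact h₀.c_L (line_le_derived (M := L) hco hcL (hNL hmx) hmc hm)
    obtain ⟨H', hH', hN', hC'⟩ := exists_over hG hwo
    have hσ' : s ∈ sigma H' := sigma_over_tau1 hG hM hwM hwo hσs hsr hs1.2.2.2.1 hc hco hwc hH' hN'
    refine hvx (cores_commute hG h₀.coatom hH' (fun g h => hσsH (sigma_of_cj (h ▸ hσ'))) h₀.x_mem
      (hC' x hwx) (mem_sigmaCore hG hH' (hC' v ((Commute.refl v).pow_left _).eq) hvo hσ') hvH).symm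
  · -- `s ∈ τ₃(M)`
    obtain ⟨P, hP, hvP⟩ := exists_sylIn_ge (IsPGroup.of_card (n := k) (by rw [Nat.card_zpowers, hvo]))
      (Subgroup.zpowers_le.2 (hYE (Subgroup.mem_sup_right (Subgroup.mem_zpowers v))))
    have hvd : v ∈ ⁅M, M⁆ :=
      Subgroup.commutator_mono hE.1 hE.1 (tau3_sylow hG hM hE hs3 hP (hvP (Subgroup.mem_zpowers v)))
    exact hbad (commute_derived hG hM (p := s) (r := q) (Ne.symm hsq) hsb hqb hxp (Subgroup.zpowers_le.2 hxd) hvd
      (IsPGroup.of_card (n := k) (by rw [Nat.card_zpowers, hvo])) hvn)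

end Cfsg.Agent.OddLocal.Prime
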