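import Cfsg.Agent.Lib.OddLocal.PrimePair

/-!
Tools for the maximal subgroups over the normaliser of a line with fixed points.
-/

set_option autoImplicit false
set_option linter.style.haveILetI false

namespace Cfsg.Agent.OddLocal.Prime

open scoped Pointwise commutatorElement
open Cfsg
open Cfsg.Agent.Fusion (SylIn cj cj_cj cj_eq_self cj_mono card_cj isPGroup_cj exists_sylIn_ge exists_sylIn
  mem_normalizer_of_cj_le)
open Cfsg.Agent.OddLocal.Uniq
open Cfsg.Agent.OddLocal.Sig
open Cfsg.Agent.OddLocal.RankTwo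
open Cfsg.Agent.OddLocal.TauTwo
open Cfsg.Agent.OddLocal.Disjoint (mem_centralizer_zpowers zpowers_card mem_zpowers_of_order elab_cj exists_sq
  cyclic_of_prank tau2_commute conjugate_of_sigma)

universe u

variable {G : Type u} [Group G] [Finite G] {q : ℕ} [hq : Fact q.Prime] {M L A : Subgroup G}

omit hq in
theorem compl_cj {E : Subgroup G} (hE : IsComplIn E (sigmaCore L) L) {g : G} (hg : g ∈ L) :
    IsComplIn (cj E g) (sigmaCore L) L := by
  obtain ⟨h1, h2, h3, h4⟩ := hE
  have hn : g ∈ Subgroup.normalizer (sigmaCore L : Set G) := le_normalizer_piCoreOf hg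
  refine ⟨(cj_mono h1 _).trans (Fusion.cj_eq_self_of_mem hg).le, h2, ?_, fun m hm => ?_⟩
  · rw [← cj_eq_self hn, ← Fusion.cj_inf, h3]; exact Subgroup.map_bot _
  · obtain ⟨a, ha, c, hc, e⟩ := h4 (g⁻¹ * m * g) (L.mul_mem (L.mul_mem (L.inv_mem hg) hm) hg)
    refine ⟨g * a * g⁻¹, Fusion.conj_mem_cj ha, g * c * g⁻¹, ?_, ?_⟩
    · exact (cj_eq_self hn).le (Fusion.conj_mem_cj hc)
    · calc m = g * (g⁻¹ * m * g) * g⁻¹ := by group
        _ = g * (a * c) * g⁻¹ := by rw [e]
        _ = _ := by group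

omit hq in
/-- A subgroup of order prime to `σ(L)` lies in some complement. -/
theorem exists_compl_ge (hG : IsMinSimpleOddOrder G) (hL : IsCoatom L) {Y : Subgroup G} (hY : Y ≤ L)
    (hσ : ∀ r : ℕ, r.Prime → r ∣ Nat.card Y → r ∉ sigma L) :
    ∃ E : Subgroup G, IsComplIn E (sigmaCore L) L ∧ Y ≤ E := by
  obtain ⟨E₀, hE₀⟩ := exists_compl hG hL
  have hall := (sigmaCore_hall hG hL).1
  have hle : Y ≤ sigmaCore L ⊔ E₀ := fun y hy => by
    obtain ⟨a, ha, b, hb, rfl⟩ := hE₀.2.2.2 y (hY hy)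
    exact Subgroup.mul_mem _ (Subgroup.mem_sup_right ha) (Subgroup.mem_sup_left hb)
  obtain ⟨g, hg, hYg⟩ := Solv.sz_contain (sigmaCore L) E₀ Y (hE₀.1.trans le_normalizer_piCoreOf) hle
    (Nat.coprime_of_dvd fun r hr h1 h2 => hσ r hr h2 (hall.2.1 r hr h1))
    (Nat.coprime_of_dvd fun r hr h1 h2 => compl_pi hG hL hE₀ hr h2 (hall.2.1 r hr h1))
    (Or.inl (Solv.isSolvable_of_le (Subgroup.map_subtype_le _) (hG.2.2.2 L hL.1)))
  refine ⟨cj E₀ g, compl_cj hE₀ ((Subgroup.map_subtype_le _) hg), ?_⟩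
  rwa [Solv.conj_smul_eq_map] at hYg

/-- An element of another maximal subgroup over `A` normalises it. -/
theorem normalizes_setup (s : Setup q L A) {H : Subgroup G} (hH : IsCoatom H) (hne : H ≠ L) (hAH : A ≤ H)
    {z : G} (hzL : z ∈ L) (hzH : z ∈ H) : z ∈ Subgroup.normalizer (A : Set G) :=
  mem_normalizer_of_cj_le fun a ha => by
    have h1 : a ∈ sigmaCore L ⊔ A :=
      ((cj_mono le_sup_right z).trans (cj_eq_self (sigmaCore_sup_normal s hzL)).le) ha
    have h2 : a ∈ H := ((cj_mono hAH z).trans (Fusion.cj_eq_self_of_mem hzH).le) ha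
    rw [← SetLike.mem_coe, Subgroup.coe_mul_of_right_le_normalizer_left (sigmaCore L) A
      (s.le.trans le_normalizer_piCoreOf)] at h1
    obtain ⟨m, hm, a', ha', rfl⟩ := h1
    have h3 : m ∈ sigmaCore L ⊓ H := ⟨hm, by simpa using H.mul_mem h2 (H.inv_mem (hAH ha'))⟩
    rw [sigmaCore_inf_coatom s hH hne hAH, Subgroup.mem_bot] at h3
    simpa [h3] using ha'

omit hq in
/-- An element of prime order fixing a point of `A` and moving `A` has smaller order. -/
theorem lt_of_fix {r : ℕ} [hr : Fact r.Prime] (hAe : IsElementaryAbelian r A) (hA : Nat.card A = r ^ 2) {g a : G}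
    {p : ℕ} (hp : p.Prime) (hpr : p ≠ r) (hgo : orderOf g = p) (hgn : g ∈ Subgroup.normalizer (A : Set G))
    (hgm : g ∉ Subgroup.centralizer (A : Set G)) (ha : a ∈ A) (ha1 : a ≠ 1) (hfix : g * a = a * g) : p < r := by
  set W := Subgroup.zpowers g with hW
  have hWn : W ≤ Subgroup.normalizer (A : Set G) := Subgroup.zpowers_le.2 hgn
  have hco : (Nat.card W).Coprime (Nat.card A) := by
    rw [zpowers_card hgo, hA]
    exact ((Nat.coprime_primes hp hr.out).2 hpr).pow_right 2
  have hsol : Group.IsSolvable W ∨ Group.IsSolvable A :=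
    Or.inr (by haveI := (Fusion.elab_isPGroup hAe).isNilpotent; infer_instance)
  have hinf := Solv.PLenFix.commutator_inf_centralizer A W hAe.1 hWn hco
  have hsup := Solv.commutator_sup_fixed hWn hco hsol
  obtain ⟨hle, -, hWY⟩ := Solv.commutator_normal_in hWn
  set Y := ⁅A, W⁆ with hY
  have haW : a ∈ Subgroup.centralizer (W : Set G) := mem_centralizer_zpowers.2 hfix
  have hY1 : Y ≠ ⊥ := fun h => hgm (by
    rw [h, bot_sup_eq] at hsup
    exact Subgroup.le_centralizer_iff.1 (hsup.ge.trans inf_le_right) (Subgroup.mem_zpowers g))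
  obtain ⟨j, hj2, hj⟩ := (Nat.dvd_prime_pow hr.out).1 (hA ▸ Subgroup.card_dvd_of_le hle)
  have hj1 : j = 1 := by
    rcases (show j = 0 ∨ j = 1 ∨ j = 2 by omega) with h | h | h
    · exact absurd (Subgroup.card_eq_one.1 (hj.trans (by rw [h, pow_zero]))) hY1
    · exact h
    · have h1 : Y = A := Subgroup.eq_of_le_of_card_ge hle (by rw [hj, h, hA])
      exact absurd (Subgroup.mem_bot.1 (hinf ▸ Subgroup.mem_inf.2 ⟨h1.ge ha, haW⟩)) ha1
  have hYc : Nat.card Y = r := by rw [hj, hj1, pow_one]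
  refine lt_of_moves hYc hp hgo (hWY (Subgroup.mem_zpowers g)) fun h => hY1 (le_bot_iff.1 (hinf ▸ le_inf le_rfl ?_))
  exact Subgroup.le_centralizer_iff.1 (Subgroup.zpowers_le.2 h)

/-- Commutators with a normal subgroup of order `q²` are central. -/
theorem commutator_central {S W : Subgroup G} (hS : IsPGroup q S) (hWS : W ≤ S)
    (hSW : S ≤ Subgroup.normalizer (W : Set G)) (hWc : Nat.card W = q ^ 2) {w s : G} (hw : w ∈ W) (hs : s ∈ S) :
    ⁅s, w⁆ ∈ W ⊓ Subgroup.centralizer (S : Set G) := by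
  refine ⟨by
    rw [commutatorElement_def]
    exact Subgroup.mul_mem _ ((Subgroup.mem_normalizer_iff.1 (hSW hs) w).1 hw) (W.inv_mem hw), ?_⟩
  set W' := W.subgroupOf S with hW'
  haveI : W'.Normal := Subgroup.normal_subgroupOf_of_le_normalizer hSW
  have hne : W' ≠ ⊥ := fun h0 => by
    have h1 := Solv.card_subgroupOf hWS
    rw [← hW', h0, Subgroup.card_bot, hWc] at h1
    exact absurd h1 (Nat.one_lt_pow two_ne_zero hq.out.one_lt).ne
  obtain ⟨z, hzW, hzc, hzo⟩ := Solv.exists_central_order (p := q) hS W' hne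
  set π := QuotientGroup.mk' (Subgroup.center ↥S) with hπ
  haveI : (W'.map π).Normal := Subgroup.Normal.map inferInstance π (QuotientGroup.mk'_surjective _)
  have hcard : Nat.card (W'.map π) ≤ q := by
    have h1 : Nat.card (W'.map π) * Nat.card (W' ⊓ Subgroup.center ↥S : Subgroup ↥S) = q ^ 2 := by
      rw [← Subgroup.relIndex_ker (K := W') π, QuotientGroup.ker_mk', ← hWc, ← Solv.card_subgroupOf hWS, ← hW']
      have h := Subgroup.relIndex_mul_relIndex ⊥ (Subgroup.center ↥S ⊓ W') W' bot_le inf_le_right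
      rw [Subgroup.relIndex_bot_left, Subgroup.relIndex_bot_left, Subgroup.inf_relIndex_right, mul_comm] at h
      rwa [inf_comm]
    have h2 : q ≤ Nat.card (W' ⊓ Subgroup.center ↥S : Subgroup ↥S) := by
      rw [← hzo, ← Nat.card_zpowers]
      exact Subgroup.card_le_of_le (Subgroup.zpowers_le.2 ⟨hzW, hzc⟩)
    refine Nat.le_of_mul_le_mul_right ?_ hq.out.pos
    rw [← pow_two, ← h1]
    exact Nat.mul_le_mul_left _ h2
  have hc := Fusion.le_center_of_card_prime (hS.to_quotient _) (W'.map π) hcard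
  have hz : ⁅(⟨s, hs⟩ : ↥S), ⟨w, hWS hw⟩⁆ ∈ Subgroup.center ↥S := by
    refine (QuotientGroup.eq_one_iff _).1 ?_
    show π ⁅(⟨s, hs⟩ : ↥S), ⟨w, hWS hw⟩⁆ = 1
    rw [map_commutatorElement]
    exact commutatorElement_eq_one_iff_mul_comm.2
      (Subgroup.mem_center_iff.1 (hc (Subgroup.mem_map_of_mem π (show (⟨w, hWS hw⟩ : ↥S) ∈ W' from hw))) (π ⟨s, hs⟩))
  exact Subgroup.mem_centralizer_iff.2 fun t ht => congrArg Subtype.val (Subgroup.mem_center_iff.1 hz ⟨t, ht⟩)

/-- A Sylow subgroup of `G` over `A` whose derived subgroup holds a point of `A` centralizes that point. -/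
theorem derived_point (s : Setup q L A) {S : Subgroup G} (hS : SylIn q S ⊤) (hAS : A ≤ S) {x : G} (hx : x ∈ A)
    (hxS : x ∈ ⁅S, S⁆) (hCx : Subgroup.centralizer (Subgroup.zpowers x : Set G) ≤ L) :
    S ≤ Subgroup.centralizer (Subgroup.zpowers x : Set G) := by
  classical
  by_contra hnot
  have hG := s.minSimple
  have hSp := hS.isPGroup
  have hnc : ¬ IsCyclic ↥S := fun hc => noncyclic_of_card s.elem s.card.ge (by
    haveI := hc
    exact isCyclic_of_injective (Subgroup.inclusion hAS) (Subgroup.inclusion_injective hAS))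
  obtain ⟨B₀, hB₀n, hB₀e, hB₀c⟩ := Solv.exists_normal_elementary_sq s.ne_two hSp hnc
  haveI := hB₀n
  set B := B₀.map S.subtype with hB
  have hBS : B ≤ S := Subgroup.map_subtype_le _
  have hBe : IsElementaryAbelian q B := ⟨haveI := hB₀e.1; Subgroup.map_isMulCommutative _ _, by
    rintro _ ⟨e, he, rfl⟩; rw [← map_pow, hB₀e.2 e he, map_one]⟩
  have hBc : Nat.card B = q ^ 2 := by rw [hB, Subgroup.card_map_of_injective S.subtype_injective, hB₀c]
  have hBn : S ≤ Subgroup.normalizer (B : Set G) := fun g hg => mem_normalizer_of_cj_le (by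
    rintro _ ⟨_, ⟨b, hb, rfl⟩, rfl⟩
    exact ⟨⟨g, hg⟩ * b * ⟨g, hg⟩⁻¹, hB₀n.conj_mem b hb _, rfl⟩)
  have hxB : x ∈ Subgroup.centralizer (B : Set G) :=
    SigmaCentralizer.derived_centralizes hSp hBS hBn hBc hxS
  have hBL : B ≤ L := fun b hb => hCx (mem_centralizer_zpowers.2 (Subgroup.mem_centralizer_iff.1 hxB b hb).symm)
  have hab := pgroup_abelian hG s.coatom s.not_sigma (hSp.to_le (inf_le_left : S ⊓ L ≤ S)) inf_le_right
  have hBA : B = A := Subgroup.eq_of_le_of_card_ge (fun b hb => s.full b (Subgroup.mem_centralizer_iff.2 fun a ha =>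
    congrArg Subtype.val (hab.is_comm.comm (⟨a, hAS ha, s.le ha⟩ : (S ⊓ L : Subgroup G)) ⟨b, hBS hb, hBL hb⟩))
    (hBe.2 b hb)) (by rw [hBc, s.card])
  have hAn : S ≤ Subgroup.normalizer (A : Set G) := hBA ▸ hBn
  set Z := A ⊓ Subgroup.centralizer (S : Set G) with hZ
  have hxZ : x ∉ Z := fun h => hnot (Subgroup.le_centralizer_iff.1 (Subgroup.zpowers_le.2 h.2))
  have hZc : Nat.card Z ≤ q := by
    obtain ⟨j, hj2, hj⟩ := (Nat.dvd_prime_pow hq.out).1
      (s.card ▸ Subgroup.card_dvd_of_le (inf_le_left : Z ≤ A))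
    rw [hj]
    refine (Nat.pow_le_pow_right hq.out.pos ?_).trans (pow_one q).le
    by_contra h
    exact hxZ ((Subgroup.eq_of_le_of_card_ge (inf_le_left : Z ≤ A)
      (by rw [s.card, hj]; exact Nat.pow_le_pow_right hq.out.pos (by omega))).ge hx)
  have hr : PRankLE q 2 ↥S := by
    by_contra hr3
    obtain ⟨F, hFS, hFe, hFc⟩ := exists_elab_of_prank hr3
    have hcomm : ∀ a b : F, ⁅((a * b : F) : G), x⁆ = ⁅(a : G), x⁆ * ⁅(b : G), x⁆ := fun a b => by
      obtain ⟨-, hb⟩ := commutator_central hSp hAS hAn s.card hx (hFS b.2)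
      obtain ⟨haA, -⟩ := commutator_central hSp hAS hAn s.card hx (hFS a.2)
      have h1 := Subgroup.mem_centralizer_iff.1 hb a (hFS a.2)
      have h2 := Subgroup.mem_centralizer_iff.1 hb _ (hAS haA)
      calc ⁅((a * b : F) : G), x⁆ = a * ⁅(b : G), x⁆ * (a : G)⁻¹ * ⁅(a : G), x⁆ := by
            simp only [Subgroup.coe_mul, commutatorElement_def]; group
        _ = ⁅(b : G), x⁆ * ⁅(a : G), x⁆ := by rw [h1, mul_inv_cancel_right]
        _ = _ := h2.symm
    set φ : F →* Z := MonoidHom.mk' (fun f => ⟨⁅(f : G), x⁆, commutator_central hSp hAS hAn s.card hx (hFS f.2)⟩)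
      (fun a b => Subtype.ext (hcomm a b))
    have hker : φ.ker.map F.subtype ≤ A := by
      rintro _ ⟨f, hf, rfl⟩
      have h1 : ⁅(f : G), x⁆ = 1 := congrArg Subtype.val hf
      have h2 : (f : G) ∈ L := hCx (mem_centralizer_zpowers.2 (commutatorElement_eq_one_iff_mul_comm.1 h1).symm)
      exact s.full f (Subgroup.mem_centralizer_iff.2 fun a ha => congrArg Subtype.val
        (hab.is_comm.comm (⟨a, hAS ha, s.le ha⟩ : (S ⊓ L : Subgroup G)) ⟨f, hFS f.2, h2⟩)) (hFe.2 f f.2)
    have h3 : Nat.card φ.ker * Nat.card φ.range = Nat.card F := by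
      rw [← φ.ker.card_mul_index, Subgroup.index_ker]
    have h4 : Nat.card φ.range ≤ q := (Subgroup.card_le_card_group _).trans hZc
    have h5 : q ^ 2 ≤ Nat.card φ.ker := by
      refine Nat.le_of_mul_le_mul_right ?_ hq.out.pos
      calc q ^ 2 * q = q ^ 3 := by ring
        _ ≤ Nat.card F := hFc
        _ = Nat.card φ.ker * Nat.card φ.range := h3.symm
        _ ≤ _ := Nat.mul_le_mul_left _ h4
    have hAF : A ≤ F := by
      rw [← Subgroup.eq_of_le_of_card_ge hker (by
        rw [s.card, Subgroup.card_map_of_injective F.subtype_injective]; exact h5)]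
      exact Subgroup.map_subtype_le _
    have hFA : F ≤ A := fun f hf => s.full f (Subgroup.mem_centralizer_iff.2 fun a ha =>
      congrArg Subtype.val (hFe.1.is_comm.comm (⟨a, hAF ha⟩ : F) ⟨f, hf⟩)) (hFe.2 f hf)
    have h6 := hFc.trans (Subgroup.card_le_of_le hFA)
    rw [s.card, Nat.pow_le_pow_iff_right hq.out.one_lt] at h6
    omega
  obtain ⟨S', hS'⟩ := hS.exists_sylow
  rcases sylow_rank_two hG S' (by rw [hS']; exact hr) with h | ⟨P₁, P₂, h1, h2, -, h4, -, h6, -⟩
  · rw [hS'] at h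
    exact hnot fun t ht => mem_centralizer_zpowers.2
      (congrArg Subtype.val (h.is_comm.comm (⟨x, hAS hx⟩ : S) ⟨t, ht⟩))
  rw [hS'] at h1
  haveI := h6
  have hn : P₂ ≤ Subgroup.normalizer (P₁ : Set G) := fun b hb => Subgroup.centralizer_le_normalizer _
    (Subgroup.mem_centralizer_iff.2 fun a ha => h2 a ha b hb)
  have hmem : ∀ {y : G}, y ∈ S → ∃ a ∈ P₁, ∃ b ∈ P₂, y = a * b := fun {y} hy => by
    rw [← h1, ← SetLike.mem_coe, Subgroup.coe_mul_of_right_le_normalizer_left _ _ hn] at hy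
    obtain ⟨a, ha, b, hb, rfl⟩ := hy
    exact ⟨a, ha, b, hb, rfl⟩
  have hPp : IsPGroup q ↥P₁ := IsPGroup.of_card h4
  have hPS : P₁ ≤ S := h1 ▸ le_sup_left
  have hder : ⁅S, S⁆ ≤ ⁅P₁, P₁⁆ := Subgroup.commutator_le.2 fun y hy y' hy' => by
    obtain ⟨a, ha, b, hb, rfl⟩ := hmem hy
    obtain ⟨a', ha', b', hb', rfl⟩ := hmem hy'
    have hb'' := congrArg Subtype.val ((IsCyclic.commGroup (α := ↥P₂)).mul_comm ⟨b, hb⟩ ⟨b', hb'⟩)
    have he : ⁅a * b, a' * b'⁆ = ⁅a, a'⁆ := by
      have c1 : Commute a b' := h2 a ha b' hb'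
      have c2 : Commute b a' := (h2 a' ha' b hb).symm
      have c3 : Commute b b' := hb''
      have c4 : Commute a b := h2 a ha b hb
      have c5 : Commute a' b' := h2 a' ha' b' hb'
      rw [commutatorElement_def, commutatorElement_def, mul_inv_rev, mul_inv_rev]
      calc a * b * (a' * b') * (b⁻¹ * a⁻¹) * (b'⁻¹ * a'⁻¹)
          = a * (b * (a' * b') * b⁻¹) * a⁻¹ * (b'⁻¹ * a'⁻¹) := by group
        _ = a * (a' * b') * a⁻¹ * (b'⁻¹ * a'⁻¹) := by rw [(c2.mul_right c3).eq, mul_inv_cancel_right]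
        _ = a * a' * (b' * a⁻¹ * b'⁻¹) * a'⁻¹ := by group
        _ = _ := by rw [(c1.inv_left).symm.eq, mul_inv_cancel_right]
    rw [he]
    exact Subgroup.commutator_mem_commutator ha ha'
  -- the derived subgroup of `P₁` is central
  have hcen : ∀ y ∈ P₁, y * x = x * y := by
    haveI : Nontrivial ↥P₁ := Finite.one_lt_card_iff_nontrivial.1 (by
      rw [h4]; exact Nat.one_lt_pow three_ne_zero hq.out.one_lt)
    haveI := hPp.center_nontrivial
    obtain ⟨k, hk⟩ := IsPGroup.iff_card.1 (hPp.to_subgroup (Subgroup.center ↥P₁))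
    have hk1 : 1 ≤ k := by
      by_contra h
      have h' := Finite.one_lt_card (α := ↥(Subgroup.center ↥P₁))
      rw [hk, show k = 0 by omega, pow_zero] at h'
      omega
    have hqc : IsMulCommutative (↥P₁ ⧸ Subgroup.center ↥P₁) := by
      have h5 := (Subgroup.center ↥P₁).card_mul_index
      rw [h4, Subgroup.index_eq_card, hk] at h5
      obtain ⟨j, hj, hje⟩ := (Nat.dvd_prime_pow hq.out).1 (Dvd.intro_left _ h5)
      have hj2 : j ≤ 2 := by
        by_contra h
        rw [show j = 3 by omega] at hje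
        rw [hje, ← pow_add] at h5
        have := Nat.pow_right_injective hq.out.two_le h5
        omega
      rcases (show j ≤ 1 ∨ j = 2 by omega) with h | h
      · refine ⟨⟨fun a b => Subgroup.mem_center_iff.1 (Fusion.le_center_of_card_prime (hPp.to_quotient _) ⊤
          (by rw [Subgroup.card_top, hje]; exact (Nat.pow_le_pow_right hq.out.pos h).trans (pow_one q).le)
          (Subgroup.mem_top b)) a⟩⟩
      · exact IsPGroup.isMulCommutative_of_card_eq_prime_sq (hje.trans (by rw [h]))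
    have hle := Subgroup.Normal.quotient_commutative_iff_commutator_le.1 hqc
    have hxP' := hder hxS
    rw [← Subgroup.map_subtype_commutator] at hxP'
    obtain ⟨x', hx', rfl⟩ := hxP'
    exact fun y hy => congrArg Subtype.val (Subgroup.mem_center_iff.1 (hle hx') ⟨y, hy⟩)
  refine hnot fun t ht => mem_centralizer_zpowers.2 ?_
  obtain ⟨a, ha, b, hb, rfl⟩ := hmem ht
  have hxP : x ∈ P₁ := Subgroup.commutator_le_self P₁ (hder hxS)
  exact ((show Commute x a from (hcen a ha).symm).mul_right (show Commute x b from h2 x hxP b hb)).eq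

end Cfsg.Agent.OddLocal.Prime
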