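import Cfsg.Agent.Lib.OddLocal.PrimeBasic

/-!
Two elements of prime order outside `σ(M)` with a common fixed point on `M_σ`.
-/

set_option autoImplicit false
set_option linter.style.haveILetI false

namespace Cfsg.Agent.OddLocal.Prime

open scoped Pointwise commutatorElement
open Cfsg
open Cfsg.Agent.Fusion (SylIn cj cj_cj cj_eq_self cj_mono card_cj isPGroup_cj exists_sylIn_ge exists_sylIn
  mem_normalizer_of_cj_le)
open Cfsg.Agent.OddLocal.Uniq
open Cfsg.Agent.OddLocal.Sig
open Cfsg.Agent.OddLocal.RankTwo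
open Cfsg.Agent.OddLocal.TauTwo
open Cfsg.Agent.OddLocal.Disjoint (mem_centralizer_zpowers zpowers_card mem_zpowers_of_order elab_cj exists_sq
  cyclic_of_prank tau2_commute conjugate_of_sigma)

universe u

variable {G : Type u} [Group G] [Finite G] {q : ℕ} [hq : Fact q.Prime] {M L : Subgroup G}

/-- An element of a rank one prime moved by one of prime order, both fixing a common point, centralizes a Sylow
subgroup, which is cyclic. -/
theorem centralizes_sylow (hG : IsMinSimpleOddOrder G) (hM : IsCoatom M) {x w c : G} {s r : ℕ} [hs : Fact s.Prime]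
    [hr : Fact r.Prime] (hxM : x ∈ M) (hwM : w ∈ M) (hxo : orderOf x = q) (hwo : orderOf w = s) (hσq : q ∉ sigma M)
    (hσs : s ∉ sigma M) (hq1 : PRankLE q 1 ↥M) (hs1 : PRankLE s 1 ↥M)
    (hwn : w ∈ Subgroup.normalizer (Subgroup.zpowers x : Set G)) (hwx : w * x ≠ x * w) (hc : c ∈ sigmaCore M)
    (hco : orderOf c = r) (hxc : x * c = c * x) (hwc : w * c = c * w) :
    ∃ T : Subgroup G, SylIn r T M ∧ T ≤ sigmaCore M ∧ c ∈ T ∧ IsCyclic ↥T ∧
      x ∈ Subgroup.centralizer (T : Set G) := by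
  classical
  set X := Subgroup.zpowers x with hX
  set W := Subgroup.zpowers w with hW
  have hall := (sigmaCore_hall hG hM).1
  have hσM : sigmaCore M ≤ M := Subgroup.map_subtype_le _
  have hrσ : r ∈ sigma M := hall.2.1 r hr.out (hco ▸ Subgroup.orderOf_dvd_natCard _ hc)
  have hr2 : r ≠ 2 := Uniq.ne_two hG (isPGroup_of_card (zpowers_card hco)) (ne_bot_of_card (zpowers_card hco))
  have hWX : W ≤ Subgroup.normalizer (X : Set G) := Subgroup.zpowers_le.2 hwn
  set A := X ⊔ W with hA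
  have hAM : A ≤ M := sup_le (Subgroup.zpowers_le.2 hxM) (Subgroup.zpowers_le.2 hwM)
  have hcoσ : (Nat.card A).Coprime (Nat.card (sigmaCore M)) := by
    refine (Nat.Coprime.mul_left ((Nat.Prime.coprime_iff_not_dvd hq.out).2 fun h => hσq (hall.2.1 q hq.out h))
      ((Nat.Prime.coprime_iff_not_dvd hs.out).2 fun h => hσs (hall.2.1 s hs.out h))).coprime_dvd_left ?_
    have h1 := Solv.card_sup_mul_card_inf' X W hWX
    rw [zpowers_card hxo, zpowers_card hwo] at h1
    exact ⟨_, h1.symm⟩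
  have hsolA : Group.IsSolvable ↥A := Solv.isSolvable_of_le hAM (hG.2.2.2 M hM.1)
  have hAc : A ≤ Subgroup.normalizer (Subgroup.zpowers c : Set G) :=
    sup_le ((Subgroup.zpowers_le.2 (mem_centralizer_zpowers.2 hxc.symm)).trans (Subgroup.centralizer_le_normalizer _))
      ((Subgroup.zpowers_le.2 (mem_centralizer_zpowers.2 hwc.symm)).trans (Subgroup.centralizer_le_normalizer _))
  obtain ⟨T, hT₀, hcT', hAT⟩ := Solv.exists_invariant_sylow_ge (p := r) (hAM.trans le_normalizer_piCoreOf) hcoσ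
    (Or.inl hsolA) (Subgroup.zpowers c) (Subgroup.zpowers_le.2 hc) (isPGroup_of_card (zpowers_card hco)) hAc
  have hTσ : T ≤ sigmaCore M := hT₀.1
  have hTp : IsPGroup r T := hT₀.isPGroup
  have hT : SylIn r T M := ⟨hTσ.trans hσM, hTp, by
    rw [← Subgroup.relIndex_mul_relIndex T (sigmaCore M) M hTσ hσM]
    exact hr.out.prime.not_dvd_mul (sylIn_of_isSylIn hT₀).not_dvd (hall.2.2 r hr.out hrσ)⟩
  have hcT : c ∈ T := hcT' (Subgroup.mem_zpowers c)
  set φ := (Subgroup.normalizerMonoidHom T).comp (Subgroup.inclusion hAT) with hφ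
  obtain ⟨D, hDinv, -, hDom, hDdet⟩ := Local.FS.exists_detect hTp φ.range
  set D' := D.map T.subtype with hD'
  have hDT : D' ≤ T := Subgroup.map_subtype_le D
  have hinv : A ≤ Subgroup.normalizer (D' : Set G) := fun a ha => mem_normalizer_of_cj_le (by
    rintro _ ⟨_, ⟨d, hd, rfl⟩, rfl⟩
    exact ⟨_, hDinv (φ ⟨a, ha⟩) ⟨_, rfl⟩ d hd, rfl⟩)
  have hDexp : ∀ d ∈ D', d ^ r = 1 := by
    rintro _ ⟨d, hd, rfl⟩
    rw [← map_pow, (hDom d hd).resolve_right (fun h => hr2 h.1), map_one]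
  have hCc : IsCyclic ↥(T ⊓ Subgroup.centralizer (W : Set G) : Subgroup G) :=
    fixed_cyclic hG hM hwM hwo hσs hs1 (hTp.to_le inf_le_left) (inf_le_left.trans hTσ) inf_le_right
  have key := Solv.FrobFix.formula D' X W (Solv.isSolvable_of_le (hDT.trans hT.le) (hG.2.2.2 M hM.1)) hinv hWX
    (fun e he he1 u hu h => by
      by_contra hu1
      obtain ⟨i, rfl⟩ := Subgroup.mem_zpowers_iff.1 (mem_zpowers_of_order hs.out hwo he he1)
      obtain ⟨j, rfl⟩ := Subgroup.mem_zpowers_iff.1 (mem_zpowers_of_order hq.out hxo hu hu1)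
      exact hwx ((show Commute e u from h).zpow_zpow i j).eq)
    (hcoσ.coprime_dvd_right (Subgroup.card_dvd_of_le (hDT.trans hTσ))).symm
  have he : D' ⊓ Subgroup.centralizer ((X ⊔ W : Subgroup G) : Set G) = D' ⊓ Subgroup.centralizer (W : Set G) := by
    refine le_antisymm (inf_le_inf_left _ (centralizer_le_of_le le_sup_right)) fun d hd => ?_
    refine Subgroup.mem_inf.2 ⟨hd.1, Subgroup.le_centralizer_iff.1 (sup_le ?_ ?_) (Subgroup.mem_zpowers d)⟩
    swap
    · exact Subgroup.le_centralizer_iff.1 (Subgroup.zpowers_le.2 hd.2)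
    refine Subgroup.le_centralizer_iff.1 (Subgroup.zpowers_le.2 (mem_centralizer_zpowers.2 ?_))
    by_cases hd1 : d = 1
    · rw [hd1, mul_one, one_mul]
    have hdo : orderOf d = r := orderOf_eq_prime (hDexp d hd.1) hd1
    have h1 : Subgroup.zpowers d = Subgroup.zpowers c := cyclic_eq hCc
      (Subgroup.zpowers_le.2 ⟨hDT hd.1, hd.2⟩) (Subgroup.zpowers_le.2 ⟨hcT, mem_centralizer_zpowers.2 hwc⟩)
      (zpowers_card hdo) (zpowers_card hco)
    obtain ⟨i, rfl⟩ := Subgroup.mem_zpowers_iff.1 (h1 ▸ Subgroup.mem_zpowers d)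
    exact ((show Commute x c from hxc).zpow_right i).eq
  rw [he] at key
  have h1 := Nat.eq_of_mul_eq_mul_left (pow_pos Nat.card_pos _) key
  have h2 : D' ⊓ Subgroup.centralizer (X : Set G) = D' := Subgroup.eq_of_le_of_card_ge inf_le_left h1.le
  have hx' : x ∈ A := Subgroup.mem_sup_left (Subgroup.mem_zpowers x)
  have hker : φ ⟨x, hx'⟩ = 1 := by
    refine hDdet _ ⟨_, rfl⟩ (((Nat.coprime_primes hq.out hr.out).2 (fun h => hσq (h ▸ hrσ))).coprime_dvd_left ?_)
      fun d hd => Subtype.ext ?_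
    · exact (orderOf_map_dvd φ _).trans (by rw [Subgroup.orderOf_mk, hxo])
    · show x * (d : G) * x⁻¹ = d
      have h3 : x * (d : G) = d * x :=
        mem_centralizer_zpowers.1 (h2.ge (Subgroup.mem_map_of_mem T.subtype hd)).2
      rw [h3]
      exact mul_inv_cancel_right _ _
  have h6 : Subgroup.inclusion hAT ⟨x, hx'⟩ ∈ (Subgroup.normalizerMonoidHom T).ker := hker
  rw [Subgroup.normalizerMonoidHom_ker, Subgroup.mem_subgroupOf] at h6
  refine ⟨T, hT, hTσ, hcT, fixed_cyclic hG hM hxM hxo hσq hq1 hTp hTσ ?_, h6⟩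
  exact Subgroup.le_centralizer_iff.1 (Subgroup.zpowers_le.2 h6)

/-- A cyclic Sylow subgroup centralized by `x` is moved from inside the normaliser of `⟨x⟩`. -/
theorem exists_mover_over (hG : IsMinSimpleOddOrder G) {x c : G} {r : ℕ} [hr : Fact r.Prime]
    (hxo : orderOf x = q) (hq1 : PRankLE q 1 ↥M) (hrσ : r ∈ sigma M) {T : Subgroup G} (hT : SylIn r T M)
    (hcT : c ∈ T) (hco : orderOf c = r) (hTc : IsCyclic ↥T) (hxT : x ∈ Subgroup.centralizer (T : Set G)) :
    ∃ m ∈ M, m ∈ Subgroup.normalizer (Subgroup.zpowers x : Set G) ∧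
      m ∈ Subgroup.normalizer (Subgroup.zpowers c : Set G) ∧ m * c ≠ c * m := by
  by_contra hno
  push Not at hno
  obtain ⟨hTtop, hTne, hTN⟩ := sigma_sylow hrσ hT
  set N := Subgroup.normalizer (T : Set G) with hN
  set C := Subgroup.centralizer (T : Set G) with hC
  have hCN : C ≤ N := Subgroup.centralizer_le_normalizer _
  have hNC : N ≤ Subgroup.normalizer (C : Set G) := fun g hg => mem_normalizer_of_cj_le (by
    rw [hC, Fusion.cj_centralizer, cj_eq_self hg])
  obtain ⟨Q, hQ, hxQ⟩ := exists_sylIn_ge (isPGroup_of_card (zpowers_card hxo)) (Subgroup.zpowers_le.2 hxT)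
  have hQc : IsCyclic ↥Q := cyclic_of_prank hG hQ.isPGroup ((hQ.le.trans hCN).trans hTN) hq1
  have hcent : ∀ h ∈ N, c * h = h * c := by
    intro h hh
    obtain ⟨n, hn, hnh⟩ := Fusion.frattini_conj hQ hNC hh
    set m := n * h with hm
    have hmN : m ∈ N := N.mul_mem (hCN hn) hh
    have hmx : m ∈ Subgroup.normalizer (Subgroup.zpowers x : Set G) := mem_normalizer_of_cj_le
      (cyclic_eq hQc ((cj_mono hxQ m).trans (cj_eq_self hnh).le) hxQ (by rw [card_cj, zpowers_card hxo])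
        (zpowers_card hxo)).le
    have hcT' : Subgroup.zpowers c ≤ T := Subgroup.zpowers_le.2 hcT
    have hmc : m ∈ Subgroup.normalizer (Subgroup.zpowers c : Set G) := mem_normalizer_of_cj_le
      (cyclic_eq hTc ((cj_mono hcT' m).trans (cj_eq_self hmN).le) hcT' (by rw [card_cj, zpowers_card hco])
        (zpowers_card hco)).le
    have hc' : m * c = c * m := hno m (hTN hmN) hmx hmc
    have hnc : c * n = n * c := Subgroup.mem_centralizer_iff.1 hn c hcT
    rw [show h = n⁻¹ * m by rw [hm]; group]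
    exact (((show Commute c n from hnc).inv_right).mul_right (show Commute c m from hc'.symm)).eq
  obtain ⟨T', hT'⟩ := hTtop.exists_sylow
  haveI : (T.subgroupOf N).Normal := Subgroup.normal_in_normalizer
  have hTN' : T ≤ N := Subgroup.le_normalizer
  obtain ⟨j, hj⟩ := IsPGroup.iff_card.1 hT.isPGroup
  obtain ⟨V₀, hV₀⟩ := Subgroup.exists_right_complement'_of_coprime (N := T.subgroupOf N) (by
    rw [Solv.card_subgroupOf hTN', hj]
    refine Nat.Coprime.pow_left j ((Nat.Prime.coprime_iff_not_dvd hr.out).2 ?_)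
    exact (hTtop.mono hTN' le_top).not_dvd)
  set V := V₀.map N.subtype with hV
  have hVN : V ≤ N := Subgroup.map_subtype_le _
  have hcompl : IsComplIn T V N := by
    refine ⟨hTN', hVN, eq_bot_iff.2 ?_, fun m hm => ?_⟩
    · rintro _ ⟨hs, ⟨v, hv, rfl⟩⟩
      have h1 : v ∈ T.subgroupOf N ⊓ V₀ := ⟨hs, hv⟩
      rw [disjoint_iff.1 hV₀.disjoint, Subgroup.mem_bot] at h1
      rw [h1, map_one]; exact Subgroup.one_mem _
    · obtain ⟨a, ha, v, hv, e⟩ := Subgroup.mem_sup_of_normal_left.1 (hV₀.sup_eq_top ▸ Subgroup.mem_top (⟨m, hm⟩ : N))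
      exact ⟨a, ha, v, ⟨v, hv, rfl⟩, (congrArg Subtype.val e).symm⟩
  obtain ⟨hTV, hco'⟩ := compl_facts hG T' (by rw [hT']; exact hTne) (V := V) (by rw [hT']; exact hcompl)
  rw [hT'] at hTV
  haveI := hTc
  have h := Solv.PLenFix.commutator_inf_centralizer T V
    ⟨⟨fun u v => (IsCyclic.commGroup (α := ↥T)).mul_comm u v⟩⟩ hVN (by rw [hj]; exact Nat.Coprime.pow_right j hco')
  rw [← hTV] at h
  refine ne_one_of_order hco (Subgroup.mem_bot.1 (h ▸ Subgroup.mem_inf.2 ⟨hcT,
    Subgroup.mem_centralizer_iff.2 fun v hv => (hcent v (hVN hv)).symm⟩))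

/-- The fixed points of a coprime action with `[S, V] = S` lie in the derived subgroup. -/
theorem fixed_le_derived_of {S V : Subgroup G} (hVS : V ≤ Subgroup.normalizer (S : Set G))
    (hco : (Nat.card V).Coprime (Nat.card S)) (hSV : ⁅S, V⁆ = S) {x : G} (hx : x ∈ S)
    (hfix : ∀ v ∈ V, ⁅v, x⁆ ∈ ⁅S, S⁆) : x ∈ ⁅S, S⁆ := by
  classical
  haveI := Fintype.ofFinite V
  have hmem : ∀ (l : V) (f : S), (l : G) * f * (l : G)⁻¹ ∈ S := fun l f =>
    (Subgroup.mem_normalizer_iff.1 (hVS l.2) f).1 f.2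
  obtain ⟨T, hT⟩ : ∃ T : S →* Abelianization S, ∀ f : S,
      T f = ∏ l : V, Abelianization.of (⟨(l : G) * f * (l : G)⁻¹, hmem l f⟩ : S) :=
    ⟨{ toFun := fun f => ∏ l : V, Abelianization.of (⟨(l : G) * f * (l : G)⁻¹, hmem l f⟩ : S)
       map_one' := Finset.prod_eq_one fun l _ => by rw [← map_one Abelianization.of]; congr 1; exact Subtype.ext (by simp)
       map_mul' := fun a b => by
        rw [← Finset.prod_mul_distrib]
        refine Finset.prod_congr rfl fun l _ => ?_
        rw [← map_mul]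
        congr 1
        exact Subtype.ext (by simp [mul_assoc]) }, fun _ => rfl⟩
  have hle : S ≤ T.ker.map S.subtype := by
    refine hSV.ge.trans (Subgroup.commutator_le.2 fun f hf m hm => ?_)
    have hm' : m * f⁻¹ * m⁻¹ ∈ S := (Subgroup.mem_normalizer_iff.1 (hVS hm) f⁻¹).1 (Subgroup.inv_mem _ hf)
    refine ⟨(⟨f, hf⟩ : S) * ⟨m * f⁻¹ * m⁻¹, hm'⟩, ?_, by simp [commutatorElement_def, mul_assoc]⟩
    show _ * _ ∈ T.ker
    rw [MonoidHom.mem_ker, map_mul]
    have h1 : T ⟨m * f⁻¹ * m⁻¹, hm'⟩ = T (⟨f, hf⟩ : S)⁻¹ := by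
      rw [hT, hT]
      refine Fintype.prod_equiv (Equiv.mulRight (⟨m, hm⟩ : V)) _ _ fun l => ?_
      congr 1
      exact Subtype.ext (by simp [mul_assoc])
    rw [h1, map_inv, mul_inv_cancel]
  obtain ⟨g, hg, rfl⟩ := hle hx
  have h1 : T g = Abelianization.of g ^ Nat.card V := by
    rw [hT, Finset.prod_eq_pow_card (b := Abelianization.of g)]
    · rw [Finset.card_univ, Nat.card_eq_fintype_card]
    · intro l _
      rw [← mul_inv_eq_one, ← map_inv, ← map_mul, ← MonoidHom.mem_ker, Abelianization.ker_of]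
      have h2 := hfix l l.2
      rw [← Subgroup.map_subtype_commutator] at h2
      obtain ⟨d, hd, hde⟩ := h2
      have h3 : (⟨(l : G) * g * (l : G)⁻¹, hmem l g⟩ : S) * g⁻¹ = d := Subtype.ext (by
        show (l : G) * g * (l : G)⁻¹ * (g : G)⁻¹ = d
        exact (commutatorElement_def _ _).symm.trans hde.symm)
      rw [h3]
      exact hd
  have h2 : Abelianization.of g ^ Nat.card V = 1 := h1.symm.trans hg
  have h3 : Abelianization.of g = 1 := orderOf_eq_one_iff.1 (Nat.eq_one_of_dvd_coprimes hco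
    (orderOf_dvd_of_pow_eq_one h2) ((orderOf_map_dvd _ g).trans (orderOf_dvd_natCard g)))
  rw [← Subgroup.map_subtype_commutator]
  refine Subgroup.mem_map_of_mem _ ?_
  rw [← Abelianization.ker_of]
  exact h3

end Cfsg.Agent.OddLocal.Prime
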