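import Cfsg.Agent.Lib.OddLocal.PrimeOverTools

/-!
A line of rank one with a fixed point on `M_σ` whose normaliser lies in a maximal subgroup outside whose
`σ`-set its prime falls.
-/

set_option autoImplicit false
set_option linter.style.haveILetI false

namespace Cfsg.Agent.OddLocal.Prime

open scoped Pointwise commutatorElement
open Cfsg
open Cfsg.Agent.Fusion (SylIn cj cj_cj cj_eq_self cj_mono card_cj isPGroup_cj exists_sylIn_ge exists_sylIn
  mem_normalizer_of_cj_le)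
open Cfsg.Agent.OddLocal.Uniq
open Cfsg.Agent.OddLocal.Sig
open Cfsg.Agent.OddLocal.RankTwo
open Cfsg.Agent.OddLocal.TauTwo
open Cfsg.Agent.OddLocal.Disjoint (mem_centralizer_zpowers zpowers_card mem_zpowers_of_order elab_cj exists_sq
  cyclic_of_prank tau2_commute conjugate_of_sigma)

universe u

variable {G : Type u} [Group G] [Finite G] {q : ℕ} [hq : Fact q.Prime] {M L : Subgroup G}

/-- An element `v` of `M` moving `⟨x⟩` and commuting with `c`, inside a maximal subgroup `H` whose `σ`-set holds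
the prime of `x`. -/
structure Scaled (q : ℕ) (M L H : Subgroup G) (x c v : G) : Prop where
  coatom : IsCoatom H
  sigma : q ∈ Cfsg.sigma H
  not_beta : q ∉ beta H
  not_conj : ∀ g : G, H ≠ cj M g
  x_mem : x ∈ sigmaCore H
  v_mem : v ∈ H
  v_M : v ∈ M
  v_norm : v ∈ Subgroup.normalizer (Subgroup.zpowers x : Set G)
  v_move : v * x ≠ x * v
  v_comm : v * c = c * v
  c_mem : c ∈ H
  c_L : c ∉ ⁅L, L⁆
  c_over : Subgroup.normalizer (Subgroup.zpowers c : Set G) ≤ M

theorem exists_scaler (hG : IsMinSimpleOddOrder G) (hM : IsCoatom M) {x c : G} {r : ℕ} [hr : Fact r.Prime]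
    (hxM : x ∈ M) (hxo : orderOf x = q) (hσq : q ∉ sigma M) (hq1 : PRankLE q 1 ↥M) (hc : c ∈ sigmaCore M)
    (hco : orderOf c = r) (hxc : x * c = c * x) (hL : IsCoatom L)
    (hNL : Subgroup.normalizer (Subgroup.zpowers x : Set G) ≤ L) (hσL : q ∉ sigma L) :
    ∃ (H : Subgroup G) (v : G), Scaled q M L H x c v := by
  classical
  have hcM : c ∈ M := Subgroup.map_subtype_le _ hc
  have hrσ : r ∈ sigma M :=
    (sigmaCore_hall hG hM).1.2.1 r hr.out (hco ▸ Subgroup.orderOf_dvd_natCard _ hc)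
  have hrq : r ≠ q := fun h => hσq (h ▸ hrσ)
  have hCx : Subgroup.centralizer (Subgroup.zpowers x : Set G) ≤ L :=
    (Subgroup.centralizer_le_normalizer _).trans hNL
  have hxL : x ∈ L := hCx (mem_centralizer_zpowers.2 rfl)
  have hcL : c ∈ L := hCx (mem_centralizer_zpowers.2 hxc)
  have hLM := over_not_conj hG hσq hq1 hL hxo hNL
  have hσrL : r ∉ sigma L := fun h => by
    obtain ⟨g, hg⟩ := conjugate_of_sigma hG hM hL hrσ h
    exact hLM g hg
  obtain ⟨E, hE, hYE⟩ := exists_compl_ge hG hL (Y := Subgroup.zpowers x ⊔ Subgroup.zpowers c)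
    (sup_le (Subgroup.zpowers_le.2 hxL) (Subgroup.zpowers_le.2 hcL)) fun t ht htd hσt => by
      have h1 := Solv.card_sup_mul_card_inf' (Subgroup.zpowers x) (Subgroup.zpowers c)
        ((Subgroup.zpowers_le.2 (mem_centralizer_zpowers.2 hxc)).trans (Subgroup.centralizer_le_normalizer _))
      rcases (Nat.Prime.dvd_mul ht).1
          (h1 ▸ htd.mul_right _ : t ∣ Nat.card (Subgroup.zpowers x) * Nat.card (Subgroup.zpowers c)) with h | h
      · rw [zpowers_card hxo] at h
        exact hσL ((Nat.prime_dvd_prime_iff_eq ht hq.out).1 h ▸ hσt)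
      · rw [zpowers_card hco] at h
        exact hσrL ((Nat.prime_dvd_prime_iff_eq ht hr.out).1 h ▸ hσt)
  have hqL := order_p_normalizer hG hL hσL (zpowers_card hxo) hNL
  obtain ⟨A, hAE, s⟩ := exists_setup_in_compl hG hL hE ⟨hq.out, hσL, hqL.1.1, hqL.1.2⟩
  obtain ⟨⟨hEN, hlines⟩, -, -⟩ := complement_tau2 s hE hAE
  have hxA : x ∈ A :=
    hlines _ (le_sup_left.trans hYE) (zpowers_card hxo) (Subgroup.mem_zpowers x)
  have hcA : c ∈ Subgroup.normalizer (A : Set G) :=
    hEN (hYE (Subgroup.mem_sup_right (Subgroup.mem_zpowers c)))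
  -- `A` cannot be conjugated into `M`
  have hAM : ∀ g : G, ¬ cj A g ≤ M := fun g h =>
    not_prankLE_of_elab h (elab_cj s.elem g) (by rw [card_cj, s.card]) hq1
  have hrL : PRankLE r 1 ↥L := by
    by_contra hr2
    obtain ⟨B, hB, hBe, hBc⟩ := exists_sq hr2
    obtain ⟨u, -, hu⟩ := tau2_commute (Ne.symm hrq) s (⟨hG, hL, hσrL, hB, hBe, hBc⟩ : Setup r L B)
    obtain ⟨T, hT⟩ := exists_sylIn (p := r) M
    obtain ⟨g, -, hg⟩ := (sigma_sylow hrσ hT).1.conj_le (isPGroup_cj (Fusion.elab_isPGroup hBe) u) le_top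
    refine hAM g ((cj_mono (Subgroup.le_centralizer_iff.1 hu) g).trans ?_)
    rw [Fusion.cj_centralizer]
    exact (rank_two_lemma hG hM (hg.trans hT.le) (elab_cj (elab_cj hBe u) g)
      (by rw [card_cj, card_cj, hBc])).1
  -- the maximal subgroup over the normaliser of `c`
  have hcH : ∀ {H : Subgroup G}, IsCoatom H → Subgroup.normalizer (Subgroup.zpowers c : Set G) ≤ H → H ≠ M →
      (∀ g : G, H ≠ cj M g) ∧ r ∉ sigma H ∧ ∃ B : Subgroup G, B ≤ M ∧ Setup r H B ∧ c ∈ B := by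
    intro H hH hNH hne
    obtain ⟨S, hS, hcS⟩ := exists_sylIn_ge (isPGroup_of_card (zpowers_card hco))
      (le_inf (Subgroup.zpowers_le.2 hcM) (Subgroup.le_normalizer.trans hNH) : Subgroup.zpowers c ≤ M ⊓ H)
    obtain ⟨hconj, -, hidx⟩ := sigma_embedding hG hM hrσ (isPGroup_of_card (zpowers_card hco))
      (ne_bot_of_card (zpowers_card hco)) (Subgroup.zpowers_le.2 hcM) hne hNH hS hcS
    have hσH : r ∉ sigma H := fun h => by
      obtain ⟨g, hg⟩ := conjugate_of_sigma hG hM hH hrσ h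
      exact hconj g hg
    obtain ⟨F, hF, hFe, hFc⟩ := exists_sq (order_p_normalizer hG hH hσH (zpowers_card hco) hNH).1.2
    have hSH : SylIn r S H := ⟨hS.le.trans inf_le_right, hS.isPGroup, hidx⟩
    obtain ⟨m, -, hm⟩ := hSH.conj_le (Fusion.elab_isPGroup hFe) hF
    have sB : Setup r H (cj F m) := ⟨hG, hH, hσH, hm.trans hSH.le, elab_cj hFe m, by rw [card_cj, hFc]⟩
    exact ⟨hconj, hσH, cj F m, hm.trans (hS.le.trans inf_le_left), sB,
      (omega_iff sB hSH hm c (hcS (Subgroup.mem_zpowers c))).1 (hco ▸ pow_orderOf_eq_one c)⟩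
  have hcAC : c ∉ Subgroup.centralizer (A : Set G) := by
    intro hcC
    obtain ⟨H, hH, hNH, hCH⟩ := exists_over hG hco
    have hAH : A ≤ H := fun a ha => hCH a (Subgroup.mem_centralizer_iff.1 hcC a ha).symm
    obtain ⟨-, hσH, B, hBM, sB, -⟩ := hcH hH hNH fun h => hAM 1 (by rw [Fusion.cj_one]; exact h ▸ hAH)
    by_cases hσqH : q ∈ sigma H
    · exact ne_one_of_order hxo (Subgroup.mem_bot.1 (sigmaCore_inf_coatom sB hM (fun h => hσH (h ▸ hrσ)) hBM ▸
        ⟨mem_sigmaCore hG hH (k := 1) (hAH hxA) (by rw [pow_one, hxo]) hσqH, hxM⟩))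
    obtain ⟨u, -, hu⟩ := tau2_commute (Ne.symm hrq) (⟨hG, hH, hσqH, hAH, s.elem, s.card⟩ : Setup q H A) sB
    exact not_prankLE_of_elab (hu.trans s.centralizer_le) (elab_cj sB.elem u) (by rw [card_cj, sB.card]) hrL
  have hcL' : c ∉ ⁅L, L⁆ := fun h =>
    hcAC (derived_centralizes_setup (Ne.symm hrq) hG s h hcA (k := 1) (by rw [pow_one, hco]) hσrL)
  -- a nonabelian Sylow subgroup over `A`
  have hna : ∀ {S : Subgroup G}, SylIn q S ⊤ → A ≤ S → ¬ IsMulCommutative ↥S := by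
    intro S hS hAS hab
    have hSC : S ≤ Subgroup.centralizer (A : Set G) := fun t ht => Subgroup.mem_centralizer_iff.2 fun a ha =>
      congrArg Subtype.val (hab.is_comm.comm (⟨a, hAS ha⟩ : S) ⟨t, ht⟩)
    have hCN := commutator_le_centralizer_A s hS hSC
    refine s.normalizer_not_le (le_trans (fun g hg => ?_) hNL)
    have hX : A ⊓ Subgroup.centralizer (Subgroup.zpowers c : Set G) = Subgroup.zpowers x := by
      refine (Subgroup.eq_of_le_of_card_ge (le_inf (Subgroup.zpowers_le.2 hxA)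
        (Subgroup.zpowers_le.2 (mem_centralizer_zpowers.2 hxc.symm))) ?_).symm
      obtain ⟨j, hj2, hj⟩ := (Nat.dvd_prime_pow hq.out).1 (s.card ▸
        Subgroup.card_dvd_of_le (inf_le_left : A ⊓ Subgroup.centralizer (Subgroup.zpowers c : Set G) ≤ A))
      rw [hj, zpowers_card hxo]
      refine (Nat.pow_le_pow_right hq.out.pos ?_).trans (pow_one q).le
      by_contra h2
      exact hcAC (Subgroup.le_centralizer_iff.1 ((Subgroup.eq_of_le_of_card_ge inf_le_left
        (by rw [s.card, hj]; exact Nat.pow_le_pow_right hq.out.pos (by omega))).ge.trans inf_le_right)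
        (Subgroup.mem_zpowers c))
    refine mem_normalizer_of_cj_le ?_
    rw [Fusion.cj, MonoidHom.map_zpowers, Subgroup.zpowers_le, ← hX]
    have hy : g * x * g⁻¹ ∈ A := (Subgroup.mem_normalizer_iff.1 hg x).1 hxA
    refine Subgroup.mem_inf.2 ⟨hy, mem_centralizer_zpowers.2 ?_⟩
    have hk := Subgroup.mem_centralizer_iff.1 (hCN (Subgroup.commutator_mem_commutator hg hcA)) _ hy
    have h1 : (g * c * g⁻¹) * (g * x * g⁻¹) = (g * x * g⁻¹) * (g * c * g⁻¹) := by
      calc (g * c * g⁻¹) * (g * x * g⁻¹) = g * (c * x) * g⁻¹ := by group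
        _ = g * (x * c) * g⁻¹ := by rw [hxc]
        _ = _ := by group
    have h2 : c = ⁅g, c⁆⁻¹ * (g * c * g⁻¹) := by rw [commutatorElement_def]; group
    show c * (g * x * g⁻¹) = g * x * g⁻¹ * c
    rw [h2]
    exact ((show Commute ⁅g, c⁆ (g * x * g⁻¹) from hk.symm).inv_left.mul_left h1).eq
  obtain ⟨P, hP, hAP⟩ := exists_sylIn_ge (Fusion.elab_isPGroup s.elem) s.le
  obtain ⟨S, hS, hPS⟩ := exists_sylIn_ge hP.isPGroup (le_top (a := P))
  have hSL : ¬ S ≤ L := fun h => hna hS (hAP.trans hPS) (pgroup_abelian hG hL hσL hS.isPGroup h)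
  have hPC := sylow_le_centralizer s hP hAP
  set S₁ := S ⊓ Subgroup.normalizer (P : Set G) with hS₁
  have hS₁A : S₁ ≤ Subgroup.normalizer (A : Set G) := by
    rw [← omz_eq s hP hAP]; exact inf_le_right.trans (normalizer_le_omz P)
  have hS₁n : ¬ IsMulCommutative ↥S₁ := fun hab => by
    have hgrow := SylIn.normalizer_growth hPS (fun h => hSL (h ▸ hP.le)) hS.isPGroup
    have hC : S₁ ≤ L := fun t ht => s.centralizer_le (Subgroup.mem_centralizer_iff.2 fun a ha => congrArg Subtype.val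
      (hab.is_comm.comm (⟨a, hPS (hAP ha), Subgroup.le_normalizer (hAP ha)⟩ : S₁) ⟨t, ht⟩))
    exact hgrow.ne (hP.eq_of_le (hS.isPGroup.to_le inf_le_left) hgrow.le hC).symm
  obtain ⟨H, -, hu⟩ := Nonabelian.inUniqueMaximal hG (hS.isPGroup.to_le inf_le_left) hS₁n
  have huniq : ∀ {H' : Subgroup G}, IsCoatom H' → S₁ ≤ H' → H' = H := fun h1 h2 => hu _ ⟨h1, h2⟩
  obtain ⟨H₁, hH₁, hNA⟩ := exists_coatom _
    (normalizer_pgroup_ne_top hG (Fusion.elab_isPGroup s.elem) s.ne_bot)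
  obtain rfl : H₁ = H := huniq hH₁ (hS₁A.trans hNA)
  obtain ⟨H₂, hH₂, hNS⟩ := exists_coatom _ (normalizer_pgroup_ne_top hG hS.isPGroup
    (fun h => s.ne_bot (le_bot_iff.1 (h ▸ hAP.trans hPS))))
  obtain rfl : H₂ = H₁ := huniq hH₂ ((inf_le_left.trans Subgroup.le_normalizer).trans hNS)
  have hSH : S ≤ H₂ := Subgroup.le_normalizer.trans hNS
  have hAH : A ≤ H₂ := (hAP.trans hPS).trans hSH
  have hqH : q ∈ sigma H₂ := by
    obtain ⟨P', hP'⟩ := (hS.mono hSH le_top).exists_sylow_subgroupOf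
    refine ⟨hq.out, (dvd_pow_self q two_ne_zero).trans (s.card ▸ Subgroup.card_dvd_of_le hAH), P', ?_⟩
    rwa [hP', Subgroup.map_subgroupOf_eq_of_le hSH]
  have hqβ : q ∉ beta H₂ := fun h => (not_ideal hG hL hqL.1.1 hqL.1.2).1 h.2
  have hHM : ∀ g : G, H₂ ≠ cj M g := fun g h => hσq (sigma_of_cj (h ▸ hqH))
  have hσrH : r ∉ sigma H₂ := fun h => by
    obtain ⟨g, hg⟩ := conjugate_of_sigma hG hM hH₂ hrσ h
    exact hHM g hg
  have hxσ : x ∈ sigmaCore H₂ := mem_sigmaCore hG hH₂ (hAH hxA) (k := 1) (by rw [pow_one, hxo]) hqH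
  have hcH₂ : c ∈ H₂ := hNA hcA
  have hrH : PRankLE r 1 ↥H₂ :=
    foreign_rank_one hG hM hH₂ hrσ hσrH hcM hcH₂ hco hxM hxσ (ne_one_of_order hxo) hxc.symm
  -- the normaliser of `c` lies in `M`
  have hNc : Subgroup.normalizer (Subgroup.zpowers c : Set G) ≤ M := by
    obtain ⟨K, hK, hNK, hCK⟩ := exists_over hG hco
    by_contra hnle
    obtain ⟨-, hσK, B, hBM, sB, hcB⟩ := hcH hK hNK fun h => hnle (h ▸ hNK)
    have hinf := sigmaCore_inf_coatom sB hM (fun h => hσK (h ▸ hrσ)) hBM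
    have hxK : x ∈ K := hCK x hxc.symm
    have hxB : x ∈ Subgroup.normalizer (B : Set G) :=
      normalizes_setup sB hM (fun h => hσK (h ▸ hrσ)) hBM hxK hxM
    have hxBC : x ∉ Subgroup.centralizer (B : Set G) := fun h =>
      not_prankLE_of_elab (fun b hb => hCx (mem_centralizer_zpowers.2 (Subgroup.mem_centralizer_iff.1 h b hb).symm))
        sB.elem sB.card.ge hrL
    have h1 := lt_of_fix sB.elem sB.card hq.out (Ne.symm hrq) hxo hxB hxBC hcB (ne_one_of_order hco) hxc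
    have h2 := lt_of_fix s.elem s.card hr.out hrq hco hcA hcAC hxA (ne_one_of_order hxo) hxc.symm
    omega
  -- an invariant Sylow subgroup
  have hall := (sigmaCore_hall hG hH₂).1
  have hAσ : A ≤ sigmaCore H₂ :=
    le_of_hall hall le_normalizer_piCoreOf hAH (piNum_of_pgroup (Fusion.elab_isPGroup s.elem) hqH)
  obtain ⟨S', hS'₀, hAS', hcS'⟩ := Solv.exists_invariant_sylow_ge (p := q) (A := Subgroup.zpowers c)
    ((Subgroup.zpowers_le.2 hcH₂).trans le_normalizer_piCoreOf)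
    (by rw [zpowers_card hco]; exact (Nat.Prime.coprime_iff_not_dvd hr.out).2 fun h => hσrH (hall.2.1 r hr.out h))
    (Or.inl (Solv.isSolvable_of_le (Subgroup.zpowers_le.2 hcH₂) (hG.2.2.2 H₂ hH₂.1)))
    A hAσ (Fusion.elab_isPGroup s.elem) (Subgroup.zpowers_le.2 hcA)
  have hσH : sigmaCore H₂ ≤ H₂ := Subgroup.map_subtype_le _
  have hS'H : SylIn q S' H₂ := ⟨hS'₀.1.trans hσH, hS'₀.isPGroup, by
    rw [← Subgroup.relIndex_mul_relIndex S' (sigmaCore H₂) H₂ hS'₀.1 hσH]
    exact hq.out.prime.not_dvd_mul (sylIn_of_isSylIn hS'₀).not_dvd (hall.2.2 q hq.out hqH)⟩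
  obtain ⟨hS'top, hS'ne, hS'N⟩ := sigma_sylow hqH hS'H
  have hcS : c ∈ Subgroup.normalizer (S' : Set G) := hcS' (Subgroup.mem_zpowers c)
  set N := Subgroup.normalizer (S' : Set G) with hN
  set C₀ := S' ⊓ Subgroup.centralizer (Subgroup.zpowers c : Set G) with hC₀
  have hC₀c : IsCyclic ↥C₀ :=
    fixed_cyclic hG hH₂ hcH₂ hco hσrH hrH (hS'H.isPGroup.to_le inf_le_left) (inf_le_left.trans hS'₀.1) inf_le_right
  have hx0 : x ∈ C₀ := ⟨hAS' hxA, mem_centralizer_zpowers.2 hxc.symm⟩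
  have hkey : ∃ m ∈ N, m ∈ Subgroup.normalizer (Subgroup.zpowers c : Set G) ∧ m * x ≠ x * m := by
    by_contra hno
    push Not at hno
    set D := ⁅H₂, H₂⁆ with hD
    have hS'D : S' ≤ D := le_derived_of_sigma hG hH₂ hqH hS'H.isPGroup hS'H.le
    obtain ⟨Q, K, hK, hQK⟩ := (hnpc_derived hG hH₂ hqH.2.1 hqβ).1
    haveI := hK
    obtain ⟨S'', hS''⟩ := (hS'H.mono hS'D (Subgroup.commutator_le_self H₂)).exists_sylow_subgroupOf
    set Kg := K.map D.subtype with hKg
    have hder : ∀ d ∈ D, d ∈ N → d ∈ S' ⊔ (Subgroup.centralizer (S' : Set G) ⊓ N) := by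
      intro d hd hdN
      have hc' : K.IsComplement' (S'' : Subgroup ↥D) := by
        refine Subgroup.isComplement'_of_coprime ?_ ?_
        · rw [S''.card_eq_multiplicity, ← Q.card_eq_multiplicity, hQK.card_mul]
        · obtain ⟨j, hj⟩ := IsPGroup.iff_card.1 S''.isPGroup'
          rw [hj]
          refine (((Nat.Prime.coprime_iff_not_dvd hq.out).2 fun h => ?_).pow_left j).symm
          exact Q.not_dvd_index (by rw [hQK.index_eq_card]; exact h)
      obtain ⟨⟨⟨k, hk⟩, ⟨t, ht⟩⟩, hkt, -⟩ := hc'.existsUnique ⟨d, hd⟩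
      simp only at hkt
      have htS : (t : G) ∈ S' := by rw [hS''] at ht; exact ht
      have hkd : (k : G) * t = d := congrArg Subtype.val hkt
      have hkN : (k : G) ∈ N := by
        rw [show (k : G) = d * (t : G)⁻¹ by rw [← hkd]; group]
        exact N.mul_mem hdN (N.inv_mem (Subgroup.le_normalizer htS))
      rw [← hkd]
      refine Subgroup.mul_mem _ (Subgroup.mem_sup_right ⟨?_, hkN⟩) (Subgroup.mem_sup_left htS)
      refine Subgroup.mem_centralizer_iff.2 fun w hw => ?_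
      set w' : ↥D := ⟨w, hS'D hw⟩ with hw'
      have h1 : ⁅k, w'⁆ ∈ K ⊓ (S'' : Subgroup ↥D) := by
        refine ⟨?_, ?_⟩
        · rw [commutatorElement_def, mul_assoc, mul_assoc, ← mul_assoc w']
          exact K.mul_mem hk (hK.conj_mem _ (K.inv_mem hk) w')
        · rw [hS'']
          show (k : G) * w * (k : G)⁻¹ * w⁻¹ ∈ S'
          exact S'.mul_mem ((Subgroup.mem_normalizer_iff.1 hkN w).1 hw) (S'.inv_mem hw)
      rw [hc'.disjoint.eq_bot, Subgroup.mem_bot] at h1
      exact (congrArg Subtype.val (commutatorElement_eq_one_iff_mul_comm.1 h1)).symm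
    set Y := S' ⊔ (Subgroup.centralizer (S' : Set G) ⊓ N) ⊔ Subgroup.zpowers c with hY
    have hYN : Y ≤ N := sup_le (sup_le Subgroup.le_normalizer inf_le_right) (Subgroup.zpowers_le.2 hcS)
    have hcomm : (⁅N, N⁆ : Subgroup G) ≤ Y := Subgroup.commutator_le.2 fun a ha b hb => by
      exact Subgroup.mem_sup_left (hder _ (Subgroup.commutator_mem_commutator (hS'N ha) (hS'N hb))
        (Subgroup.commutator_le_self N (Subgroup.commutator_mem_commutator ha hb)))
    have hYn : N ≤ Subgroup.normalizer (Y : Set G) := fun g hg => mem_normalizer_of_cj_le (by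
      rintro _ ⟨y, hy, rfl⟩
      show g * y * g⁻¹ ∈ Y
      rw [show g * y * g⁻¹ = ⁅g, y⁆ * y by rw [commutatorElement_def]; group]
      exact Y.mul_mem (hcomm (Subgroup.commutator_mem_commutator hg (hYN hy))) hy)
    have hDn : N ≤ Subgroup.normalizer ((⁅S', S'⁆ : Subgroup G) : Set G) := fun g hg => mem_normalizer_of_cj_le (by
      rw [Fusion.cj_commutator, cj_eq_self hg])
    -- the elements fixing `x` modulo the derived subgroup
    let Z : Subgroup G :=
      { carrier := {g | g ∈ N ∧ ⁅g, x⁆ ∈ ⁅S', S'⁆}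
        one_mem' := ⟨N.one_mem, by simp⟩
        mul_mem' := by
          rintro a b ⟨ha, ha'⟩ ⟨hb, hb'⟩
          refine ⟨N.mul_mem ha hb, ?_⟩
          rw [show ⁅a * b, x⁆ = a * ⁅b, x⁆ * a⁻¹ * ⁅a, x⁆ by simp only [commutatorElement_def]; group]
          exact Subgroup.mul_mem _ ((Subgroup.mem_normalizer_iff.1 (hDn ha) _).1 hb') ha'
        inv_mem' := by
          rintro a ⟨ha, ha'⟩
          refine ⟨N.inv_mem ha, ?_⟩
          rw [show ⁅a⁻¹, x⁆ = a⁻¹ * ⁅a, x⁆⁻¹ * a⁻¹⁻¹ by simp only [commutatorElement_def]; group]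
          exact (Subgroup.mem_normalizer_iff.1 (hDn (N.inv_mem ha)) _).1 (Subgroup.inv_mem _ ha') }
    have hxS : x ∈ S' := hAS' hxA
    have hcent : ∀ g ∈ N, g * x = x * g → g ∈ Z := fun g hg h =>
      ⟨hg, by rw [commutatorElement_eq_one_iff_mul_comm.2 h]; exact Subgroup.one_mem _⟩
    have hYZ : Y ≤ Z := by
      refine sup_le (sup_le (fun t ht => ⟨Subgroup.le_normalizer ht, Subgroup.commutator_mem_commutator ht hxS⟩)
        fun t ht => hcent t ht.2 (Subgroup.mem_centralizer_iff.1 ht.1 x hxS).symm)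
        (Subgroup.zpowers_le.2 (hcent c hcS hxc.symm))
    obtain ⟨R, hR, hcR⟩ := exists_sylIn_ge (isPGroup_of_card (zpowers_card hco))
      (le_sup_right : Subgroup.zpowers c ≤ Y)
    have hRc : IsCyclic ↥R := cyclic_of_prank hG hR.isPGroup ((hR.le.trans hYN).trans hS'N) hrH
    have hNZ : N ≤ Z := fun g hg => by
      obtain ⟨n, hn, hng⟩ := Fusion.frattini_conj hR hYn hg
      have hm : n * g ∈ Z := by
        refine hcent _ (N.mul_mem (hYN hn) hg) (hno _ (N.mul_mem (hYN hn) hg) (mem_normalizer_of_cj_le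
          (cyclic_eq hRc ((cj_mono hcR _).trans (cj_eq_self hng).le) hcR (by rw [card_cj, zpowers_card hco])
            (zpowers_card hco)).le))
      simpa using Z.mul_mem (Z.inv_mem (hYZ hn)) hm
    obtain ⟨T, hT⟩ := hS'top.exists_sylow
    haveI : (S'.subgroupOf N).Normal := Subgroup.normal_in_normalizer
    have hSN' : S' ≤ N := Subgroup.le_normalizer
    obtain ⟨j, hj⟩ := IsPGroup.iff_card.1 hS'H.isPGroup
    obtain ⟨V₀, hV₀⟩ := Subgroup.exists_right_complement'_of_coprime (N := S'.subgroupOf N) (by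
      rw [Solv.card_subgroupOf hSN', hj]
      refine Nat.Coprime.pow_left j ((Nat.Prime.coprime_iff_not_dvd hq.out).2 ?_)
      exact (hS'top.mono hSN' le_top).not_dvd)
    set V := V₀.map N.subtype with hV
    have hVN : V ≤ N := Subgroup.map_subtype_le _
    have hcompl : IsComplIn S' V N := by
      refine ⟨hSN', hVN, eq_bot_iff.2 ?_, fun m hm => ?_⟩
      · rintro _ ⟨hs, ⟨v, hv, rfl⟩⟩
        have h1 : v ∈ S'.subgroupOf N ⊓ V₀ := ⟨hs, hv⟩
        rw [disjoint_iff.1 hV₀.disjoint, Subgroup.mem_bot] at h1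
        rw [h1, map_one]; exact Subgroup.one_mem _
      · obtain ⟨a, ha, v, hv, e⟩ :=
          Subgroup.mem_sup_of_normal_left.1 (hV₀.sup_eq_top ▸ Subgroup.mem_top (⟨m, hm⟩ : N))
        exact ⟨a, ha, v, ⟨v, hv, rfl⟩, (congrArg Subtype.val e).symm⟩
    obtain ⟨hSV, hco'⟩ := compl_facts hG T (by rw [hT]; exact hS'ne) (V := V) (by rw [hT]; exact hcompl)
    rw [hT] at hSV
    have hxd : x ∈ ⁅S', S'⁆ := fixed_le_derived_of hVN (by rw [hj]; exact Nat.Coprime.pow_right j hco') hSV.symm hxS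
      fun v hv => (hNZ (hVN hv)).2
    exact hna hS'top hAS' (by
      by_contra hn'
      have hSC := derived_point s hS'top hAS' hxA hxd hCx
      exact hn' (pgroup_abelian hG hL hσL hS'H.isPGroup (hSC.trans hCx)))
  obtain ⟨m, hmN, hmc, hmx⟩ := hkey
  have hmn : m ∈ Subgroup.normalizer (Subgroup.zpowers x : Set G) := by
    refine mem_normalizer_of_cj_le (cyclic_eq hC₀c ?_ (Subgroup.zpowers_le.2 hx0)
      (by rw [card_cj, zpowers_card hxo]) (zpowers_card hxo)).le
    refine le_inf ((cj_mono (Subgroup.zpowers_le.2 (hAS' hxA)) m).trans (cj_eq_self hmN).le) ?_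
    refine (cj_mono (Subgroup.zpowers_le.2 hx0.2) m).trans ?_
    rw [Fusion.cj_centralizer, cj_eq_self hmc]
  refine ⟨H₂, m, hH₂, hqH, hqβ, hHM, hxσ, hS'N hmN, hNc hmc, hmn, hmx, ?_, hcH₂, hcL', hNc⟩
  refine commutatorElement_eq_one_iff_mul_comm.1 ?_
  by_contra hne
  refine hcL' (Subgroup.zpowers_le.2 (Subgroup.commutator_mem_commutator (hNL hmn) hcL)
    (mem_zpowers_of_order hr.out hco ?_ hne))
  rw [commutatorElement_def]
  exact Subgroup.mul_mem _ ((Subgroup.mem_normalizer_iff.1 hmc c).1 (Subgroup.mem_zpowers c))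
    (Subgroup.inv_mem _ (Subgroup.mem_zpowers c))

end Cfsg.Agent.OddLocal.Prime
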