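import Cfsg.Agent.Lib.OddLocal.BetaCore

/-!
Complements of `M_σ` in a maximal subgroup.
-/

set_option autoImplicit false

namespace Cfsg.Agent.OddLocal.Sig

open Cfsg
open Cfsg.Agent.Fusion (SylIn cj cj_cj cj_eq_self cj_mono card_cj sylIn_map sylIn_top exists_sylIn_ge
  mem_normalizer_of_cj_le)
open Cfsg.Agent.OddLocal.Uniq
open scoped commutatorElement

universe u

variable {G : Type u} [Group G] [Finite G] {p : ℕ} [hp : Fact p.Prime] {M E : Subgroup G}

omit hp in
theorem compl_card (hE : IsComplIn E (sigmaCore M) M) :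
    Nat.card E = (sigmaCore M).relIndex M ∧ Nat.card E * Nat.card (sigmaCore M) = Nat.card M := by
  obtain ⟨hEM, hSM, hinf, hmul⟩ := hE
  have hc : Subgroup.IsComplement' (E.subgroupOf M) ((sigmaCore M).subgroupOf M) := by
    refine Subgroup.isComplement'_of_disjoint_and_mul_eq_univ ?_ ?_
    · rw [disjoint_iff, eq_bot_iff]
      intro x hx
      exact Subgroup.mem_bot.2 (Subtype.ext (Subgroup.mem_bot.1 (hinf ▸ ⟨hx.1, hx.2⟩ : (x : G) ∈ (⊥ : Subgroup G))))
    · refine Set.eq_univ_of_forall fun x => ?_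
      obtain ⟨a, ha, b, hb, e⟩ := hmul x x.2
      exact ⟨⟨a, hEM ha⟩, ha, ⟨b, hSM hb⟩, hb, Subtype.ext e.symm⟩
  have h1 : Nat.card E = (sigmaCore M).relIndex M :=
    ((Solv.card_subgroupOf hEM).symm.trans hc.index_eq_card.symm)
  refine ⟨h1, ?_⟩
  have h2 := Subgroup.relIndex_mul_relIndex ⊥ (sigmaCore M) M bot_le hSM
  rw [Subgroup.relIndex_bot_left, Subgroup.relIndex_bot_left] at h2
  rw [h1, ← h2, mul_comm]

omit hp in
theorem compl_pi (hG : IsMinSimpleOddOrder G) (hM : IsCoatom M) (hE : IsComplIn E (sigmaCore M) M) {q : ℕ}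
    (hq : q.Prime) (hd : q ∣ Nat.card E) : q ∉ sigma M := fun hσ =>
  (sigmaCore_hall hG hM).1.2.2 q hq hσ ((compl_card hE).1 ▸ hd)

/-- A Sylow subgroup of the complement is one of `M`. -/
theorem compl_sylIn (hG : IsMinSimpleOddOrder G) (hM : IsCoatom M) (hE : IsComplIn E (sigmaCore M) M)
    (hσ : p ∉ sigma M) {P : Subgroup G} (hP : SylIn p P E) : SylIn p P M := by
  refine ⟨hP.le.trans hE.1, hP.isPGroup, fun hd => ?_⟩
  rw [← Subgroup.relIndex_mul_relIndex P E M hP.le hE.1] at hd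
  refine ((Nat.Prime.dvd_mul hp.out).1 hd).elim hP.not_dvd fun h => hσ ?_
  refine (sigmaCore_hall hG hM).1.2.1 p hp.out ?_
  have h1 := Subgroup.relIndex_mul_relIndex ⊥ E M bot_le hE.1
  rw [Subgroup.relIndex_bot_left, Subgroup.relIndex_bot_left, ← (compl_card hE).2] at h1
  rwa [Nat.eq_of_mul_eq_mul_left Nat.card_pos h1] at h

omit hp in
/-- The complement is isomorphic to the quotient by `M_σ`. -/
theorem compl_equiv (hE : IsComplIn E (sigmaCore M) M) :
    Nonempty (↥E ≃* ↥M ⧸ piCore (sigma M) ↥M) := by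
  obtain ⟨hEM, hSM, hinf, hmul⟩ := hE
  let φ : ↥E →* ↥M ⧸ piCore (sigma M) ↥M := (QuotientGroup.mk' _).comp (Subgroup.inclusion hEM)
  refine ⟨MulEquiv.ofBijective φ ⟨?_, fun y => ?_⟩⟩
  · rw [injective_iff_map_eq_one]
    intro x hx
    have h1 : (x : G) ∈ E ⊓ sigmaCore M :=
      ⟨x.2, ⟨Subgroup.inclusion hEM x, (QuotientGroup.eq_one_iff _).1 hx, rfl⟩⟩
    rw [hinf] at h1
    exact Subtype.ext (Subgroup.mem_bot.1 h1)
  · obtain ⟨m, rfl⟩ := QuotientGroup.mk'_surjective _ y
    obtain ⟨a, ha, b, hb, e⟩ := hmul m m.2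
    refine ⟨⟨a, ha⟩, QuotientGroup.eq.2 ?_⟩
    obtain ⟨c, hc, rfl⟩ := hb
    have h1 : (Subgroup.inclusion hEM ⟨a, ha⟩)⁻¹ * m = c := Subtype.ext (by
      show a⁻¹ * (m : G) = c
      rw [e, inv_mul_cancel_left]; rfl)
    rw [h1]
    exact hc

omit hp in
theorem compl_derived (hG : IsMinSimpleOddOrder G) (hM : IsCoatom M) (hE : IsComplIn E (sigmaCore M) M) :
    Group.IsNilpotent ↥⁅E, E⁆ := by
  obtain ⟨e⟩ := compl_equiv hE
  have h := commutator_quotient_mono (piCore_mono (alpha_subset_sigma hG hM)) (alpha_nilpotent hG hM)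
  haveI := h
  haveI : Group.IsNilpotent ↥(commutator ↥E) := by
    refine Group.nilpotent_of_mulEquiv ((((commutator (↥M ⧸ piCore (sigma M) ↥M))).equivMapOfInjective
      e.symm.toMonoidHom e.symm.injective).trans (MulEquiv.subgroupCongr ?_))
    rw [commutator_def, commutator_def, Subgroup.map_commutator,
      Subgroup.map_top_of_surjective _ e.symm.surjective]
  exact Group.nilpotent_of_mulEquiv (((commutator ↥E).equivMapOfInjective E.subtype E.subtype_injective).trans
    (MulEquiv.subgroupCongr (Subgroup.map_subtype_commutator E)))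

omit hp in
theorem commute_of_derived_inf {K : Subgroup G} (h : ∀ a ∈ K, ∀ b ∈ K, ⁅a, b⁆ = 1) : IsMulCommutative ↥K :=
  ⟨⟨fun a b => Subtype.ext (commutatorElement_eq_one_iff_mul_comm.1 (h a a.2 b b.2))⟩⟩

omit hp in
theorem zgroup_of_rank_one (hG : IsMinSimpleOddOrder G) {K : Subgroup G}
    (hr : ∀ q : ℕ, q.Prime → q ∣ Nat.card K → PRankLE q 1 ↥K) : IsZGroup ↥K := ⟨fun q hq S => by
  haveI := Fact.mk hq
  by_contra hnc
  have hne : (S : Subgroup ↥K) ≠ ⊥ := fun h => hnc (by rw [h]; infer_instance)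
  have hd : q ∣ Nat.card K := by
    obtain ⟨j, hj⟩ := IsPGroup.iff_card.1 S.isPGroup'
    refine dvd_trans ?_ (Subgroup.card_subgroup_dvd_card (S : Subgroup ↥K))
    rw [hj]
    exact dvd_pow_self q fun h => hne (Subgroup.card_eq_one.1 (by rw [hj, h, pow_zero]))
  have hq2 : q ≠ 2 := by
    rintro rfl
    exact Nat.not_even_iff_odd.2 hG.1 (even_iff_two_dvd.2 (hd.trans (Subgroup.card_subgroup_dvd_card K)))
  obtain ⟨F, hFS, hFe, hF⟩ := exists_elab_noncyclic hq2 (S.isPGroup'.map K.subtype) (fun h => hnc (by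
    haveI := h
    exact isCyclic_of_surjective ((S : Subgroup ↥K).equivMapOfInjective K.subtype K.subtype_injective).symm
      (MulEquiv.surjective _)))
  exact not_prankLE_of_elab (hFS.trans (Subgroup.map_subtype_le _)) hFe hF (hr q hq hd)⟩

omit hp in
theorem cyclic_of_rank_one (hG : IsMinSimpleOddOrder G) {K : Subgroup G} (hc : IsMulCommutative ↥K)
    (hr : ∀ q : ℕ, q.Prime → q ∣ Nat.card K → PRankLE q 1 ↥K) : IsCyclic ↥K := by
  haveI := hc
  haveI := zgroup_of_rank_one hG hr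
  letI : CommGroup ↥K := { (inferInstance : Group ↥K) with mul_comm := hc.is_comm.comm }
  haveI : Group.IsNilpotent ↥K := inferInstance
  infer_instance

omit hp in
/-- Hall subgroups of nilpotent groups absorb the subgroups of their primes. -/
theorem nilpotent_hall_le {π : Set ℕ} {H D Y : Subgroup G} [Group.IsNilpotent ↥D] (hH : IsPiHallOf π H D)
    (hY : Y ≤ D) (hYπ : PiNum π (Nat.card Y)) : Y ≤ H := by
  have key : Nat.card Y ∣ Nat.card (Y ⊓ H : Subgroup G) := by
    refine (Nat.factorization_le_iff_dvd Nat.card_pos.ne' Nat.card_pos.ne').1 fun q => ?_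
    by_cases hq : q.Prime
    swap
    · simp [Nat.factorization_eq_zero_of_not_prime _ hq]
    haveI := Fact.mk hq
    by_cases hd : q ∣ Nat.card Y
    swap
    · rw [Nat.factorization_eq_zero_of_not_dvd hd]; exact Nat.zero_le _
    obtain ⟨S⟩ : Nonempty (Sylow q Y) := inferInstance
    obtain ⟨T, hT⟩ := Fusion.exists_sylIn (p := q) H
    have hTD : SylIn q T D := ⟨hT.le.trans hH.1, hT.isPGroup, fun h => by
      rw [← Subgroup.relIndex_mul_relIndex T H D hT.le hH.1] at h
      exact ((Nat.Prime.dvd_mul hq).1 h).elim hT.not_dvd (hH.2.2 q hq (hYπ q hq hd))⟩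
    obtain ⟨x, hx, hxT⟩ := hTD.conj_le (S.isPGroup'.map Y.subtype) ((Subgroup.map_subtype_le _).trans hY)
    obtain ⟨P, hP⟩ := hTD.exists_sylow_subgroupOf
    haveI : (P : Subgroup ↥D).Normal :=
      Sylow.normal_of_normalizerCondition Group.normalizerCondition_of_isNilpotent P
    refine (Nat.Prime.pow_dvd_iff_le_factorization hq Nat.card_pos.ne').1 (dvd_trans ?_
      (Subgroup.card_dvd_of_le (le_inf (Subgroup.map_subtype_le (S : Subgroup Y)) ?_)))
    · rw [Subgroup.card_map_of_injective Y.subtype_injective]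
      exact S.pow_dvd_card_of_pow_dvd_card (Nat.ordProj_dvd _ q)
    · intro y hy
      have h1 : (⟨x * y * x⁻¹, hTD.le (hxT ⟨y, hy, rfl⟩)⟩ : ↥D) ∈ (P : Subgroup ↥D) := by
        rw [hP]; exact hxT ⟨y, hy, rfl⟩
      have h2 := (inferInstance : (P : Subgroup ↥D).Normal).conj_mem _ h1 ⟨x⁻¹, inv_mem hx⟩
      rw [hP] at h2
      exact hT.le (by simpa [Subgroup.mem_subgroupOf, mul_assoc] using h2)
  exact (Subgroup.eq_of_le_of_card_ge inf_le_left (Nat.le_of_dvd Nat.card_pos key)).ge.trans inf_le_right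

/-- A Sylow subgroup of the complement for a prime of `τ₃`. -/
theorem tau3_sylow (hG : IsMinSimpleOddOrder G) (hM : IsCoatom M) (hE : IsComplIn E (sigmaCore M) M)
    (hτ : p ∈ tau3 M) {P : Subgroup G} (hP : SylIn p P E) : P ≤ ⁅E, E⁆ := by
  obtain ⟨-, hσ, hd, hr⟩ := hτ
  have hdM : p ∣ Nat.card M := hd.trans (Subgroup.card_dvd_of_le (Subgroup.commutator_le_self M))
  have hPM := compl_sylIn hG hM hE hσ hP
  have hp2 : p ≠ 2 := by
    rintro rfl
    exact Nat.not_even_iff_odd.2 hG.1 (even_iff_two_dvd.2 (hdM.trans (Subgroup.card_subgroup_dvd_card M)))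
  have hcyc : IsCyclic ↥P := by
    by_contra hnc
    obtain ⟨F, hFP, hFe, hF⟩ := exists_elab_noncyclic hp2 hPM.isPGroup hnc
    exact not_prankLE_of_elab (hFP.trans hPM.le) hFe hF hr
  have hE0 : E ≠ ⊤ := fun h => hM.1 (eq_top_iff.2 (h ▸ hE.1))
  haveI := hG.2.2.2 E hE0
  have hrE : PRankLE p 2 ↥E := fun A hA hAe =>
    (Solv.RankTwo.prankLE_of_injective (Subgroup.inclusion hE.1) (Subgroup.inclusion_injective _) hr A hA hAe).trans
      (Nat.pow_le_pow_right hp.out.pos one_le_two)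
  obtain ⟨T, hT⟩ := exists_sylow hP
  have htop := Fact2.rank_two_factor inferInstance (odd_subgroup hG E) T
    (Solv.RankTwo.prankLE_of_injective (T : Subgroup E).subtype (T : Subgroup E).subtype_injective hrE)
  haveI : IsCyclic ↥(T : Subgroup E) := by
    haveI := hcyc
    exact isCyclic_of_surjective (((T : Subgroup E).equivMapOfInjective E.subtype E.subtype_injective).trans
      (MulEquiv.subgroupCongr hT)).symm (MulEquiv.surjective _)
  -- `p` divides the order of the derived subgroup of the complement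
  have hdE : p ∣ Nat.card ↥(commutator ↥E) := by
    obtain ⟨e⟩ := compl_equiv hE
    have hC : p ∣ Nat.card ↥(commutator ↥M) := by
      rwa [← Subgroup.card_map_of_injective M.subtype_injective, Subgroup.map_subtype_commutator]
    have h1 := Subgroup.relIndex_mul_relIndex ⊥ (piCore (sigma M) ↥M ⊓ commutator ↥M) (commutator ↥M) bot_le
      inf_le_right
    rw [Subgroup.relIndex_bot_left, Subgroup.relIndex_bot_left, Subgroup.inf_relIndex_right] at h1
    rw [← h1] at hC
    have h2 : p ∣ (piCore (sigma M) ↥M).relIndex (commutator ↥M) :=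
      ((Nat.Prime.dvd_mul hp.out).1 hC).resolve_left fun h => hσ
        (piCore_pi p hp.out (h.trans (Subgroup.card_dvd_of_le inf_le_left)))
    have h3 := Subgroup.relIndex_ker (commutator ↥M) (QuotientGroup.mk' (piCore (sigma M) ↥M))
    rw [QuotientGroup.ker_mk'] at h3
    rw [h3, commutator_def, Subgroup.map_commutator,
      Subgroup.map_top_of_surjective _ (QuotientGroup.mk'_surjective _)] at h2
    rwa [commutator_def, ← Subgroup.card_map_of_injective (f := e.toMonoidHom) e.injective, Subgroup.map_commutator,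
      Subgroup.map_top_of_surjective _ e.surjective]
  suffices hT' : (T : Subgroup E) ≤ commutator E by
    rw [← hT, ← Subgroup.map_subtype_commutator]
    exact Subgroup.map_mono hT'
  have hfoc : (T : Subgroup E) ⊓ commutator E ≠ ⊥ := by
    obtain ⟨x, hx⟩ := exists_prime_orderOf_dvd_card' (G := ↥(commutator ↥E)) p hdE
    have hz : IsPGroup p (Subgroup.zpowers (x : ↥E)) :=
      IsPGroup.of_card (n := 1) (by rw [Nat.card_zpowers, Subgroup.orderOf_coe, hx, pow_one])
    obtain ⟨g, -, hg⟩ := (sylIn_top T).conj_le hz le_top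
    intro hbot
    have h3 : g * (x : ↥E) * g⁻¹ ∈ (T : Subgroup E) ⊓ commutator E :=
      ⟨hg ⟨x, Subgroup.mem_zpowers _, rfl⟩, (inferInstance : (commutator ↥E).Normal).conj_mem _ x.2 g⟩
    rw [hbot, Subgroup.mem_bot, conj_eq_one_iff] at h3
    exact hp.out.ne_one (by rw [← hx, ← Subgroup.orderOf_coe, h3, orderOf_one])
  rw [Fusion.inf_commutator_eq_focalIn_top (sylIn_top T)] at hfoc
  obtain ⟨x, hxT, h, hhxT, hne⟩ : ∃ x ∈ (T : Subgroup E), ∃ h : E, h * x * h⁻¹ ∈ (T : Subgroup E) ∧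
      h * x * h⁻¹ ≠ x := by
    by_contra hno
    push Not at hno
    refine hfoc (eq_bot_iff.2 ((Subgroup.closure_le _).2 ?_))
    rintro _ ⟨x, hx, h, -, hxh, rfl⟩
    rw [SetLike.mem_coe, Subgroup.mem_bot, hno x hx h hxh, inv_mul_cancel]
  obtain ⟨k, hk, n, hn, hkn⟩ := Subgroup.mem_sup_of_normal_left.1 (htop ▸ Subgroup.mem_top h)
  have hyT : n * x * n⁻¹ ∈ (T : Subgroup E) := (Subgroup.mem_normalizer_iff.1 hn x).1 hxT
  have hky : k * (n * x * n⁻¹) * k⁻¹ = n * x * n⁻¹ := by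
    have hconj : k * (n * x * n⁻¹) * k⁻¹ ∈ (T : Subgroup E) := by
      rw [← hkn] at hhxT
      simpa [mul_assoc] using hhxT
    have h1 : k * (n * x * n⁻¹) * k⁻¹ * (n * x * n⁻¹)⁻¹ ∈ pPrimeCore p ↥E ⊓ (T : Subgroup E) := by
      refine Subgroup.mem_inf.2 ⟨?_, mul_mem hconj (inv_mem hyT)⟩
      have := mul_mem hk ((Cfsg.pPrimeCore_normal p ↥E).conj_mem k⁻¹ (inv_mem hk) (n * x * n⁻¹))
      simpa [mul_assoc] using this
    obtain ⟨j, hj⟩ := IsPGroup.iff_card.1 T.isPGroup'
    rw [Subgroup.inf_eq_bot_of_coprime (hj ▸ (Fusion.card_pPrimeCore_coprime p ↥E).pow_right j),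
      Subgroup.mem_bot, mul_inv_eq_one] at h1
    exact h1
  have hnne : n * x * n⁻¹ ≠ x := fun e => hne (by
    rw [← hkn, show k * n * x * (k * n)⁻¹ = k * (n * x * n⁻¹) * k⁻¹ by group, hky, e])
  set N := Subgroup.normalizer ((T : Subgroup E) : Set E) with hN
  haveI : ((T : Subgroup E).subgroupOf N).Normal := Subgroup.normal_in_normalizer
  have hTN : (T : Subgroup E) ≤ N := Subgroup.le_normalizer
  have hTi : ¬ p ∣ ((T : Subgroup E).subgroupOf N).index := fun h' =>
    T.not_dvd_index (h'.trans ⟨_, (Subgroup.relIndex_mul_index hTN).symm⟩)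
  obtain ⟨K, hK⟩ := Subgroup.exists_right_complement'_of_coprime (N := (T : Subgroup E).subgroupOf N) (by
    obtain ⟨j, hj⟩ := IsPGroup.iff_card.1 T.isPGroup'
    rw [Solv.card_subgroupOf hTN, hj]
    exact Nat.Coprime.pow_left j ((Nat.Prime.coprime_iff_not_dvd hp.out).2 hTi))
  obtain ⟨a, ha, b, hb, hab⟩ := Subgroup.mem_sup_of_normal_left.1 (hK.sup_eq_top ▸ Subgroup.mem_top (⟨n, hn⟩ : N))
  letI : CommGroup ↥(T : Subgroup E) := IsCyclic.commGroup
  have hTc : ∀ s ∈ (T : Subgroup E), ∀ t ∈ (T : Subgroup E), s * t = t * s := fun s hs t ht =>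
    congrArg Subtype.val (mul_comm (⟨s, hs⟩ : ↥(T : Subgroup E)) ⟨t, ht⟩)
  have hbne : (b : ↥E) * x * (b : ↥E)⁻¹ ≠ x := fun e => hnne (by
    rw [show n = (a : ↥E) * b from (congrArg Subtype.val hab).symm,
      show (a : ↥E) * b * x * ((a : ↥E) * b)⁻¹ = a * (b * x * (b : ↥E)⁻¹) * (a : ↥E)⁻¹ by group, e,
      hTc (a : ↥E) ha x hxT, mul_inv_cancel_right])
  let f : ↥(T : Subgroup E) →* ↥(T : Subgroup E) :=
    { toFun := fun t => t⁻¹ * ⟨(b : ↥E) * t * (b : ↥E)⁻¹, (Subgroup.mem_normalizer_iff.1 b.2 t).1 t.2⟩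
      map_one' := Subtype.ext (by simp)
      map_mul' := fun s t => by
        rw [mul_inv, mul_mul_mul_comm]
        congr 1
        exact Subtype.ext (by simp [mul_assoc]) }
  have hinj : Function.Injective f := by
    rw [injective_iff_map_eq_one]
    intro t ht
    by_contra ht1
    have hfix : (b : ↥E) * t * (b : ↥E)⁻¹ = t :=
      congrArg Subtype.val (eq_inv_mul_iff_mul_eq.1 (ht.symm : (1 : ↥(T : Subgroup E)) = _)).symm |>.trans (by simp)
    obtain ⟨j, hj⟩ := IsPGroup.iff_orderOf.1 T.isPGroup' t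
    have hj0 : 0 < j := Nat.pos_of_ne_zero fun h => ht1 (orderOf_eq_one_iff.1 (by rw [hj, h, pow_zero]))
    set z : ↥E := (t : ↥E) ^ p ^ (j - 1) with hz
    have hzo : orderOf z = p := by
      have h1 : orderOf (t : ↥E) = p ^ (j - 1) * p := by
        rw [Subgroup.orderOf_coe, hj, ← pow_succ, Nat.sub_add_cancel hj0]
      rw [hz, orderOf_pow_of_dvd (pow_ne_zero _ hp.out.ne_zero) (h1 ▸ dvd_mul_right _ _), h1,
        Nat.mul_div_cancel_left _ (pow_pos hp.out.pos _)]
    have hzT : z ∈ (T : Subgroup E) := pow_mem t.2 _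
    have hbz : Commute (b : ↥E) z := by
      have h1 : Commute (b : ↥E) t := mul_inv_eq_iff_eq_mul.1 hfix
      exact h1.pow_right _
    have hcent := Cfsg.Agent.S1443.result p hp2 (T : Subgroup E) (Subgroup.zpowers z) (Subgroup.zpowers (b : ↥E))
      T.isPGroup' (Subgroup.zpowers_le.2 hzT) ⟨inferInstance, fun w hw => by
        obtain ⟨i, rfl⟩ := Subgroup.mem_zpowers_iff.1 hw
        rw [← zpow_natCast, ← zpow_mul, mul_comm, zpow_mul, zpow_natCast, ← hzo, pow_orderOf_eq_one, one_zpow]⟩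
      (Subgroup.zpowers_le.2 b.2) ?_ fun w hw hwo => ?_
    · refine hbne ?_
      rw [← Subgroup.mem_centralizer_iff.1 (hcent (Subgroup.mem_zpowers _)) x hxT, mul_inv_cancel_right]
    · rw [Nat.card_zpowers]
      refine Nat.Coprime.coprime_dvd_left ?_ ((Nat.Prime.coprime_iff_not_dvd hp.out).2 hTi).symm
      rw [hK.symm.index_eq_card, Subgroup.orderOf_coe]
      exact Subgroup.orderOf_dvd_natCard K hb
    · obtain ⟨hwT, -⟩ := Subgroup.mem_inf.1 hw
      have h1 : Subgroup.zpowers w = Subgroup.zpowers z := cyclic_eq (inferInstance : IsCyclic ↥(T : Subgroup E))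
        (Subgroup.zpowers_le.2 hwT) (Subgroup.zpowers_le.2 hzT) (by rw [Nat.card_zpowers, hwo])
        (by rw [Nat.card_zpowers, hzo])
      obtain ⟨i, rfl⟩ := Subgroup.mem_zpowers_iff.1 (h1 ▸ Subgroup.mem_zpowers w)
      exact Subgroup.zpowers_le.2 (Subgroup.mem_centralizer_singleton_iff.2 (hbz.zpow_right i).eq)
  intro t ht
  obtain ⟨s, hs⟩ := (Finite.injective_iff_surjective.1 hinj) ⟨t, ht⟩
  rw [show t = (s : ↥E)⁻¹ * ((b : ↥E) * s * (b : ↥E)⁻¹) from (congrArg Subtype.val hs).symm]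
  have := Subgroup.commutator_mem_commutator (Subgroup.mem_top (s : ↥E)⁻¹) (Subgroup.mem_top (b : ↥E))
  rw [← commutator_def] at this
  simpa [commutatorElement_def, mul_assoc] using this

omit hp in
/-- The structure of a complement of `M_σ`. -/
theorem complement_structure (hG : IsMinSimpleOddOrder G) (hM : IsCoatom M) (hE : IsComplIn E (sigmaCore M) M) :
    Group.IsNilpotent ↥⁅E, E⁆ ∧
      (∀ E₁ : Subgroup G, IsPiHallOf (tau1 M) E₁ E → IsCyclic E₁) ∧
      ∀ E₃ : Subgroup G, IsPiHallOf (tau3 M) E₃ E → IsCyclic E₃ ∧ E₃ ≤ ⁅E, E⁆ ∧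
        E ≤ Subgroup.normalizer (E₃ : Set G) := by
  have hnil := compl_derived hG hM hE
  have hrank : ∀ {K : Subgroup G}, K ≤ E → (∀ q : ℕ, q.Prime → q ∣ Nat.card K → q ∈ tau1 M ∨ q ∈ tau3 M) →
      ∀ q : ℕ, q.Prime → q ∣ Nat.card K → PRankLE q 1 ↥K := fun hKE hK q hq hd =>
    haveI := Fact.mk hq
    Solv.RankTwo.prankLE_of_injective (Subgroup.inclusion (hKE.trans hE.1)) (Subgroup.inclusion_injective _)
      ((hK q hq hd).elim (fun h => h.2.2.2.2) fun h => h.2.2.2)
  refine ⟨hnil, fun E₁ h1 => ?_, fun E₃ h3 => ?_⟩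
  · refine cyclic_of_rank_one hG (commute_of_derived_inf fun a ha b hb => ?_)
      (hrank h1.1 fun q hq hd => Or.inl (h1.2.1 q hq hd))
    by_contra hne
    obtain ⟨q, hq, hd⟩ := Nat.exists_prime_and_dvd (fun h : orderOf ⁅a, b⁆ = 1 => hne (orderOf_eq_one_iff.1 h))
    refine (h1.2.1 q hq (hd.trans (Subgroup.orderOf_dvd_natCard E₁
      (Subgroup.commutator_le_self E₁ (Subgroup.commutator_mem_commutator ha hb))))).2.2.2.1 ?_
    exact hd.trans ((Subgroup.orderOf_dvd_natCard _ (Subgroup.commutator_mem_commutator ha hb)).trans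
      (Subgroup.card_dvd_of_le (Subgroup.commutator_mono (h1.1.trans hE.1) (h1.1.trans hE.1))))
  · have hle : E₃ ≤ ⁅E, E⁆ := by
      have hcard : Nat.card E₃ ∣ Nat.card (E₃ ⊓ ⁅E, E⁆ : Subgroup G) := by
        refine (Nat.factorization_le_iff_dvd Nat.card_pos.ne' Nat.card_pos.ne').1 fun q => ?_
        by_cases hq : q.Prime
        swap
        · simp [Nat.factorization_eq_zero_of_not_prime _ hq]
        haveI := Fact.mk hq
        by_cases hd : q ∣ Nat.card E₃
        swap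
        · rw [Nat.factorization_eq_zero_of_not_dvd hd]; exact Nat.zero_le _
        obtain ⟨S⟩ : Nonempty (Sylow q E₃) := inferInstance
        obtain ⟨P, hP, hSP⟩ := exists_sylIn_ge (S.isPGroup'.map E₃.subtype)
          ((Subgroup.map_subtype_le _).trans h3.1)
        refine (Nat.Prime.pow_dvd_iff_le_factorization hq Nat.card_pos.ne').1 (dvd_trans ?_
          (Subgroup.card_dvd_of_le (le_inf (Subgroup.map_subtype_le _)
            (hSP.trans (tau3_sylow hG hM hE (h3.2.1 q hq hd) hP)))))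
        rw [Subgroup.card_map_of_injective E₃.subtype_injective]
        exact S.pow_dvd_card_of_pow_dvd_card (Nat.ordProj_dvd _ q)
      exact (Subgroup.eq_of_le_of_card_ge inf_le_left (Nat.le_of_dvd Nat.card_pos hcard)).ge.trans inf_le_right
    haveI := hnil
    haveI : Group.IsNilpotent ↥E₃ := Group.nilpotent_of_mulEquiv (Subgroup.subgroupOfEquivOfLe hle)
    have hcyc : IsCyclic ↥E₃ := by
      haveI : IsZGroup ↥E₃ := zgroup_of_rank_one hG (hrank h3.1 fun q hq hd => Or.inr (h3.2.1 q hq hd))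
      infer_instance
    refine ⟨hcyc, hle, ?_⟩
    -- a Hall subgroup of a normal nilpotent subgroup is normal
    have hK : ∀ q : ℕ, q.Prime → q ∈ tau3 M → ¬ q ∣ E₃.relIndex ⁅E, E⁆ := fun q hq hqτ hd =>
      h3.2.2 q hq hqτ (hd.trans ⟨_, (Subgroup.relIndex_mul_relIndex E₃ ⁅E, E⁆ E hle
        (Subgroup.commutator_le_self E)).symm⟩)
    intro g hg
    refine mem_normalizer_of_cj_le ?_
    have hgD : cj E₃ g ≤ ⁅E, E⁆ := by
      refine (cj_mono hle g).trans (le_of_eq ?_)
      show (⁅E, E⁆ : Subgroup G).map (MulAut.conj g).toMonoidHom = _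
      rw [Subgroup.map_commutator]
      exact congrArg₂ _ (cj_eq_self (Subgroup.le_normalizer hg)) (cj_eq_self (Subgroup.le_normalizer hg))
    refine nilpotent_hall_le (π := tau3 M) ⟨hle, h3.2.1, hK⟩ hgD ?_
    intro q hq hd
    rw [card_cj] at hd
    exact h3.2.1 q hq hd

end Cfsg.Agent.OddLocal.Sig
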