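import Cfsg.Agent.Lib.OddLocal.SylowStructure
import Cfsg.Agent.Lib.OddLocal.SigmaComplement
import Cfsg.Agent.Lib.OddLocal.TransitivityCriteria
import Cfsg.Agent.Lib.Solv.Kulakoff
import Cfsg.Agent.Lib.Solv.NarrowBasic
import Cfsg.Agent.S1451

/-!
Auxiliary facts for the elementary abelian subgroups of order `p²` of a maximal subgroup.
-/

set_option autoImplicit false
set_option linter.style.haveILetI false

namespace Cfsg.Agent.OddLocal.RankTwo

open Cfsg
open scoped commutatorElement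
open Cfsg.Agent.Fusion (SylIn cj cj_cj cj_eq_self cj_mono card_cj isPGroup_cj sylIn_map sylIn_top exists_sylIn_ge
  mem_normalizer_of_cj_le mem_cj)
open Cfsg.Agent.OddLocal.Uniq
open Cfsg.Agent.OddLocal.Sig

universe u

variable {G : Type u} [Group G] {p : ℕ} {M : Subgroup G}

/-- The elements of order dividing `q` of the centre of `Q`. -/
def omz (q : ℕ) (Q : Subgroup G) : Subgroup G where
  carrier := {x | x ∈ Q ∧ x ∈ Subgroup.centralizer (Q : Set G) ∧ x ^ q = 1}
  one_mem' := ⟨one_mem _, one_mem _, one_pow _⟩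
  mul_mem' := fun {a b} ha hb => ⟨mul_mem ha.1 hb.1, mul_mem ha.2.1 hb.2.1, by
    rw [(show Commute a b from Subgroup.mem_centralizer_iff.1 hb.2.1 a ha.1).mul_pow, ha.2.2, hb.2.2, one_mul]⟩
  inv_mem' := fun {a} ha => ⟨inv_mem ha.1, inv_mem ha.2.1, by rw [inv_pow, ha.2.2, inv_one]⟩

theorem omz_le {q : ℕ} (Q : Subgroup G) : omz q Q ≤ Q := fun _ hx => hx.1

theorem omz_centralizer {q : ℕ} (Q : Subgroup G) : Q ≤ Subgroup.centralizer (omz q Q : Set G) :=
  Subgroup.le_centralizer_iff.1 fun _ hx => hx.2.1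

theorem omz_elab {q : ℕ} (Q : Subgroup G) : IsElementaryAbelian q (omz q Q) :=
  ⟨⟨⟨fun a b => Subtype.ext (Subgroup.mem_centralizer_iff.1 b.2.2.1 a a.2.1)⟩⟩, fun _ hx => hx.2.2⟩

theorem normalizer_le_omz [Finite G] {q : ℕ} (Q : Subgroup G) :
    Subgroup.normalizer (Q : Set G) ≤ Subgroup.normalizer (omz q Q : Set G) := fun g hg => by
  refine mem_normalizer_of_cj_le ?_
  rintro _ ⟨x, ⟨hx1, hx2, hx3⟩, rfl⟩
  refine ⟨(cj_eq_self hg).le ⟨x, hx1, rfl⟩, ?_, by rw [← map_pow, hx3, map_one]⟩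
  have h1 : Subgroup.centralizer (cj Q g : Set G) = Subgroup.centralizer (Q : Set G) := by rw [cj_eq_self hg]
  exact h1 ▸ Fusion.cj_centralizer Q g ▸ ⟨x, hx2, rfl⟩

variable [Finite G] [hp : Fact p.Prime]

theorem omz_ne_bot {Q : Subgroup G} (hQ : IsPGroup p Q) (h1 : Q ≠ ⊥) : omz p Q ≠ ⊥ := by
  haveI : Nontrivial Q := (Subgroup.nontrivial_iff_ne_bot Q).2 h1
  obtain ⟨z, -, hzc, hzo⟩ := Solv.exists_central_order (p := p) hQ ⊤ (fun h => h1 (by
    have := congrArg (Subgroup.map Q.subtype) h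
    rwa [← MonoidHom.range_eq_map, Subgroup.range_subtype, Subgroup.map_bot] at this))
  intro h
  have hz : (z : G) ∈ omz p Q := ⟨z.2, Subgroup.mem_centralizer_iff.2 fun y hy =>
    congrArg Subtype.val (Subgroup.mem_center_iff.1 hzc ⟨y, hy⟩), by
      rw [← SubgroupClass.coe_pow, ← hzo, pow_orderOf_eq_one, OneMemClass.coe_one]⟩
  rw [h, Subgroup.mem_bot] at hz
  have hz1 : z = 1 := Subtype.ext hz
  rw [hz1, orderOf_one] at hzo
  exact hp.out.ne_one hzo.symm

omit [Finite G] in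
/-- A nontrivial element of an elementary abelian group spans a line. -/
theorem card_zpowers_elab {A : Subgroup G} (hA : IsElementaryAbelian p A) {a : G} (ha : a ∈ A) (ha1 : a ≠ 1) :
    Nat.card (Subgroup.zpowers a) = p := by
  rw [Nat.card_zpowers]; exact orderOf_eq_prime (hA.2 a ha) ha1

omit [Finite G] hp in
theorem exists_ne_one {X : Subgroup G} (h : X ≠ ⊥) : ∃ x ∈ X, x ≠ 1 := by
  by_contra hno
  push Not at hno
  exact h ((Subgroup.eq_bot_iff_forall X).2 hno)

theorem ne_bot_of_card {X : Subgroup G} (h : Nat.card X = p) : X ≠ ⊥ := fun h0 => by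
  rw [h0, Subgroup.card_bot] at h
  exact hp.out.ne_one h.symm

theorem isPGroup_of_card {X : Subgroup G} (h : Nat.card X = p) : IsPGroup p X :=
  IsPGroup.of_card (n := 1) (by rw [h, pow_one])

/-- Two distinct lines span an elementary abelian group of order `p²`. -/
theorem line_sup {A e f : Subgroup G} (hA : Nat.card A = p ^ 2) (he : e ≤ A)
    (hf : f ≤ A) (hec : Nat.card e = p) (hfc : Nat.card f = p) (hne : f ≠ e) : e ⊔ f = A := by
  refine Subgroup.eq_of_le_of_card_ge (sup_le he hf) ?_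
  have hlt : e < e ⊔ f := lt_of_le_of_ne le_sup_left fun h =>
    hne (Subgroup.eq_of_le_of_card_ge (h ▸ le_sup_right) (by rw [hec, hfc]))
  have h1 := Solv.card_lt_of_lt hlt
  obtain ⟨j, -, hj⟩ := (Nat.dvd_prime_pow hp.out).1 (hA ▸ Subgroup.card_dvd_of_le (sup_le he hf))
  rw [hec, hj] at h1
  rw [hA, hj]
  exact Nat.pow_le_pow_right hp.out.pos
    ((Nat.pow_lt_pow_iff_right hp.out.one_lt).1 (by rwa [pow_one] : p ^ 1 < p ^ j))

omit hp in
/-- A maximal subgroup is the normaliser of its normal subgroups. -/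
theorem normalizer_eq_coatom (hG : IsMinSimpleOddOrder G) (hM : IsCoatom M) {X : Subgroup G} (h1 : X ≠ ⊥)
    (hXM : X ≤ M) (hn : M ≤ Subgroup.normalizer (X : Set G)) : Subgroup.normalizer (X : Set G) = M :=
  ((hM.le_iff).1 hn).resolve_left
    (Transit.normalizer_ne_top hG.2.1 h1 fun ht => hM.1 (eq_top_iff.2 (ht ▸ hXM)))

omit hp in
/-- Derived subgroups with trivial `α`-core are nilpotent. -/
theorem derived_nilpotent (hG : IsMinSimpleOddOrder G) (hM : IsCoatom M) (h : alphaCore M = ⊥) :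
    Group.IsNilpotent ↥(⁅M, M⁆ : Subgroup G) := by
  have h0 : piCore (alpha M) ↥M = ⊥ := (Subgroup.map_eq_bot_iff_of_injective _ M.subtype_injective).1 h
  haveI := alpha_nilpotent hG hM
  let f := QuotientGroup.mk' (piCore (alpha M) ↥M)
  have hf : Function.Injective f := (MonoidHom.ker_eq_bot_iff f).1 (by rw [QuotientGroup.ker_mk', h0])
  have hmap : (commutator ↥M).map f = commutator (↥M ⧸ piCore (alpha M) ↥M) := by
    rw [commutator_def, Subgroup.map_commutator, ← MonoidHom.range_eq_map,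
      MonoidHom.range_eq_top.2 (QuotientGroup.mk'_surjective _), ← commutator_def]
  let e : ↥(commutator (↥M ⧸ piCore (alpha M) ↥M)) ≃* ↥(⁅M, M⁆ : Subgroup G) :=
    ((MulEquiv.subgroupCongr hmap).symm.trans ((commutator ↥M).equivMapOfInjective f hf).symm).trans
      (((commutator ↥M).equivMapOfInjective M.subtype M.subtype_injective).trans
        (MulEquiv.subgroupCongr (Subgroup.map_subtype_commutator M)))
  exact Group.nilpotent_of_mulEquiv e

/-- Sylow subgroups of a nilpotent derived subgroup are normal. -/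
theorem sylow_derived_normal (hnil : Group.IsNilpotent ↥(⁅M, M⁆ : Subgroup G)) {S : Subgroup G}
    (hS : SylIn p S ⁅M, M⁆) : M ≤ Subgroup.normalizer (S : Set G) := by
  haveI := hnil
  obtain ⟨T, hT⟩ := hS.exists_sylow_subgroupOf
  haveI hTn : (T : Subgroup ↥(⁅M, M⁆ : Subgroup G)).Normal :=
    Sylow.normal_of_normalizerCondition Group.normalizerCondition_of_isNilpotent T
  have hself : (⁅M, M⁆ : Subgroup G) ≤ Subgroup.normalizer (S : Set G) :=
    (Subgroup.normal_subgroupOf_iff_le_normalizer hS.le).1 (hT ▸ hTn)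
  intro m hm
  have hmD : m ∈ Subgroup.normalizer ((⁅M, M⁆ : Subgroup G) : Set G) := mem_normalizer_of_cj_le (by
    rw [Fusion.cj_commutator, Fusion.cj_eq_self_of_mem hm])
  obtain ⟨l, hl, hle⟩ := hS.conj_eq (hS.cj' hmD)
  refine mem_normalizer_of_cj_le (le_of_eq ?_)
  rw [← hle, cj_eq_self (hself hl)]

omit hp in
/-- Elements normalising a cyclic subgroup have their commutators in its centralizer. -/
theorem commutator_le_centralizer {D z : Subgroup G} (hz : IsCyclic ↥z)
    (hD : D ≤ Subgroup.normalizer (z : Set G)) : ⁅D, D⁆ ≤ Subgroup.centralizer (z : Set G) := by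
  haveI := hz
  obtain ⟨⟨w, hw⟩, hgen⟩ := IsCyclic.exists_generator (α := ↥z)
  have hpow : ∀ a ∈ D, ∃ i : ℤ, a * w * a⁻¹ = w ^ i := fun a ha => by
    obtain ⟨i, hi⟩ := Subgroup.mem_zpowers_iff.1
      (hgen ⟨_, (Subgroup.mem_normalizer_iff.1 (hD ha) w).1 hw⟩)
    exact ⟨i, (congrArg Subtype.val hi).symm⟩
  rw [Subgroup.commutator_le]
  intro a ha b hb
  refine Subgroup.mem_centralizer_iff.2 fun x hx => ?_
  obtain ⟨k, hk⟩ := Subgroup.mem_zpowers_iff.1 (hgen ⟨x, hx⟩)
  have hxw : x = w ^ k := (congrArg Subtype.val hk).symm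
  obtain ⟨i, hi⟩ := hpow a ha
  obtain ⟨j, hj⟩ := hpow b hb
  have e : (a * b) * w * (a * b)⁻¹ = (b * a) * w * (b * a)⁻¹ := by
    calc (a * b) * w * (a * b)⁻¹ = a * (b * w * b⁻¹) * a⁻¹ := by group
      _ = (a * w * a⁻¹) ^ j := by rw [hj, conj_zpow]
      _ = (b * w * b⁻¹) ^ i := by rw [hi, hj, ← zpow_mul, ← zpow_mul, mul_comm]
      _ = b * (w ^ i) * b⁻¹ := conj_zpow
      _ = (b * a) * w * (b * a)⁻¹ := by rw [← hi]; group
  obtain ⟨t, ht⟩ := hpow (b * a)⁻¹ (inv_mem (mul_mem hb ha))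
  rw [inv_inv] at ht
  have hc : Commute w ⁅a, b⁆ := by
    refine Commute.symm (mul_inv_eq_iff_eq_mul.1 ?_)
    calc ⁅a, b⁆ * w * ⁅a, b⁆⁻¹ = (a * b) * ((b * a)⁻¹ * w * (b * a)) * (a * b)⁻¹ := by
          rw [commutatorElement_def]; group
      _ = ((a * b) * w * (a * b)⁻¹) ^ t := by rw [ht, conj_zpow]
      _ = ((b * a) * w * (b * a)⁻¹) ^ t := by rw [e]
      _ = (b * a) * w ^ t * (b * a)⁻¹ := conj_zpow
      _ = w := by rw [← ht]; group
  rw [hxw]
  exact (hc.zpow_left k).eq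

/-- A noncyclic `p`-group has an invariant subgroup of exponent `p` and order at least `p²`. -/
theorem exists_omega_sq (hp2 : p ≠ 2) {Q : Subgroup G} (hQ : IsPGroup p Q) (hnc : ¬ IsCyclic Q) :
    ∃ U : Subgroup G, U ≤ Q ∧ (∀ x ∈ U, x ^ p = 1) ∧ p ^ 2 ≤ Nat.card U ∧
      Subgroup.normalizer (Q : Set G) ≤ Subgroup.normalizer (U : Set G) := by
  set S : Set ↥Q := {x | x ∈ Subgroup.upperCentralSeries ↥Q 2 ∧ x ^ p = 1} with hS
  have hmem : ∀ x ∈ Subgroup.closure S, x ∈ S := fun x hx => Solv.NarrowBasic.pow_mem_omega hp2 hx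
  refine ⟨(Subgroup.closure S).map Q.subtype, Subgroup.map_subtype_le _, ?_, ?_, fun g hg => ?_⟩
  · rintro _ ⟨x, hx, rfl⟩
    rw [← map_pow, (hmem x hx).2, map_one]
  · obtain ⟨W, hWn, hWe, hWc⟩ := Solv.exists_normal_elementary_sq hp2 hQ hnc
    rw [Subgroup.card_map_of_injective Q.subtype_injective, ← hWc]
    refine Subgroup.card_le_of_le fun w hw => Subgroup.subset_closure ⟨?_, hWe.2 w hw⟩
    haveI := hWn
    have hne : W ≠ ⊥ := fun h0 => by
      rw [h0, Subgroup.card_bot] at hWc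
      exact absurd hWc.symm (Nat.one_lt_pow two_ne_zero hp.out.one_lt).ne'
    obtain ⟨z, hzW, hzc, hzo⟩ := Solv.exists_central_order (p := p) hQ W hne
    set π := QuotientGroup.mk' (Subgroup.center ↥Q) with hπ
    haveI : (W.map π).Normal := Subgroup.Normal.map inferInstance π (QuotientGroup.mk'_surjective _)
    have hcard : Nat.card (W.map π) ≤ p := by
      have h1 : Nat.card (W.map π) * Nat.card (W ⊓ Subgroup.center ↥Q : Subgroup ↥Q) = p ^ 2 := by
        rw [← Subgroup.relIndex_ker (K := W) π, QuotientGroup.ker_mk', ← hWc]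
        have h := Subgroup.relIndex_mul_relIndex ⊥ (Subgroup.center ↥Q ⊓ W) W bot_le inf_le_right
        rw [Subgroup.relIndex_bot_left, Subgroup.relIndex_bot_left, Subgroup.inf_relIndex_right, mul_comm] at h
        rwa [inf_comm]
      have h2 : p ≤ Nat.card (W ⊓ Subgroup.center ↥Q : Subgroup ↥Q) := by
        rw [← hzo, ← Nat.card_zpowers]
        exact Subgroup.card_le_of_le (Subgroup.zpowers_le.2 ⟨hzW, hzc⟩)
      refine Nat.le_of_mul_le_mul_right ?_ hp.out.pos
      rw [← pow_two, ← h1]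
      exact Nat.mul_le_mul_left _ h2
    have hc := Fusion.le_center_of_card_prime (hQ.to_quotient _) (W.map π) hcard
    refine Subgroup.mem_upperCentralSeries_succ_iff.2 fun g => ?_
    rw [Subgroup.upperCentralSeries_one]
    refine (QuotientGroup.eq_one_iff _).1 ?_
    have h3 := Subgroup.mem_center_iff.1 (hc (Subgroup.mem_map_of_mem π hw)) (π g)
    show π (w * g * w⁻¹ * g⁻¹) = 1
    rw [map_mul, map_mul, map_mul, map_inv, map_inv, ← h3]
    group
  · refine mem_normalizer_of_cj_le ?_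
    let φ : ↥Q ≃* ↥Q := ((MulAut.conj g).subgroupMap Q).trans (MulEquiv.subgroupCongr (cj_eq_self hg))
    rintro _ ⟨_, ⟨x, hx, rfl⟩, rfl⟩
    refine ⟨φ x, Subgroup.subset_closure ⟨?_, by rw [← map_pow, (hmem x hx).2, map_one]⟩, rfl⟩
    exact (Subgroup.characteristic_iff_map_eq.1 inferInstance φ).le ⟨x, (hmem x hx).1, rfl⟩

omit hp in
/-- A line fixed by `N(A)` is fixed by `N(P)`. -/
theorem char_line [Fact p.Prime] {A P e : Subgroup G} (hP : IsPGroup p P) (hAP : A ≤ P)
    (hAe : IsElementaryAbelian p A) (hA : Nat.card A = p ^ 2)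
    (hfull : ∀ x ∈ Subgroup.centralizer (A : Set G), x ^ p = 1 → x ∈ A) (heA : e ≤ A) (hec : Nat.card e = p)
    (hfix : Subgroup.normalizer (A : Set G) ≤ Subgroup.normalizer (e : Set G)) :
    Subgroup.normalizer (P : Set G) ≤ Subgroup.normalizer (e : Set G) := by
  have hp' : p.Prime := Fact.out
  refine (normalizer_le_omz (q := p) P).trans ?_
  set Z := omz p P with hZ
  have hZA : Z ≤ A := fun x hx => hfull x (centralizer_le_of_le hAP hx.2.1) hx.2.2
  by_cases hZA' : Z = A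
  · rw [hZA']; exact hfix
  suffices hs : Z = e by rw [hs]
  have hZ1 : Z ≠ ⊥ := omz_ne_bot hP fun h => ne_bot_of_card hec (le_bot_iff.1 (h ▸ heA.trans hAP))
  have hZc : Nat.card Z = p := by
    obtain ⟨j, hj2, hj⟩ := (Nat.dvd_prime_pow hp').1 (hA ▸ Subgroup.card_dvd_of_le hZA)
    interval_cases j
    · exact absurd (Subgroup.card_eq_one.1 (by rw [hj, pow_zero])) hZ1
    · rw [hj, pow_one]
    · exact absurd (Subgroup.eq_of_le_of_card_ge hZA (by rw [hA, hj])) hZA'
  by_contra hne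
  have hAc : A ≤ Subgroup.centralizer (A : Set G) := fun a ha => Subgroup.mem_centralizer_iff.2 fun b hb =>
    congrArg Subtype.val (hAe.1.is_comm.comm (⟨b, hb⟩ : A) ⟨a, ha⟩)
  set R := P ⊓ Subgroup.normalizer (A : Set G) with hR
  have hRC : R ≤ Subgroup.centralizer (A : Set G) := by
    have hce : R ≤ Subgroup.centralizer (e : Set G) := by
      have heR : e ≤ R := heA.trans (le_inf hAP Subgroup.le_normalizer)
      haveI : (e.subgroupOf R).Normal :=
        Subgroup.normal_subgroupOf_of_le_normalizer (inf_le_right.trans hfix)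
      have hcen := Fusion.le_center_of_card_prime (hP.to_inf_left (K := Subgroup.normalizer (A : Set G)))
        (e.subgroupOf R) (by rw [Solv.card_subgroupOf heR, hec])
      intro r hr
      refine Subgroup.mem_centralizer_iff.2 fun x hx => ?_
      exact (congrArg Subtype.val (Subgroup.mem_center_iff.1 (hcen (x := ⟨x, heR hx⟩) hx) ⟨r, hr⟩)).symm
    have hcZ : R ≤ Subgroup.centralizer (Z : Set G) := inf_le_left.trans (omz_centralizer P)
    refine Subgroup.le_centralizer_iff.1 ?_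
    rw [← line_sup hA heA hZA hec hZc hne]
    exact sup_le (Subgroup.le_centralizer_iff.1 hce) (Subgroup.le_centralizer_iff.1 hcZ)
  have hmove : ∀ g ∈ P, g ∈ Subgroup.normalizer (R : Set G) → g ∈ R := fun g hg hgR => by
    refine ⟨hg, mem_normalizer_of_cj_le ?_⟩
    rintro _ ⟨a, ha, rfl⟩
    have h1 : cj R g = R := cj_eq_self hgR
    exact hfull _ (hRC (h1.le ⟨a, ⟨hAP ha, Subgroup.le_normalizer ha⟩, rfl⟩))
      (by rw [← map_pow, hAe.2 a ha, map_one])
  have hPR : R = P := by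
    by_contra hne'
    obtain ⟨x, hx, hxR⟩ := SetLike.exists_of_lt (SylIn.normalizer_growth inf_le_left hne' hP)
    exact hxR (hmove x hx.1 hx.2)
  exact hZA' (le_antisymm hZA fun a ha =>
    ⟨hAP ha, Subgroup.le_centralizer_iff.1 (hPR ▸ hRC) ha, hAe.2 a ha⟩)

/-- Overgroups of a `q`-subgroup whose centralizer lies in `M`, for `q ∈ σ(M)`. -/
theorem normalizer_le_of_centralizer (hG : IsMinSimpleOddOrder G) (hσ : p ∈ sigma M) (hM : IsCoatom M)
    {X S : Subgroup G} (hXS : X ≤ S) (hS : IsPGroup p S) (hX1 : X ≠ ⊥) (hXM : X ≤ M)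
    (hC : Subgroup.centralizer (X : Set G) ≤ M) :
    S ≤ M ∧ Subgroup.normalizer (S : Set G) ≤ M := by
  have key : ∀ Y : Subgroup G, X ≤ Y → IsPGroup p Y → Y ≤ M → Subgroup.normalizer (Y : Set G) ≤ M := by
    intro Y hXY hY hYM g hg
    obtain ⟨m, hm, c, hc, rfl⟩ := conj_factor hG hσ hM Y hY (fun h => hX1 (le_bot_iff.1 (h ▸ hXY))) hYM g
      ((cj_eq_self hg).le.trans hYM)
    exact mul_mem hm (hC (centralizer_le_of_le hXY hc))
  have hSM : S ≤ M := by
    by_contra hno
    obtain ⟨x, hx, hxn⟩ := SetLike.exists_of_lt (SylIn.normalizer_growth (p := p) (inf_le_left : S ⊓ M ≤ S)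
      (fun h => hno (h ▸ inf_le_right)) hS)
    exact hxn ⟨hx.1, key _ (le_inf hXS hXM) hS.to_inf_left inf_le_right hx.2⟩
  exact ⟨hSM, key S hXS hS hSM⟩

omit hp in
/-- With trivial `α`-core some prime divisor lies in `σ(M)`. -/
theorem exists_sigma_of_alpha_trivial (hG : IsMinSimpleOddOrder G) (hM : IsCoatom M) (h1 : M ≠ ⊥)
    (hr : RankLE 2 ↥M) : ∃ q : ℕ, q.Prime ∧ q ∈ sigma M := by
  haveI := hG.2.2.2 M hM.1
  obtain ⟨q, hq, hmax⟩ := Finset.exists_max_image (Nat.card M).primeFactors id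
    (Nat.nonempty_primeFactors.2 (lt_of_le_of_ne Nat.card_pos fun h => h1 (Subgroup.card_eq_one.1 h.symm)))
  rw [Nat.mem_primeFactors] at hq
  haveI := Fact.mk hq.1
  obtain ⟨N, hNc, hN1, hN2⟩ := (Cfsg.Agent.S1451.result (odd_subgroup hG M) (Or.inl hr)).2.2 (q - 1)
  refine ⟨q, hq.1, ?_⟩
  have hNp : IsPGroup q ↥N := by
    refine IsPGroup.of_card (n := (Nat.card N).factorization q) (Nat.eq_of_factorization_eq Nat.card_pos.ne'
      (pow_ne_zero _ hq.1.ne_zero) fun r => ?_)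
    rw [hq.1.factorization_pow, Finsupp.single_apply]
    by_cases hrq : q = r
    · rw [if_pos hrq, hrq]
    rw [if_neg hrq]
    by_cases hrp : r.Prime
    · refine Nat.factorization_eq_zero_of_not_dvd fun hd => hrq ?_
      have hle : r ≤ q := hmax r (Nat.mem_primeFactors.2
        ⟨hrp, hd.trans (Subgroup.card_subgroup_dvd_card N), Nat.card_pos.ne'⟩)
      have := (hN1 r hrp hd).2
      omega
    · exact Nat.factorization_eq_zero_of_not_prime _ hrp
  let P : Sylow q ↥M := hNp.toSylow (hN2 q hq.1 ⟨hq.1, Nat.sub_lt hq.1.pos one_pos⟩)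
  haveI := hNc
  have hPne : (P : Subgroup ↥M).map M.subtype ≠ ⊥ := fun h => by
    have h' := (Subgroup.map_eq_bot_iff_of_injective _ M.subtype_injective).1 h
    exact hN2 q hq.1 ⟨hq.1, Nat.sub_lt hq.1.pos one_pos⟩
      (by rw [show N = ⊥ from h', Subgroup.index_bot]; exact hq.2.1)
  have hMn : M ≤ Subgroup.normalizer (((P : Subgroup ↥M).map M.subtype : Subgroup G) : Set G) :=
    Bender.le_normalizer_map N
  exact ⟨hq.1, hq.2.1, P, (normalizer_eq_coatom hG hM hPne (Subgroup.map_subtype_le _) hMn).le⟩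

end Cfsg.Agent.OddLocal.RankTwo
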