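import Cfsg.Agent.Lib.OddLocal.RankTwoBasic
import Cfsg.Agent.Lib.Solv.FrobeniusFormula

/-!
Normalisers of elementary abelian subgroups of order `p²` confined to a maximal subgroup, and the
normaliser of an invariant Sylow subgroup.
-/

set_option autoImplicit false
set_option linter.style.haveILetI false

namespace Cfsg.Agent.OddLocal.RankTwo

open Cfsg
open scoped commutatorElement
open Cfsg.Agent.Fusion (SylIn cj cj_cj cj_eq_self cj_mono card_cj isPGroup_cj sylIn_map sylIn_top exists_sylIn_ge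
  mem_normalizer_of_cj_le)
open Cfsg.Agent.OddLocal.Uniq
open Cfsg.Agent.OddLocal.Sig
open Cfsg.Agent.OddLocal.Transit (Hyp Rel prime'_of_pgroup piCoreOf_prime rel_of_overgroup)

universe u

variable {G : Type u} [Group G] [Finite G] {p : ℕ} [hp : Fact p.Prime]

theorem not_dvd_sq {q : ℕ} [hq : Fact q.Prime] (h : q ≠ p) : ¬ q ∣ p ^ 2 := fun hd =>
  h ((Nat.prime_dvd_prime_iff_eq hq.out hp.out).1 (hq.out.dvd_of_dvd_pow hd))

omit hp in
/-- A `q`-subgroup of `G` containing a Sylow subgroup is maximal among the invariant ones. -/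
theorem maxInv_of_sylow {q : ℕ} [hq : Fact q.Prime] {A Q : Subgroup G} (hQ : SylIn q Q ⊤)
    (hA : A ≤ Subgroup.normalizer (Q : Set G)) : Q ∈ maxInvSubgroups ⊤ A {q} :=
  Cfsg.Agent.S1480.mem_maxInv.2 ⟨⟨hQ.isPGroup, hA⟩, fun _ hR _ hQR => hQ.eq_of_le hR hQR le_top⟩

omit hp in
theorem coprime_pgroup {a b : ℕ} [ha : Fact a.Prime] [hb : Fact b.Prime] (h : a ≠ b) {X Y : Subgroup G}
    (hX : IsPGroup a X) (hY : IsPGroup b Y) : (Nat.card X).Coprime (Nat.card Y) := by
  obtain ⟨i, hi⟩ := IsPGroup.iff_card.1 hX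
  obtain ⟨j, hj⟩ := IsPGroup.iff_card.1 hY
  rw [hi, hj]
  exact Nat.Coprime.pow _ _ ((Nat.coprime_primes ha.out hb.out).2 h)

omit hp in
/-- Fixed-point-free abelian coprime groups are their own commutators. -/
theorem le_commutator_of_fixed {A Z H : Subgroup G} (hA : IsMulCommutative ↥A)
    (hAZ : A ≤ Subgroup.normalizer (Z : Set G)) (hco : (Nat.card A).Coprime (Nat.card Z))
    (h : Z ⊓ Subgroup.centralizer (A : Set G) = ⊥) (hZ : Z ≤ H) (hAH : A ≤ H) : Z ≤ ⁅H, H⁆ := by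
  have h1 := Solv.commutator_sup_fixed hAZ hco (Or.inl (Group.isSolvable_of_comm fun a b => hA.is_comm.comm a b))
  rw [h, sup_bot_eq] at h1
  exact h1.ge.trans (Subgroup.commutator_mono hZ hAH)

/-- An element of `A` outside two given lines. -/
theorem exists_avoid {A e f : Subgroup G} (hA : Nat.card A = p ^ 2) (he : Nat.card e = p)
    (hf : Nat.card f = p) : ∃ a ∈ A, a ∉ e ∧ a ∉ f := by
  by_contra hno
  push Not at hno
  have h1 : (A : Set G) ⊆ (e : Set G) ∪ ((f : Set G) \ {1}) := fun a ha => by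
    by_cases h : a ∈ e
    · exact Or.inl h
    · exact Or.inr ⟨hno a ha h, fun h1 => h ((Set.mem_singleton_iff.1 h1) ▸ one_mem e)⟩
  have h2 := (Set.ncard_le_ncard h1 (Set.toFinite _)).trans (Set.ncard_union_le _ _)
  rw [Set.ncard_diff_singleton_of_mem (one_mem f), ← Nat.card_coe_set_eq, ← Nat.card_coe_set_eq,
    ← Nat.card_coe_set_eq] at h2
  change Nat.card A ≤ Nat.card e + (Nat.card f - 1) at h2
  rw [hA, he, hf, pow_two] at h2
  have h3 : 2 * p ≤ p * p := Nat.mul_le_mul_right p hp.out.two_le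
  have h5 := hp.out.two_le
  omega

omit [Finite G] hp in
theorem cj_zpowers (a g : G) : cj (Subgroup.zpowers a) g = Subgroup.zpowers (g * a * g⁻¹) :=
  MonoidHom.map_zpowers _ a

omit hp in
/-- The centralizer in a group normalised by `A` of a subgroup of abelian `A` is invariant. -/
theorem normalizes_fixed {A Z c : Subgroup G} (hA : IsMulCommutative ↥A)
    (hAZ : A ≤ Subgroup.normalizer (Z : Set G)) (hc : c ≤ A) :
    A ≤ Subgroup.normalizer ((Z ⊓ Subgroup.centralizer (c : Set G) : Subgroup G) : Set G) := fun a ha => by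
  refine mem_normalizer_of_cj_le ?_
  rw [Fusion.cj_inf, cj_eq_self (hAZ ha), Fusion.cj_centralizer, cj_eq_self (Subgroup.centralizer_le_normalizer _
    (Subgroup.mem_centralizer_iff.2 fun x hx =>
      congrArg Subtype.val (hA.is_comm.comm (⟨x, hc hx⟩ : A) ⟨a, ha⟩)))]

/-- `N(A)` lies in a maximal subgroup `H` that has a large piece moved by `A`. -/
theorem core (hG : IsMinSimpleOddOrder G) {H L₂ A Z : Subgroup G} (hH : IsCoatom H) (hL : IsCoatom L₂)
    (hne : H ≠ L₂) (hyp : Hyp (p ^ 2) A) (hAe : IsElementaryAbelian p A) (hA : Nat.card A = p ^ 2) (hAH : A ≤ H)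
    (hCH : Subgroup.centralizer (A : Set G) ≤ H) {q : ℕ} [hq : Fact q.Prime] (hqp : q ≠ p) (hZq : IsPGroup q Z)
    (hAZ : A ≤ Subgroup.normalizer (Z : Set G)) (hZH : Z ≤ H) (hZD : Z ≤ ⁅H, H⁆)
    (hZC : Z ⊓ Subgroup.centralizer (A : Set G) = ⊥) (hCL : Subgroup.centralizer (Z : Set G) ≤ L₂)
    (hS : ∀ S : Subgroup G, IsPGroup q S → Z ≤ S → S ≤ H →
      S ≤ L₂ ∧ H ⊓ Subgroup.normalizer (S : Set G) ≤ L₂) :
    Subgroup.normalizer (A : Set G) ≤ H := by
  have hHsol : Group.IsSolvable ↥H := hG.2.2.2 H hH.1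
  have huniq : ∀ {r : ℕ} [Fact r.Prime] (T : Subgroup G), SylIn r T H → r ∈ alpha H → ¬ T ≤ L₂ := by
    intro r _ T hT hr hTL
    obtain ⟨F, hFH, hFe, hF⟩ := exists_elab_of_prank hr.2
    obtain ⟨x, hx, hxT⟩ := hT.conj_le (Fusion.elab_isPGroup hFe) hFH
    obtain ⟨M', -, hu⟩ := iu_mono (iu_conj (rank_three_iu hG hFe hF) x) hxT
      fun h => hH.1 (eq_top_iff.2 (h ▸ hT.le))
    exact hne ((hu H ⟨hH, hT.le⟩).trans (hu L₂ ⟨hL, hTL⟩).symm)
  have hqα : q ∉ alpha H := fun h => by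
    obtain ⟨S, hS', hZS⟩ := exists_sylIn_ge hZq hZH
    exact huniq S hS' h (hS S hS'.isPGroup hZS hS'.le).1
  have hαH : H ≤ Subgroup.normalizer (alphaCore H : Set G) := le_normalizer_piCoreOf
  have hαle : alphaCore H ≤ H := Subgroup.map_subtype_le _
  have hall := (alphaCore_hall hG hH).1
  have hsyl : ∀ {r : ℕ} [Fact r.Prime] (T : Subgroup G), SylIn r T (alphaCore H) → r ∈ alpha H → SylIn r T H :=
    fun {r} _ T hT hr => ⟨hT.le.trans hαle, hT.isPGroup, by
      rw [← Subgroup.relIndex_mul_relIndex T (alphaCore H) H hT.le hαle]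
      exact (Fact.out : r.Prime).prime.not_dvd_mul hT.not_dvd (hall.2.2 r Fact.out hr)⟩
  -- the prime p is outside α(H)
  have hpα : p ∉ alpha H := fun h => by
    have hcoZ : (Nat.card Z).Coprime (Nat.card (alphaCore H)) := Nat.coprime_of_dvd fun r hr h1 h2 => by
      obtain ⟨j, hj⟩ := IsPGroup.iff_card.1 hZq
      rw [hj] at h1
      exact hqα ((Nat.prime_dvd_prime_iff_eq hr hq.out).1 (hr.dvd_of_dvd_pow h1) ▸ hall.2.1 r hr h2)
    obtain ⟨T, hT, hTn⟩ := Solv.exists_invariant_sylow (hZH.trans hαH) hcoZ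
      (Or.inl (hG.2.2.2 Z fun h0 => hH.1 (eq_top_iff.2 (h0 ▸ hZH)))) p
    have hT' := hsyl T (sylIn_of_isSylIn hT) h
    set O := piCoreOf (primesNotDvd (p ^ 2)) H with hO
    have hZO : Z ≤ O := hyp.2.2.2 H hH.1 hAH Z hZH hAZ (prime'_of_pgroup (not_dvd_sq hqp) hZq)
    have hTC : T ≤ Subgroup.centralizer (Z : Set G) := fun t ht => Subgroup.mem_centralizer_iff.2 fun z hz => by
      have h1 : z * t * z⁻¹ * t⁻¹ ∈ T := mul_mem ((Subgroup.mem_normalizer_iff.1 (hTn hz) t).1 ht) (inv_mem ht)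
      have h2 : z * t * z⁻¹ * t⁻¹ ∈ O := by
        rw [show z * t * z⁻¹ * t⁻¹ = z * (t * z⁻¹ * t⁻¹) by group]
        exact mul_mem (hZO hz) ((Subgroup.mem_normalizer_iff.1
          (Transit.le_normalizer_piCoreOf H (hT'.le ht)) _).1 (inv_mem (hZO hz)))
      have hbot : T ⊓ O = ⊥ := Solv.coprime_inf (Nat.coprime_of_dvd fun r hr h1 h2 => by
        obtain ⟨j, hj⟩ := IsPGroup.iff_card.1 hT'.isPGroup
        rw [hj] at h1
        refine (piCoreOf_prime H r hr h2).2 ?_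
        rw [(Nat.prime_dvd_prime_iff_eq hr hp.out).1 (hr.dvd_of_dvd_pow h1)]
        exact dvd_pow_self p two_ne_zero)
      have h3 : z * t * z⁻¹ * t⁻¹ = 1 := Subgroup.mem_bot.1 (hbot ▸ Subgroup.mem_inf.2 ⟨h1, h2⟩)
      exact commutatorElement_eq_one_iff_mul_comm.1 (by rw [commutatorElement_def]; exact h3)
    exact huniq T hT' h (hTC.trans hCL)
  -- the α-core is nontrivial
  have hα1 : alphaCore H ≠ ⊥ := fun h => by
    obtain ⟨S, hS', hZS⟩ := exists_sylIn_ge hZq hZD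
    have hSH : S ≤ H := hS'.le.trans (Subgroup.commutator_le.2 fun a ha b hb => by
      rw [commutatorElement_def]; exact mul_mem (mul_mem (mul_mem ha hb) (inv_mem ha)) (inv_mem hb))
    have hn : H ≤ Subgroup.normalizer (S : Set G) := sylow_derived_normal (derived_nilpotent hG hH h) hS'
    have hHL : H ≤ L₂ := le_trans (le_inf le_rfl hn) (hS S hS'.isPGroup hZS hSH).2
    exact hne (((hH.le_iff).1 hHL).resolve_left hL.1).symm
  obtain ⟨r, hr, hrα⟩ := Nat.exists_prime_and_dvd (fun h => hα1 (Subgroup.card_eq_one.1 h))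
  haveI := Fact.mk hr
  have hrA := hall.2.1 r hr hrα
  have hrp : r ≠ p := fun h => hpα (h ▸ hrA)
  -- an invariant Sylow subgroup of the α-core
  have hAZH : A ⊔ Z ≤ H := sup_le hAH hZH
  have hcoAZ : (Nat.card (A ⊔ Z : Subgroup G)).Coprime (Nat.card (alphaCore H)) := by
    have h1 := Solv.card_sup_mul_card_inf' Z A hAZ
    rw [sup_comm] at h1
    have hdv : Nat.card (A ⊔ Z : Subgroup G) ∣ Nat.card Z * Nat.card A := ⟨_, h1.symm⟩
    refine Nat.coprime_of_dvd fun s hs hd1 hd2 => ?_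
    obtain ⟨j, hj⟩ := IsPGroup.iff_card.1 hZq
    rcases hs.dvd_mul.1 (hd1.trans hdv) with hd | hd
    · rw [hj] at hd
      exact hqα ((Nat.prime_dvd_prime_iff_eq hs hq.out).1 (hs.dvd_of_dvd_pow hd) ▸ hall.2.1 s hs hd2)
    · rw [hA] at hd
      exact hpα ((Nat.prime_dvd_prime_iff_eq hs hp.out).1 (hs.dvd_of_dvd_pow hd) ▸ hall.2.1 s hs hd2)
  obtain ⟨T, hT₀, hTn⟩ := Solv.exists_invariant_sylow (hAZH.trans hαH) hcoAZ
    (Or.inl (hG.2.2.2 _ fun h0 => hH.1 (eq_top_iff.2 (h0 ▸ hAZH)))) r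
  have hT := hsyl T (sylIn_of_isSylIn hT₀) hrA
  have hrσ : r ∈ sigma H := alpha_subset_sigma hG hH hrA
  obtain ⟨hTtop, -, hTN⟩ := sigma_sylow hrσ hT
  have hTC : ¬ T ≤ Subgroup.centralizer (Z : Set G) := fun h => huniq T hT hrA (h.trans hCL)
  have hAT : A ≤ Subgroup.normalizer (T : Set G) := le_sup_left.trans hTn
  have hAab : IsMulCommutative ↥A := hAe.1
  -- a line whose fixed points in Z move T
  obtain ⟨b₀, hb₀, hb₀1, hU⟩ : ∃ b ∈ A, b ≠ 1 ∧
      ¬ Z ⊓ Subgroup.centralizer (Subgroup.zpowers b : Set G) ≤ Subgroup.centralizer (T : Set G) := by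
    by_contra hno
    push Not at hno
    refine hTC (Subgroup.le_centralizer_iff.1 ?_)
    refine (Solv.gen_eq A Z hAab hAZ ((coprime_pgroup hqp hZq (Fusion.elab_isPGroup hAe)).symm)).ge.trans
      (iSup₂_le fun B hB => ?_)
    obtain ⟨b, hbB, hb1⟩ := exists_ne_one (X := B) fun h0 => by
      have hle := Fusion.card_le_mul_of_cycQuot hAe hB
      rw [h0, Subgroup.card_bot, mul_one, hA, pow_two] at hle
      have : p * 2 ≤ p * p := Nat.mul_le_mul_left p hp.out.two_le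
      have := hp.out.two_le
      omega
    exact (inf_le_inf_left _ (centralizer_le_of_le (Subgroup.zpowers_le.2 hbB))).trans (hno b (hB.1 hbB) hb1)
  set c₀ := Subgroup.zpowers b₀ with hc₀
  have hc₀A : c₀ ≤ A := Subgroup.zpowers_le.2 hb₀
  have hc₀c : Nat.card c₀ = p := card_zpowers_elab hAe hb₀ hb₀1
  set U := Z ⊓ Subgroup.centralizer (c₀ : Set G) with hUdef
  have hfix : ∀ c : Subgroup G, c ≤ A → Nat.card c = p → c ≠ c₀ →
      T ⊓ Subgroup.centralizer (c : Set G) ≠ ⊥ := by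
    intro c hcA hcc hcne h0
    apply hU
    have hUZ : U ≤ Z := inf_le_left
    have hnT : U ⊔ c ≤ Subgroup.normalizer (T : Set G) :=
      sup_le ((hUZ.trans le_sup_right).trans hTn) (hcA.trans hAT)
    have hcU : c ≤ Subgroup.normalizer (U : Set G) := hcA.trans (normalizes_fixed hAab hAZ hc₀A)
    have hfpf : ∀ e ∈ c, e ≠ 1 → ∀ u ∈ U, e * u = u * e → u = 1 := by
      intro e he he1 u hu heu
      refine Subgroup.mem_bot.1 (hZC ▸ Subgroup.mem_inf.2 ⟨hUZ hu, ?_⟩)
      have hce : c = Subgroup.zpowers e := (Subgroup.eq_of_le_of_card_ge (Subgroup.zpowers_le.2 he)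
        (by rw [hcc, card_zpowers_elab hAe (hcA he) he1])).symm
      have h1 : A ≤ Subgroup.centralizer ({u} : Set G) := by
        rw [← line_sup hA hc₀A hcA hc₀c hcc hcne]
        refine sup_le (fun y hy => ?_) (hce ▸ Subgroup.zpowers_le.2
          (Subgroup.mem_centralizer_singleton_iff.2 heu))
        exact Subgroup.mem_centralizer_singleton_iff.2
          (Subgroup.mem_centralizer_iff.1 (Subgroup.mem_inf.1 hu).2 y hy)
      exact Subgroup.mem_centralizer_iff.2 fun y hy => Subgroup.mem_centralizer_singleton_iff.1 (h1 hy)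
    have hUc : U ⊔ c ≤ A ⊔ Z := sup_le (hUZ.trans le_sup_right) (hcA.trans le_sup_left)
    have hco : (Nat.card T).Coprime (Nat.card ↥(U ⊔ c)) :=
      ((hcoAZ.coprime_dvd_left (Subgroup.card_dvd_of_le hUc)).coprime_dvd_right
        (Subgroup.card_dvd_of_le hT₀.1)).symm
    have hf := Solv.FrobFix.formula T U c (hG.2.2.2 T fun h => hH.1 (eq_top_iff.2 (h ▸ hT.le))) hnT hcU hfpf hco
    rw [h0] at hf
    have h1 : T ⊓ Subgroup.centralizer ((U ⊔ c : Subgroup G) : Set G) = ⊥ :=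
      le_bot_iff.1 (h0 ▸ inf_le_inf_left T (centralizer_le_of_le le_sup_right))
    rw [h1, Subgroup.card_bot, one_pow, one_mul, one_mul] at hf
    refine Subgroup.le_centralizer_iff.1 fun t ht => ?_
    exact ((Subgroup.eq_of_le_of_card_ge inf_le_left hf.le).ge ht).2
  intro g hg
  have hcg : Nat.card (cj c₀ g⁻¹) = p := by rw [card_cj, hc₀c]
  obtain ⟨a, ha, ha₀, hag⟩ := exists_avoid hA hc₀c hcg
  have ha1 : a ≠ 1 := fun h => ha₀ (h ▸ one_mem _)
  have hga : g * a * g⁻¹ ∈ A := (Subgroup.mem_normalizer_iff.1 hg a).1 ha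
  have hga1 : g * a * g⁻¹ ≠ 1 := fun h => ha1 (conj_eq_one_iff.1 h)
  have hf1 := hfix (Subgroup.zpowers a) (Subgroup.zpowers_le.2 ha) (card_zpowers_elab hAe ha ha1)
    fun h => ha₀ (h ▸ Subgroup.mem_zpowers a)
  have hf2 := hfix (Subgroup.zpowers (g * a * g⁻¹)) (Subgroup.zpowers_le.2 hga)
    (card_zpowers_elab hAe hga hga1) fun h => hag
      ⟨g * a * g⁻¹, h.le (Subgroup.mem_zpowers _), show g⁻¹ * (g * a * g⁻¹) * g⁻¹⁻¹ = a by group⟩
  have hAg : A ≤ Subgroup.normalizer (cj T g : Set G) := by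
    rw [← Fusion.cj_normalizer, ← cj_eq_self hg]
    exact cj_mono hAT g
  have hTg : SylIn r (cj T g) ⊤ := hTtop.cj' (Subgroup.le_normalizer (Subgroup.mem_top g))
  obtain ⟨k, hk, hkT⟩ := rel_of_overgroup hG.2 hyp (not_dvd_sq hrp) (maxInv_of_sylow hTtop hAT)
    (maxInv_of_sylow hTg hAg) (Transit.centralizer_ne_top hG.2 hga1)
    (fun x hx => Subgroup.mem_centralizer_singleton_iff.2
      (congrArg Subtype.val (hAab.is_comm.comm (⟨_, hga⟩ : A) ⟨x, hx⟩)).symm)
    (fun h0 => hf2 (by rw [centralizer_zpowers, inf_comm]; exact h0))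
    (fun h0 => hf1 (by
      refine le_bot_iff.1 fun x hx => ?_
      have hx' : g * x * g⁻¹ ∈ Subgroup.centralizer ({g * a * g⁻¹} : Set G) ⊓ cj T g := by
        refine ⟨Subgroup.mem_centralizer_singleton_iff.2 ?_, ⟨x, hx.1, rfl⟩⟩
        have := Subgroup.mem_centralizer_iff.1 hx.2 a (Subgroup.mem_zpowers a)
        calc g * x * g⁻¹ * (g * a * g⁻¹) = g * (x * a) * g⁻¹ := by group
          _ = g * (a * x) * g⁻¹ := by rw [this]
          _ = g * a * g⁻¹ * (g * x * g⁻¹) := by group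
      rw [h0, Subgroup.mem_bot] at hx'
      exact Subgroup.mem_bot.2 (conj_eq_one_iff.1 hx')))
  have hkH : k ∈ H := hCH (Transit.piCoreOf_le _ hk)
  have hn : k⁻¹ * g ∈ Subgroup.normalizer (T : Set G) := mem_normalizer_of_cj_le (le_of_eq (by
    rw [← cj_cj, hkT, Fusion.cj_cj_inv]))
  simpa using mul_mem hkH (hTN hn)

/-- Factorisation through the centralizer. -/
theorem rel_factor (hG : IsMinSimpleOddOrder G) {A Q H : Subgroup G} (hyp : Hyp (p ^ 2) A) {q : ℕ}
    [hq : Fact q.Prime] (hqp : q ≠ p) (hQ : SylIn q Q ⊤) (hAQ : A ≤ Subgroup.normalizer (Q : Set G))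
    (hH : H ≠ ⊤) (hAH : A ≤ H) (hQH : H ⊓ Q ≠ ⊥) {g : G} (hg : g ∈ Subgroup.normalizer (A : Set G)) (hgH : g ∈ H) :
    ∃ k ∈ piCoreOf (primesNotDvd (p ^ 2)) (Subgroup.centralizer (A : Set G)),
      k⁻¹ * g ∈ Subgroup.normalizer (Q : Set G) := by
  have hAg : A ≤ Subgroup.normalizer (cj Q g : Set G) := by
    rw [← Fusion.cj_normalizer, ← cj_eq_self hg]
    exact cj_mono hAQ g
  obtain ⟨k, hk, hkQ⟩ := rel_of_overgroup hG.2 hyp (not_dvd_sq hqp) (maxInv_of_sylow hQ hAQ)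
    (maxInv_of_sylow (hQ.cj' (Subgroup.le_normalizer (Subgroup.mem_top g))) hAg) hH hAH hQH
    (fun h0 => hQH (by
      have h1 : cj (H ⊓ Q) g = ⊥ := by rw [Fusion.cj_inf, Fusion.cj_eq_self_of_mem hgH, h0]
      exact (Subgroup.map_eq_bot_iff_of_injective _ (MulAut.conj g).injective).1 h1))
  exact ⟨k, hk, mem_normalizer_of_cj_le (le_of_eq (by rw [← cj_cj, hkQ, Fusion.cj_cj_inv]))⟩

/-- An invariant Sylow subgroup for `σ(M)` puts `P` into the derived group of `N(P) ∩ N(Q)`. -/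
theorem pcore (hG : IsMinSimpleOddOrder G) {M P A Q X : Subgroup G} (hM : IsCoatom M) (hP : SylIn p P M)
    (hAP : A ≤ P) (hyp : Hyp (p ^ 2) A) {q : ℕ} [hq : Fact q.Prime] (hqp : q ≠ p) (hσ : q ∈ sigma M)
    (hQ : SylIn q Q M) (hPQ : P ≤ Subgroup.normalizer (Q : Set G)) (hX : X ≠ ⊤)
    (hNX : Subgroup.normalizer (P : Set G) ≤ X) (hXQ : X ⊓ Q ≠ ⊥) :
    P ≤ ⁅Subgroup.normalizer (P : Set G) ⊓ Subgroup.normalizer (Q : Set G),
      Subgroup.normalizer (P : Set G) ⊓ Subgroup.normalizer (Q : Set G)⁆ := by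
  obtain ⟨hQtop, -, hQN⟩ := sigma_sylow hσ hQ
  have hPn : ∀ s : ℕ, s.Prime → s ∣ Nat.card P → s ∣ p ^ 2 := fun s hs hd => by
    obtain ⟨j, hj⟩ := IsPGroup.iff_card.1 hP.isPGroup
    rw [hj] at hd
    rw [(Nat.prime_dvd_prime_iff_eq hs hp.out).1 (hs.dvd_of_dvd_pow hd)]
    exact dvd_pow_self p two_ne_zero
  have hPt : P ≠ ⊤ := fun h => hM.1 (eq_top_iff.2 (h ▸ hP.le))
  have hypP : Hyp (p ^ 2) P := hyp.mono hAP hPt hPn
  set K := piCoreOf (primesNotDvd (p ^ 2)) (Subgroup.centralizer (P : Set G)) with hK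
  set L := Subgroup.normalizer (P : Set G) with hLdef
  set D := L ⊓ Subgroup.normalizer (Q : Set G) with hD
  have hKL : K ≤ L := (Transit.piCoreOf_le _).trans (Subgroup.centralizer_le_normalizer _)
  have hLK : L ≤ Subgroup.normalizer (K : Set G) := Transit.normalizer_le_core hG.2.1 hypP
  have hfac : ∀ g ∈ L, ∃ k ∈ K, k⁻¹ * g ∈ D := fun g hg => by
    obtain ⟨k, hk, hn⟩ := rel_factor hG hypP hqp hQtop hPQ hX (Subgroup.le_normalizer.trans hNX) hXQ hg (hNX hg)
    exact ⟨k, hk, Subgroup.mul_mem L (Subgroup.inv_mem L (hKL hk)) hg, hn⟩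
  haveI : (K.subgroupOf L).Normal := Subgroup.normal_subgroupOf_of_le_normalizer hLK
  set π := QuotientGroup.mk' (K.subgroupOf L) with hπ
  have hsur : (D.subgroupOf L).map π = ⊤ := by
    refine eq_top_iff.2 fun y _ => ?_
    obtain ⟨g, rfl⟩ := QuotientGroup.mk'_surjective _ y
    obtain ⟨k, hk, hd⟩ := hfac g g.2
    refine ⟨⟨k⁻¹ * g, hd.1⟩, hd, QuotientGroup.eq.2 ?_⟩
    show (k⁻¹ * (g : G))⁻¹ * g ∈ K
    rw [show (k⁻¹ * (g : G))⁻¹ * g = (g : G)⁻¹ * k * (g : G)⁻¹⁻¹ by group]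
    exact (Subgroup.mem_normalizer_iff.1 (inv_mem (hLK g.2)) k).1 hk
  -- P is a Sylow subgroup of G
  have hPtop : SylIn p P ⊤ := by
    obtain ⟨S, hS, hPS⟩ := exists_sylIn_ge hP.isPGroup (le_top (a := P))
    suffices S = P from this ▸ hS
    by_contra hne
    have hlt := SylIn.normalizer_growth hPS (Ne.symm hne) hS.isPGroup
    set R := S ⊓ L with hR
    have hRL : R ≤ L := inf_le_right
    have hRp : IsPGroup p R := hS.isPGroup.to_inf_left
    have hdvd : Nat.card R ∣ Nat.card D := by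
      have h1 : Nat.card ((R.subgroupOf L).map π) = Nat.card R := by
        rw [← Subgroup.relIndex_ker (K := R.subgroupOf L) π, QuotientGroup.ker_mk', ← Subgroup.relIndex_bot_left R,
          Subgroup.relIndex_subgroupOf hRL, ← Subgroup.inf_relIndex_right K R, Solv.coprime_inf]
        exact (Nat.coprime_of_dvd fun s hs h1 h2 => (piCoreOf_prime _ s hs h1).2 (by
          obtain ⟨j, hj⟩ := IsPGroup.iff_card.1 hRp
          rw [hj] at h2
          rw [(Nat.prime_dvd_prime_iff_eq hs hp.out).1 (hs.dvd_of_dvd_pow h2)]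
          exact dvd_pow_self p two_ne_zero))
      rw [← h1]
      refine (Subgroup.card_dvd_of_le (hsur.symm ▸ le_top : (R.subgroupOf L).map π ≤ (D.subgroupOf L).map π)).trans ?_
      refine (Subgroup.card_map_dvd _ _).trans ?_
      rw [Solv.card_subgroupOf inf_le_left]
    have hDM : Nat.card D ∣ Nat.card M := Subgroup.card_dvd_of_le (inf_le_right.trans hQN)
    have hle : Nat.card R ≤ Nat.card P := by
      obtain ⟨j, hj⟩ := IsPGroup.iff_card.1 hRp
      obtain ⟨i, hi⟩ := IsPGroup.iff_card.1 hP.isPGroup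
      rw [hj, hi]
      refine Nat.le_of_dvd (pow_pos hp.out.pos i) ?_
      have h1 : p ^ j ∣ p ^ i * P.relIndex M := by
        rw [← hi, ← Subgroup.relIndex_bot_left P, Subgroup.relIndex_mul_relIndex ⊥ P M bot_le hP.le,
          Subgroup.relIndex_bot_left, ← hj]
        exact hdvd.trans hDM
      exact (((Nat.Prime.coprime_iff_not_dvd hp.out).2 hP.not_dvd).pow_left j).dvd_of_dvd_mul_right h1
    exact absurd (Solv.card_lt_of_lt hlt) (not_lt.2 hle)
  obtain ⟨P', hP'⟩ := hPtop.exists_sylow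
  have hPL : P ≤ ⁅L, L⁆ := by
    have := sylow_le_normalizer_derived hG P'
    rwa [hP'] at this
  intro x hx
  have hxL : x ∈ L := Subgroup.le_normalizer hx
  obtain ⟨y, hy, hyx⟩ := (Subgroup.map_subtype_commutator L).ge (hPL hx)
  have h2 : π y ∈ (⁅D.subgroupOf L, D.subgroupOf L⁆ : Subgroup L).map π := by
    rw [Subgroup.map_commutator, hsur]
    have h3 := Subgroup.mem_map_of_mem π hy
    rw [commutator_def, Subgroup.map_commutator] at h3
    exact Subgroup.commutator_mono le_top le_top h3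
  obtain ⟨m, hm, hme⟩ := h2
  have hk : (m : G)⁻¹ * x ∈ K := hyx ▸ (QuotientGroup.eq (s := K.subgroupOf L)).1 hme
  have hmD : (m : G) ∈ ⁅D, D⁆ := by
    have h4 := Subgroup.mem_map_of_mem L.subtype hm
    rw [Subgroup.map_commutator, Subgroup.map_subgroupOf_eq_of_le inf_le_left] at h4
    exact h4
  set k := (m : G)⁻¹ * x with hkdef
  have hcom : Commute x k := Subgroup.mem_centralizer_iff.1 (Transit.piCoreOf_le _ hk) x hx
  have hcop : (orderOf x).Coprime (orderOf k) :=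
    (((hypP.coprime (piCoreOf_prime _)).coprime_dvd_left (Subgroup.orderOf_dvd_natCard P hx)).coprime_dvd_right
      (Subgroup.orderOf_dvd_natCard K hk))
  have hpow : (m : G) ^ orderOf k = x ^ orderOf k := by
    rw [show (m : G) = x * k⁻¹ by rw [hkdef]; group, (hcom.inv_right).mul_pow, inv_pow, pow_orderOf_eq_one,
      inv_one, mul_one]
  obtain ⟨j, hj⟩ := exists_pow_eq_self_of_coprime hcop.symm
  rw [← hj, ← hpow]
  exact pow_mem (pow_mem hmD _) _

end Cfsg.Agent.OddLocal.RankTwo
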