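import Cfsg.Agent.Lib.OddLocal.RankTwoCore

/-!
An elementary abelian subgroup of order `p²` of a maximal subgroup has its centralizer there.
-/

set_option autoImplicit false
set_option linter.style.haveILetI false

namespace Cfsg.Agent.OddLocal.RankTwo

open Cfsg
open Cfsg.Agent.Fusion (SylIn cj cj_cj cj_eq_self cj_mono card_cj isPGroup_cj sylIn_map sylIn_top exists_sylIn_ge
  mem_normalizer_of_cj_le)
open Cfsg.Agent.OddLocal.Uniq
open Cfsg.Agent.OddLocal.Sig
open Cfsg.Agent.OddLocal.Transit (Hyp)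

universe u

variable {G : Type u} [Group G] [Finite G] {p : ℕ} [hp : Fact p.Prime]

omit hp in
theorem cyclic_of_le {X Y : Subgroup G} (h : IsCyclic ↥Y) (hXY : X ≤ Y) : IsCyclic ↥X := by
  haveI := h
  exact isCyclic_of_surjective (Subgroup.subgroupOfEquivOfLe hXY) (Subgroup.subgroupOfEquivOfLe hXY).surjective

/-- The normaliser of `A` fixes a line as soon as the normaliser of an invariant Sylow subgroup does. -/
theorem fix_of_normalizer (hG : IsMinSimpleOddOrder G) {A Q H e : Subgroup G} (hyp : Hyp (p ^ 2) A)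
    (heA : e ≤ A) {q : ℕ} [hq : Fact q.Prime] (hqp : q ≠ p) (hQ : SylIn q Q ⊤)
    (hAQ : A ≤ Subgroup.normalizer (Q : Set G)) (hH : H ≠ ⊤) (hAH : A ≤ H)
    (hNH : Subgroup.normalizer (A : Set G) ≤ H) (hQH : H ⊓ Q ≠ ⊥)
    (hm : ∀ m ∈ Subgroup.normalizer (A : Set G), m ∈ Subgroup.normalizer (Q : Set G) → cj e m = e) :
    Subgroup.normalizer (A : Set G) ≤ Subgroup.normalizer (e : Set G) := by
  intro g hg
  obtain ⟨k, hk, hn⟩ := rel_factor hG hyp hqp hQ hAQ hH hAH hQH hg (hNH hg)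
  have hkC := Transit.piCoreOf_le _ hk
  have hkA := Subgroup.centralizer_le_normalizer _ hkC
  refine mem_normalizer_of_cj_le (le_of_eq ?_)
  have h1 := hm (k⁻¹ * g) (mul_mem (inv_mem hkA) hg) hn
  rw [show g = k * (k⁻¹ * g) by group, ← cj_cj, h1]
  exact cj_eq_self (Subgroup.centralizer_le_normalizer _ (centralizer_le_of_le heA hkC))

omit hp in
/-- A fixed line of a fixed-point-free elementary group has at most one companion. -/
theorem two_lines {A X c₁ c₂ c₃ : Subgroup G} (hA : IsMulCommutative ↥A) (hAX : A ≤ Subgroup.normalizer (X : Set G))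
    (hXc : IsMulCommutative ↥X) (hX : X ⊓ Subgroup.centralizer (A : Set G) = ⊥)
    (h₁ : c₁ ≤ A) (h₂ : c₂ ≤ A) (h₃ : c₃ ≤ A) (h12 : c₁ ⊔ c₂ = A) (h13 : c₁ ⊔ c₃ = A) (h23 : c₂ ⊔ c₃ = A)
    (hsup : X ≤ (X ⊓ Subgroup.centralizer (c₁ : Set G)) ⊔ (X ⊓ Subgroup.centralizer (c₂ : Set G))) :
    X ⊓ Subgroup.centralizer (c₃ : Set G) = ⊥ := by
  have hpair : ∀ {c d : Subgroup G} {x : G}, c ⊔ d = A → x ∈ X → x ∈ Subgroup.centralizer (c : Set G) →
      x ∈ Subgroup.centralizer (d : Set G) → x = 1 := fun {c d x} h hx hc hd => by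
    refine Subgroup.mem_bot.1 (hX ▸ Subgroup.mem_inf.2 ⟨hx, ?_⟩)
    have h' : A ≤ Subgroup.centralizer ({x} : Set G) := h ▸ sup_le
      (fun y hy => Subgroup.mem_centralizer_singleton_iff.2 (Subgroup.mem_centralizer_iff.1 hc y hy))
      (fun y hy => Subgroup.mem_centralizer_singleton_iff.2 (Subgroup.mem_centralizer_iff.1 hd y hy))
    exact Subgroup.mem_centralizer_iff.2 fun y hy => Subgroup.mem_centralizer_singleton_iff.1 (h' hy)
  refine (Subgroup.eq_bot_iff_forall _).2 fun x hx => ?_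
  obtain ⟨hxX, hx3⟩ := Subgroup.mem_inf.1 hx
  set z₁ := X ⊓ Subgroup.centralizer (c₁ : Set G) with hz₁
  set z₂ := X ⊓ Subgroup.centralizer (c₂ : Set G) with hz₂
  have hn : z₂ ≤ Subgroup.normalizer (z₁ : Set G) := fun y hy => Subgroup.centralizer_le_normalizer _
    (Subgroup.mem_centralizer_iff.2 fun w hw =>
      congrArg Subtype.val (hXc.is_comm.comm (⟨w, (Subgroup.mem_inf.1 hw).1⟩ : X) ⟨y, (Subgroup.mem_inf.1 hy).1⟩))
  have hx12 := hsup hxX
  rw [← SetLike.mem_coe, Subgroup.coe_mul_of_right_le_normalizer_left _ _ hn] at hx12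
  obtain ⟨x₁, hx1, x₂, hx2, rfl⟩ := hx12
  have hfix : x₁ ∈ Subgroup.centralizer (c₃ : Set G) := by
    refine Subgroup.mem_centralizer_iff.2 fun a ha => ?_
    have e1 := normalizes_fixed hA hAX h₁ (h₃ ha)
    have e2 := normalizes_fixed hA hAX h₂ (h₃ ha)
    have m1 : x₁⁻¹ * (a * x₁ * a⁻¹) ∈ z₁ := mul_mem (inv_mem hx1) ((Subgroup.mem_normalizer_iff.1 e1 _).1 hx1)
    have m2 : x₂ * (a * x₂ * a⁻¹)⁻¹ ∈ z₂ := mul_mem hx2 (inv_mem ((Subgroup.mem_normalizer_iff.1 e2 _).1 hx2))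
    have e : x₁⁻¹ * (a * x₁ * a⁻¹) = x₂ * (a * x₂ * a⁻¹)⁻¹ := by
      have hax : a * (x₁ * x₂) * a⁻¹ = x₁ * x₂ := by
        rw [Subgroup.mem_centralizer_iff.1 hx3 a ha]; group
      calc x₁⁻¹ * (a * x₁ * a⁻¹) = x₁⁻¹ * (a * (x₁ * x₂) * a⁻¹) * (a * x₂ * a⁻¹)⁻¹ := by group
        _ = x₂ * (a * x₂ * a⁻¹)⁻¹ := by rw [hax]; group
    rw [← e] at m2
    have h0 := hpair h12 (Subgroup.mem_inf.1 m1).1 (Subgroup.mem_inf.1 m1).2 (Subgroup.mem_inf.1 m2).2
    exact mul_inv_eq_iff_eq_mul.1 (inv_mul_eq_one.1 h0).symm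
  have h1 : x₁ = 1 := hpair h13 (Subgroup.mem_inf.1 hx1).1 (Subgroup.mem_inf.1 hx1).2 hfix
  subst h1
  simp only [one_mul] at hx3 hxX ⊢
  exact hpair h23 hxX (Subgroup.mem_inf.1 hx2).2 hx3

omit hp in
theorem mem_normalizer_of_sq (hG : IsMinSimpleOddOrder G) {X : Subgroup G} {m : G}
    (h : m * m ∈ Subgroup.normalizer (X : Set G)) : m ∈ Subgroup.normalizer (X : Set G) := by
  obtain ⟨j, hj⟩ := hG.1.of_dvd_nat (orderOf_dvd_natCard m)
  have e : (m * m) ^ (j + 1) = m := by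
    rw [← pow_two, ← pow_mul, show 2 * (j + 1) = orderOf m + 1 by omega, pow_succ, pow_orderOf_eq_one, one_mul]
  exact e ▸ pow_mem h _

section

variable {M A : Subgroup G}

/-- `e` is a line of `A` whose normaliser lies in `M` only. -/
def Good (p : ℕ) (M A e : Subgroup G) : Prop :=
  e ≤ A ∧ Nat.card e = p ∧ ∀ L : Subgroup G, IsCoatom L → Subgroup.normalizer (e : Set G) ≤ L → L = M

theorem Good.normalizer_le (hG : IsMinSimpleOddOrder G) {e : Subgroup G} (h : Good p M A e) :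
    Subgroup.normalizer (e : Set G) ≤ M := by
  obtain ⟨L, hL, hNL⟩ := exists_coatom _ (normalizer_pgroup_ne_top hG (isPGroup_of_card h.2.1) (ne_bot_of_card h.2.1))
  exact h.2.2 L hL hNL ▸ hNL

theorem Good.centralizer_le (hG : IsMinSimpleOddOrder G) {e : Subgroup G} (h : Good p M A e) :
    Subgroup.centralizer (A : Set G) ≤ M :=
  ((centralizer_le_of_le h.1).trans (Subgroup.centralizer_le_normalizer _)).trans (h.normalizer_le hG)

theorem exists_bad (hno : ∀ e : Subgroup G, ¬ Good p M A e) {e : Subgroup G} (he : e ≤ A)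
    (hec : Nat.card e = p) : ∃ H : Subgroup G, IsCoatom H ∧ Subgroup.normalizer (e : Set G) ≤ H ∧ H ≠ M := by
  by_contra h
  push Not at h
  exact hno e ⟨he, hec, h⟩

variable (hG : IsMinSimpleOddOrder G) (hM : IsCoatom M) (hAM : A ≤ M) (hAe : IsElementaryAbelian p A)
  (hA : Nat.card A = p ^ 2) (hfull : ∀ x ∈ Subgroup.centralizer (A : Set G), x ^ p = 1 → x ∈ A)
  (hyp : Hyp (p ^ 2) A) (hno : ∀ e : Subgroup G, ¬ Good p M A e)

include hA hAe in
theorem exists_fixed_line {q : ℕ} [hq : Fact q.Prime] (hqp : q ≠ p) {X : Subgroup G} (hXq : IsPGroup q X)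
    (hX1 : X ≠ ⊥) (hAX : A ≤ Subgroup.normalizer (X : Set G)) :
    ∃ e : Subgroup G, e ≤ A ∧ Nat.card e = p ∧ X ⊓ Subgroup.centralizer (e : Set G) ≠ ⊥ := by
  by_contra hno'
  push Not at hno'
  refine hX1 (le_bot_iff.1 ((Solv.gen_eq A X hAe.1 hAX
    (coprime_pgroup hqp hXq (Fusion.elab_isPGroup hAe)).symm).ge.trans (iSup₂_le fun B hB => ?_)))
  obtain ⟨b, hbB, hb1⟩ := exists_ne_one (X := B) fun h0 => by
    have hle := Fusion.card_le_mul_of_cycQuot hAe hB
    rw [h0, Subgroup.card_bot, mul_one, hA, pow_two] at hle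
    have : p * 2 ≤ p * p := Nat.mul_le_mul_left p hp.out.two_le
    have := hp.out.two_le
    omega
  exact (inf_le_inf_left _ (centralizer_le_of_le (Subgroup.zpowers_le.2 hbB))).trans
    (hno' _ (Subgroup.zpowers_le.2 (hB.1 hbB)) (card_zpowers_elab hAe (hB.1 hbB) hb1)).le

include hG hM hAM hAe hA hfull hyp hno in
/-- Some line is good if the `α`-core is nontrivial. -/
theorem stage_alpha (hpα : p ∉ alpha M) (hα1 : alphaCore M ≠ ⊥) : False := by
  have hAab : IsMulCommutative ↥A := hAe.1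
  have hrank : ∀ c : Subgroup G, c ≤ A → Nat.card c = p →
      RankLE 1 ↥(alphaCore M ⊓ Subgroup.centralizer (c : Set G)) := by
    intro c hcA hcc
    by_contra hr
    obtain ⟨M', -, hu⟩ := centralizer_unique hG hM (hcA.trans hAM) (fun r hr hd => by
      rw [hcc] at hd
      rw [(Nat.prime_dvd_prime_iff_eq hr hp.out).1 hd]; exact hpα) hr
    exact hno c ⟨hcA, hcc, fun L hL hNL =>
      (hu L ⟨hL, (inf_le_right.trans (Subgroup.centralizer_le_normalizer _)).trans hNL⟩).trans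
        (hu M ⟨hM, inf_le_left⟩).symm⟩
  obtain ⟨q, hq, hqd⟩ := Nat.exists_prime_and_dvd (fun h => hα1 (Subgroup.card_eq_one.1 h))
  haveI := Fact.mk hq
  have hall := (alphaCore_hall hG hM).1
  have hqα := hall.2.1 q hq hqd
  have hqp : q ≠ p := fun h => hpα (h ▸ hqα)
  have hq2 : q ≠ 2 := by
    rintro rfl
    exact Nat.not_even_iff_odd.2 hG.1 (even_iff_two_dvd.2 (hqd.trans (Subgroup.card_subgroup_dvd_card _)))
  obtain ⟨P, hP, hAP⟩ := exists_sylIn_ge (Fusion.elab_isPGroup hAe) hAM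
  have hαM : alphaCore M ≤ M := Subgroup.map_subtype_le _
  have hco : (Nat.card P).Coprime (Nat.card (alphaCore M)) := Nat.coprime_of_dvd fun r hr h1 h2 => by
    obtain ⟨j, hj⟩ := IsPGroup.iff_card.1 hP.isPGroup
    rw [hj] at h1
    exact hpα ((Nat.prime_dvd_prime_iff_eq hr hp.out).1 (hr.dvd_of_dvd_pow h1) ▸ hall.2.1 r hr h2)
  obtain ⟨Q, hQ₀, hPQ⟩ := Solv.exists_invariant_sylow (hP.le.trans le_normalizer_piCoreOf) hco
    (Or.inl (hG.2.2.2 P fun h => hM.1 (eq_top_iff.2 (h ▸ hP.le)))) q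
  have hQα : Q ≤ alphaCore M := hQ₀.1
  have hQ : SylIn q Q M := ⟨hQα.trans hαM, hQ₀.isPGroup, by
    rw [← Subgroup.relIndex_mul_relIndex Q (alphaCore M) M hQα hαM]
    exact hq.prime.not_dvd_mul (sylIn_of_isSylIn hQ₀).not_dvd (hall.2.2 q hq hqα)⟩
  have hqσ : q ∈ sigma M := alpha_subset_sigma hG hM hqα
  obtain ⟨hQtop, -, hQN⟩ := sigma_sylow hqσ hQ
  have hAQ : A ≤ Subgroup.normalizer (Q : Set G) := hAP.trans hPQ
  obtain ⟨F, hFQ, hFe, hF⟩ : ∃ F : Subgroup G, F ≤ Q ∧ IsElementaryAbelian q F ∧ q ^ 3 ≤ Nat.card F := by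
    obtain ⟨F, hFM, hFe, hF⟩ := exists_elab_of_prank hqα.2
    obtain ⟨x, -, hxQ⟩ := hQ.conj_le (Fusion.elab_isPGroup hFe) hFM
    exact ⟨cj F x, hxQ, ⟨haveI := hFe.1; Subgroup.map_isMulCommutative F _, by
      rintro _ ⟨f, hf, rfl⟩; rw [← map_pow, hFe.2 f hf, map_one]⟩, by rw [card_cj]; exact hF⟩
  have hQnc : ¬ IsCyclic ↥Q := fun h => noncyclic_of_card hFe
    ((Nat.pow_le_pow_right hq.pos (by omega)).trans hF) (cyclic_of_le h hFQ)
  have hQu : ∀ L : Subgroup G, IsCoatom L → Q ≤ L → L = M := fun L hL hQL => by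
    obtain ⟨M', -, hu⟩ := rank_three_iu hG hFe hF
    exact (hu L ⟨hL, hFQ.trans hQL⟩).trans (hu M ⟨hM, hFQ.trans hQ.le⟩).symm
  have hcyc : ∀ c : Subgroup G, c ≤ A → Nat.card c = p →
      IsCyclic ↥(Q ⊓ Subgroup.centralizer (c : Set G)) := fun c hcA hcc => by
    by_contra h
    obtain ⟨E, hE, hEe, hEc⟩ := exists_elab_noncyclic hq2 (hQ.isPGroup.to_inf_left) h
    exact not_prankLE_of_elab (hE.trans (inf_le_inf_right _ hQα)) hEe hEc (hrank c hcA hcc q hq)
  have hCQ : Q ⊓ Subgroup.centralizer (A : Set G) = ⊥ := by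
    by_contra hne
    obtain ⟨x, hx, hx1⟩ := exists_ne_one hne
    obtain ⟨j, hj⟩ := IsPGroup.iff_orderOf.1 (hQ.isPGroup.to_inf_left) ⟨x, hx⟩
    rw [Subgroup.orderOf_mk] at hj
    have hj0 : j ≠ 0 := fun h => hx1 (orderOf_eq_one_iff.1 (by rw [hj, h, pow_zero]))
    obtain ⟨w, hwz, hwo⟩ : ∃ w ∈ Subgroup.zpowers x, orderOf w = q :=
      ⟨x ^ q ^ (j - 1), pow_mem (Subgroup.mem_zpowers x) _, by
        rw [orderOf_pow' _ (pow_ne_zero _ hq.ne_zero), hj, Nat.gcd_eq_right (pow_dvd_pow q (Nat.sub_le _ _)),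
          Nat.pow_div (Nat.sub_le _ _) hq.pos, show j - (j - 1) = 1 by omega, pow_one]⟩
    obtain ⟨U, hUQ, hUe, hUc, hUn⟩ := exists_omega_sq hq2 hQ.isPGroup hQnc
    have hwQ : w ∈ Q ⊓ Subgroup.centralizer (A : Set G) := Subgroup.zpowers_le.2 hx hwz
    have hUw : U ≤ Subgroup.zpowers w := by
      refine (Solv.gen_eq A U hAab (hAQ.trans hUn)
        (coprime_pgroup hqp (hQ.isPGroup.to_le hUQ) (Fusion.elab_isPGroup hAe)).symm).ge.trans
        (iSup₂_le fun B hB => ?_)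
      obtain ⟨b, hbB, hb1⟩ := exists_ne_one (X := B) fun h0 => by
        have hle := Fusion.card_le_mul_of_cycQuot hAe hB
        rw [h0, Subgroup.card_bot, mul_one, hA, pow_two] at hle
        have : p * 2 ≤ p * p := Nat.mul_le_mul_left p hp.out.two_le
        have := hp.out.two_le
        omega
      intro y hy
      obtain ⟨hyU, hyB⟩ := Subgroup.mem_inf.1 hy
      by_cases hy1 : y = 1
      · rw [hy1]; exact one_mem _
      have hbA : Subgroup.zpowers b ≤ A := Subgroup.zpowers_le.2 (hB.1 hbB)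
      rw [← cyclic_eq (p := q) (hcyc _ hbA (card_zpowers_elab hAe (hB.1 hbB) hb1))
        (Subgroup.zpowers_le.2 ⟨hUQ hyU, centralizer_le_of_le (Subgroup.zpowers_le.2 hbB) hyB⟩)
        (Subgroup.zpowers_le.2 ⟨hwQ.1, centralizer_le_of_le hbA hwQ.2⟩)
        (by rw [Nat.card_zpowers]; exact orderOf_eq_prime (hUe y hyU) hy1) (by rw [Nat.card_zpowers, hwo])]
      exact Subgroup.mem_zpowers y
    have := hUc.trans (Subgroup.card_le_of_le hUw)
    rw [Nat.card_zpowers, hwo, pow_two] at this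
    have : q * 2 ≤ q * q := Nat.mul_le_mul_left q hq.two_le
    have := hq.two_le
    omega
  set Z₁ := omz q Q with hZ₁
  have hZ₁Q : Z₁ ≤ Q := omz_le Q
  have hQ1 : Q ≠ ⊥ := fun h => hQnc (by rw [h]; infer_instance)
  have hAZ₁ : A ≤ Subgroup.normalizer (Z₁ : Set G) := hAQ.trans (normalizer_le_omz Q)
  obtain ⟨e, heA, hec, hz1⟩ := exists_fixed_line hAe hA hqp (hQ.isPGroup.to_le hZ₁Q)
    (omz_ne_bot hQ.isPGroup hQ1) hAZ₁
  set z := Z₁ ⊓ Subgroup.centralizer (e : Set G) with hz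
  have hzQ : z ≤ Q := inf_le_left.trans hZ₁Q
  have hzcyc : IsCyclic ↥z := cyclic_of_le (hcyc e heA hec) (le_inf hzQ inf_le_right)
  have hAz : A ≤ Subgroup.normalizer (z : Set G) := normalizes_fixed hAab hAZ₁ heA
  have hzA : z ⊓ Subgroup.centralizer (A : Set G) = ⊥ :=
    le_bot_iff.1 ((inf_le_inf_right _ hzQ).trans hCQ.le)
  have hCw : ∀ w ∈ Z₁, w ≠ 1 → Subgroup.centralizer ({w} : Set G) ≤ M := fun w hw hw1 =>
    iu_le hQu (fun y hy => Subgroup.mem_centralizer_singleton_iff.2 (Subgroup.mem_centralizer_iff.1 hw.2.1 y hy))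
      (Transit.centralizer_ne_top hG.2 hw1)
  have hCz : Subgroup.centralizer (z : Set G) ≤ M := by
    obtain ⟨w, hw, hw1⟩ := exists_ne_one hz1
    exact (Subgroup.centralizer_le (Set.singleton_subset_iff.2 hw)).trans (hCw w hw.1 hw1)
  obtain ⟨H, hH, hNe, hHM⟩ := exists_bad hno heA hec
  have hCe : Subgroup.centralizer (e : Set G) ≤ H := (Subgroup.centralizer_le_normalizer _).trans hNe
  have hAH : A ≤ H := fun a ha => hCe (Subgroup.mem_centralizer_iff.2 fun y hy =>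
    congrArg Subtype.val (hAab.is_comm.comm (⟨y, heA hy⟩ : A) ⟨a, ha⟩))
  have hCH : Subgroup.centralizer (A : Set G) ≤ H := (centralizer_le_of_le heA).trans hCe
  have hzH : z ≤ H := inf_le_right.trans hCe
  have hzq : IsPGroup q z := hQ.isPGroup.to_le hzQ
  have hcop := (coprime_pgroup hqp hzq (Fusion.elab_isPGroup hAe)).symm
  have hNA := core hG hH hM hHM hyp hAe hA hAH hCH hqp hzq hAz hzH
    (le_commutator_of_fixed hAab hAz hcop hzA hzH hAH) hzA hCz fun S hS hzS _ => by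
      obtain ⟨h1, h2⟩ := normalizer_le_of_centralizer hG hqσ hM hzS hS hz1 (hzQ.trans hQ.le) hCz
      exact ⟨h1, inf_le_right.trans h2⟩
  have hHQ : H ⊓ Q ≠ ⊥ := fun h0 => hz1 (le_bot_iff.1 ((le_inf hzH hzQ).trans h0.le))
  have hfix : Subgroup.normalizer (A : Set G) ≤ Subgroup.normalizer (e : Set G) := by
    refine fix_of_normalizer hG hyp heA hqp hQtop hAQ hH.1 hAH hNA hHQ fun m hmA hmQ => ?_
    by_contra hne
    have hemA : cj e m ≤ A := (cj_mono heA m).trans (cj_eq_self hmA).le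
    have hemc : Nat.card (cj e m) = p := by rw [card_cj, hec]
    have hzm : cj z m ≤ Z₁ := (cj_mono inf_le_left m).trans (cj_eq_self (normalizer_le_omz Q hmQ)).le
    have hB : z ⊔ cj z m ≤ Z₁ := sup_le inf_le_left hzm
    have hBe : IsElementaryAbelian q (z ⊔ cj z m : Subgroup G) := elab_mono (omz_elab Q) hB
    have hlt : z < z ⊔ cj z m := lt_of_le_of_ne le_sup_left fun h => hz1 (le_bot_iff.1 (by
      have h1 : z = cj z m := (Subgroup.eq_of_le_of_card_ge (le_of_le_of_eq le_sup_right h.symm)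
        (by rw [card_cj])).symm
      refine le_trans (le_inf le_rfl ?_) hzA.le
      refine Subgroup.le_centralizer_iff.1 ?_
      rw [← line_sup hA heA hemA hec hemc hne]
      refine sup_le (Subgroup.le_centralizer_iff.1 inf_le_right) (Subgroup.le_centralizer_iff.1 ?_)
      rw [h1, ← Fusion.cj_centralizer]
      exact cj_mono inf_le_right m))
    have hnc : ¬ IsCyclic ↥(z ⊔ cj z m : Subgroup G) := by
      refine noncyclic_of_card hBe ?_
      obtain ⟨i, hi⟩ := IsPGroup.iff_card.1 hzq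
      obtain ⟨l, hl⟩ := IsPGroup.iff_card.1 (Fusion.elab_isPGroup hBe)
      have h1 := Solv.card_lt_of_lt hlt
      rw [hi, hl] at h1
      have h2 := (Nat.pow_lt_pow_iff_right hq.one_lt).1 h1
      have hi0 : i ≠ 0 := fun h => hz1 (Subgroup.card_eq_one.1 (by rw [hi, h, pow_zero]))
      rw [hl]
      exact Nat.pow_le_pow_right hq.pos (by omega)
    obtain ⟨M', -, hu⟩ := elementary_criterion hG hM ((hB.trans hZ₁Q).trans hQ.le) hBe hnc
      (Or.inl fun b hb hb1 => hCw b (hB hb) hb1)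
    refine hHM ((hu H ⟨hH, sup_le hzH ?_⟩).trans (hu M ⟨hM, (hB.trans hZ₁Q).trans hQ.le⟩).symm)
    exact (cj_mono hzH m).trans (Fusion.cj_eq_self_of_mem (hNA hmA)).le
  have hPe := char_line hP.isPGroup hAP hAe hA hfull heA hec hfix
  have hPD := pcore hG hM hP hAP hyp hqp hqσ hQ hPQ hH.1 (hPe.trans hNe) hHQ
  have hDz : Subgroup.normalizer (P : Set G) ⊓ Subgroup.normalizer (Q : Set G) ≤
      Subgroup.normalizer (z : Set G) := fun g hg => mem_normalizer_of_cj_le (by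
    rw [hz, Fusion.cj_inf, cj_eq_self (normalizer_le_omz Q hg.2), Fusion.cj_centralizer, cj_eq_self (hPe hg.1)])
  have hzAc : A ≤ Subgroup.centralizer (z : Set G) :=
    hAP.trans (hPD.trans (commutator_le_centralizer hzcyc hDz))
  exact hz1 (le_bot_iff.1 ((le_inf le_rfl (Subgroup.le_centralizer_iff.1 hzAc)).trans hzA.le))

include hG hM hAM hAe hA hfull hyp hno in
/-- Some line is good if the `α`-core is trivial and `p` lies outside `σ(M)`. -/
theorem stage_trivial (hα : alphaCore M = ⊥) (hpσ : p ∉ sigma M) : False := by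
  have hAab : IsMulCommutative ↥A := hAe.1
  have hnil := derived_nilpotent hG hM hα
  have hM1 : M ≠ ⊥ := fun h => by
    have h1 := Subgroup.card_le_of_le hAM
    rw [hA, h, Subgroup.card_bot] at h1
    exact absurd h1 (not_le.2 (Nat.one_lt_pow two_ne_zero hp.out.one_lt))
  have hnα : ∀ r : ℕ, r.Prime → PRankLE r 2 ↥M := fun r hr => by
    haveI := Fact.mk hr
    by_contra h
    obtain ⟨F, hFM, hFe, hF⟩ := exists_elab_of_prank h
    have h1 := Subgroup.card_le_of_le (le_of_hall (alphaCore_hall hG hM).1 le_normalizer_piCoreOf hFM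
      (piNum_of_pgroup (Fusion.elab_isPGroup hFe) (show r ∈ alpha M from ⟨hr, h⟩)))
    rw [hα, Subgroup.card_bot] at h1
    exact absurd (hF.trans h1) (not_le.2 (Nat.one_lt_pow (by omega) hr.one_lt))
  obtain ⟨q, hq, hqσ⟩ := exists_sigma_of_alpha_trivial hG hM hM1 hnα
  haveI := Fact.mk hq
  have hqp : q ≠ p := fun h => hpσ (h ▸ hqσ)
  have hq2 : q ≠ 2 := by
    rintro rfl
    exact Nat.not_even_iff_odd.2 hG.1 (even_iff_two_dvd.2 (hqσ.2.1.trans (Subgroup.card_subgroup_dvd_card _)))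
  obtain ⟨P, hP, hAP⟩ := exists_sylIn_ge (Fusion.elab_isPGroup hAe) hAM
  obtain ⟨T₀⟩ : Nonempty (Sylow q ↥M) := inferInstance
  set Q := (T₀ : Subgroup ↥M).map M.subtype with hQdef
  have hQ : SylIn q Q M := sylIn_map M T₀
  have hQd : Q ≤ ⁅M, M⁆ := Subgroup.map_subtype_commutator M ▸
    Subgroup.map_mono (sylow_le_derived hG hM hqσ T₀)
  have hMd : ⁅M, M⁆ ≤ M := Subgroup.map_subtype_commutator M ▸ Subgroup.map_subtype_le _
  have hMQ : M ≤ Subgroup.normalizer (Q : Set G) := sylow_derived_normal hnil (hQ.mono hQd hMd)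
  obtain ⟨hQtop, -, -⟩ := sigma_sylow hqσ hQ
  have hQ1 : Q ≠ ⊥ := by
    intro h
    exact hQ.not_dvd (by rw [h, Subgroup.relIndex_bot_left]; exact hqσ.2.1)
  have hAQ : A ≤ Subgroup.normalizer (Q : Set G) := hAM.trans hMQ
  have hfinish : ∀ X : Subgroup G, X ≠ ⊤ → Subgroup.normalizer (P : Set G) ≤ X → X ⊓ Q ≠ ⊥ → False := by
    intro X hX hNX hXQ
    have hD := pcore hG hM hP hAP hyp hqp hqσ hQ (hP.le.trans hMQ) hX hNX hXQ
    have hPd : P ≤ ⁅M, M⁆ := hD.trans (by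
      have hDM : Subgroup.normalizer (P : Set G) ⊓ Subgroup.normalizer (Q : Set G) ≤ M :=
        inf_le_right.trans (sigma_sylow hqσ hQ).2.2
      exact Subgroup.commutator_mono hDM hDM)
    have hMP : M ≤ Subgroup.normalizer (P : Set G) := sylow_derived_normal hnil (hP.mono hPd hMd)
    have hP1 : P ≠ ⊥ := fun h => by
      have h1 := Subgroup.card_le_of_le hAP
      rw [hA, h, Subgroup.card_bot] at h1
      exact absurd h1 (not_le.2 (Nat.one_lt_pow two_ne_zero hp.out.one_lt))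
    obtain ⟨T, hT⟩ := exists_sylow hP
    refine hpσ ⟨hp.out, (dvd_pow_self p two_ne_zero).trans (hA ▸ Subgroup.card_dvd_of_le hAM), T, ?_⟩
    rw [hT]
    exact (normalizer_eq_coatom hG hM hP1 hP.le hMP).le
  by_cases hqC : q ∣ Nat.card (Subgroup.centralizer (A : Set G))
  · -- transitivity puts fixed points into Q
    obtain ⟨⟨c, hcA⟩, hc⟩ := exists_prime_orderOf_dvd_card' q hqC
    rw [Subgroup.orderOf_mk] at hc
    have hcq : IsPGroup q ↥(Subgroup.zpowers c) :=
      IsPGroup.of_card (n := 1) (by rw [Nat.card_zpowers, hc, pow_one])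
    obtain ⟨Qc, hcQ, mc⟩ := Cfsg.Agent.S1480.exists_max (E := A) (Subgroup.zpowers c) hcq
      ((Subgroup.le_centralizer_iff.1 (Subgroup.zpowers_le.2 hcA)).trans (Subgroup.centralizer_le_normalizer _))
    obtain ⟨k, hk, hkQ⟩ := Transit.rel_rank_two hG.2 hyp (not_dvd_sq hqp) hqC (fun h => by
      have hle : A ≤ A ⊓ Subgroup.centralizer (A : Set G) := le_inf le_rfl fun a ha =>
        Subgroup.mem_centralizer_iff.2 fun b hb =>
          congrArg Subtype.val (hAab.is_comm.comm (⟨b, hb⟩ : A) ⟨a, ha⟩)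
      exact not_prankLE_of_elab hle hAe hA.ge (h p hp.out)) mc (maxInv_of_sylow hQtop hAQ)
    have hkC := Transit.piCoreOf_le _ hk
    have hx : k * c * k⁻¹ ∈ Q ⊓ Subgroup.centralizer (A : Set G) :=
      ⟨hkQ ▸ ⟨c, hcQ (Subgroup.mem_zpowers c), rfl⟩,
        Subgroup.mul_mem _ (Subgroup.mul_mem _ hkC hcA) (Subgroup.inv_mem _ hkC)⟩
    refine hfinish (Subgroup.normalizer (omz p P : Set G)) ?_ (normalizer_le_omz P) fun h0 => ?_
    · refine normalizer_pgroup_ne_top hG (hP.isPGroup.to_le (omz_le P)) (omz_ne_bot hP.isPGroup fun h => ?_)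
      have h1 := Subgroup.card_le_of_le hAP
      rw [hA, h, Subgroup.card_bot] at h1
      exact absurd h1 (not_le.2 (Nat.one_lt_pow two_ne_zero hp.out.one_lt))
    · have hZA : omz p P ≤ A := fun x hx => hfull x (centralizer_le_of_le hAP hx.2.1) hx.2.2
      have h1 : k * c * k⁻¹ ∈ Subgroup.normalizer (omz p P : Set G) ⊓ Q :=
        ⟨Subgroup.centralizer_le_normalizer _ (centralizer_le_of_le hZA hx.2), hx.1⟩
      rw [h0, Subgroup.mem_bot, conj_eq_one_iff] at h1
      rw [h1, orderOf_one] at hc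
      exact hq.ne_one hc.symm
  have hCQ : Q ⊓ Subgroup.centralizer (A : Set G) = ⊥ := by
    refine Solv.coprime_inf ?_
    obtain ⟨i, hi⟩ := IsPGroup.iff_card.1 hQ.isPGroup
    rw [hi]
    exact ((Nat.Prime.coprime_iff_not_dvd hq).2 hqC).pow_left i
  set X := omz q Q with hXdef
  have hXQ : X ≤ Q := omz_le Q
  have hX1 : X ≠ ⊥ := omz_ne_bot hQ.isPGroup hQ1
  have hMX : M ≤ Subgroup.normalizer (X : Set G) := hMQ.trans (normalizer_le_omz Q)
  have hAX : A ≤ Subgroup.normalizer (X : Set G) := hAM.trans hMX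
  have hXA : X ⊓ Subgroup.centralizer (A : Set G) = ⊥ := le_bot_iff.1 ((inf_le_inf_right _ hXQ).trans hCQ.le)
  have hCX : Subgroup.centralizer (X : Set G) ≤ M := (Subgroup.centralizer_le_normalizer _).trans
    (normalizer_eq_coatom hG hM hX1 (hXQ.trans hQ.le) hMX).le
  have hXq : IsPGroup q X := hQ.isPGroup.to_le hXQ
  have hXcard : Nat.card X ≤ q ^ 2 := by
    have h := hnα q hq (X.subgroupOf M) ⟨⟨fun u v => Subtype.ext (Subtype.ext (Subgroup.mem_centralizer_iff.1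
      v.2.2.1 u.1.1 u.2.1))⟩⟩ (fun a ha => Subtype.ext ha.2.2)
    rwa [Solv.card_subgroupOf (hXQ.trans hQ.le)] at h
  have hXc : IsMulCommutative ↥X := (omz_elab Q).1
  obtain ⟨e, heA, hec, hz1⟩ := exists_fixed_line hAe hA hqp hXq hX1 hAX
  set z := X ⊓ Subgroup.centralizer (e : Set G) with hz
  obtain ⟨H, hH, hNe, hHM⟩ := exists_bad hno heA hec
  have hCe : Subgroup.centralizer (e : Set G) ≤ H := (Subgroup.centralizer_le_normalizer _).trans hNe
  have hAH : A ≤ H := fun a ha => hCe (Subgroup.mem_centralizer_iff.2 fun y hy =>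
    congrArg Subtype.val (hAab.is_comm.comm (⟨y, heA hy⟩ : A) ⟨a, ha⟩))
  have hCH : Subgroup.centralizer (A : Set G) ≤ H := (centralizer_le_of_le heA).trans hCe
  have hzH : z ≤ H := inf_le_right.trans hCe
  have hzX : z ≤ X := inf_le_left
  have hzq : IsPGroup q z := hXq.to_le hzX
  have hAz : A ≤ Subgroup.normalizer (z : Set G) := normalizes_fixed hAab hAX heA
  have hHQ : H ⊓ Q ≠ ⊥ := fun h0 => hz1 (le_bot_iff.1 ((le_inf hzH (hzX.trans hXQ)).trans h0.le))
  have hNA : Subgroup.normalizer (A : Set G) ≤ H := by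
    by_cases hXH : X ≤ H
    · refine core hG hH hM hHM hyp hAe hA hAH hCH hqp hXq hAX hXH
        (le_commutator_of_fixed hAab hAX (coprime_pgroup hqp hXq (Fusion.elab_isPGroup hAe)).symm hXA hXH hAH)
        hXA hCX fun S hS hXS _ => ?_
      obtain ⟨h1, h2⟩ := normalizer_le_of_centralizer hG hqσ hM hXS hS hX1 (hXQ.trans hQ.le) hCX
      exact ⟨h1, inf_le_right.trans h2⟩
    have hzlt : z < X := lt_of_le_of_ne hzX fun h => hXH (h ▸ hzH)
    obtain ⟨i, hi⟩ := IsPGroup.iff_card.1 hzq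
    obtain ⟨l, hl⟩ := IsPGroup.iff_card.1 hXq
    have hil : i < l := (Nat.pow_lt_pow_iff_right hq.one_lt).1 (hi ▸ hl ▸ Solv.card_lt_of_lt hzlt)
    have hl2 : l ≤ 2 := (Nat.pow_le_pow_iff_right hq.one_lt).1 (hl ▸ hXcard)
    have hi0 : i ≠ 0 := fun h => hz1 (Subgroup.card_eq_one.1 (by rw [hi, h, pow_zero]))
    have hzc : Nat.card z = q := by rw [hi, show i = 1 by omega, pow_one]
    have hzA : z ⊓ Subgroup.centralizer (A : Set G) = ⊥ := le_bot_iff.1 ((inf_le_inf_right _ hzX).trans hXA.le)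
    obtain ⟨L₂, hL₂, hNz⟩ := exists_coatom _ (normalizer_pgroup_ne_top hG hzq hz1)
    have hXz : X ≤ Subgroup.centralizer (z : Set G) :=
      (hXQ.trans (omz_centralizer Q)).trans (centralizer_le_of_le hzX)
    have hCL : Subgroup.centralizer (z : Set G) ≤ L₂ := (Subgroup.centralizer_le_normalizer _).trans hNz
    have hHL : H ≠ L₂ := fun h => hXH (h ▸ hXz.trans hCL)
    set O := piCoreOf (primesNotDvd (p ^ 2)) H with hO
    have hzO : z ≤ O := hyp.2.2.2 H hH.1 hAH z hzH hAz (Transit.prime'_of_pgroup (not_dvd_sq hqp) hzq)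
    have hOH : O ≤ H := Transit.piCoreOf_le H
    obtain ⟨T, hT₁, hzT, hAT⟩ := Solv.exists_invariant_sylow_ge (p := q)
      (hAH.trans (Transit.le_normalizer_piCoreOf H)) (hyp.coprime (Transit.piCoreOf_prime H))
      (Or.inl (hG.2.2.2 A hyp.2.1)) z hzO hzq hAz
    have hTc : IsCyclic ↥T := by
      by_contra hnc
      obtain ⟨M₁, hTM₁, m₁⟩ := Cfsg.Agent.S1480.exists_max (E := A) T hT₁.isPGroup hAT
      obtain ⟨k, hk, hkQ⟩ := Transit.rel_of_inter hG.2 hyp (not_dvd_sq hqp) _ M₁ Q rfl m₁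
        (maxInv_of_sylow hQtop hAQ)
        fun h0 => hz1 (le_bot_iff.1 ((le_inf (hzT.trans hTM₁) (hzX.trans hXQ)).trans h0.le))
      have hTQ : cj T k ≤ Q := hkQ ▸ cj_mono hTM₁ k
      have hTH : cj T k ≤ H := (cj_mono (hT₁.1.trans hOH) k).trans
        (Fusion.cj_eq_self_of_mem (hCH (Transit.piCoreOf_le _ hk))).le
      obtain ⟨E, hE, hEe, hEc⟩ := exists_elab_noncyclic hq2 (isPGroup_cj hT₁.isPGroup k) fun h => hnc (by
        haveI := h
        exact isCyclic_of_surjective (T.equivMapOfInjective (MulAut.conj k).toMonoidHom (MulAut.conj k).injective).symm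
          (MulEquiv.surjective _))
      refine hXH fun x hx => hTH (hE (mem_of_rank (C := Q) ?_ hEe hEc (hE.trans hTQ) (hXQ hx) ?_ hx.2.2))
      · intro B hBc hBe
        have h := hnα q hq (B.map (Subgroup.inclusion hQ.le)) (haveI := hBc; Subgroup.map_isMulCommutative B _)
          (by rintro _ ⟨b, hb, rfl⟩; rw [← map_pow, hBe b hb, map_one])
        rwa [Subgroup.card_map_of_injective (Subgroup.inclusion_injective hQ.le)] at h
      · exact centralizer_le_of_le (hE.trans hTQ) hx.2.1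
    refine core hG hH hL₂ hHL hyp hAe hA hAH hCH hqp hzq hAz hzH (le_commutator_of_fixed hAab hAz
      (coprime_pgroup hqp hzq (Fusion.elab_isPGroup hAe)).symm hzA hzH hAH) hzA hCL fun S hS hzS hSH => ?_
    have hSO : IsCyclic ↥(S ⊓ O : Subgroup G) := by
      obtain ⟨x, -, hxT⟩ := (sylIn_of_isSylIn hT₁).conj_le (hS.to_inf_left (K := O)) inf_le_right
      haveI := cyclic_of_le hTc hxT
      exact isCyclic_of_surjective ((S ⊓ O : Subgroup G).equivMapOfInjective (MulAut.conj x).toMonoidHom (MulAut.conj x).injective).symm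
        (MulEquiv.surjective _)
    have hkey : ∀ g ∈ H, g ∈ Subgroup.normalizer (S : Set G) → g ∈ L₂ := fun g hgH hgS => by
      refine hNz (mem_normalizer_of_cj_le (le_of_eq ?_))
      have h1 : cj z g ≤ S ⊓ O := (cj_mono (le_inf hzS hzO) g).trans (by
        rw [Fusion.cj_inf, cj_eq_self hgS, cj_eq_self (Transit.le_normalizer_piCoreOf H hgH)])
      exact cyclic_eq (p := q) hSO h1 (le_inf hzS hzO) (by rw [card_cj, hzc]) hzc
    exact ⟨fun g hg => hkey g (hSH hg) (Subgroup.le_normalizer hg), fun g hg => hkey g hg.1 hg.2⟩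
  have hfix : Subgroup.normalizer (A : Set G) ≤ Subgroup.normalizer (e : Set G) := by
    refine fix_of_normalizer hG hyp heA hqp hQtop hAQ hH.1 hAH hNA hHQ fun m hmA hmQ => ?_
    by_contra hne
    set f := cj e m with hf
    set f' := cj f m with hf'
    have hfA : f ≤ A := (cj_mono heA m).trans (cj_eq_self hmA).le
    have hf'A : f' ≤ A := (cj_mono hfA m).trans (cj_eq_self hmA).le
    have hfc : Nat.card f = p := by rw [hf, card_cj, hec]
    have hf'c : Nat.card f' = p := by rw [hf', card_cj, hfc]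
    have hf'f : f' ≠ f := fun h => hne (by
      have h1 : cj f' m⁻¹ = cj f m⁻¹ := by rw [h]
      rw [hf', Fusion.cj_cj_inv, hf, Fusion.cj_cj_inv] at h1
      exact h1)
    have hf'e : f' ≠ e := fun h => hne (cj_eq_self (mem_normalizer_of_sq hG
      (mem_normalizer_of_cj_le (by rw [← cj_cj]; exact h.le))))
    have hXm : ∀ c : Subgroup G, X ⊓ Subgroup.centralizer (c : Set G) ≠ ⊥ →
        X ⊓ Subgroup.centralizer (cj c m : Set G) ≠ ⊥ := fun c hc h0 => hc (by
      have h1 : cj (X ⊓ Subgroup.centralizer (c : Set G)) m = ⊥ := by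
        rw [Fusion.cj_inf, cj_eq_self (normalizer_le_omz Q hmQ), Fusion.cj_centralizer, h0]
      exact (Subgroup.map_eq_bot_iff_of_injective _ (MulAut.conj m).injective).1 h1)
    have hf1 := hXm e hz1
    have hf'1 := hXm f hf1
    refine hf'1 (two_lines hAab hAX hXc hXA heA hfA hf'A (line_sup hA heA hfA hec hfc hne)
      (line_sup hA heA hf'A hec hf'c hf'e) (line_sup hA hfA hf'A hfc hf'c hf'f) ?_)
    set z' := X ⊓ Subgroup.centralizer (f : Set G) with hz'
    refine (Subgroup.eq_of_le_of_card_ge (sup_le inf_le_left inf_le_left) (hXcard.trans ?_)).ge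
    obtain ⟨i, hi⟩ := IsPGroup.iff_card.1 hzq
    obtain ⟨l, hl⟩ := IsPGroup.iff_card.1 (hXq.to_le (sup_le inf_le_left inf_le_left : z ⊔ z' ≤ X))
    have hlt : z < z ⊔ z' := lt_of_le_of_ne le_sup_left fun h => hf1 ((Subgroup.eq_bot_iff_forall _).2 fun x hx => by
      have hxz : x ∈ z := h ▸ Subgroup.mem_sup_right hx
      refine Subgroup.mem_bot.1 (hXA ▸ Subgroup.mem_inf.2 ⟨hzX hxz, ?_⟩)
      have h' : A ≤ Subgroup.centralizer ({x} : Set G) := (line_sup hA heA hfA hec hfc hne) ▸ sup_le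
        (fun y hy => Subgroup.mem_centralizer_singleton_iff.2 (Subgroup.mem_centralizer_iff.1 hxz.2 y hy))
        (fun y hy => Subgroup.mem_centralizer_singleton_iff.2 (Subgroup.mem_centralizer_iff.1 hx.2 y hy))
      exact Subgroup.mem_centralizer_iff.2 fun y hy => Subgroup.mem_centralizer_singleton_iff.1 (h' hy))
    have h1 := Solv.card_lt_of_lt hlt
    rw [hi, hl] at h1
    have h2 := (Nat.pow_lt_pow_iff_right hq.one_lt).1 h1
    have hi0 : i ≠ 0 := fun h => hz1 (Subgroup.card_eq_one.1 (by rw [hi, h, pow_zero]))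
    rw [hl]
    exact Nat.pow_le_pow_right hq.pos (by omega)
  exact hfinish H hH.1 ((char_line hP.isPGroup hAP hAe hA hfull heA hec hfix).trans hNe) hHQ

end

/-- Elementary abelian subgroups of order `p²` of a maximal subgroup. -/
theorem rank_two_lemma (hG : IsMinSimpleOddOrder G) {M A : Subgroup G} (hM : IsCoatom M) (hAM : A ≤ M)
    (hAe : IsElementaryAbelian p A) (hA : Nat.card A = p ^ 2) :
    Subgroup.centralizer (A : Set G) ≤ M ∧
      ((∀ A₀ : Subgroup G, A₀ ≤ A → Nat.card A₀ = p →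
          ¬ (Subgroup.normalizer (A₀ : Set G) ≤ M ∧ ∀ L : Subgroup G, IsCoatom L → Subgroup.normalizer (A₀ : Set G) ≤ L → L = M)) →
        p ∈ sigma M ∧ alphaCore M = ⊥ ∧ Group.IsNilpotent (sigmaCore M)) := by
  have hA1 : A ≠ ⊥ := fun h => by
    rw [h, Subgroup.card_bot] at hA
    exact absurd hA (Nat.one_lt_pow two_ne_zero hp.out.one_lt).ne
  by_cases hgood : ∃ e : Subgroup G, Good p M A e
  · obtain ⟨e, he⟩ := hgood
    exact ⟨he.centralizer_le hG, fun h => absurd ⟨he.normalizer_le hG, he.2.2⟩ (h e he.1 he.2.1)⟩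
  push Not at hgood
  obtain ⟨a, ha, ha1⟩ := exists_ne_one hA1
  have hAc : A ≤ Subgroup.centralizer (A : Set G) := fun x hx => Subgroup.mem_centralizer_iff.2 fun b hb =>
    congrArg Subtype.val (hAe.1.is_comm.comm (⟨b, hb⟩ : A) ⟨x, hx⟩)
  have hC : PRankLE p 2 ↥(Subgroup.centralizer (A : Set G)) := by
    by_contra hC
    obtain ⟨F, hFC, hFe, hF⟩ := exists_elab_of_prank hC
    obtain ⟨M', -, hu⟩ := iu_of_commute' hG (rank_three_iu hG hFe hF) (Subgroup.le_centralizer_iff.1 hFC) hAe hA.ge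
    have hle : A ≤ Subgroup.normalizer (Subgroup.zpowers a : Set G) :=
      ((hAc.trans (centralizer_le_of_le (Subgroup.zpowers_le.2 ha))).trans (Subgroup.centralizer_le_normalizer _))
    exact hgood _ ⟨Subgroup.zpowers_le.2 ha, card_zpowers_elab hAe ha ha1, fun L hL hNL =>
      (hu L ⟨hL, hle.trans hNL⟩).trans (hu M ⟨hM, hAM⟩).symm⟩
  have hfull : ∀ x ∈ Subgroup.centralizer (A : Set G), x ^ p = 1 → x ∈ A := fun x hx hxp =>
    mem_of_rank hC hAe hA.ge hAc hx hx hxp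
  have hd : p ∣ Nat.card G :=
    (dvd_pow_self p two_ne_zero).trans (hA ▸ Subgroup.card_subgroup_dvd_card A)
  have hyp : Hyp (p ^ 2) A := hA ▸ Transit.hyp_of_transitivityHypothesis
    (Transit.hypothesis_of_order_p hG hd (Fusion.elab_isPGroup hAe) hAe.1 hfull)
  obtain ⟨P, hP, hAP⟩ := exists_sylIn_ge (Fusion.elab_isPGroup hAe) hAM
  have hP1 : P ≠ ⊥ := fun h => hA1 (le_bot_iff.1 (h ▸ hAP))
  have hpα : p ∉ alpha M := fun h => by
    obtain ⟨F, hFM, hFe, hF⟩ := exists_elab_of_prank h.2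
    obtain ⟨x, -, hxP⟩ := hP.conj_le (Fusion.elab_isPGroup hFe) hFM
    obtain ⟨z, hz, hz1⟩ := exists_ne_one (omz_ne_bot hP.isPGroup hP1)
    have hzA : z ∈ A := hfull z (centralizer_le_of_le hAP hz.2.1) hz.2.2
    obtain ⟨M', -, hu⟩ := iu_mono (iu_conj (rank_three_iu hG hFe hF) x) hxP fun h' => hM.1 (eq_top_iff.2 (h' ▸ hP.le))
    refine hgood _ ⟨Subgroup.zpowers_le.2 hzA, card_zpowers_elab hAe hzA hz1, fun L hL hNL =>
      (hu L ⟨hL, le_trans ?_ hNL⟩).trans (hu M ⟨hM, hP.le⟩).symm⟩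
    refine le_trans ?_ (Subgroup.centralizer_le_normalizer _)
    exact Subgroup.le_centralizer_iff.1 (Subgroup.zpowers_le.2 hz.2.1)
  by_cases hα : alphaCore M = ⊥
  swap
  · exact (stage_alpha hG hM hAM hAe hA hfull hyp hgood hpα hα).elim
  by_cases hσ : p ∈ sigma M
  swap
  · exact (stage_trivial hG hM hAM hAe hA hfull hyp hgood hα hσ).elim
  have hnil := derived_nilpotent hG hM hα
  obtain ⟨T, hT⟩ := exists_sylow hP
  have hPd : P ≤ ⁅M, M⁆ := hT ▸ Subgroup.map_subtype_commutator M ▸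
    Subgroup.map_mono (sylow_le_derived hG hM hσ T)
  have hMd : ⁅M, M⁆ ≤ M := Subgroup.map_subtype_commutator M ▸ Subgroup.map_subtype_le _
  have hMP := sylow_derived_normal hnil (hP.mono hPd hMd)
  have hZ := normalizer_eq_coatom hG hM (omz_ne_bot hP.isPGroup hP1) ((omz_le (q := p) P).trans hP.le)
    (hMP.trans (normalizer_le_omz P))
  refine ⟨?_, fun _ => ⟨hσ, hα, ?_⟩⟩
  · rw [← hZ]
    have hZA : omz p P ≤ A := fun x hx => hfull x (centralizer_le_of_le hAP hx.2.1) hx.2.2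
    exact (centralizer_le_of_le hZA).trans (Subgroup.centralizer_le_normalizer _)
  · haveI := hnil
    exact Solv.isNilpotent_of_le (Subgroup.map_subtype_commutator M ▸ Subgroup.map_mono (sigmaCore_le_derived hG hM)) hnil

end Cfsg.Agent.OddLocal.RankTwo
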