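import Cfsg.Agent.Lib.OddLocal.RankTwoLemma

/-!
Embedding of `σ(M)`-subgroups into other maximal subgroups.
-/

set_option autoImplicit false

namespace Cfsg.Agent.OddLocal.RankTwo

open Cfsg
open Cfsg.Agent.Fusion (SylIn cj cj_cj cj_eq_self cj_mono card_cj isPGroup_cj sylIn_map sylIn_top exists_sylIn_ge
  mem_normalizer_of_cj_le)
open Cfsg.Agent.OddLocal.Uniq
open Cfsg.Agent.OddLocal.Sig

universe u

variable {G : Type u} [Group G] [Finite G] {p : ℕ} [hp : Fact p.Prime]

/-- A second maximal subgroup over the normaliser of a `σ(M)`-subgroup. -/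
theorem sigma_embedding (hG : IsMinSimpleOddOrder G) {M Ms X : Subgroup G} (hM : IsCoatom M)
    (hσ : p ∈ sigma M) (hXp : IsPGroup p X) (hX1 : X ≠ ⊥) (hXM : X ≤ M) (hne : Ms ≠ M)
    (hNX : Subgroup.normalizer (X : Set G) ≤ Ms) {S : Subgroup G} (hS : SylIn p S (M ⊓ Ms)) (hXS : X ≤ S) :
    (∀ g : G, Ms ≠ cj M g) ∧ Subgroup.normalizer (S : Set G) ≤ M ∧ ¬ p ∣ S.relIndex Ms := by
  have hCX : Subgroup.centralizer (X : Set G) ≤ Ms := (Subgroup.centralizer_le_normalizer _).trans hNX
  have hXMs : X ≤ Ms := Subgroup.le_normalizer.trans hNX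
  have hSM : S ≤ M := hS.le.trans inf_le_left
  have hp2 : p ≠ 2 := by
    rintro rfl
    exact Nat.not_even_iff_odd.2 hG.1 (even_iff_two_dvd.2 (hσ.2.1.trans (Subgroup.card_subgroup_dvd_card _)))
  have hS1 : S ≠ ⊥ := fun h => hX1 (le_bot_iff.1 (h ▸ hXS))
  have hconj : ∀ g : G, Ms ≠ cj M g := fun g hg => hne <| by
    have hX' : cj X g⁻¹ ≤ M := by
      have := cj_mono (hg ▸ hXMs) g⁻¹
      rwa [cj_cj, inv_mul_cancel, Fusion.cj_one] at this
    obtain ⟨m, hm, c, hc, he⟩ := conj_factor hG hσ hM X hXp hX1 hXM g⁻¹ hX'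
    have hg' : g = c⁻¹ * m⁻¹ := by rw [← mul_inv_rev, ← he, inv_inv]
    rw [hg', ← cj_cj, Fusion.cj_eq_self_of_mem (inv_mem hm)] at hg
    have h1 : cj Ms c = M := by rw [hg, cj_cj, mul_inv_cancel, Fusion.cj_one]
    rw [← h1, Fusion.cj_eq_self_of_mem (hCX hc)]
  have hNS : Subgroup.normalizer (S : Set G) ≤ M := by
    by_cases hc : IsCyclic ↥S
    · obtain ⟨R, hR, hSR⟩ := exists_sylIn_ge hS.isPGroup hSM
      suffices R = S from this ▸ (sigma_sylow hσ hR).2.2
      by_contra hRS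
      have hlt := SylIn.normalizer_growth hSR (Ne.symm hRS) hR.isPGroup
      have hXn : Subgroup.normalizer (S : Set G) ≤ Subgroup.normalizer (X : Set G) := by
        haveI := hc
        intro g hg
        refine mem_normalizer_of_cj_le (le_of_eq ?_)
        have h1 : cj X g ≤ S := (cj_mono hXS g).trans (cj_eq_self hg).le
        have h2 : (cj X g).subgroupOf S = X.subgroupOf S := by
          letI : CommGroup ↥S := IsCyclic.commGroup
          have key : ∀ K : Subgroup ↥S, K = (powMonoidHom (Nat.card K) : ↥S →* ↥S).ker := fun K =>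
            Subgroup.eq_of_le_of_card_ge (fun x hx => MonoidHom.mem_ker.2
              ((SubmonoidClass.coe_pow (⟨x, hx⟩ : K) _).symm.trans (congrArg Subtype.val pow_card_eq_one')))
              (by rw [IsCyclic.card_powMonoidHom_ker]; exact Nat.le_of_dvd Nat.card_pos (Nat.gcd_dvd_right _ _))
          have hd : ∀ {K L : Subgroup ↥S}, Nat.card K = Nat.card L → K = L := fun {K L} h => by
            rw [key K, key L, h]
          exact hd (by rw [Solv.card_subgroupOf h1, Solv.card_subgroupOf hXS, card_cj])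
        rw [← Subgroup.map_subgroupOf_eq_of_le h1, h2, Subgroup.map_subgroupOf_eq_of_le hXS]
      exact hlt.ne (hS.eq_of_le (hR.isPGroup.to_inf_left) hlt.le
        (le_inf (inf_le_left.trans hR.le) ((inf_le_right.trans hXn).trans hNX))).symm
    · obtain ⟨E, hES, hEe, hEc⟩ := exists_elab_noncyclic hp2 hS.isPGroup hc
      obtain ⟨A, hAc, hAE⟩ : ∃ A : Subgroup G, Nat.card A = p ^ 2 ∧ A ≤ E := by
        obtain ⟨j, hj⟩ := IsPGroup.iff_card.1 (Fusion.elab_isPGroup hEe)
        obtain ⟨A₀, hA₀⟩ := Sylow.exists_subgroup_card_pow_prime p (G := ↥E) (n := 2)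
          (hj ▸ pow_dvd_pow p ((Nat.pow_le_pow_iff_right hp.out.one_lt).1 (hj ▸ hEc)))
        exact ⟨A₀.map E.subtype, by rw [Subgroup.card_map_of_injective E.subtype_injective, hA₀],
          Subgroup.map_subtype_le _⟩
      have hCA := (rank_two_lemma hG hM ((hAE.trans hES).trans hSM) (elab_mono hEe hAE) hAc).1
      rw [normalizer_eq hG hσ hM hS.isPGroup hS1 hSM]
      exact sup_le inf_le_left ((centralizer_le_of_le (hAE.trans hES)).trans hCA)
  refine ⟨hconj, hNS, fun hd => ?_⟩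
  obtain ⟨T, hT, hST⟩ := exists_sylIn_ge hS.isPGroup (hS.le.trans inf_le_right)
  have hTS : S ≠ T := fun h => hT.not_dvd (h ▸ hd)
  have hlt := SylIn.normalizer_growth hST hTS hT.isPGroup
  exact hlt.ne (hS.eq_of_le hT.isPGroup.to_inf_left hlt.le
    (le_inf (inf_le_right.trans hNS) (inf_le_left.trans hT.le))).symm

end Cfsg.Agent.OddLocal.RankTwo
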