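import Cfsg.Agent.Lib.OddLocal.Decomposition
import Cfsg.Agent.Lib.OddLocal.SigmaSubgroups
import Cfsg.Agent.Lib.OddLocal.SylowStructure

/-!
Two maximal subgroups sharing a prime of their `σ`-sets, of rank at most two, and a Sylow subgroup for it.
-/

set_option autoImplicit false
set_option linter.style.haveILetI false

namespace Cfsg.Agent.OddLocal.Disjoint

open scoped Pointwise commutatorElement
open Cfsg
open Cfsg.Agent.Fusion (SylIn cj cj_cj cj_eq_self cj_mono card_cj isPGroup_cj exists_sylIn_ge exists_sylIn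
  mem_normalizer_of_cj_le)
open Cfsg.Agent.OddLocal.Uniq
open Cfsg.Agent.OddLocal.Sig
open Cfsg.Agent.OddLocal.RankTwo
open Cfsg.Agent.OddLocal.TauTwo

universe u

variable {G : Type u} [Group G] [Finite G] {p : ℕ} [hp : Fact p.Prime] {M L S : Subgroup G}

omit [Finite G] hp in
theorem elab_cj {q : ℕ} {B : Subgroup G} (hB : IsElementaryAbelian q B) (x : G) :
    IsElementaryAbelian q (cj B x) :=
  ⟨haveI := hB.1; Subgroup.map_isMulCommutative B _, by
    rintro _ ⟨y, hy, rfl⟩; rw [← map_pow, hB.2 y hy, map_one]⟩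

omit hp in
/-- An elementary subgroup of order exactly `q²` from rank exactly two. -/
theorem exists_sq {q : ℕ} [Fact q.Prime] (hr : ¬ PRankLE q 1 ↥M) :
    ∃ B : Subgroup G, B ≤ M ∧ IsElementaryAbelian q B ∧ Nat.card B = q ^ 2 := by
  obtain ⟨B, hBM, hBe, hBc⟩ := exists_elab_of_prank hr
  obtain ⟨j, hj⟩ := IsPGroup.iff_card.1 (Fusion.elab_isPGroup hBe)
  have hj2 : 2 ≤ j := (Nat.pow_le_pow_iff_right (Fact.out : q.Prime).one_lt).1 (hj ▸ hBc)
  obtain ⟨C₀, hC₀⟩ := Sylow.exists_subgroup_card_pow_prime q (hj ▸ pow_dvd_pow q hj2 : q ^ 2 ∣ Nat.card ↥B)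
  have hle : C₀.map B.subtype ≤ B := Subgroup.map_subtype_le _
  refine ⟨C₀.map B.subtype, hle.trans hBM, ⟨⟨⟨fun u v => Subtype.ext (congrArg Subtype.val
      (hBe.1.is_comm.comm (⟨u, hle u.2⟩ : B) ⟨v, hle v.2⟩) :)⟩⟩, fun u hu => hBe.2 u (hle hu)⟩, ?_⟩
  rw [Subgroup.card_map_of_injective B.subtype_injective, hC₀]

/-- `M = M_β N_M(S)` for a Sylow subgroup `S` of a prime of `σ(M)` outside `β(M)`. -/
theorem factor (hG : IsMinSimpleOddOrder G) (hM : IsCoatom M) (hσ : p ∈ sigma M) (hβ : p ∉ beta M)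
    (hS : SylIn p S M) :
    ∀ m ∈ M, ∃ u ∈ piCoreOf (beta M) M, ∃ n ∈ M ⊓ Subgroup.normalizer (S : Set G), m = u * n := by
  set B := piCoreOf (beta M) M with hB
  set D := ⁅M, M⁆ with hD
  have hDM : D ≤ M := Subgroup.commutator_le_self M
  have hBM : M ≤ Subgroup.normalizer (B : Set G) := le_normalizer_piCoreOf
  obtain ⟨⟨hBle, hBπ, hBi⟩, -, ⟨H, hH, hHn⟩, -⟩ := beta_structure hG hM
  have hBD : B ≤ D := by
    refine (Subgroup.map_mono (piCore_mono (beta_subset_alpha.trans (alpha_subset_sigma hG hM)))).trans ?_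
    rw [hD, ← Subgroup.map_subtype_commutator]
    exact Subgroup.map_mono (sigmaCore_le_derived hG hM)
  have hSD : S ≤ D := le_derived_of_sigma hG hM hσ hS.isPGroup hS.le
  have hSylD : SylIn p S D := hS.mono hSD hDM
  obtain ⟨S₀, hS₀⟩ := exists_sylIn (p := p) H
  have hS₀D : SylIn p S₀ D := ⟨hS₀.le.trans hH.1, hS₀.isPGroup, by
    rw [← Subgroup.relIndex_mul_relIndex S₀ H D hS₀.le hH.1]
    exact hp.out.prime.not_dvd_mul hS₀.not_dvd (hH.2.2 p hp.out ⟨hp.out, hβ⟩)⟩
  obtain ⟨k, hk, hkS⟩ := hS₀D.conj_eq hSylD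
  have hHS : cj H k ≤ Subgroup.normalizer (S : Set G) := by
    rw [← hkS, ← Fusion.cj_normalizer]
    exact cj_mono (SigmaSubgroups.sylow_of_nilpotent_normal hHn Subgroup.le_normalizer hS₀) k
  have hBH : D ≤ B ⊔ H := by
    rw [← Subgroup.relIndex_eq_one]
    by_contra hne
    obtain ⟨q, hq, hd⟩ := Nat.exists_prime_and_dvd hne
    have hqB := hd.trans (Subgroup.relIndex_dvd_of_le_left D (le_sup_left : B ≤ B ⊔ H))
    have hqH := hd.trans (Subgroup.relIndex_dvd_of_le_left D (le_sup_right : H ≤ B ⊔ H))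
    have hqβ : q ∈ beta M := by
      by_contra h
      exact hH.2.2 q hq ⟨hq, h⟩ hqH
    refine hBi q hq hqβ (hqB.trans ⟨D.relIndex M, (Subgroup.relIndex_mul_relIndex B D M hBD hDM).symm⟩)
  have hH'D : cj H k ≤ D := (cj_mono hH.1 k).trans (Fusion.cj_eq_self_of_mem hk).le
  have hBH' : D ≤ B ⊔ cj H k := by
    have h := cj_mono hBH k
    rwa [Fusion.cj_sup, Fusion.cj_eq_self_of_mem hk, cj_eq_self (hBM (hDM hk))] at h
  intro m hm
  have hmD : m ∈ Subgroup.normalizer (D : Set G) := mem_normalizer_of_cj_le (by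
    rw [hD, Fusion.cj_commutator, Fusion.cj_eq_self_of_mem hm])
  obtain ⟨k', hk', hk'S⟩ := hSylD.conj_eq (hSylD.cj' hmD)
  have h1 : k' ∈ ((B ⊔ cj H k : Subgroup G) : Set G) := hBH' hk'
  rw [Subgroup.coe_mul_of_right_le_normalizer_left _ _ (hH'D.trans (hDM.trans hBM))] at h1
  obtain ⟨u, hu, h, hh, rfl⟩ := h1
  refine ⟨u, hu, u⁻¹ * m, Subgroup.mem_inf.2 ⟨M.mul_mem (M.inv_mem (hBle hu)) hm, ?_⟩, by group⟩
  refine mem_normalizer_of_cj_le (le_of_eq ?_)
  rw [← cj_cj, ← hk'S, cj_cj, show u⁻¹ * (u * h) = h by group, cj_eq_self (hHS hh)]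

/-- Two maximal subgroups sharing a prime of rank at most two of their `σ`-sets. -/
structure Pair (p : ℕ) (M L S : Subgroup G) : Prop where
  minSimple : IsMinSimpleOddOrder G
  coatomM : IsCoatom M
  coatomL : IsCoatom L
  ne : M ≠ L
  sigmaM : p ∈ sigma M
  sigmaL : p ∈ sigma L
  alphaM : p ∉ alpha M
  alphaL : p ∉ alpha L
  syl : SylIn p S ⊤
  leM : S ≤ M
  leL : S ≤ L

namespace Pair

theorem symm (P : Pair p M L S) : Pair p L M S :=
  ⟨P.minSimple, P.coatomL, P.coatomM, Ne.symm P.ne, P.sigmaL, P.sigmaM, P.alphaL, P.alphaM, P.syl, P.leL, P.leM⟩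

theorem sylM (P : Pair p M L S) : SylIn p S M := P.syl.mono P.leM le_top

theorem not_beta (P : Pair p M L S) : p ∉ beta M := fun h => P.alphaM (beta_subset_alpha h)

theorem normalizer_le (P : Pair p M L S) : Subgroup.normalizer (S : Set G) ≤ M ⊓ L :=
  le_inf (sigma_sylow P.sigmaM P.sylM).2.2 (sigma_sylow P.sigmaL P.symm.sylM).2.2

theorem ne_bot (P : Pair p M L S) : S ≠ ⊥ := (sigma_sylow P.sigmaM P.sylM).2.1

theorem ne_two (P : Pair p M L S) : p ≠ 2 := Uniq.ne_two P.minSimple P.syl.isPGroup P.ne_bot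

theorem rank (P : Pair p M L S) : PRankLE p 2 ↥M := prankLE_of_not_alpha hp.out P.alphaM

/-- `S` is abelian. -/
theorem abelian (P : Pair p M L S) : IsMulCommutative ↥S := by
  by_contra h
  obtain ⟨H, -, hu⟩ := Nonabelian.inUniqueMaximal P.minSimple P.syl.isPGroup h
  exact P.ne ((hu M ⟨P.coatomM, P.leM⟩).trans (hu L ⟨P.coatomL, P.leL⟩).symm)

theorem commute (P : Pair p M L S) {a b : G} (ha : a ∈ S) (hb : b ∈ S) : a * b = b * a :=
  congrArg Subtype.val (P.abelian.is_comm.comm (⟨a, ha⟩ : S) ⟨b, hb⟩)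

/-- The members are not conjugate. -/
theorem not_conj (P : Pair p M L S) (g : G) : L ≠ cj M g := by
  intro h
  have h1 : cj S g⁻¹ ≤ M := by
    have := cj_mono (P.leL.trans h.le) g⁻¹
    rwa [Fusion.cj_cj_inv] at this
  obtain ⟨m, hm, hmS⟩ := P.sylM.conj_eq (P.sylM.of_card_ge (isPGroup_cj P.syl.isPGroup _) h1
    (card_cj S g⁻¹).ge)
  have h2 : g * m ∈ Subgroup.normalizer (S : Set G) := mem_normalizer_of_cj_le (le_of_eq (by
    rw [← cj_cj, hmS, Fusion.cj_inv_cj]))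
  have h3 : g ∈ M := by
    simpa using M.mul_mem (P.normalizer_le h2).1 (M.inv_mem hm)
  exact P.ne (by rw [h, Fusion.cj_eq_self_of_mem h3])

/-- Primes of `β(L)` avoid `σ(M)`. -/
theorem beta_not_sigma (P : Pair p M L S) {q : ℕ} (h : q ∈ beta L) : q ∉ sigma M := fun hσ => by
  haveI := Fact.mk hσ.1
  obtain ⟨R, hR⟩ := exists_sylIn (p := q) L
  obtain ⟨g, hg⟩ := SigmaSubgroups.conjugate_of_shared P.minSimple P.coatomM P.coatomL hσ
    (alpha_subset_sigma P.minSimple P.coatomL (beta_subset_alpha h)) hR (Or.inl (beta_subset_alpha h))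
  exact P.not_conj g hg

theorem sup_eq (P : Pair p M L S) : piCoreOf (beta M) M ⊔ Subgroup.normalizer (S : Set G) = M := by
  refine le_antisymm (sup_le (Subgroup.map_subtype_le _) (P.normalizer_le.trans inf_le_left)) fun m hm => ?_
  obtain ⟨u, hu, n, hn, rfl⟩ := factor P.minSimple P.coatomM P.sigmaM P.not_beta P.sylM m hm
  exact Subgroup.mul_mem _ (Subgroup.mem_sup_left hu) (Subgroup.mem_sup_right hn.2)

/-- Primes dividing the index of `N(S)` in `M` lie in `β(M)`. -/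
theorem beta_of_dvd (P : Pair p M L S) {q : ℕ} (hq : q.Prime)
    (hd : q ∣ (Subgroup.normalizer (S : Set G)).relIndex M) : q ∈ beta M := by
  set N := Subgroup.normalizer (S : Set G) with hN
  set B := piCoreOf (beta M) M
  have hNM : N ≤ M := P.normalizer_le.trans inf_le_left
  have h1 := Solv.card_sup_mul_card_inf' B N (hNM.trans le_normalizer_piCoreOf)
  rw [P.sup_eq] at h1
  have h2 := Subgroup.relIndex_mul_relIndex ⊥ N M bot_le hNM
  rw [Subgroup.relIndex_bot_left, Subgroup.relIndex_bot_left] at h2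
  rw [← h2, mul_assoc, mul_comm (Nat.card B)] at h1
  have h3 : Nat.card B = N.relIndex M * Nat.card (B ⊓ N : Subgroup G) :=
    (Nat.eq_of_mul_eq_mul_left Nat.card_pos h1).symm
  exact (betaCore_hall P.minSimple P.coatomM).1.2.1 q hq (h3 ▸ hd.mul_right _)

theorem conj_normalizer (P : Pair p M L S) {q : ℕ} [Fact q.Prime] (hβ : q ∉ beta M) {X : Subgroup G}
    (hX : IsPGroup q X) (hXM : X ≤ M) : ∃ m ∈ M, cj X m ≤ Subgroup.normalizer (S : Set G) := by
  obtain ⟨Q, hQ⟩ := exists_sylIn (p := q) (Subgroup.normalizer (S : Set G))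
  have hNM : Subgroup.normalizer (S : Set G) ≤ M := P.normalizer_le.trans inf_le_left
  have hQM : SylIn q Q M := ⟨hQ.le.trans hNM, hQ.isPGroup, by
    rw [← Subgroup.relIndex_mul_relIndex Q _ M hQ.le hNM]
    exact (Fact.out : q.Prime).prime.not_dvd_mul hQ.not_dvd fun h => hβ (P.beta_of_dvd Fact.out h)⟩
  obtain ⟨m, hm, hle⟩ := hQM.conj_le hX hXM
  exact ⟨m, hm, hle.trans hQ.le⟩

/-- `M` meets `L_β` inside `N(S)`. -/
theorem inf_beta_le (P : Pair p M L S) :
    M ⊓ piCoreOf (beta L) L ≤ Subgroup.normalizer (S : Set G) := by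
  set N := Subgroup.normalizer (S : Set G) with hN
  set X := M ⊓ piCoreOf (beta L) L with hX
  have hNM : N ≤ M := P.normalizer_le.trans inf_le_left
  have hNX : N ≤ Subgroup.normalizer (X : Set G) := fun n hn => mem_normalizer_of_cj_le (by
    rw [hX, Fusion.cj_inf, Fusion.cj_eq_self_of_mem (hNM hn),
      cj_eq_self (le_normalizer_piCoreOf (P.normalizer_le hn).2)])
  have h1 := Solv.card_sup_mul_card_inf' X N hNX
  have h2 := Subgroup.relIndex_mul_relIndex ⊥ N (X ⊔ N) bot_le le_sup_right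
  rw [Subgroup.relIndex_bot_left, Subgroup.relIndex_bot_left] at h2
  rw [← h2, mul_assoc, mul_comm (Nat.card X)] at h1
  have h3 := Nat.eq_of_mul_eq_mul_left Nat.card_pos h1
  suffices hk : N.relIndex (X ⊔ N) = 1 by
    exact le_sup_left.trans (Subgroup.relIndex_eq_one.1 hk)
  by_contra hne
  obtain ⟨q, hq, hd⟩ := Nat.exists_prime_and_dvd hne
  have hqM : q ∈ beta M := P.beta_of_dvd hq (hd.trans ⟨(X ⊔ N).relIndex M,
    (Subgroup.relIndex_mul_relIndex N (X ⊔ N) M le_sup_right (sup_le inf_le_left hNM)).symm⟩)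
  have hqX : q ∣ Nat.card X := h3 ▸ hd.mul_right _
  have hqL : q ∈ beta L :=
    (betaCore_hall P.minSimple P.coatomL).1.2.1 q hq (hqX.trans (Subgroup.card_dvd_of_le inf_le_right))
  exact P.beta_not_sigma hqL (alpha_subset_sigma P.minSimple P.coatomM (beta_subset_alpha hqM))

/-- The members meet in `N(S)`. -/
theorem inf_eq (P : Pair p M L S) : M ⊓ L = Subgroup.normalizer (S : Set G) := by
  refine le_antisymm (fun x hx => ?_) P.normalizer_le
  obtain ⟨l, hl, n, hn, rfl⟩ := factor P.minSimple P.coatomL P.sigmaL P.symm.not_beta P.symm.sylM x hx.2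
  have hlM : l ∈ M := by simpa using M.mul_mem hx.1 (M.inv_mem (P.normalizer_le hn.2).1)
  exact Subgroup.mul_mem _ (P.inf_beta_le ⟨hlM, hl⟩) hn.2

theorem inf_le_inf (P : Pair p M L S) {x : G} (hM : x ∈ M) (hL : x ∈ L) :
    x ∈ Subgroup.normalizer (S : Set G) := P.inf_eq ▸ Subgroup.mem_inf.2 ⟨hM, hL⟩

/-- Elements of `L_β` normalising `S` centralize it. -/
theorem beta_centralizes (P : Pair p M L S) {n : G} (hn : n ∈ piCoreOf (beta L) L)
    (hnS : n ∈ Subgroup.normalizer (S : Set G)) : n ∈ Subgroup.centralizer (S : Set G) := by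
  refine Solv.centralizer_of_normalizes (P.leL.trans le_normalizer_piCoreOf) (Solv.coprime_inf ?_) hn hnS
  obtain ⟨j, hj⟩ := IsPGroup.iff_card.1 P.syl.isPGroup
  rw [hj]
  refine (Nat.Coprime.pow_left j ((Nat.Prime.coprime_iff_not_dvd hp.out).2 fun hd => ?_)).symm
  exact P.symm.not_beta ((betaCore_hall P.minSimple P.coatomL).1.2.1 p hp.out hd)

/-- Elements of `M'` normalising `S` centralize it. -/
theorem derived_centralizes (P : Pair p M L S) {n : G} (hn : n ∈ ⁅M, M⁆)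
    (hnS : n ∈ Subgroup.normalizer (S : Set G)) : n ∈ Subgroup.centralizer (S : Set G) := by
  classical
  set D := ⁅M, M⁆ with hD
  obtain ⟨Q, K, hK, hc⟩ := (hnpc_derived P.minSimple P.coatomM P.sigmaM.2.1 P.not_beta).1
  haveI := hK
  have hQab : IsMulCommutative ↥(Q : Subgroup ↥D) := by
    obtain ⟨g, -, hg⟩ := P.syl.conj_le (Q.isPGroup'.map D.subtype) le_top
    exact ⟨⟨fun a b => Subtype.ext (Subtype.ext ((MulAut.conj g).injective (by
      rw [Subgroup.coe_mul, Subgroup.coe_mul, Subgroup.coe_mul, Subgroup.coe_mul, map_mul, map_mul]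
      exact P.commute (hg ⟨_, Subgroup.mem_map_of_mem D.subtype a.2, rfl⟩)
        (hg ⟨_, Subgroup.mem_map_of_mem D.subtype b.2, rfl⟩))))⟩⟩
  refine Subgroup.mem_centralizer_iff.2 fun s hs => ?_
  set n' : ↥D := ⟨n, hn⟩
  set s' : ↥D := ⟨s, le_derived_of_sigma P.minSimple P.coatomM P.sigmaM P.syl.isPGroup P.leM hs⟩
  have hfac : ∀ d : ↥D, ∃ q : ↥(Q : Subgroup ↥D), QuotientGroup.mk' K d = QuotientGroup.mk' K q := fun d => by
    obtain ⟨⟨⟨a, ha⟩, ⟨b, hb⟩⟩, hab, -⟩ := hc.existsUnique d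
    refine ⟨⟨b, hb⟩, ?_⟩
    simp only at hab
    rw [← hab, map_mul, show QuotientGroup.mk' K a = 1 from (QuotientGroup.eq_one_iff a).2 ha, one_mul]
  have hcomm : ⁅n', s'⁆ ∈ K := by
    obtain ⟨a, ha⟩ := hfac n'
    obtain ⟨b, hb⟩ := hfac s'
    refine (QuotientGroup.eq_one_iff _).1 ?_
    show QuotientGroup.mk' K ⁅n', s'⁆ = 1
    rw [map_commutatorElement, ha, hb, ← map_commutatorElement, commutatorElement_eq_one_iff_mul_comm.2
      (congrArg Subtype.val (hQab.is_comm.comm a b) :), map_one]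
  have h1 : orderOf ⁅n', s'⁆ ∣ Nat.card K := Subgroup.orderOf_dvd_natCard _ hcomm
  have hS : ⁅n, s⁆ ∈ S := by
    rw [commutatorElement_def]
    exact Subgroup.mul_mem _ ((Subgroup.mem_normalizer_iff.1 hnS s).1 hs) (S.inv_mem hs)
  have h2 : orderOf ⁅n', s'⁆ ∣ Nat.card S := by
    rw [← Subgroup.orderOf_coe]
    exact Subgroup.orderOf_dvd_natCard _ hS
  obtain ⟨j, hj⟩ := IsPGroup.iff_card.1 P.syl.isPGroup
  have hcop : (Nat.card K).Coprime (Nat.card S) := by
    rw [hj, ← hc.index_eq_card]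
    exact (Nat.Coprime.pow_left j ((Nat.Prime.coprime_iff_not_dvd hp.out).2 Q.not_dvd_index)).symm
  have h3 : ⁅n, s⁆ = 1 := congrArg Subtype.val (orderOf_eq_one_iff.1 (Nat.eq_one_of_dvd_coprimes hcop h1 h2))
  exact (commutatorElement_eq_one_iff_mul_comm.1 h3).symm

theorem commutator_centralizes (P : Pair p M L S) {a b : G} (ha : a ∈ Subgroup.normalizer (S : Set G))
    (hb : b ∈ Subgroup.normalizer (S : Set G)) : ⁅a, b⁆ ∈ Subgroup.centralizer (S : Set G) :=
  P.derived_centralizes (Subgroup.commutator_mem_commutator (P.normalizer_le ha).1 (P.normalizer_le hb).1)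
    (Subgroup.commutator_le_self _ (Subgroup.commutator_mem_commutator ha hb))

/-- Elements of prime power order moving `S`. -/
theorem mover_prime (P : Pair p M L S) {n : G} (hn : n ∈ Subgroup.normalizer (S : Set G)) {q k : ℕ}
    (hq : q.Prime) (ho : orderOf n = q ^ k) (hmove : n ∉ Subgroup.centralizer (S : Set G)) :
    q ≠ p ∧ q ∉ sigma M ∧ q ∉ sigma L := by
  haveI := Fact.mk hq
  have hzp : IsPGroup q ↥(Subgroup.zpowers n) := IsPGroup.of_card (n := k) (by rw [Nat.card_zpowers, ho])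
  refine ⟨?_, fun h => hmove (P.derived_centralizes (le_derived_of_sigma P.minSimple P.coatomM h hzp
    (Subgroup.zpowers_le.2 (P.normalizer_le hn).1) (Subgroup.mem_zpowers n)) hn),
    fun h => hmove (P.symm.derived_centralizes (le_derived_of_sigma P.minSimple P.coatomL h hzp
    (Subgroup.zpowers_le.2 (P.normalizer_le hn).2) (Subgroup.mem_zpowers n)) hn)⟩
  rintro rfl
  refine hmove (Subgroup.mem_centralizer_iff.2 fun s hs => P.commute hs ?_)
  have hsup : IsPGroup q ↥(Subgroup.zpowers n ⊔ S : Subgroup G) :=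
    hzp.to_sup_of_normal_right' P.syl.isPGroup (Subgroup.zpowers_le.2 hn)
  exact (P.syl.eq_of_le hsup le_sup_right le_top).le (Subgroup.mem_sup_left (Subgroup.mem_zpowers n))

/-- Primes outside `σ(M)` have rank one in `M`. -/
theorem rank_one (P : Pair p M L S) {q : ℕ} [Fact q.Prime] (hσ : q ∉ sigma M) : PRankLE q 1 ↥M := by
  by_contra hr
  obtain ⟨B, hBM, hBe, hBc⟩ := exists_sq hr
  have hβ : q ∉ beta M := fun h => hσ (alpha_subset_sigma P.minSimple P.coatomM (beta_subset_alpha h))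
  obtain ⟨m, -, hmB⟩ := P.conj_normalizer hβ (Fusion.elab_isPGroup hBe) hBM
  have s : Setup q M (cj B m) := ⟨P.minSimple, P.coatomM, hσ, (hmB.trans P.normalizer_le).trans inf_le_left,
    elab_cj hBe m, by rw [card_cj, hBc]⟩
  refine P.ne_bot (le_bot_iff.1 ((le_inf ?_ P.leL).trans
    (sigmaCore_inf_coatom s P.coatomL (Ne.symm P.ne) ((hmB.trans P.normalizer_le).trans inf_le_right)).le))
  exact le_of_hall (sigmaCore_hall P.minSimple P.coatomM).1 le_normalizer_piCoreOf P.leM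
    (piNum_of_pgroup P.syl.isPGroup P.sigmaM)

/-- A line of a prime outside `σ(M)` has its normaliser outside `M`. -/
theorem normalizer_not_le (P : Pair p M L S) {q : ℕ} [Fact q.Prime] (hσ : q ∉ sigma M) {X : Subgroup G}
    (hX : Nat.card X = q) : ¬ Subgroup.normalizer (X : Set G) ≤ M := fun h =>
  (order_p_normalizer P.minSimple P.coatomM hσ hX h).1.2 (P.rank_one hσ)

omit hp in
/-- The `p`-rank of another maximal subgroup over `S`. -/
theorem not_alpha_of (P : Pair p M L S) [Fact p.Prime] {H : Subgroup G} : p ∉ alpha H := fun h => by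
  obtain ⟨F, -, hFe, hF⟩ := exists_elab_of_prank h.2
  obtain ⟨x, -, hx⟩ := P.syl.conj_le (Fusion.elab_isPGroup hFe) le_top
  exact not_prankLE_of_elab (hx.trans P.leM) (elab_cj hFe x) (by rw [card_cj]; exact hF) P.rank

/-- Another member of the family. -/
theorem extend (P : Pair p M L S) {H : Subgroup G} (hH : IsCoatom H) (hσ : p ∈ sigma H) (hSH : S ≤ H)
    (hne : M ≠ H) : Pair p M H S :=
  ⟨P.minSimple, P.coatomM, hH, hne, P.sigmaM, hσ, P.alphaM, P.not_alpha_of, P.syl, P.leM, hSH⟩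

/-- A nontrivial element of `S` is moved by an element of prime power order of `N(S)`. -/
theorem exists_mover (P : Pair p M L S) {b : G} (hb : b ∈ S) (hb1 : b ≠ 1) :
    ∃ n ∈ Subgroup.normalizer (S : Set G), ∃ q k : ℕ, q.Prime ∧ orderOf n = q ^ k ∧ n * b ≠ b * n := by
  by_contra hno
  push Not at hno
  set N := Subgroup.normalizer (S : Set G) with hN
  obtain ⟨S', hS'⟩ := P.syl.exists_sylow
  haveI : (S.subgroupOf N).Normal := Subgroup.normal_in_normalizer
  have hSN : S ≤ N := Subgroup.le_normalizer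
  obtain ⟨j, hj⟩ := IsPGroup.iff_card.1 P.syl.isPGroup
  obtain ⟨V₀, hV₀⟩ := Subgroup.exists_right_complement'_of_coprime (N := S.subgroupOf N) (by
    rw [Solv.card_subgroupOf hSN, hj]
    refine Nat.Coprime.pow_left j ((Nat.Prime.coprime_iff_not_dvd hp.out).2 ?_)
    exact (P.syl.mono hSN le_top).not_dvd)
  set V := V₀.map N.subtype with hV
  have hVN : V ≤ N := Subgroup.map_subtype_le _
  have hcompl : IsComplIn S V N := by
    refine ⟨hSN, hVN, eq_bot_iff.2 ?_, fun m hm => ?_⟩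
    · rintro _ ⟨hs, ⟨v, hv, rfl⟩⟩
      have h1 : v ∈ S.subgroupOf N ⊓ V₀ := ⟨hs, hv⟩
      rw [disjoint_iff.1 hV₀.disjoint, Subgroup.mem_bot] at h1
      rw [h1, map_one]; exact Subgroup.one_mem _
    · obtain ⟨a, ha, v, hv, e⟩ := Subgroup.mem_sup_of_normal_left.1 (hV₀.sup_eq_top ▸ Subgroup.mem_top (⟨m, hm⟩ : N))
      exact ⟨a, ha, v, ⟨v, hv, rfl⟩, (congrArg Subtype.val e).symm⟩
  obtain ⟨hSV, hco⟩ := compl_facts P.minSimple S' (by rw [hS']; exact P.ne_bot) (V := V) (by rw [hS']; exact hcompl)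
  rw [hS'] at hSV
  have hbC : b ∈ Subgroup.centralizer (V : Set G) := Subgroup.mem_centralizer_iff.2 fun v hv => by
    have hv' : v ∈ Subgroup.centralizer ({b} : Set G) ⊓ Subgroup.zpowers v := by
      refine (Subgroup.eq_of_le_of_card_ge (inf_le_right : Subgroup.centralizer ({b} : Set G) ⊓ Subgroup.zpowers v ≤ _)
        (Nat.le_of_dvd Nat.card_pos ?_)).ge (Subgroup.mem_zpowers v)
      rw [Nat.card_zpowers]
      refine (Nat.dvd_iff_prime_pow_dvd_dvd _ _).2 fun q k hq hd => ?_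
      have ho := orderOf_pow_orderOf_div (orderOf_pos v).ne' hd
      rw [← ho]
      exact Subgroup.orderOf_dvd_natCard _ ⟨Subgroup.mem_centralizer_singleton_iff.2
        (hno _ (pow_mem (hVN hv) _) q k hq ho), Subgroup.npow_mem_zpowers v _⟩
    exact Subgroup.mem_centralizer_singleton_iff.1 hv'.1
  have h := Solv.PLenFix.commutator_inf_centralizer S V P.abelian hVN (by rw [hj]; exact Nat.Coprime.pow_right j hco)
  rw [← hSV] at h
  exact hb1 (Subgroup.mem_bot.1 (h ▸ ⟨hb, hbC⟩ : b ∈ (⊥ : Subgroup G)))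

end Pair

/-- Elementary subgroups of order `p²` and `q²` outside `σ(H)` commute up to conjugation. -/
theorem tau2_commute {q : ℕ} [Fact q.Prime] (hpq : p ≠ q) {H A B : Subgroup G} (s : Setup p H A)
    (t : Setup q H B) : ∃ u ∈ H, cj B u ≤ Subgroup.centralizer (A : Set G) := by
  have hG := s.minSimple
  obtain ⟨E, hE⟩ := exists_compl hG s.coatom
  have hinto : ∀ {r : ℕ} [Fact r.Prime] {X : Subgroup G}, Setup r H X →
      ∃ X₀ : Subgroup G, X₀ ≤ E ∧ Setup r H X₀ ∧ ∃ u ∈ H, cj X u = X₀ := by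
    intro r _ X sX
    obtain ⟨X₀, hX₀E, s₀⟩ := exists_setup_in_compl hG s.coatom hE
      ⟨Fact.out, sX.not_sigma, sX.rank, sX.rank_one⟩
    obtain ⟨T, hT, hXT⟩ := exists_sylIn_ge (Fusion.elab_isPGroup sX.elem) sX.le
    obtain ⟨T₀, hT₀, hX₀T⟩ := exists_sylIn_ge (Fusion.elab_isPGroup s₀.elem) s₀.le
    obtain ⟨u, hu, rfl⟩ := hT.conj_eq hT₀
    refine ⟨X₀, hX₀E, s₀, u, hu, Subgroup.eq_of_le_of_card_ge (fun x hx => ?_) (by rw [card_cj, sX.card, s₀.card])⟩
    exact (omega_iff s₀ hT₀ hX₀T x (cj_mono hXT u hx)).1 ((elab_cj sX.elem u).2 x hx)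
  obtain ⟨A₀, hA₀E, sA, a, ha, rfl⟩ := hinto s
  obtain ⟨B₀, hB₀E, sB, b, hb, rfl⟩ := hinto t
  have hc : cj B b ≤ Subgroup.centralizer (cj A a : Set G) :=
    centralizes_of_meet (hA₀E.trans (complement_tau2 sB hE hB₀E).1.1) le_rfl
      (hB₀E.trans (complement_tau2 sA hE hA₀E).1.1)
      (Solv.coprime_inf (coprime_pgroup (Ne.symm hpq) (Fusion.elab_isPGroup sB.elem) (Fusion.elab_isPGroup sA.elem)))
  refine ⟨a⁻¹ * b, H.mul_mem (H.inv_mem ha) hb, ?_⟩
  have h := cj_mono hc a⁻¹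
  rwa [cj_cj, Fusion.cj_centralizer, Fusion.cj_cj_inv] at h

/-- Elements of a complement inside `M'` lie in its derived subgroup. -/
theorem compl_inf_derived {E : Subgroup G} (hE : IsComplIn E (sigmaCore M) M) :
    E ⊓ ⁅M, M⁆ ≤ ⁅E, E⁆ := by
  rintro x ⟨hxE, hxD⟩
  obtain ⟨hEM, hσM, hinf, hmul⟩ := hE
  rw [← Subgroup.map_subtype_commutator] at hxD
  obtain ⟨x', hx', rfl⟩ := hxD
  set π := QuotientGroup.mk' (piCore (sigma M) ↥M)
  set φ : ↥E →* ↥M ⧸ piCore (sigma M) ↥M := π.comp (Subgroup.inclusion hEM)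
  have hsurj : Function.Surjective φ := fun y => by
    obtain ⟨m, rfl⟩ := QuotientGroup.mk'_surjective _ y
    obtain ⟨a, ha, b, hb, e⟩ := hmul m m.2
    refine ⟨⟨a, ha⟩, QuotientGroup.eq.2 ?_⟩
    obtain ⟨c, hc, rfl⟩ := hb
    have h1 : (Subgroup.inclusion hEM ⟨a, ha⟩)⁻¹ * m = c := Subtype.ext (by
      show a⁻¹ * (m : G) = c
      rw [e, inv_mul_cancel_left]; rfl)
    rw [h1]
    exact hc
  have hx'' : π x' ∈ (commutator ↥E).map φ := by
    rw [commutator_def, Subgroup.map_commutator, Subgroup.map_top_of_surjective _ hsurj,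
      ← Subgroup.map_top_of_surjective π (QuotientGroup.mk'_surjective _), ← Subgroup.map_commutator, ← commutator_def]
    exact Subgroup.mem_map_of_mem π hx'
  obtain ⟨e, he, hee⟩ := hx''
  have h2 : (e : G)⁻¹ * (x' : G) ∈ E ⊓ sigmaCore M :=
    ⟨E.mul_mem (E.inv_mem e.2) hxE, ⟨_, QuotientGroup.eq.1 hee, rfl⟩⟩
  rw [hinf, Subgroup.mem_bot, inv_mul_eq_one] at h2
  rw [← Subgroup.map_subtype_commutator]
  exact ⟨e, he, h2⟩

end Cfsg.Agent.OddLocal.Disjoint
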