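import Cfsg.Agent.Lib.OddLocal.SigmaPairMover
import Cfsg.Agent.Lib.OddLocal.SigmaCentralizer
import Cfsg.Agent.Lib.Solv.FrobeniusFormula
import Mathlib.GroupTheory.SpecificGroups.ZGroup

/-!
The fixed points on the two `β`-cores of an element of prime order of `N(S)` moving `S`.
-/

set_option autoImplicit false
set_option linter.style.haveILetI false

namespace Cfsg.Agent.OddLocal.Disjoint

open scoped Pointwise commutatorElement
open Cfsg
open Cfsg.Agent.Fusion (SylIn cj cj_cj cj_eq_self cj_mono card_cj isPGroup_cj exists_sylIn_ge exists_sylIn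
  mem_normalizer_of_cj_le)
open Cfsg.Agent.OddLocal.Uniq
open Cfsg.Agent.OddLocal.Sig
open Cfsg.Agent.OddLocal.RankTwo
open Cfsg.Agent.OddLocal.TauTwo
open Cfsg.Agent.OddLocal.SigmaCentralizer (centralizer_beta)

universe u

variable {G : Type u} [Group G] [Finite G] {p : ℕ} [hp : Fact p.Prime] {M L S : Subgroup G}

omit hp in
theorem mem_centralizer_zpowers {x g : G} :
    g ∈ Subgroup.centralizer (Subgroup.zpowers x : Set G) ↔ x * g = g * x := by
  rw [centralizer_zpowers, Subgroup.mem_centralizer_singleton_iff]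
  exact eq_comm

omit hp in
theorem zpowers_card {x : G} {r : ℕ} (h : orderOf x = r) : Nat.card (Subgroup.zpowers x) = r := by
  rw [Nat.card_zpowers, h]

omit [Finite G] hp in
theorem eq_of_card_cyclic [Finite G] {C X Y : Subgroup G} [IsCyclic ↥C] (hX : X ≤ C) (hY : Y ≤ C)
    (h : Nat.card X = Nat.card Y) : X = Y := by
  letI : CommGroup ↥C := IsCyclic.commGroup
  have key : ∀ D : Subgroup ↥C, D = (powMonoidHom (Nat.card D) : ↥C →* ↥C).ker := fun D => by
    refine Subgroup.eq_of_le_of_card_ge (fun d hd => ?_) ?_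
    · exact congrArg Subtype.val (pow_card_eq_one' (G := D) (x := ⟨d, hd⟩))
    · rw [IsCyclic.card_powMonoidHom_ker]
      exact Nat.gcd_le_right _ Nat.card_pos
  rw [← Subgroup.map_subgroupOf_eq_of_le hX, ← Subgroup.map_subgroupOf_eq_of_le hY, key (X.subgroupOf C),
    key (Y.subgroupOf C), Solv.card_subgroupOf hX, Solv.card_subgroupOf hY, h]

/-- The fixed points of `x` on `M_β` lie outside `N(S)`. -/
theorem Pair.fixed_not_le (P : Pair p M L S) {U : Subgroup G} (hUS : U ≤ S) {x : G} {r : ℕ} [hr : Fact r.Prime]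
    (hxo : orderOf x = r) (hx : x ∈ Subgroup.normalizer (S : Set G)) (hrM : r ∉ sigma M)
    (hxU : x ∈ Subgroup.normalizer (U : Set G)) (hfix : ∀ u ∈ U, x * u = u * x → u = 1)
    (hCU : piCoreOf (beta M) M ⊓ Subgroup.centralizer (U : Set G) ≤ Subgroup.normalizer (S : Set G)) :
    ¬ piCoreOf (beta M) M ⊓ Subgroup.centralizer (Subgroup.zpowers x : Set G) ≤ Subgroup.normalizer (S : Set G) := by
  intro hCx
  have hG := P.minSimple
  set B := piCoreOf (beta M) M with hB
  set N := Subgroup.normalizer (S : Set G) with hN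
  set E := Subgroup.zpowers x
  have hBM : B ≤ M := Subgroup.map_subtype_le _
  have hNM : N ≤ M := P.normalizer_le.trans inf_le_left
  have hsub : ∀ b ∈ B, b ∈ N → b ∈ Subgroup.centralizer (U : Set G) := fun b hb hbN =>
    centralizer_le_of_le hUS (P.symm.beta_centralizes hb hbN)
  have hle : U ⊔ E ≤ Subgroup.normalizer (B : Set G) :=
    sup_le (hUS.trans (P.leM.trans le_normalizer_piCoreOf))
      (Subgroup.zpowers_le.2 (le_normalizer_piCoreOf (hNM hx)))
  have hcoB : (Nat.card B).Coprime (Nat.card ↥(U ⊔ E)) := by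
    refine Nat.coprime_of_dvd fun q hq h1 h2 => ?_
    have hqβ := (betaCore_hall hG P.coatomM).1.2.1 q hq h1
    have h3 := h2.trans (Subgroup.card_dvd_of_le (sup_le_sup_right hUS E))
    have h4 := Solv.card_sup_mul_card_inf' S E (Subgroup.zpowers_le.2 hx)
    rcases (Nat.Prime.dvd_mul hq).1 (h4 ▸ h3.mul_right _ : q ∣ Nat.card S * Nat.card E) with h | h
    · obtain ⟨j, hj⟩ := IsPGroup.iff_card.1 P.syl.isPGroup
      rw [hj] at h
      exact P.not_beta ((Nat.prime_dvd_prime_iff_eq hq hp.out).1 (hq.dvd_of_dvd_pow h) ▸ hqβ)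
    · rw [zpowers_card hxo] at h
      exact hrM (alpha_subset_sigma hG P.coatomM (beta_subset_alpha ((Nat.prime_dvd_prime_iff_eq hq hr.out).1 h ▸ hqβ)))
  have key := Solv.FrobFix.formula B U E (Solv.isSolvable_of_le hBM (hG.2.2.2 M P.coatomM.1)) hle
    (Subgroup.zpowers_le.2 hxU) (fun e he he1 u hu h => hfix u hu (by
      obtain ⟨k, rfl⟩ := Subgroup.mem_zpowers_iff.1 (mem_zpowers_of_order hr.out hxo he he1)
      exact ((show Commute e u from h).zpow_left k).eq)) hcoB
  have he : B ⊓ Subgroup.centralizer ((U ⊔ E : Subgroup G) : Set G) = B ⊓ Subgroup.centralizer (E : Set G) := by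
    refine le_antisymm (inf_le_inf_left _ (centralizer_le_of_le le_sup_right)) fun b hb => ?_
    refine Subgroup.mem_inf.2 ⟨hb.1, Subgroup.le_centralizer_iff.1 (sup_le ?_ ?_) (Subgroup.mem_zpowers b)⟩
    · exact Subgroup.le_centralizer_iff.1 (Subgroup.zpowers_le.2 (hsub b hb.1 (hCx hb)))
    · exact Subgroup.le_centralizer_iff.1 (Subgroup.zpowers_le.2 hb.2)
  rw [he] at key
  have h1 := Nat.eq_of_mul_eq_mul_left (pow_pos Nat.card_pos _) key
  have h2 : B ⊓ Subgroup.centralizer (U : Set G) = B := Subgroup.eq_of_le_of_card_ge inf_le_left h1.le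
  have h3 : M ≤ N := P.sup_eq.ge.trans (sup_le (h2.ge.trans hCU) le_rfl)
  exact P.ne (((P.coatomM.le_iff).1 (h3.trans (P.normalizer_le.trans inf_le_right))).resolve_left P.coatomL.1).symm

/-- A subgroup of `S` with fixed points on `M_β` outside `N(S)` has none on `L_β`. -/
theorem Pair.fixed_line (P : Pair p M L S) (hnc : ¬ IsCyclic ↥S) {U : Subgroup G} (hUS : U ≤ S) (hU : U ≠ ⊥)
    (h : ¬ piCoreOf (beta M) M ⊓ Subgroup.centralizer (U : Set G) ≤ Subgroup.normalizer (S : Set G)) :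
    piCoreOf (beta L) L ⊓ Subgroup.centralizer (U : Set G) ≤ Subgroup.normalizer (S : Set G) := by
  have hG := P.minSimple
  have hUp := P.syl.isPGroup.to_le hUS
  obtain ⟨H, hH, hNH⟩ := exists_coatom _ (normalizer_pgroup_ne_top hG hUp hU)
  have hCH : Subgroup.centralizer (U : Set G) ≤ H := (Subgroup.centralizer_le_normalizer _).trans hNH
  have hSC : S ≤ Subgroup.centralizer (U : Set G) := fun s hs =>
    Subgroup.mem_centralizer_iff.2 fun u hu => P.commute (hUS hu) hs
  have hHM : H = M := by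
    by_contra hne
    refine h fun z hz => ?_
    have hzM : z ∈ M := Subgroup.map_subtype_le _ hz.1
    have hzH : z ∈ H := hCH hz.2
    by_cases hσ : p ∈ sigma H
    · exact (P.extend hH hσ (hSC.trans hCH) (Ne.symm hne)).inf_le_inf hzM hzH
    obtain ⟨A, hAS, hAe, hA⟩ := P.exists_A hnc
    have s := P.setup hH hσ ((hAS.trans hSC).trans hCH) hAe hA
    have hinf := sigmaCore_inf_coatom s P.coatomM (Ne.symm hne) (hAS.trans P.leM)
    have hzA : z ∈ Subgroup.normalizer (A : Set G) := mem_normalizer_of_cj_le fun a ha => by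
      have h1 : a ∈ sigmaCore H ⊔ A :=
        ((cj_mono le_sup_right z).trans (cj_eq_self (sigmaCore_sup_normal s hzH)).le) ha
      have h2 : a ∈ M := ((cj_mono (hAS.trans P.leM) z).trans (Fusion.cj_eq_self_of_mem hzM).le) ha
      rw [← SetLike.mem_coe, Subgroup.coe_mul_of_right_le_normalizer_left (sigmaCore H) A
        (s.le.trans le_normalizer_piCoreOf)] at h1
      obtain ⟨m, hm, a', ha', rfl⟩ := h1
      have h3 : m ∈ sigmaCore H ⊓ M := ⟨hm, by simpa using M.mul_mem h2 (M.inv_mem (P.leM (hAS ha')))⟩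
      rw [hinf, Subgroup.mem_bot] at h3
      simpa [h3] using ha'
    have hco : piCoreOf (beta M) M ⊓ A = ⊥ := Solv.coprime_inf (Nat.coprime_of_dvd fun q hq h1 h2 => by
      rw [hA] at h2
      exact P.not_beta ((Nat.prime_dvd_prime_iff_eq hq hp.out).1 (hq.dvd_of_dvd_pow h2) ▸
        (betaCore_hall hG P.coatomM).1.2.1 q hq h1))
    have hzC := Solv.centralizer_of_normalizes ((hAS.trans P.leM).trans le_normalizer_piCoreOf) hco hz.1 hzA
    exact P.inf_le_inf hzM ((rank_two_lemma hG P.coatomL (hAS.trans P.leL) hAe hA).1 hzC)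
  intro z hz
  exact P.inf_le_inf (hHM ▸ hCH hz.2) (Subgroup.map_subtype_le _ hz.1)

/-- `z` witnesses fixed points of `x` on `L_β` outside `N(S)`. -/
structure Gen (L S : Subgroup G) (x z : G) (t : ℕ) : Prop where
  prime : t.Prime
  mem_beta : t ∈ beta L
  pow : ∃ k, orderOf z = t ^ k
  mem : z ∈ piCoreOf (beta L) L
  comm : x * z = z * x
  not_dvd : ¬ orderOf z ∣
    Nat.card ↥(piCoreOf (beta L) L ⊓ Subgroup.centralizer (Subgroup.zpowers x : Set G) ⊓
      Subgroup.normalizer (S : Set G))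
  normalizer_le : Subgroup.normalizer (Subgroup.zpowers z : Set G) ≤ L

/-- The maximal subgroups over `N(⟨x⟩)` are new. -/
theorem Pair.over_normalizer (P : Pair p M L S) {x : G} {r : ℕ} [hr : Fact r.Prime] (hxo : orderOf x = r)
    (hrM : r ∉ sigma M) {H : Subgroup G} (hH : IsCoatom H)
    (hNH : Subgroup.normalizer (Subgroup.zpowers x : Set G) ≤ H) (g : G) : H ≠ cj M g := by
  rintro rfl
  obtain ⟨F, hF, hFe, hFc⟩ := exists_elab_of_prank
    (order_p_normalizer P.minSimple hH (fun h => hrM (sigma_of_cj h)) (zpowers_card hxo) hNH).1.2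
  refine not_prankLE_of_elab ?_ (elab_cj hFe g⁻¹) (by rw [card_cj]; exact hFc) (P.rank_one hrM)
  exact (cj_mono hF _).trans (Fusion.cj_cj_inv M g).le

/-- Primes of `β(L)` in a new maximal subgroup. -/
theorem Pair.beta_rank_one (P : Pair p M L S) {x : G} {r : ℕ} [hr : Fact r.Prime] (hxo : orderOf x = r)
    (hrL : r ∉ sigma L) {H : Subgroup G} (hH : IsCoatom H)
    (hNH : Subgroup.normalizer (Subgroup.zpowers x : Set G) ≤ H) {t : ℕ} [Fact t.Prime] (ht : t ∈ beta L) :
    t ∉ sigma H ∧ PRankLE t 1 ↥H := by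
  have hσ : t ∉ sigma H := fun hσ => by
    obtain ⟨R, hR⟩ := exists_sylIn (p := t) L
    obtain ⟨g, hg⟩ := SigmaSubgroups.conjugate_of_shared P.minSimple hH P.coatomL hσ
      (alpha_subset_sigma P.minSimple P.coatomL (beta_subset_alpha ht)) hR (Or.inl (beta_subset_alpha ht))
    exact P.symm.over_normalizer hxo hrL hH hNH g⁻¹ (by rw [hg, Fusion.cj_cj_inv])
  refine ⟨hσ, ?_⟩
  by_contra hr1
  exact (not_ideal P.minSimple hH (prankLE_of_not_alpha Fact.out (not_alpha_of_not_sigma P.minSimple hH hσ)) hr1).1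
    ht.2

theorem Pair.exists_gen (P : Pair p M L S) {x : G} {r : ℕ} [hr : Fact r.Prime] (hxo : orderOf x = r)
    (hrL : r ∉ sigma L)
    (h : ¬ piCoreOf (beta L) L ⊓ Subgroup.centralizer (Subgroup.zpowers x : Set G) ≤ Subgroup.normalizer (S : Set G)) :
    ∃ z t, Gen L S x z t := by
  have hG := P.minSimple
  set D := piCoreOf (beta L) L ⊓ Subgroup.centralizer (Subgroup.zpowers x : Set G) with hD
  set N := Subgroup.normalizer (S : Set G)
  have hDL : D ≤ L := inf_le_left.trans (Subgroup.map_subtype_le _)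
  obtain ⟨t, htp, hd⟩ : ∃ t, t.Prime ∧ t ∣ (D ⊓ N).relIndex D := Nat.exists_prime_and_dvd fun h1 =>
    h ((Subgroup.relIndex_eq_one.1 h1).trans inf_le_right)
  haveI := Fact.mk htp
  have htD : t ∣ Nat.card D := by
    rw [← Subgroup.relIndex_bot_left, ← Subgroup.relIndex_mul_relIndex ⊥ (D ⊓ N) D bot_le inf_le_left]
    exact hd.mul_left _
  have ht : t ∈ beta L := (betaCore_hall hG P.coatomL).1.2.1 t htp (htD.trans (Subgroup.card_dvd_of_le inf_le_left))
  obtain ⟨H, hH, hNH⟩ := exists_coatom _ (normalizer_pgroup_ne_top hG (isPGroup_of_card (zpowers_card hxo))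
    (ne_bot_of_card (zpowers_card hxo)))
  have hDH : D ≤ H := inf_le_right.trans ((Subgroup.centralizer_le_normalizer _).trans hNH)
  obtain ⟨T, hT⟩ := exists_sylIn (p := t) D
  obtain ⟨⟨z, hzT⟩, hz⟩ := (cyclic_of_prank hG hT.isPGroup (hT.le.trans hDH)
    (P.beta_rank_one hxo hrL hH hNH ht).2).exists_generator
  have hzo : orderOf z = Nat.card T := by
    rw [← orderOf_eq_card_of_forall_mem_zpowers hz, Subgroup.orderOf_mk]
  obtain ⟨j, hj⟩ := IsPGroup.iff_card.1 hT.isPGroup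
  have hzD := hT.le hzT
  refine ⟨z, t, htp, ht, ⟨j, hzo.trans hj⟩, hzD.1, mem_centralizer_zpowers.1 hzD.2, fun hdvd => ?_, ?_⟩
  · rw [hzo] at hdvd
    refine hT.not_dvd ?_
    have h1 := Subgroup.relIndex_mul_relIndex ⊥ T D bot_le hT.le
    have h2 := Subgroup.relIndex_mul_relIndex ⊥ (D ⊓ N) D bot_le inf_le_left
    rw [Subgroup.relIndex_bot_left, Subgroup.relIndex_bot_left] at h1 h2
    rw [← h2] at h1
    obtain ⟨c, hc⟩ := hdvd
    rw [hc, mul_assoc] at h1
    exact (Nat.eq_of_mul_eq_mul_left Nat.card_pos h1) ▸ hd.mul_left c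
  have htz : t ∣ orderOf z := by
    rw [hzo, hj]
    refine dvd_pow_self t fun h0 => hT.not_dvd ?_
    rw [Subgroup.card_eq_one.1 (hj.trans (by rw [h0, pow_zero])), Subgroup.relIndex_bot_left]
    exact htD
  set w := z ^ (orderOf z / t)
  have hwo : orderOf w = t := orderOf_pow_orderOf_div (orderOf_pos z).ne' htz
  have hwz : Subgroup.zpowers w ≤ Subgroup.zpowers z :=
    Subgroup.zpowers_le.2 (Subgroup.npow_mem_zpowers z _)
  have hzc : IsCyclic ↥(Subgroup.zpowers z) := inferInstance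
  obtain ⟨hCw, hu⟩ := centralizer_beta hG P.coatomL (alpha_subset_sigma hG P.coatomL (beta_subset_alpha ht)) ht
    (hwz.trans (Subgroup.zpowers_le.2 (hDL hzD))) (zpowers_card hwo)
  intro g hg
  have hgw : cj (Subgroup.zpowers w) g = Subgroup.zpowers w :=
    cyclic_eq hzc ((cj_mono hwz g).trans (cj_eq_self hg).le) hwz (by rw [card_cj, zpowers_card hwo]) (zpowers_card hwo)
  have hL' : IsCoatom (cj L g) :=
    (OrderIso.isCoatom_iff (MulEquiv.mapSubgroup (MulAut.conj g)) L).2 P.coatomL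
  have hgL : cj L g = L := hu _ hL' (by
    have h1 := cj_mono hCw g
    rwa [Fusion.cj_centralizer, hgw] at h1)
  by_contra hgL'
  exact hgL' (normalizer_coatom hG P.coatomL ▸ mem_normalizer_of_cj_le hgL.le)

/-- `z` cannot centralize a Sylow subgroup of `L` normalised by `x`. -/
theorem Pair.gen_false (P : Pair p M L S) {x z : G} {r t : ℕ} [hr : Fact r.Prime] (hxo : orderOf x = r)
    (hx : x ∈ Subgroup.normalizer (S : Set G)) (hrL : r ∉ sigma L) (g : Gen L S x z t) {S' : Subgroup G}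
    (hS' : SylIn p S' ⊤) (hS'L : S' ≤ L) (hxS' : x ∈ Subgroup.normalizer (S' : Set G))
    (hz : z ∈ Subgroup.centralizer (S' : Set G)) : False := by
  have hG := P.minSimple
  set B := piCoreOf (beta L) L with hB
  set N := Subgroup.normalizer (S : Set G) with hN
  have hBn : L ≤ Subgroup.normalizer (B : Set G) := le_normalizer_piCoreOf
  obtain ⟨l, hl, hlS⟩ := P.symm.sylM.conj_eq (hS'.mono hS'L le_top)
  obtain ⟨u, hu, n, hn, rfl⟩ := factor hG P.coatomL P.sigmaL P.symm.not_beta P.symm.sylM l hl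
  rw [← cj_cj, cj_eq_self hn.2] at hlS
  have hxL : x ∈ L := (P.normalizer_le hx).2
  have hXn : Subgroup.zpowers x ≤ L := Subgroup.zpowers_le.2 hxL
  have hDn : Subgroup.zpowers x ≤ Subgroup.normalizer ((B ⊓ N : Subgroup G) : Set G) := fun a ha =>
    mem_normalizer_of_cj_le (by
      rw [Fusion.cj_inf, cj_eq_self (hBn (hXn ha)), Fusion.cj_eq_self_of_mem (Subgroup.zpowers_le.2 hx ha : a ∈ N)])
  have hco : (Nat.card (Subgroup.zpowers x)).Coprime (Nat.card B) := by
    rw [zpowers_card hxo]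
    exact (Nat.Prime.coprime_iff_not_dvd hr.out).2 fun hd => hrL (alpha_subset_sigma hG P.coatomL
      (beta_subset_alpha ((betaCore_hall hG P.coatomL).1.2.1 r hr.out hd)))
  obtain ⟨c, hc, hcD⟩ := Solv.exists_fixed_in_coset' (Subgroup.zpowers x) B (B ⊓ N) (hXn.trans hBn) hco
    (Or.inl (Solv.isSolvable_of_le hXn (hG.2.2.2 L P.coatomL.1))) inf_le_left hDn hu fun a ha => by
      refine Subgroup.mem_inf.2 ⟨B.mul_mem (B.inv_mem hu)
        ((Subgroup.mem_normalizer_iff.1 (hBn (hXn ha)) u).1 hu), mem_normalizer_of_cj_le (le_of_eq ?_)⟩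
      rw [← cj_cj, ← cj_cj, ← cj_cj, cj_eq_self ((Subgroup.zpowers_le.2 hx) (Subgroup.inv_mem _ ha)), hlS,
        cj_eq_self ((Subgroup.zpowers_le.2 hxS') ha), ← hlS, Fusion.cj_cj_inv]
  have hcS : cj S c = S' := by
    rw [show c = u * (u⁻¹ * c) by group, ← cj_cj, cj_eq_self hcD.2, hlS]
  have hz' : c⁻¹ * z * c ∈ Subgroup.centralizer (S : Set G) := Subgroup.mem_centralizer_iff.2 fun s hs => by
    have h1 := Subgroup.mem_centralizer_iff.1 hz _ (hcS ▸ Fusion.conj_mem_cj (g := c) hs)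
    calc s * (c⁻¹ * z * c) = c⁻¹ * (c * s * c⁻¹ * z) * c := by group
      _ = c⁻¹ * (z * (c * s * c⁻¹)) * c := by rw [h1]
      _ = _ := by group
  have hCD : ∀ {y : G}, y ∈ B → x * y = y * x → y ∈ B ⊓ Subgroup.centralizer (Subgroup.zpowers x : Set G) :=
    fun hy hxy => ⟨hy, mem_centralizer_zpowers.2 hxy⟩
  refine g.not_dvd ?_
  rw [show orderOf z = orderOf (c⁻¹ * z * c) by
    rw [← orderOf_injective (MulAut.conj c).toMonoidHom (MulAut.conj c).injective (c⁻¹ * z * c)]
    simp [mul_assoc]]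
  exact Subgroup.orderOf_dvd_natCard _ ⟨Subgroup.mul_mem _ (Subgroup.mul_mem _ (Subgroup.inv_mem _ hc)
    (hCD g.mem g.comm)) hc, Subgroup.centralizer_le_normalizer _ hz'⟩

/-- An element of order a power of a prime of `σ(L)` normalising a Sylow subgroup centralizes it. -/
theorem Pair.centralizes_of_sigma (P : Pair p M L S) {z : G} (hz : z ∈ Subgroup.normalizer (S : Set G)) {t k : ℕ}
    (ht : t.Prime) (hzo : orderOf z = t ^ k) (hσ : t ∈ sigma L) : z ∈ Subgroup.centralizer (S : Set G) := by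
  by_contra h
  exact (P.mover_prime hz ht hzo h).2.2 hσ

/-- No conjugate of `z` under `C(x)` lies in `M`. -/
theorem Pair.conj_gen_false (P : Pair p M L S) {x z : G} {r t : ℕ} [hr : Fact r.Prime] (hxo : orderOf x = r)
    (hx : x ∈ Subgroup.normalizer (S : Set G)) (hrL : r ∉ sigma L) (g : Gen L S x z t) {m : G}
    (hm : x * m = m * x) (hzM : m * z * m⁻¹ ∈ M) : False := by
  have hG := P.minSimple
  haveI := Fact.mk g.prime
  obtain ⟨k, hk⟩ := g.pow
  have htL : t ∈ sigma L := alpha_subset_sigma hG P.coatomL (beta_subset_alpha g.mem_beta)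
  have htM : t ∉ beta M := fun h => P.beta_not_sigma g.mem_beta (alpha_subset_sigma hG P.coatomM (beta_subset_alpha h))
  have hzo : orderOf (m * z * m⁻¹) = t ^ k := by
    rw [← hk]
    exact orderOf_injective (MulAut.conj m).toMonoidHom (MulAut.conj m).injective z
  obtain ⟨a, ha, hle⟩ := P.conj_normalizer htM
    (IsPGroup.of_card (n := k) (zpowers_card hzo) : IsPGroup t ↥(Subgroup.zpowers (m * z * m⁻¹)))
    (Subgroup.zpowers_le.2 hzM)
  have hw : a * (m * z * m⁻¹) * a⁻¹ ∈ Subgroup.centralizer (S : Set G) :=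
    P.centralizes_of_sigma (hle (Fusion.conj_mem_cj (Subgroup.mem_zpowers _))) g.prime
      ((orderOf_injective (MulAut.conj a).toMonoidHom (MulAut.conj a).injective _).trans hzo) htL
  set S' := cj S (m⁻¹ * a⁻¹) with hS'
  have hzS' : z ∈ Subgroup.centralizer (S' : Set G) := by
    rw [hS', ← Fusion.cj_centralizer]
    have h1 := Fusion.conj_mem_cj (g := m⁻¹ * a⁻¹) hw
    rwa [show m⁻¹ * a⁻¹ * (a * (m * z * m⁻¹) * a⁻¹) * (m⁻¹ * a⁻¹)⁻¹ = z by group] at h1
  have hS'L : S' ≤ L := fun s hs => g.normalizer_le (Subgroup.centralizer_le_normalizer _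
    (mem_centralizer_zpowers.2 (Subgroup.mem_centralizer_iff.1 hzS' s hs).symm))
  set T := cj S a⁻¹ with hT
  have hTS : T = cj S' m := by
    rw [hS', cj_cj, hT]; congr 1; group
  have hsylT : SylIn p T ⊤ := P.syl.cj' (mem_normalizer_of_cj_le le_top)
  have hne : M ≠ cj L m := P.symm.not_conj m
  have P' : Pair p M (cj L m) T :=
    ⟨hG, P.coatomM, (OrderIso.isCoatom_iff (MulEquiv.mapSubgroup (MulAut.conj m)) L).2 P.coatomL, hne, P.sigmaM,
      sigma_of_cj (g := m⁻¹) (by rw [Fusion.cj_cj_inv]; exact P.sigmaL), P.alphaM, P.not_alpha_of, hsylT,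
      (cj_mono P.leM _).trans (Fusion.cj_eq_self_of_mem (M.inv_mem ha)).le, hTS ▸ cj_mono hS'L m⟩
  have hxm : m * x * m⁻¹ = x := by rw [← hm, mul_inv_cancel_right]
  have hxT : x ∈ Subgroup.normalizer (T : Set G) := P'.inf_le_inf (P.normalizer_le hx).1
    (hxm ▸ Fusion.conj_mem_cj (P.normalizer_le hx).2)
  refine P.gen_false hxo hx hrL g (P.syl.cj' (mem_normalizer_of_cj_le le_top)) hS'L ?_ hzS'
  rw [hTS, ← Fusion.cj_normalizer] at hxT
  obtain ⟨y, hy, hyx⟩ := hxT
  change m * y * m⁻¹ = x at hyx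
  rwa [show y = x from mul_left_cancel (mul_right_cancel (hyx.trans hxm.symm))] at hy

omit [Finite G] hp in
theorem cj_top (g : G) : cj (⊤ : Subgroup G) g = ⊤ :=
  Subgroup.map_top_of_surjective _ (MulAut.conj g).surjective

/-- Both `β`-cores cannot have fixed points outside `N(S)`. -/
theorem Pair.both_gen_false (P : Pair p M L S) {x y z : G} {r s t : ℕ} [hr : Fact r.Prime] (hxo : orderOf x = r)
    (hx : x ∈ Subgroup.normalizer (S : Set G)) (hrM : r ∉ sigma M) (hrL : r ∉ sigma L) (gM : Gen M S x y s)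
    (gL : Gen L S x z t) : False := by
  classical
  have hG := P.minSimple
  haveI := Fact.mk gM.prime
  haveI := Fact.mk gL.prime
  have hst : s ≠ t := fun h => P.beta_not_sigma gL.mem_beta
    (alpha_subset_sigma hG P.coatomM (beta_subset_alpha (h ▸ gM.mem_beta)))
  obtain ⟨H, hH, hNH⟩ := exists_coatom _ (normalizer_pgroup_ne_top hG (isPGroup_of_card (zpowers_card hxo))
    (ne_bot_of_card (zpowers_card hxo)))
  set W := Subgroup.centralizer (Subgroup.zpowers x : Set G) with hW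
  have hWH : W ≤ H := (Subgroup.centralizer_le_normalizer _).trans hNH
  have hrs := (P.symm.beta_rank_one hxo hrM hH hNH gM.mem_beta).2
  have hrt := (P.beta_rank_one hxo hrL hH hNH gL.mem_beta).2
  haveI hsolW : Group.IsSolvable ↥W := Solv.isSolvable_of_le hWH (hG.2.2.2 H hH.1)
  set a := (Nat.card W).factorization s
  set b := (Nat.card W).factorization t
  obtain ⟨n, hn⟩ : s ^ a * t ^ b ∣ Nat.card W := Nat.Coprime.mul_dvd_of_dvd_of_dvd
    (Nat.Coprime.pow a b ((Nat.coprime_primes gM.prime gL.prime).2 hst)) (Nat.ordProj_dvd _ _) (Nat.ordProj_dvd _ _)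
  have hns : ¬ s ∣ n := fun h => by
    have h1 : s ^ (a + 1) ∣ Nat.card W := by
      rw [hn, pow_succ, mul_right_comm]
      exact (mul_dvd_mul_left _ h).mul_right _
    exact Nat.pow_succ_factorization_not_dvd Nat.card_pos.ne' gM.prime h1
  have hnt : ¬ t ∣ n := fun h => by
    have h1 : t ^ (b + 1) ∣ Nat.card W := by
      rw [hn, pow_succ, mul_assoc]
      exact (mul_dvd_mul_left _ h).mul_left _
    exact Nat.pow_succ_factorization_not_dvd Nat.card_pos.ne' gL.prime h1
  have hcs : ∀ j, (s ^ j).Coprime n := fun j => Nat.Coprime.pow_left _ ((Nat.Prime.coprime_iff_not_dvd gM.prime).2 hns)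
  have hct : ∀ j, (t ^ j).Coprime n := fun j => Nat.Coprime.pow_left _ ((Nat.Prime.coprime_iff_not_dvd gL.prime).2 hnt)
  obtain ⟨K, hK⟩ := Solv.hall_exists hsolW hn (Nat.Coprime.mul_left (hcs a) (hct b))
  obtain ⟨i, hi⟩ := gM.pow
  obtain ⟨k, hk⟩ := gL.pow
  let y' : W := ⟨y, mem_centralizer_zpowers.2 gM.comm⟩
  let z' : W := ⟨z, mem_centralizer_zpowers.2 gL.comm⟩
  obtain ⟨g₁, hg₁⟩ := Solv.hall_contain hsolW hn (Nat.Coprime.mul_left (hcs a) (hct b)) (Subgroup.zpowers y') K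
    (by rw [zpowers_card ((Subgroup.orderOf_coe y').symm.trans hi)]; exact hcs i) hK
  obtain ⟨g₂, hg₂⟩ := Solv.hall_contain hsolW hn (Nat.Coprime.mul_left (hcs a) (hct b)) (Subgroup.zpowers z') K
    (by rw [zpowers_card ((Subgroup.orderOf_coe z').symm.trans hk)]; exact hct k) hK
  have hy' := Subgroup.mem_pointwise_smul_iff_inv_smul_mem.1 (hg₁ (Subgroup.mem_zpowers y'))
  have hz' := Subgroup.mem_pointwise_smul_iff_inv_smul_mem.1 (hg₂ (Subgroup.mem_zpowers z'))
  set y₁ : W := g₁⁻¹ * y' * g₁ with hy₁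
  set z₁ : W := g₂⁻¹ * z' * g₂ with hz₁
  have hy₁K : y₁ ∈ K := by simpa [hy₁, MulAut.smul_def, mul_assoc] using hy'
  have hz₁K : z₁ ∈ K := by simpa [hz₁, MulAut.smul_def, mul_assoc] using hz'
  have hcyc : ∀ q : ℕ, q.Prime → ∀ Q : Sylow q ↥K, IsCyclic ↥(Q : Subgroup ↥K) := by
    intro q hq Q
    haveI := Fact.mk hq
    obtain ⟨j, hj⟩ := IsPGroup.iff_card.1 Q.isPGroup'
    by_cases hj0 : j = 0
    · exact (by
        haveI := (Nat.card_eq_one_iff_unique.1 (show Nat.card ↥(Q : Subgroup ↥K) = 1 by rw [hj, hj0, pow_zero])).1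
        infer_instance)
    have hqK : q ∣ s ^ a * t ^ b := hK ▸ (hj ▸ dvd_pow_self q hj0).trans (Subgroup.card_subgroup_dvd_card _)
    have hr1 : PRankLE q 1 ↥H := by
      rcases (Nat.Prime.dvd_mul hq).1 hqK with h | h
      · exact ((Nat.prime_dvd_prime_iff_eq hq gM.prime).1 (hq.dvd_of_dvd_pow h)) ▸ hrs
      · exact ((Nat.prime_dvd_prime_iff_eq hq gL.prime).1 (hq.dvd_of_dvd_pow h)) ▸ hrt
    haveI := cyclic_of_prank hG ((Q.isPGroup'.map K.subtype).map W.subtype)
      ((Subgroup.map_subtype_le _).trans hWH) hr1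
    exact isCyclic_of_surjective (((Q : Subgroup ↥K).equivMapOfInjective K.subtype K.subtype_injective).trans
      (((Q : Subgroup ↥K).map K.subtype).equivMapOfInjective W.subtype W.subtype_injective)).symm
      (MulEquiv.surjective _)
  haveI hZ : IsZGroup ↥K := ⟨hcyc⟩
  haveI := IsZGroup.isCyclic_commutator (G := ↥K)
  have key : ∀ {u : K} {q e : ℕ}, q.Prime → orderOf u = q ^ e → ¬ q ∣ (commutator ↥K).index →
      ∀ v : K, v * u * v⁻¹ ∈ Subgroup.zpowers u := by
    intro u q e hq huo hidx v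
    have hu : u ∈ commutator ↥K := by
      rw [← QuotientGroup.eq_one_iff, ← QuotientGroup.mk'_apply, ← orderOf_eq_one_iff]
      have h1 : orderOf (QuotientGroup.mk' (commutator ↥K) u) ∣ q ^ e := huo ▸ orderOf_map_dvd _ _
      have h2 : orderOf (QuotientGroup.mk' (commutator ↥K) u) ∣ (commutator ↥K).index := orderOf_dvd_natCard _
      exact Nat.eq_one_of_dvd_coprimes (Nat.Coprime.pow_left e ((Nat.Prime.coprime_iff_not_dvd hq).2 hidx)) h1 h2
    have h1 : cj (Subgroup.zpowers u) v = Subgroup.zpowers u := by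
      refine eq_of_card_cyclic (C := commutator ↥K) ?_ (Subgroup.zpowers_le.2 hu) (card_cj _ _)
      exact (cj_mono (Subgroup.zpowers_le.2 hu) v).trans (cj_eq_self (by simp [Subgroup.normalizer_eq_top])).le
    exact h1 ▸ Fusion.conj_mem_cj (Subgroup.mem_zpowers u)
  have hnorm : (∀ v : K, v * ⟨y₁, hy₁K⟩ * v⁻¹ ∈ Subgroup.zpowers ⟨y₁, hy₁K⟩) ∨
      ∀ v : K, v * ⟨z₁, hz₁K⟩ * v⁻¹ ∈ Subgroup.zpowers ⟨z₁, hz₁K⟩ := by
    have hyo : orderOf (⟨y₁, hy₁K⟩ : K) = s ^ i := by
      rw [← Subgroup.orderOf_coe, ← hi, ← Subgroup.orderOf_mk y y'.2]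
      exact (orderOf_injective (MulAut.conj g₁⁻¹).toMonoidHom (MulAut.conj g₁⁻¹).injective y').symm.trans
        (by simp [hy₁, mul_assoc]) |>.symm
    have hzo : orderOf (⟨z₁, hz₁K⟩ : K) = t ^ k := by
      rw [← Subgroup.orderOf_coe, ← hk, ← Subgroup.orderOf_mk z z'.2]
      exact (orderOf_injective (MulAut.conj g₂⁻¹).toMonoidHom (MulAut.conj g₂⁻¹).injective z').symm.trans
        (by simp [hz₁, mul_assoc]) |>.symm
    have hco := IsZGroup.coprime_commutator_index (G := ↥K)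
    by_cases hs : s ∣ (commutator ↥K).index
    swap
    · exact Or.inl (key gM.prime hyo hs)
    by_cases htd : t ∣ (commutator ↥K).index
    swap
    · exact Or.inr (key gL.prime hzo htd)
    have hbot : commutator ↥K = ⊥ := Subgroup.card_eq_one.1 (by
      by_contra h1
      obtain ⟨q, hq, hqd⟩ := Nat.exists_prime_and_dvd h1
      have hqK : q ∣ s ^ a * t ^ b := hK ▸ hqd.trans (Subgroup.card_subgroup_dvd_card _)
      rcases (Nat.Prime.dvd_mul hq).1 hqK with h | h
      · exact hq.ne_one (Nat.eq_one_of_dvd_coprimes hco hqd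
          (((Nat.prime_dvd_prime_iff_eq hq gM.prime).1 (hq.dvd_of_dvd_pow h)) ▸ hs))
      · exact hq.ne_one (Nat.eq_one_of_dvd_coprimes hco hqd
          (((Nat.prime_dvd_prime_iff_eq hq gL.prime).1 (hq.dvd_of_dvd_pow h)) ▸ htd)))
    refine Or.inl fun v => ?_
    have h1 : ⁅v, (⟨y₁, hy₁K⟩ : K)⁆ ∈ commutator ↥K := commutator_def ↥K ▸
      Subgroup.commutator_mem_commutator (Subgroup.mem_top _) (Subgroup.mem_top _)
    rw [hbot, Subgroup.mem_bot, commutatorElement_def, mul_inv_eq_one] at h1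
    rw [h1]
    exact Subgroup.mem_zpowers _
  have hsub : ∀ {u w : W} {hu : u ∈ K} {hw : w ∈ K}, (∀ v : K, v * ⟨u, hu⟩ * v⁻¹ ∈ Subgroup.zpowers ⟨u, hu⟩) →
      (w : G) ∈ Subgroup.normalizer (Subgroup.zpowers (u : G) : Set G) := fun {u w hu hw} hv => by
    refine mem_normalizer_of_cj_le ?_
    rw [Fusion.cj, MonoidHom.map_zpowers, Subgroup.zpowers_le]
    obtain ⟨e, he⟩ := Subgroup.mem_zpowers_iff.1 (hv ⟨w, hw⟩)
    exact Subgroup.mem_zpowers_iff.2 ⟨e, by simpa using congrArg (fun v : K => ((v : W) : G)) he⟩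
  have hgc : ∀ g : W, x * (g : G) = g * x := fun g => mem_centralizer_zpowers.1 g.2
  have hxy : x * ((g₁ : G) * (g₂ : G)⁻¹) = (g₁ : G) * (g₂ : G)⁻¹ * x := hgc (g₁ * g₂⁻¹)
  rcases hnorm with h | h
  · refine P.conj_gen_false hxo hx hrL gL (m := (g₁ : G) * (g₂ : G)⁻¹) hxy ?_
    refine gM.normalizer_le ?_
    have h1 := hsub (hw := hz₁K) h
    have h2 : Subgroup.zpowers (y : G) = cj (Subgroup.zpowers (y₁ : G)) (g₁ : G) := by
      rw [Fusion.cj, MonoidHom.map_zpowers]
      congr 1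
      simp [hy₁, y', mul_assoc]
    rw [h2, ← Fusion.cj_normalizer]
    exact ⟨_, h1, by simp [hz₁, z', mul_assoc]⟩
  · refine P.symm.conj_gen_false hxo hx hrM gM (m := (g₂ : G) * (g₁ : G)⁻¹) (hgc (g₂ * g₁⁻¹)) ?_
    refine gL.normalizer_le ?_
    have h1 := hsub (hw := hy₁K) h
    have h2 : Subgroup.zpowers (z : G) = cj (Subgroup.zpowers (z₁ : G)) (g₂ : G) := by
      rw [Fusion.cj, MonoidHom.map_zpowers]
      congr 1
      simp [hz₁, z', mul_assoc]
    rw [h2, ← Fusion.cj_normalizer]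
    exact ⟨_, h1, by simp [hy₁, y', mul_assoc]⟩

end Cfsg.Agent.OddLocal.Disjoint
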