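import Cfsg.Agent.Lib.OddLocal.SigmaPairBasic

/-!
The elements of prime order of `N(S)` outside the two `σ`-sets move `S`.
-/

set_option autoImplicit false
set_option linter.style.haveILetI false

namespace Cfsg.Agent.OddLocal.Disjoint

open scoped Pointwise commutatorElement
open Cfsg
open Cfsg.Agent.Fusion (SylIn cj cj_cj cj_eq_self cj_mono card_cj isPGroup_cj exists_sylIn_ge exists_sylIn
  mem_normalizer_of_cj_le)
open Cfsg.Agent.OddLocal.Uniq
open Cfsg.Agent.OddLocal.Sig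
open Cfsg.Agent.OddLocal.RankTwo
open Cfsg.Agent.OddLocal.TauTwo

universe u

variable {G : Type u} [Group G] [Finite G] {p : ℕ} [hp : Fact p.Prime] {M L S : Subgroup G}

omit hp in
theorem cyclic_of_prank (hG : IsMinSimpleOddOrder G) {q : ℕ} [Fact q.Prime] {X H : Subgroup G}
    (hX : IsPGroup q X) (hXH : X ≤ H) (hr : PRankLE q 1 ↥H) : IsCyclic ↥X := by
  by_contra hnc
  have hne : X ≠ ⊥ := fun h => hnc (by rw [h]; infer_instance)
  obtain ⟨F, hFX, hFe, hF⟩ := exists_elab_noncyclic (Uniq.ne_two hG hX hne) hX hnc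
  exact not_prankLE_of_elab (hFX.trans hXH) hFe hF hr

omit hp in
theorem mem_zpowers_of_order {x e : G} {r : ℕ} (hr : r.Prime) (ho : orderOf x = r)
    (he : e ∈ Subgroup.zpowers x) (he1 : e ≠ 1) : x ∈ Subgroup.zpowers e := by
  haveI := Fact.mk hr
  have h1 : orderOf e = r := by
    have hd : orderOf e ∣ r := ho ▸ (Nat.card_zpowers x ▸ Subgroup.orderOf_dvd_natCard _ he)
    exact ((Nat.dvd_prime hr).1 hd).resolve_left fun h => he1 (orderOf_eq_one_iff.1 h)
  rw [Subgroup.eq_of_le_of_card_ge (Subgroup.zpowers_le.2 he) (by rw [Nat.card_zpowers, Nat.card_zpowers, h1, ho])]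
  exact Subgroup.mem_zpowers x

omit hp in
/-- A cyclic group of prime power order is moved entirely or not at all. -/
theorem cyclic_split {q : ℕ} [Fact q.Prime] {X A : Subgroup G} (hX : IsPGroup q X) (hc : IsCyclic ↥X)
    (hA : A ≤ Subgroup.normalizer (X : Set G)) (hco : (Nat.card A).Coprime (Nat.card X)) :
    ⁅X, A⁆ = X ∨ X ≤ Subgroup.centralizer (A : Set G) := by
  haveI := hc
  have hab : IsMulCommutative ↥X := ⟨⟨fun u v => (IsCyclic.commGroup (α := ↥X)).mul_comm u v⟩⟩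
  have hsol : Group.IsSolvable A ∨ Group.IsSolvable X :=
    Or.inr (letI : CommGroup ↥X := IsCyclic.commGroup; inferInstance)
  have hsup := Solv.commutator_sup_fixed hA hco hsol
  have hinf := Solv.PLenFix.commutator_inf_centralizer X A hab hA hco
  by_cases h1 : X ⊓ Subgroup.centralizer (A : Set G) = ⊥
  · left
    rw [h1, sup_bot_eq] at hsup
    exact hsup
  right
  suffices h2 : ⁅X, A⁆ = ⊥ by
    rw [h2, bot_sup_eq] at hsup
    exact hsup.ge.trans inf_le_right
  by_contra h2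
  have hline : ∀ {Y : Subgroup G}, Y ≤ X → Y ≠ ⊥ → ∃ Z ≤ Y, Nat.card Z = q := fun {Y} hYX hY => by
    obtain ⟨j, hj⟩ := IsPGroup.iff_card.1 (hX.to_le hYX)
    have hj0 : j ≠ 0 := fun h => hY (Subgroup.card_eq_one.1 (by rw [hj, h, pow_zero]))
    obtain ⟨⟨z, hz⟩, hzo⟩ := exists_prime_orderOf_dvd_card' q (hj ▸ dvd_pow_self q hj0 : q ∣ Nat.card Y)
    rw [Subgroup.orderOf_mk] at hzo
    exact ⟨Subgroup.zpowers z, Subgroup.zpowers_le.2 hz, by rw [Nat.card_zpowers, hzo]⟩
  have hXA : ⁅X, A⁆ ≤ X := (Solv.commutator_normal_in hA).1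
  obtain ⟨Z₁, hZ₁, hc₁⟩ := hline hXA h2
  obtain ⟨Z₂, hZ₂, hc₂⟩ := hline inf_le_left h1
  have he := cyclic_eq hc (hZ₁.trans hXA) (hZ₂.trans inf_le_left) hc₁ hc₂
  refine ne_bot_of_card hc₁ (le_bot_iff.1 ((le_inf hZ₁ ?_).trans hinf.le))
  exact he ▸ hZ₂.trans inf_le_right

/-- An elementary subgroup of order `p²` in a noncyclic `S`. -/
theorem Pair.exists_A (P : Pair p M L S) (hnc : ¬ IsCyclic ↥S) :
    ∃ A : Subgroup G, A ≤ S ∧ IsElementaryAbelian p A ∧ Nat.card A = p ^ 2 :=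
  exists_elab_sq P.ne_two P.syl.isPGroup hnc

theorem Pair.setup (P : Pair p M L S) {H A : Subgroup G} (hH : IsCoatom H) (hσ : p ∉ sigma H) (hAH : A ≤ H)
    (hAe : IsElementaryAbelian p A) (hA : Nat.card A = p ^ 2) : Setup p H A :=
  ⟨P.minSimple, hH, hσ, hAH, hAe, hA⟩

/-- No rank two in a third maximal subgroup for the prime of an element moving `S`. -/
theorem Pair.no_sq (P : Pair p M L S) (hnc : ¬ IsCyclic ↥S) {H : Subgroup G} (hH : IsCoatom H) (hSH : S ≤ H)
    {q : ℕ} [Fact q.Prime] {v : G} (hv : v ∈ Subgroup.normalizer (S : Set G)) (hvo : orderOf v = q)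
    (hvm : v ∉ Subgroup.centralizer (S : Set G)) (hvH : v ∈ H) : PRankLE q 1 ↥H := by
  by_contra hr
  have hG := P.minSimple
  obtain ⟨hqp, hqM, hqL⟩ := P.mover_prime hv (k := 1) Fact.out (by rw [hvo, pow_one]) hvm
  by_cases hσ : p ∈ sigma H
  · by_cases hMH : M = H
    · exact hr (hMH ▸ P.rank_one hqM)
    have P' := P.extend hH hσ hSH hMH
    exact hr (P'.symm.rank_one (P'.mover_prime hv (k := 1) Fact.out (by rw [hvo, pow_one]) hvm).2.2)
  obtain ⟨A, hAS, hAe, hA⟩ := P.exists_A hnc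
  have s := P.setup hH hσ (hAS.trans hSH) hAe hA
  have hMH : M ≠ H := fun h => hσ (h ▸ P.sigmaM)
  have hinf := sigmaCore_inf_coatom s P.coatomM hMH (hAS.trans P.leM)
  have hqH : q ∉ sigma H := fun h => by
    have hv' : v ∈ sigmaCore H ⊓ M := ⟨le_of_hall (sigmaCore_hall hG hH).1 le_normalizer_piCoreOf
      (Subgroup.zpowers_le.2 hvH) (piNum_of_pgroup (IsPGroup.of_card (n := 1) (by rw [Nat.card_zpowers, hvo, pow_one])) h)
      (Subgroup.mem_zpowers v), (P.normalizer_le hv).1⟩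
    rw [hinf, Subgroup.mem_bot] at hv'
    exact (Fact.out : q.Prime).ne_one (by rw [← hvo, hv', orderOf_one])
  obtain ⟨B, hBH, hBe, hB⟩ := exists_sq hr
  obtain ⟨u, -, hu⟩ := tau2_commute (Ne.symm hqp) s (⟨hG, hH, hqH, hBH, hBe, hB⟩ : Setup q H B)
  exact not_prankLE_of_elab (hu.trans (rank_two_lemma hG P.coatomM (hAS.trans P.leM) hAe hA).1) (elab_cj hBe u)
    (by rw [card_cj, hB]) (P.rank_one hqM)

/-- The element of order `r` in a group moving `S` moves `S`. -/
theorem Pair.order_mover (P : Pair p M L S) {x : G} (hx : x ∈ Subgroup.normalizer (S : Set G)) {r k : ℕ}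
    [hr : Fact r.Prime] (ho : orderOf x = r ^ k) (hxm : x ∉ Subgroup.centralizer (S : Set G)) :
    orderOf (x ^ (orderOf x / r)) = r ∧ x ^ (orderOf x / r) ∉ Subgroup.centralizer (S : Set G) := by
  have hG := P.minSimple
  obtain ⟨hrp, hrM, hrL⟩ := P.mover_prime hx hr.out ho hxm
  have hk : k ≠ 0 := fun h => hxm (by
    rw [orderOf_eq_one_iff.1 (by rw [ho, h, pow_zero] : orderOf x = 1)]; exact Subgroup.one_mem _)
  set w := x ^ (orderOf x / r) with hw
  have hwo : orderOf w = r := orderOf_pow_orderOf_div (orderOf_pos x).ne' (ho ▸ dvd_pow_self r hk)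
  refine ⟨hwo, fun hwC => ?_⟩
  have hWc : Nat.card (Subgroup.zpowers w) = r := by rw [Nat.card_zpowers, hwo]
  obtain ⟨H, hH, hNH⟩ := exists_coatom _
    (normalizer_pgroup_ne_top hG (isPGroup_of_card hWc) (ne_bot_of_card hWc))
  have hSH : S ≤ H := by
    refine le_trans (fun s hs => ?_) ((Subgroup.centralizer_le_normalizer _).trans hNH)
    rw [centralizer_zpowers]
    exact Subgroup.mem_centralizer_singleton_iff.2 (Subgroup.mem_centralizer_iff.1 hwC s hs)
  have hxH : x ∈ H := hNH (Subgroup.centralizer_le_normalizer _ (by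
    rw [centralizer_zpowers]
    exact Subgroup.mem_centralizer_singleton_iff.2 ((Commute.refl x).pow_right _).eq))
  have hwN : w ∈ Subgroup.normalizer (S : Set G) := pow_mem hx _
  have hMH : M ≠ H := fun h => P.normalizer_not_le hrM hWc (h ▸ hNH)
  by_cases hσ : p ∈ sigma H
  · have P' := P.extend hH hσ hSH hMH
    exact P'.symm.normalizer_not_le (P'.mover_prime hx hr.out ho hxm).2.2 hWc hNH
  by_cases hnc : IsCyclic ↥S
  swap
  · obtain ⟨A, hAS, hAe, hA⟩ := P.exists_A hnc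
    have s := P.setup hH hσ (hAS.trans hSH) hAe hA
    have hinf := sigmaCore_inf_coatom s P.coatomM hMH (hAS.trans P.leM)
    have hwH : w ∈ H := hNH (Subgroup.le_normalizer (Subgroup.mem_zpowers w))
    have hrH : r ∉ sigma H := fun h => by
      have hv' : w ∈ sigmaCore H ⊓ M := ⟨le_of_hall (sigmaCore_hall hG hH).1 le_normalizer_piCoreOf
        (Subgroup.zpowers_le.2 hwH) (piNum_of_pgroup (isPGroup_of_card hWc) h) (Subgroup.mem_zpowers w),
        (P.normalizer_le hwN).1⟩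
      rw [hinf, Subgroup.mem_bot] at hv'
      exact hr.out.ne_one (by rw [← hwo, hv', orderOf_one])
    obtain ⟨B, hBH, hBe, hB⟩ := exists_sq (order_p_normalizer hG hH hrH hWc hNH).1.2
    obtain ⟨u, -, hu⟩ := tau2_commute (Ne.symm hrp) s (⟨hG, hH, hrH, hBH, hBe, hB⟩ : Setup r H B)
    exact not_prankLE_of_elab (hu.trans (rank_two_lemma hG P.coatomM (hAS.trans P.leM) hAe hA).1) (elab_cj hBe u)
      (by rw [card_cj, hB]) (P.rank_one hrM)
  -- the cyclic case
  have hXr : IsPGroup r ↥(Subgroup.zpowers x) := IsPGroup.of_card (n := k) (by rw [Nat.card_zpowers, ho])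
  have hxSN : Subgroup.zpowers x ≤ Subgroup.normalizer (S : Set G) := Subgroup.zpowers_le.2 hx
  have hSσ : S ⊓ sigmaCore H = ⊥ := Solv.coprime_inf (Nat.coprime_of_dvd fun l hl h1 h2 => by
    obtain ⟨j, hj⟩ := IsPGroup.iff_card.1 P.syl.isPGroup
    rw [hj] at h1
    exact hσ ((Nat.prime_dvd_prime_iff_eq hl hp.out).1 (hl.dvd_of_dvd_pow h1) ▸
      (sigmaCore_hall hG hH).1.2.1 l hl h2))
  have hrH : r ∉ sigma H := fun h => hxm (Solv.centralizer_of_normalizes
    (hSH.trans le_normalizer_piCoreOf) (by rw [inf_comm]; exact hSσ)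
    (le_of_hall (sigmaCore_hall hG hH).1 le_normalizer_piCoreOf (Subgroup.zpowers_le.2 hxH) (piNum_of_pgroup hXr h)
      (Subgroup.mem_zpowers x)) hx)
  obtain ⟨B, hBH, hBe, hB⟩ := exists_sq (order_p_normalizer hG hH hrH hWc hNH).1.2
  obtain ⟨E, hE⟩ := exists_compl hG hH
  obtain ⟨B₀, hB₀E, sB⟩ := exists_setup_in_compl hG hH hE
    ⟨hr.out, hrH, prankLE_of_not_alpha hr.out (not_alpha_of_not_sigma hG hH hrH), (order_p_normalizer hG hH hrH hWc hNH).1.2⟩
  have hco : (Nat.card ↥(Subgroup.zpowers x)).Coprime (Nat.card S) := by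
    obtain ⟨j, hj⟩ := IsPGroup.iff_card.1 P.syl.isPGroup
    rw [Nat.card_zpowers, ho, hj]
    exact Nat.Coprime.pow k j ((Nat.coprime_primes hr.out hp.out).2 hrp)
  have hSX : ⁅S, Subgroup.zpowers x⁆ = S := (cyclic_split P.syl.isPGroup hnc hxSN hco).resolve_right fun h =>
    hxm (Subgroup.le_centralizer_iff.1 h (Subgroup.mem_zpowers x))
  have hSD : S ≤ ⁅H, H⁆ := hSX.ge.trans (Subgroup.commutator_mono hSH (Subgroup.zpowers_le.2 hxH))
  obtain ⟨P₀, hP₀⟩ := exists_sylIn (p := p) E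
  obtain ⟨h, hh, hP₀h⟩ := (P.syl.mono hSH le_top).conj_eq (compl_sylIn hG hH hE hσ hP₀)
  have hP₀D : P₀ ≤ ⁅E, E⁆ := by
    refine le_trans (le_inf hP₀.le ?_) (compl_inf_derived hE)
    rw [← hP₀h]
    refine (cj_mono hSD h).trans (le_of_eq ?_)
    rw [Fusion.cj_commutator, Fusion.cj_eq_self_of_mem hh]
  have hPn : E ≤ Subgroup.normalizer (P₀ : Set G) := by
    refine SigmaSubgroups.sylow_of_nilpotent_normal (compl_derived hG hH hE) ?_
      (hP₀.mono hP₀D (Subgroup.commutator_le_self E))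
    exact fun e he => mem_normalizer_of_cj_le (by rw [Fusion.cj_commutator, Fusion.cj_eq_self_of_mem he])
  have hBC : B₀ ≤ Subgroup.centralizer (P₀ : Set G) :=
    centralizes_of_meet (hP₀.le.trans (complement_tau2 sB hE hB₀E).1.1) le_rfl (hB₀E.trans hPn)
      (Solv.coprime_inf (coprime_pgroup hrp (Fusion.elab_isPGroup sB.elem) hP₀.isPGroup))
  have hB₀M : cj B₀ h⁻¹ ≤ M := by
    refine (cj_mono hBC _).trans (le_trans (le_of_eq ?_)
      ((Subgroup.centralizer_le_normalizer _).trans (P.normalizer_le.trans inf_le_left)))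
    rw [Fusion.cj_centralizer, ← hP₀h, Fusion.cj_cj_inv]
  exact not_prankLE_of_elab hB₀M (elab_cj sB.elem _) (by rw [card_cj, sB.card]) (P.rank_one hrM)

/-- All elements of that order move `S`. -/
theorem Pair.prime_mover (P : Pair p M L S) {n v : G} (hn : n ∈ Subgroup.normalizer (S : Set G)) {q k : ℕ}
    [hq : Fact q.Prime] (ho : orderOf n = q ^ k) (hnm : n ∉ Subgroup.centralizer (S : Set G))
    (hv : v ∈ Subgroup.normalizer (S : Set G)) (hvo : orderOf v = q) : v ∉ Subgroup.centralizer (S : Set G) := by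
  intro hvC
  set N := Subgroup.normalizer (S : Set G) with hN
  obtain ⟨hwo, hwC⟩ := P.order_mover hn ho hnm
  set w := n ^ (orderOf n / q) with hw
  obtain ⟨Q, hQ⟩ := exists_sylIn (p := q) N
  have hQc : IsCyclic ↥Q := cyclic_of_prank P.minSimple hQ.isPGroup
    (hQ.le.trans (P.normalizer_le.trans inf_le_left)) (P.rank_one (P.mover_prime hn hq.out ho hnm).2.1)
  have hz : ∀ {y : G}, orderOf y = q → y ∈ N → ∃ g ∈ N, Nat.card (cj (Subgroup.zpowers y) g) = q ∧
      cj (Subgroup.zpowers y) g ≤ Q := fun {y} hy hyN => by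
    obtain ⟨g, hg, hgQ⟩ := hQ.conj_le
      (IsPGroup.of_card (n := 1) (by rw [Nat.card_zpowers, hy, pow_one]) : IsPGroup q ↥(Subgroup.zpowers y))
      (Subgroup.zpowers_le.2 hyN)
    exact ⟨g, hg, by rw [card_cj, Nat.card_zpowers, hy], hgQ⟩
  obtain ⟨a, ha, hac, haQ⟩ := hz hwo (pow_mem hn _)
  obtain ⟨b, hb, hbc, hbQ⟩ := hz hvo hv
  have he := cyclic_eq hQc haQ hbQ hac hbc
  have hC : ∀ g ∈ N, cj (Subgroup.centralizer (S : Set G)) g = Subgroup.centralizer (S : Set G) := fun g hg => by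
    rw [Fusion.cj_centralizer, cj_eq_self hg]
  refine hwC (Subgroup.zpowers_le.1 (?_ : Subgroup.zpowers w ≤ _))
  rw [← Fusion.cj_le_cj (g := a), he, hC a ha, ← hC b hb]
  exact cj_mono (Subgroup.zpowers_le.2 hvC) b

/-- An element of prime power order can be moved to commute with a given one of prime order. -/
theorem Pair.commute_conj (P : Pair p M L S) {x n : G} (hx : x ∈ Subgroup.normalizer (S : Set G)) {r q k : ℕ}
    [hr : Fact r.Prime] [hq : Fact q.Prime] (hxo : orderOf x = r) (hxm : x ∉ Subgroup.centralizer (S : Set G))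
    (hn : n ∈ Subgroup.normalizer (S : Set G)) (ho : orderOf n = q ^ k)
    (hnm : n ∉ Subgroup.centralizer (S : Set G)) :
    ∃ g ∈ Subgroup.normalizer (S : Set G), (g * n * g⁻¹) * x = x * (g * n * g⁻¹) := by
  set N := Subgroup.normalizer (S : Set G) with hN
  have hxp : IsPGroup r ↥(Subgroup.zpowers x) := IsPGroup.of_card (n := 1) (by rw [Nat.card_zpowers, hxo, pow_one])
  obtain ⟨R, hR, hxR⟩ := exists_sylIn_ge hxp (Subgroup.zpowers_le.2 hx)
  have hnp : IsPGroup q ↥(Subgroup.zpowers n) := IsPGroup.of_card (n := k) (by rw [Nat.card_zpowers, ho])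
  have hrM := (P.mover_prime hx (k := 1) hr.out (by rw [hxo, pow_one]) hxm).2.1
  haveI hRc : IsCyclic ↥R := cyclic_of_prank P.minSimple hR.isPGroup
    (hR.le.trans (P.normalizer_le.trans inf_le_left)) (P.rank_one hrM)
  by_cases hqr : q = r
  · subst hqr
    obtain ⟨g, hg, hgR⟩ := hR.conj_le hnp (Subgroup.zpowers_le.2 hn)
    have h1 : g * n * g⁻¹ ∈ R := hgR (Fusion.conj_mem_cj (Subgroup.mem_zpowers n))
    exact ⟨g, hg, congrArg Subtype.val ((IsCyclic.commGroup (α := ↥R)).mul_comm ⟨_, h1⟩ ⟨x, hxR (Subgroup.mem_zpowers x)⟩)⟩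
  set C := N ⊓ Subgroup.centralizer (S : Set G) with hC
  have hCn : N ≤ Subgroup.normalizer (C : Set G) := fun h hh => mem_normalizer_of_cj_le (by
    rw [hC, Fusion.cj_inf, Fusion.cj_centralizer, Fusion.cj_eq_self_of_mem hh, cj_eq_self hh])
  set Y := C ⊔ R with hY
  have hYN : Y ≤ N := sup_le inf_le_left hR.le
  have hNY : N ≤ Subgroup.normalizer (Y : Set G) := fun h hh => mem_normalizer_of_cj_le (by
    rw [hY, Fusion.cj_sup, cj_eq_self (hCn hh)]
    refine sup_le le_sup_left ?_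
    rintro _ ⟨t, ht, rfl⟩
    have h1 : ⁅h, t⁆ ∈ C := Subgroup.mem_inf.2 ⟨by
      rw [commutatorElement_def]
      exact N.mul_mem (N.mul_mem (N.mul_mem hh (hR.le ht)) (N.inv_mem hh)) (N.inv_mem (hR.le ht)),
      P.commutator_centralizes hh (hR.le ht)⟩
    have h2 : (MulAut.conj h).toMonoidHom t = ⁅h, t⁆ * t := by simp [commutatorElement_def]
    rw [h2]
    exact Subgroup.mul_mem _ (Subgroup.mem_sup_left h1) (Subgroup.mem_sup_right ht))
  set NR := N ⊓ Subgroup.normalizer (R : Set G) with hNR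
  have hRY : SylIn r R Y := hR.mono le_sup_right hYN
  have hqC : ¬ q ∣ Nat.card C := fun hd => by
    obtain ⟨⟨v, hv⟩, hvo⟩ := exists_prime_orderOf_dvd_card' q hd
    rw [Subgroup.orderOf_mk] at hvo
    exact P.prime_mover hn ho hnm hv.1 hvo hv.2
  have hqY : ¬ q ∣ Nat.card Y := fun hd => by
    have h1 := Solv.card_sup_mul_card_inf' C R (hR.le.trans hCn)
    rcases (Nat.Prime.dvd_mul hq.out).1 (h1 ▸ hd.mul_right _ : q ∣ Nat.card C * Nat.card R) with h | h
    · exact hqC h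
    · obtain ⟨j, hj⟩ := IsPGroup.iff_card.1 hR.isPGroup
      exact hqr ((Nat.prime_dvd_prime_iff_eq hq.out hr.out).1 (hq.out.dvd_of_dvd_pow (hj ▸ h)))
  have hsup : Y ⊔ NR = N := le_antisymm (sup_le hYN inf_le_left) fun h hh => by
    obtain ⟨y, hy, hyh⟩ := Fusion.frattini_conj hRY hNY hh
    rw [show h = y⁻¹ * (y * h) by group]
    exact Subgroup.mul_mem _ (Subgroup.mem_sup_left (Y.inv_mem hy))
      (Subgroup.mem_sup_right ⟨N.mul_mem (hYN hy) hh, hyh⟩)
  have hidx : ¬ q ∣ NR.relIndex N := fun hd => by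
    have h1 := Solv.card_sup_mul_card_inf' Y NR (inf_le_left.trans hNY)
    rw [hsup] at h1
    have h2 := Subgroup.relIndex_mul_relIndex ⊥ NR N bot_le inf_le_left
    rw [Subgroup.relIndex_bot_left, Subgroup.relIndex_bot_left] at h2
    rw [← h2, mul_assoc, mul_comm (Nat.card Y)] at h1
    exact hqY (Nat.eq_of_mul_eq_mul_left Nat.card_pos h1 ▸ hd.mul_right _)
  obtain ⟨Q, hQ⟩ := exists_sylIn (p := q) NR
  have hQN : SylIn q Q N := ⟨hQ.le.trans inf_le_left, hQ.isPGroup, by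
    rw [← Subgroup.relIndex_mul_relIndex Q NR N hQ.le inf_le_left]
    exact hq.out.prime.not_dvd_mul hQ.not_dvd hidx⟩
  obtain ⟨g, hg, hgQ⟩ := hQN.conj_le hnp (Subgroup.zpowers_le.2 hn)
  have h1 : g * n * g⁻¹ ∈ NR := hQ.le (hgQ (Fusion.conj_mem_cj (Subgroup.mem_zpowers n)))
  refine ⟨g, hg, ?_⟩
  set t := g * n * g⁻¹ with ht
  have hxc : Nat.card (Subgroup.zpowers x) = r := by rw [Nat.card_zpowers, hxo]
  have h3 : cj (Subgroup.zpowers x) t = Subgroup.zpowers x :=
    cyclic_eq hRc ((cj_mono hxR t).trans (cj_eq_self h1.2).le) hxR (by rw [card_cj, hxc]) hxc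
  have h4 : ⁅t, x⁆ ∈ Subgroup.zpowers x := by
    rw [commutatorElement_def]
    exact Subgroup.mul_mem _ (h3.le (Fusion.conj_mem_cj (Subgroup.mem_zpowers x)))
      (Subgroup.inv_mem _ (Subgroup.mem_zpowers x))
  refine commutatorElement_eq_one_iff_mul_comm.1 ?_
  by_contra hne
  exact hxm (Subgroup.zpowers_le.2 (P.commutator_centralizes h1.1 hx) (mem_zpowers_of_order hr.out hxo h4 hne))

end Cfsg.Agent.OddLocal.Disjoint
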