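import Cfsg.Agent.Lib.OddLocal.PiCoreBasics
import Cfsg.Agent.Lib.OddLocal.UniquenessTheorem

/-!
Conjugation of subgroups of `σ`-order inside a maximal subgroup, and the cores `M_α` and `M_σ`.
-/

set_option autoImplicit false

namespace Cfsg.Agent.OddLocal.Sig

open Cfsg
open Cfsg.Agent.Fusion (SylIn cj cj_cj cj_eq_self cj_mono card_cj isPGroup_cj sylIn_map sylIn_top exists_sylIn_ge
  mem_normalizer_of_cj_le)
open Cfsg.Agent.OddLocal.Bender (coreP le_normalizer_coreP le_normalizer_map)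
open Cfsg.Agent.OddLocal.Uniq

universe u

variable {G : Type u} [Group G] [Finite G] {p : ℕ} [hp : Fact p.Prime] {M : Subgroup G}

omit hp in
/-- A maximal subgroup is self-normalising. -/
theorem normalizer_coatom (hG : IsMinSimpleOddOrder G) (hM : IsCoatom M) :
    Subgroup.normalizer (M : Set G) = M := by
  refine (hM.le_iff.1 Subgroup.le_normalizer).resolve_left fun h => ?_
  refine Transit.normalizer_ne_top hG.2.1 ?_ hM.1 h
  rintro rfl
  haveI := hG.2.1
  refine hG.2.2.1 ⟨⟨fun a b => ?_⟩⟩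
  have hcyc : ∀ x : G, x ≠ 1 → Subgroup.zpowers x = ⊤ := fun x hx =>
    (bot_lt_iff_ne_bot.2 ((Subgroup.zpowers_ne_bot).2 hx) |> hM.2 _)
  by_cases ha : a = 1
  · simp [ha]
  obtain ⟨k, rfl⟩ := Subgroup.mem_zpowers_iff.1 (hcyc a ha ▸ Subgroup.mem_top b)
  exact (Commute.refl a).zpow_right k

omit hp in
theorem normalizer_pgroup_ne_top (hG : IsMinSimpleOddOrder G) [Fact p.Prime] {X : Subgroup G}
    (hX : IsPGroup p X) (h1 : X ≠ ⊥) : Subgroup.normalizer (X : Set G) ≠ ⊤ :=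
  Transit.normalizer_ne_top hG.2.1 h1 (pgroup_ne_top hG hX)

/-- A Sylow subgroup of `M` whose normaliser is inside `M` is a Sylow subgroup of `G`. -/
theorem sylIn_top_of_normalizer_le {P : Subgroup G} (hP : SylIn p P M)
    (hN : Subgroup.normalizer (P : Set G) ≤ M) : SylIn p P ⊤ := by
  obtain ⟨S, hS, hPS⟩ := exists_sylIn_ge hP.isPGroup (le_top (a := P))
  by_contra h
  have hne : P ≠ S := fun e => h (e ▸ hS)
  have h1 := SylIn.normalizer_growth (p := p) hPS hne hS.isPGroup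
  exact h1.ne (hP.eq_of_le (hS.isPGroup.to_inf_left) h1.le (inf_le_right.trans hN)).symm

/-- A Sylow subgroup of `M` for a prime in `σ(M)`, with its normaliser. -/
theorem exists_sigma_sylow (hσ : p ∈ sigma M) :
    ∃ P : Subgroup G, SylIn p P M ∧ P ≠ ⊥ ∧ Subgroup.normalizer (P : Set G) ≤ M := by
  obtain ⟨-, hd, P, hN⟩ := hσ
  refine ⟨_, sylIn_map M P, fun h => ?_, hN⟩
  rw [Subgroup.map_eq_bot_iff_of_injective _ M.subtype_injective] at h
  exact P.not_dvd_index (by rw [h, Subgroup.index_bot]; exact hd)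

/-- Every Sylow subgroup of `M` for a prime in `σ(M)` behaves like the distinguished one. -/
theorem sigma_sylow (hσ : p ∈ sigma M) {P : Subgroup G} (hP : SylIn p P M) :
    SylIn p P ⊤ ∧ P ≠ ⊥ ∧ Subgroup.normalizer (P : Set G) ≤ M := by
  obtain ⟨P₀, hP₀, hne, hN⟩ := exists_sigma_sylow hσ
  obtain ⟨m, hm, rfl⟩ := hP₀.conj_eq hP
  have h1 := (sylIn_top_of_normalizer_le hP₀ hN).cj' (g := m) (Subgroup.le_normalizer (Subgroup.mem_top m))
  refine ⟨h1, fun h => hne (Subgroup.card_eq_one.1 (by rw [← card_cj P₀ m, h, Subgroup.card_bot])), ?_⟩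
  intro g hg
  have h2 : m⁻¹ * g * m ∈ Subgroup.normalizer (P₀ : Set G) := by
    refine mem_normalizer_of_cj_le (le_of_eq ?_)
    have := Fusion.cj_eq_self hg
    rw [show m⁻¹ * g * m = m⁻¹ * (g * m) by group, ← cj_cj, ← cj_cj, this, cj_cj, inv_mul_cancel,
      Fusion.cj_one]
  have h3 := mul_mem (mul_mem hm (hN h2)) (inv_mem hm)
  simpa [mul_assoc] using h3

theorem exists_larger {P Y : Subgroup G} (hP : IsPGroup p P) (hYP : Y ≤ P) (hlt : Nat.card Y < Nat.card P) :
    Y < P ⊓ Subgroup.normalizer (Y : Set G) :=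
  SylIn.normalizer_growth (p := p) hYP (fun e => (e ▸ hlt).ne rfl) hP

omit hp in
theorem centralizer_le_of_le {X Y : Subgroup G} (h : X ≤ Y) :
    Subgroup.centralizer (Y : Set G) ≤ Subgroup.centralizer (X : Set G) := Subgroup.centralizer_le h

omit hp in
theorem le_cj_of_centralizer {X Y : Subgroup G} (h : X ≤ Y) {c : G}
    (hc : c ∈ Subgroup.centralizer (X : Set G)) : X ≤ cj Y c := fun x hx => ⟨x, h hx, by
  show c * x * c⁻¹ = x
  rw [← Subgroup.mem_centralizer_iff.1 hc x hx, mul_inv_cancel_right]⟩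

/-- Conjugation of `p`-subgroups inside a maximal subgroup with `p ∈ σ(M)`. -/
theorem conj_factor (hG : IsMinSimpleOddOrder G) (hσ : p ∈ sigma M) (hM : IsCoatom M) :
    ∀ X : Subgroup G, IsPGroup p X → X ≠ ⊥ → X ≤ M → ∀ g : G, cj X g ≤ M →
      ∃ m ∈ M, ∃ c ∈ Subgroup.centralizer (X : Set G), g = m * c := by
  obtain ⟨P₀, hP₀, -, -⟩ := exists_sigma_sylow hσ
  intro X
  induction hd : Nat.card P₀ - Nat.card X using Nat.strong_induction_on generalizing X with
  | _ d ih =>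
  intro hX hX1 hXM g hg
  subst hd
  by_cases hlt : Nat.card P₀ ≤ Nat.card X
  · have hXS := hP₀.of_card_ge hX hXM hlt
    obtain ⟨m, hm, hme⟩ := hXS.conj_eq (hP₀.of_card_ge (isPGroup_cj hX g) hg (by rwa [card_cj]))
    have hn : m⁻¹ * g ∈ Subgroup.normalizer (X : Set G) := by
      refine mem_normalizer_of_cj_le (le_of_eq ?_)
      rw [← cj_cj, ← hme, cj_cj, inv_mul_cancel, Fusion.cj_one]
    refine ⟨g, ?_, 1, one_mem _, (mul_one g).symm⟩
    simpa using mul_mem hm ((sigma_sylow hσ hXS).2.2 hn)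
  push Not at hlt
  set L := Subgroup.normalizer (X : Set G)
  have hL : L ≠ ⊤ := normalizer_pgroup_ne_top hG hX hX1
  have hCL : Subgroup.centralizer (X : Set G) ≤ L := Subgroup.centralizer_le_normalizer _
  have hIH : ∀ Y : Subgroup G, IsPGroup p Y → X ≤ Y → Nat.card X < Nat.card Y → Y ≤ M → ∀ h : G, cj Y h ≤ M →
      ∃ m ∈ M, ∃ c ∈ Subgroup.centralizer (Y : Set G), h = m * c := fun Y hY hXY hc hYM h hh =>
    ih _ (by omega) Y rfl hY (fun e => hX1 (le_bot_iff.1 (e ▸ hXY))) hYM h hh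
  obtain ⟨P, hP, hXP⟩ := exists_sylIn_ge hX hXM
  have hPcard : Nat.card P₀ ≤ Nat.card P := hP.card_le hP₀.isPGroup hP₀.le
  have hS₁ := exists_larger hP.isPGroup hXP (lt_of_lt_of_le hlt hPcard)
  obtain ⟨Q, hQ, hS₁Q⟩ := exists_sylIn_ge (hP.isPGroup.to_inf_left (K := L)) inf_le_right
  obtain ⟨h, -, hQh⟩ := (sigma_sylow hσ hP).1.conj_le hQ.isPGroup le_top
  have hcS₁ := Set.Finite.card_lt_card (Set.toFinite _) hS₁
  obtain ⟨m₀, hm₀, c₀, hc₀, rfl⟩ := hIH _ (hP.isPGroup.to_inf_left (K := L)) hS₁.le hcS₁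
    (inf_le_left.trans hP.le) h ((cj_mono hS₁Q h).trans (hQh.trans hP.le))
  have hc₀L : c₀ ∈ L := hCL (centralizer_le_of_le hS₁.le hc₀)
  have hQ₁ : SylIn p (cj Q c₀) L := hQ.cj' (Subgroup.le_normalizer hc₀L)
  have hQ₁M : cj Q c₀ ≤ M := by
    rw [← cj_cj] at hQh
    rintro x hx
    have hx' := hP.le (hQh ⟨x, hx, rfl⟩)
    simpa [mul_assoc] using mul_mem (mul_mem (inv_mem hm₀) (show m₀ * x * m₀⁻¹ ∈ M from hx')) hm₀
  have hQ₁X : Nat.card X < Nat.card (cj Q c₀) := by
    rw [card_cj]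
    exact lt_of_lt_of_le hcS₁ (Subgroup.card_le_of_le hS₁Q)
  have hXQ₁ : X ≤ cj Q c₀ :=
    le_cj_of_centralizer (hS₁.le.trans hS₁Q) (centralizer_le_of_le hS₁.le hc₀)
  have hfac : ∀ l ∈ L, ∃ m ∈ M, ∃ c ∈ Subgroup.centralizer (X : Set G), l = m * c := by
    intro l hl
    by_cases hr : PRankLE p 2 ↥(cj Q c₀)
    swap
    · obtain ⟨F, hFQ, hFe, hF⟩ := exists_elab_of_prank hr
      obtain ⟨M', -, hu⟩ := rank_three_iu hG hFe hF
      have hu' : ∀ L' : Subgroup G, IsCoatom L' → F ≤ L' → L' = M := fun L' h1 h2 =>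
        (hu L' ⟨h1, h2⟩).trans (hu M ⟨hM, hFQ.trans hQ₁M⟩).symm
      exact ⟨l, iu_le hu' (hFQ.trans hQ₁.le) hL hl, 1, one_mem _, (mul_one l).symm⟩
    obtain ⟨T, hT⟩ := exists_sylow hQ₁
    have htop := Fact2.rank_two_factor (hG.2.2.2 L hL) (odd_subgroup hG L) T
      (Solv.RankTwo.prankLE_mulEquiv (((T : Subgroup L).equivMapOfInjective L.subtype
        L.subtype_injective).trans (MulEquiv.subgroupCongr hT)).symm hr)
    obtain ⟨k, hk, n, hn, hkn⟩ := Subgroup.mem_sup_of_normal_left.1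
      (htop ▸ Subgroup.mem_top (⟨l, hl⟩ : L))
    have hn' : (n : G) ∈ Subgroup.normalizer (cj Q c₀ : Set G) := hT ▸
      (map_normalizer_le (T : Subgroup L) (Subgroup.mem_map_of_mem L.subtype hn)).2
    obtain ⟨m, hm, c, hc, hnmc⟩ := hIH _ hQ₁.isPGroup hXQ₁ hQ₁X hQ₁M n ((cj_eq_self hn').le.trans hQ₁M)
    have hcX := centralizer_le_of_le hXQ₁ hc
    have hmL : m ∈ L := by
      rw [show m = (n : G) * c⁻¹ by rw [hnmc]; group]
      exact mul_mem n.2 (inv_mem (hCL hcX))
    have hk' : (k : G) ∈ coreP p L := ⟨k, hk, rfl⟩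
    have hcore : coreP p L ≤ Subgroup.centralizer (X : Set G) := by
      rintro _ ⟨y, hy, rfl⟩
      refine Subgroup.mem_centralizer_iff.2 fun x hx => ?_
      have hdisj : Disjoint (pPrimeCore p L) (X.subgroupOf L) := by
        obtain ⟨j, hj⟩ := IsPGroup.iff_card.1 (hX.comap_subtype (K := L))
        refine disjoint_iff.2 (Subgroup.inf_eq_bot_of_coprime ?_)
        rw [show Nat.card (X.subgroupOf L) = p ^ j from hj]
        exact (Fusion.card_pPrimeCore_coprime p L).pow_right j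
      haveI : (X.subgroupOf L).Normal := Subgroup.normal_subgroupOf_of_le_normalizer le_rfl
      exact (congrArg Subtype.val (Subgroup.commute_of_normal_of_disjoint _ _ inferInstance inferInstance hdisj y
        ⟨x, Subgroup.le_normalizer hx⟩ hy hx).eq).symm
    refine ⟨m, hm, m⁻¹ * k * m * c, mul_mem (hcore ?_) hcX, ?_⟩
    · simpa using (Subgroup.mem_normalizer_iff.1 (inv_mem (le_normalizer_coreP (p := p) L hmL)) _).1 hk'
    · rw [show l = (k : G) * n from (congrArg Subtype.val hkn).symm, hnmc]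
      group
  obtain ⟨P₂, hP₂, hgP₂⟩ := exists_sylIn_ge (isPGroup_cj hX g) hg
  have hXP₂ : X ≤ cj P₂ g⁻¹ := by
    rw [← Fusion.cj_cj_inv X g]; exact cj_mono hgP₂ _
  have hP₂X : Nat.card X < Nat.card (cj P₂ g⁻¹) := by
    rw [card_cj]
    exact lt_of_lt_of_le hlt (hP₂.card_le hP₀.isPGroup hP₀.le)
  have hS₂ := exists_larger (isPGroup_cj hP₂.isPGroup g⁻¹) hXP₂ hP₂X
  have hcS₂ := Set.Finite.card_lt_card (Set.toFinite _) hS₂
  obtain ⟨l, hl, hlQ⟩ := hQ₁.conj_le ((isPGroup_cj hP₂.isPGroup g⁻¹).to_inf_left (K := L)) inf_le_right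
  obtain ⟨m, hm, c, hc, rfl⟩ := hfac l hl
  have hS''M : cj (cj P₂ g⁻¹ ⊓ L) c ≤ M := by
    rintro _ ⟨x, hx, rfl⟩
    have hx' := hQ₁M (hlQ ⟨x, hx, rfl⟩)
    have := mul_mem (mul_mem (inv_mem hm) (show m * c * x * (m * c)⁻¹ ∈ M from hx')) hm
    simpa [mul_assoc] using this
  have hgo : cj (cj (cj P₂ g⁻¹ ⊓ L) c) (g * c⁻¹) ≤ M := by
    rw [cj_cj, inv_mul_cancel_right]
    refine le_trans (cj_mono inf_le_left g) ?_
    rw [cj_cj, mul_inv_cancel, Fusion.cj_one]
    exact hP₂.le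
  obtain ⟨m', hm', c', hc', he⟩ := hIH _ (isPGroup_cj ((isPGroup_cj hP₂.isPGroup g⁻¹).to_inf_left) c)
    (le_cj_of_centralizer hS₂.le hc) (by rw [card_cj]; exact hcS₂) hS''M (g * c⁻¹) hgo
  refine ⟨m', hm', c' * c, mul_mem (centralizer_le_of_le (le_cj_of_centralizer hS₂.le hc) hc') hc, ?_⟩
  rw [← mul_assoc, ← he, inv_mul_cancel_right]

/-- The normaliser of a `p`-subgroup of `M`. -/
theorem normalizer_eq (hG : IsMinSimpleOddOrder G) (hσ : p ∈ sigma M) (hM : IsCoatom M) {X : Subgroup G}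
    (hX : IsPGroup p X) (hX1 : X ≠ ⊥) (hXM : X ≤ M) :
    Subgroup.normalizer (X : Set G) =
      (M ⊓ Subgroup.normalizer (X : Set G)) ⊔ Subgroup.centralizer (X : Set G) := by
  refine le_antisymm (fun g hg => ?_) (sup_le inf_le_right (Subgroup.centralizer_le_normalizer _))
  obtain ⟨m, hm, c, hc, rfl⟩ := conj_factor hG hσ hM X hX hX1 hXM g ((cj_eq_self hg).le.trans hXM)
  exact mul_mem (Subgroup.mem_sup_left ⟨hm, by
    simpa using mul_mem hg (inv_mem (Subgroup.centralizer_le_normalizer _ hc))⟩) (Subgroup.mem_sup_right hc)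

omit hp in
theorem commutator_top (hG : IsMinSimpleOddOrder G) : commutator G = ⊤ := by
  haveI := hG.2.1
  refine ((inferInstance : (commutator G).Normal).eq_bot_or_eq_top).resolve_left fun h =>
    hG.2.2.1 ⟨⟨fun a b => ?_⟩⟩
  exact commutatorElement_eq_one_iff_mul_comm.1 (Subgroup.mem_bot.1 (h ▸
    Subgroup.commutator_mem_commutator (Subgroup.mem_top a) (Subgroup.mem_top b)))

/-- Sylow subgroups for primes in `σ(M)` lie in the derived subgroup of `M`. -/
theorem sylow_le_derived (hG : IsMinSimpleOddOrder G) (hM : IsCoatom M) (hσ : p ∈ sigma M)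
    (P : Sylow p M) : (P : Subgroup M) ≤ commutator M := by
  have hP := sylIn_map M P
  obtain ⟨hS, -, -⟩ := sigma_sylow hσ hP
  have h1 : ((P : Subgroup M).map M.subtype) = Fusion.focalIn ((P : Subgroup M).map M.subtype) ⊤ := by
    rw [← Fusion.inf_commutator_eq_focalIn_top hS, commutator_top hG, inf_top_eq]
  have h2 : Fusion.focalIn ((P : Subgroup M).map M.subtype) ⊤ ≤ ⁅M, M⁆ := by
    refine le_trans ((Subgroup.closure_le _).2 ?_) (Fusion.focalIn_le_commutator hP.le)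
    rintro _ ⟨x, hx, h, -, hxh, rfl⟩
    by_cases hx1 : x = 1
    · simp [hx1]
    have hz : Subgroup.zpowers x ≤ (P : Subgroup M).map M.subtype := Subgroup.zpowers_le.2 hx
    obtain ⟨m, hm, c, hc, rfl⟩ := conj_factor hG hσ hM _ (hP.isPGroup.to_le hz)
      ((Subgroup.zpowers_ne_bot).2 hx1) (hz.trans hP.le) h (by
        rw [cj, MonoidHom.map_zpowers, Subgroup.zpowers_le]; exact hP.le hxh)
    have e : m * c * x * (m * c)⁻¹ = m * x * m⁻¹ := by
      rw [show m * c * x * (m * c)⁻¹ = m * (c * x * c⁻¹) * m⁻¹ by group,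
        ← Subgroup.mem_centralizer_iff.1 hc x (Subgroup.mem_zpowers x), mul_inv_cancel_right]
    rw [e] at hxh ⊢
    exact Fusion.mem_focalIn hx hm hxh
  rw [← Subgroup.map_le_map_iff_of_injective M.subtype_injective, Subgroup.map_subtype_commutator]
  exact h1.le.trans h2

omit hp in
/-- Primes of large rank in `M` lie in `σ(M)`. -/
theorem alpha_subset_sigma (hG : IsMinSimpleOddOrder G) (hM : IsCoatom M) : alpha M ⊆ sigma M := by
  rintro q ⟨hq, hr⟩
  haveI := Fact.mk hq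
  obtain ⟨E, hEM, hEe, hE⟩ := exists_elab_of_prank hr
  obtain ⟨j, hj⟩ := IsPGroup.iff_card.1 (Fusion.elab_isPGroup hEe)
  obtain ⟨S, hS⟩ := (Fusion.elab_isPGroup hEe).comap_subtype (K := M) |>.exists_le_sylow
  have hES : E ≤ (S : Subgroup M).map M.subtype := fun e he => ⟨⟨e, hEM he⟩, hS he, rfl⟩
  have hne : (S : Subgroup M).map M.subtype ≠ ⊥ := fun h => by
    rw [h, le_bot_iff] at hES
    rw [hES, Subgroup.card_bot] at hE
    exact absurd hE (not_le.2 (Nat.one_lt_pow (by omega) hq.one_lt))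
  refine ⟨hq, ?_, S, ?_⟩
  · obtain ⟨i, hi⟩ := IsPGroup.iff_card.1 S.isPGroup'
    refine (dvd_trans ?_ (Subgroup.card_subgroup_dvd_card (S : Subgroup M)))
    rw [hi]
    refine dvd_pow_self q fun h => hne ?_
    rw [Subgroup.card_eq_one.1 (show Nat.card (S : Subgroup M) = 1 by rw [hi, h, pow_zero]), Subgroup.map_bot]
  · obtain ⟨M', -, hu⟩ := rank_three_iu hG hEe hE
    exact iu_le (fun L' h1 h2 => (hu L' ⟨h1, h2⟩).trans (hu M ⟨hM, hEM⟩).symm)
      (hES.trans Subgroup.le_normalizer) (normalizer_pgroup_ne_top hG (S.isPGroup'.map _) hne)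

omit hp in
theorem prankLE_of_not_alpha {q : ℕ} (hq : q.Prime) (h : q ∉ alpha M) : PRankLE q 2 M :=
  by_contra fun hr => h ⟨hq, hr⟩

omit hp in
theorem alpha_nilpotent (hG : IsMinSimpleOddOrder G) (hM : IsCoatom M) :
    Group.IsNilpotent ↥(commutator (↥M ⧸ piCore (alpha M) ↥M)) := by
  haveI := hG.2.2.2 M hM.1
  exact commutator_quotient_nilpotent (odd_subgroup hG M) fun q hq h => prankLE_of_not_alpha hq h

/-- Sylow subgroups for primes in `α(M)` lie in `M_α`. -/
theorem sylow_le_alphaCore (hG : IsMinSimpleOddOrder G) (hM : IsCoatom M) (hα : p ∈ alpha M)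
    (P : Sylow p M) : (P : Subgroup M) ≤ piCore (alpha M) M :=
  le_piCore_of_nilpotent (alpha_nilpotent hG hM) hα P.isPGroup'
    (sylow_le_derived hG hM (alpha_subset_sigma hG hM hα) P)

/-- Sylow subgroups for primes in `σ(M)` lie in `M_σ`. -/
theorem sylow_le_sigmaCore (hG : IsMinSimpleOddOrder G) (hM : IsCoatom M) (hσ : p ∈ sigma M)
    (P : Sylow p M) : (P : Subgroup M) ≤ piCore (sigma M) M :=
  le_piCore_of_nilpotent
    (commutator_quotient_mono (piCore_mono (alpha_subset_sigma hG hM)) (alpha_nilpotent hG hM))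
    hσ P.isPGroup' (sylow_le_derived hG hM hσ P)

omit hp in
/-- `piCore π M` is a Hall subgroup of `M` and of `G` for a set of primes in `σ(M)` it absorbs. -/
theorem piCoreOf_hall {π : Set ℕ} (hπ : π ⊆ sigma M)
    (hle : ∀ q : ℕ, ∀ [Fact q.Prime], q ∈ π → ∀ P : Sylow q M, (P : Subgroup M) ≤ piCore π M) :
    IsPiHallOf π (piCoreOf π M) M ∧ IsPiHall π (piCoreOf π M) := by
  have hcard : PiNum π (Nat.card (piCoreOf π M)) := by
    rw [piCoreOf, Subgroup.card_map_of_injective M.subtype_injective]; exact piCore_pi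
  have key : ∀ q : ℕ, q.Prime → q ∈ π → ∃ P : Subgroup G, SylIn q P ⊤ ∧ P ≤ piCoreOf π M := by
    intro q hq hqπ
    haveI := Fact.mk hq
    obtain ⟨P⟩ : Nonempty (Sylow q M) := inferInstance
    exact ⟨_, (sigma_sylow (hπ hqπ) (sylIn_map M P)).1, Subgroup.map_mono (hle q hqπ P)⟩
  refine ⟨⟨Subgroup.map_subtype_le _, hcard, fun q hq hqπ hd => ?_⟩, hcard, fun q hq hqπ hd => ?_⟩
  all_goals obtain ⟨P, hP, hPle⟩ := key q hq hqπ
  · refine hP.not_dvd (hd.trans ?_)
    rw [Subgroup.relIndex_top_right]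
    exact ⟨P.relIndex (piCoreOf π M) * M.index, by
      rw [← Subgroup.relIndex_mul_index (hPle.trans (Subgroup.map_subtype_le _)),
        ← Subgroup.relIndex_mul_relIndex P (piCoreOf π M) M hPle (Subgroup.map_subtype_le _)]
      ring⟩
  · refine hP.not_dvd (hd.trans ?_)
    rw [Subgroup.relIndex_top_right]
    exact Subgroup.index_dvd_of_le hPle

omit hp in
theorem alphaCore_hall (hG : IsMinSimpleOddOrder G) (hM : IsCoatom M) :
    IsPiHallOf (alpha M) (alphaCore M) M ∧ IsPiHall (alpha M) (alphaCore M) :=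
  piCoreOf_hall (alpha_subset_sigma hG hM) fun _ _ hq P => sylow_le_alphaCore hG hM hq P

omit hp in
theorem sigmaCore_hall (hG : IsMinSimpleOddOrder G) (hM : IsCoatom M) :
    IsPiHallOf (sigma M) (sigmaCore M) M ∧ IsPiHall (sigma M) (sigmaCore M) :=
  piCoreOf_hall subset_rfl fun _ _ hq P => sylow_le_sigmaCore hG hM hq P

omit hp in
/-- The basic structure of `M_α`. -/
theorem alphaCore_structure (hG : IsMinSimpleOddOrder G) (hM : IsCoatom M) :
    IsPiHallOf (alpha M) (alphaCore M) M ∧ IsPiHall (alpha M) (alphaCore M) ∧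
      alphaCore M ≤ sigmaCore M ∧ RankLE 2 (↥M ⧸ piCore (alpha M) ↥M) ∧
      Group.IsNilpotent ↥((commutator ↥M).map (QuotientGroup.mk' (piCore (alpha M) ↥M))) := by
  refine ⟨(alphaCore_hall hG hM).1, (alphaCore_hall hG hM).2,
    Subgroup.map_mono (piCore_mono (alpha_subset_sigma hG hM)), ?_,
    map_commutator_nilpotent _ (alpha_nilpotent hG hM)⟩
  refine rankLE_quotient (fun q hq hqα => ?_) fun q hq h => prankLE_of_not_alpha hq h
  haveI := Fact.mk hq
  obtain ⟨P⟩ : Nonempty (Sylow q M) := inferInstance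
  exact not_dvd_index_piCore P (sylow_le_alphaCore hG hM hqα P)

omit hp in
/-- The primes outside `π` do not divide the order of the core. -/
theorem not_dvd_piCoreOf {π : Set ℕ} {q : ℕ} (hq : q.Prime) (h : q ∉ π) :
    ¬ q ∣ Nat.card (piCoreOf π M) := fun hd => h (piCore_pi q hq (by
  rwa [piCoreOf, Subgroup.card_map_of_injective M.subtype_injective] at hd))

omit hp in
theorem le_normalizer_piCoreOf {π : Set ℕ} : M ≤ Subgroup.normalizer (piCoreOf π M : Set G) :=
  le_normalizer_map _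

omit hp in
theorem sigmaCore_le_derived (hG : IsMinSimpleOddOrder G) (hM : IsCoatom M) :
    piCore (sigma M) M ≤ commutator M := by
  haveI : (commutator M).Normal := inferInstance
  have key : Nat.card (piCore (sigma M) M) ∣ Nat.card (piCore (sigma M) M ⊓ commutator M : Subgroup M) := by
    refine (Nat.factorization_le_iff_dvd Nat.card_pos.ne' Nat.card_pos.ne').1 fun q => ?_
    by_cases hq : q.Prime
    swap
    · simp [Nat.factorization_eq_zero_of_not_prime _ hq]
    haveI := Fact.mk hq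
    by_cases hqσ : q ∈ sigma M
    · obtain ⟨P⟩ : Nonempty (Sylow q M) := inferInstance
      refine (Nat.Prime.pow_dvd_iff_le_factorization hq Nat.card_pos.ne').1 (dvd_trans ?_
        (Subgroup.card_dvd_of_le (le_inf (sylow_le_sigmaCore hG hM hqσ P) (sylow_le_derived hG hM hqσ P))))
      exact P.pow_dvd_card_of_pow_dvd_card
        ((Nat.ordProj_dvd _ q).trans (Subgroup.card_subgroup_dvd_card _))
    · rw [Nat.factorization_eq_zero_of_not_dvd fun h => hqσ (piCore_pi q hq h)]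
      exact Nat.zero_le _
  exact (Subgroup.eq_of_le_of_card_ge inf_le_left (Nat.le_of_dvd Nat.card_pos key)).ge.trans inf_le_right

end Cfsg.Agent.OddLocal.Sig
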