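import Cfsg.Agent.Lib.OddLocal.TauTwoCentralizer
import Cfsg.Agent.Lib.OddLocal.SigmaSubgroups

/-!
Primes in `τ₂(M)` with abelian Sylow subgroups: the Sylow subgroup of a complement is normal.
-/

set_option autoImplicit false
set_option linter.style.haveILetI false

namespace Cfsg.Agent.OddLocal.TauTwo

open Cfsg
open scoped commutatorElement
open Cfsg.Agent.Fusion (SylIn cj cj_cj cj_eq_self cj_mono card_cj isPGroup_cj sylIn_map sylIn_top exists_sylIn_ge
  mem_normalizer_of_cj_le)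
open Cfsg.Agent.OddLocal.Uniq
open Cfsg.Agent.OddLocal.Sig
open Cfsg.Agent.OddLocal.RankTwo

universe u

variable {G : Type u} [Group G] [Finite G] {p : ℕ} [hp : Fact p.Prime] {M A E : Subgroup G}

/-- An abelian Sylow subgroup lies in the derived subgroup of its normaliser. -/
theorem sylow_le_commutator (hG : IsMinSimpleOddOrder G) {T : Subgroup G} (hT : SylIn p T ⊤)
    (hab : IsMulCommutative ↥T) :
    T ≤ ⁅Subgroup.normalizer (T : Set G), Subgroup.normalizer (T : Set G)⁆ := by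
  obtain ⟨P, rfl⟩ := hT.exists_sylow
  haveI := hab
  intro t ht
  have h1 : t ∈ Fusion.focalIn (P : Subgroup G) ⊤ := by
    rw [← Fusion.inf_commutator_eq_focalIn_top hT, commutator_top hG]
    exact ⟨ht, Subgroup.mem_top t⟩
  refine (Subgroup.closure_le _).2 ?_ h1
  rintro _ ⟨x, hx, h, -, hh, rfl⟩
  obtain ⟨n, hn, he⟩ := P.conj_eq_normalizer_conj_of_mem x h⁻¹ hx (by rwa [inv_inv])
  rw [inv_inv] at he
  rw [he, SetLike.mem_coe, show x⁻¹ * (n⁻¹ * x * n) = ⁅x⁻¹, n⁻¹⁆ by rw [commutatorElement_def]; group]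
  exact Subgroup.commutator_mem_commutator (Subgroup.le_normalizer (inv_mem hx)) (inv_mem hn)

omit hp in
/-- A complement of `M_σ` exists. -/
theorem exists_compl (hG : IsMinSimpleOddOrder G) (hM : IsCoatom M) :
    ∃ E : Subgroup G, IsComplIn E (sigmaCore M) M := by
  have hall := (sigmaCore_hall hG hM).1
  have hσM : sigmaCore M ≤ M := Subgroup.map_subtype_le _
  haveI : ((sigmaCore M).subgroupOf M).Normal :=
    Subgroup.normal_subgroupOf_of_le_normalizer le_normalizer_piCoreOf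
  obtain ⟨K, hK⟩ := Subgroup.exists_right_complement'_of_coprime (N := (sigmaCore M).subgroupOf M) (by
    rw [Solv.card_subgroupOf hσM]
    exact Nat.coprime_of_dvd fun q hq h1 h2 => hall.2.2 q hq (hall.2.1 q hq h1) h2)
  refine ⟨K.map M.subtype, Subgroup.map_subtype_le K, hσM, ?_, fun m hm => ?_⟩
  · rw [eq_bot_iff]
    rintro _ ⟨⟨k, hk, rfl⟩, hks⟩
    have h1 : k ∈ (sigmaCore M).subgroupOf M ⊓ K := ⟨hks, hk⟩
    rw [disjoint_iff.1 hK.disjoint, Subgroup.mem_bot] at h1
    rw [h1, map_one]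
    exact Subgroup.one_mem _
  · obtain ⟨a, ha, b, hb, e⟩ := Subgroup.mem_sup_of_normal_left.1 (hK.sup_eq_top ▸ Subgroup.mem_top (⟨m, hm⟩ : M))
    refine ⟨b, ⟨b, hb, rfl⟩, (b : G)⁻¹ * a * b, ?_, ?_⟩
    · have := (Subgroup.mem_normalizer_iff.1 (le_normalizer_piCoreOf (π := sigma M) (inv_mem b.2)) (a : G)).1 ha
      simpa [sigmaCore, piCoreOf] using this
    · rw [show m = (a : G) * b from (congrArg Subtype.val e).symm]; group

/-- Membership of `σ` is unchanged under conjugation. -/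
theorem sigma_of_cj {g : G} (h : p ∈ sigma (cj M g)) : p ∈ sigma M := by
  obtain ⟨P, hP, hne, hN⟩ := exists_sigma_sylow h
  have h1 := hP.cj g⁻¹
  rw [Fusion.cj_cj_inv] at h1
  obtain ⟨T, hT⟩ := exists_sylow h1
  refine ⟨hp.out, ?_, T, ?_⟩
  · have := h.2.1
    rwa [card_cj] at this
  · rw [hT, ← Fusion.cj_normalizer, ← Fusion.cj_cj_inv M g]
    exact cj_mono hN _

/-- Elements of the derived subgroup for two primes outside `β(H)` commute. -/
theorem commute_derived (hG : IsMinSimpleOddOrder G) {H : Subgroup G} (hH : IsCoatom H) {r : ℕ}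
    [hr : Fact r.Prime] (hrp : r ≠ p) (hpb : p ∉ beta H) (hrb : r ∉ beta H) {R : Subgroup G} (hR : IsPGroup r R)
    (hRd : R ≤ ⁅H, H⁆) {a : G} (ha : a ∈ ⁅H, H⁆) (hap : IsPGroup p ↥(Subgroup.zpowers a))
    (hn : a ∈ Subgroup.normalizer (R : Set G)) : a ∈ Subgroup.centralizer (R : Set G) := by
  refine Subgroup.mem_centralizer_iff.2 fun z hz => (mul_inv_eq_iff_eq_mul.1 ?_).symm
  by_contra hne
  have hdH : ∀ {t : ℕ} [Fact t.Prime] {x : G}, x ∈ (⁅H, H⁆ : Subgroup G) → IsPGroup t ↥(Subgroup.zpowers x) →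
      x ≠ 1 → t ∣ Nat.card H := by
    intro t _ x hx ht hx1
    obtain ⟨j, hj⟩ := IsPGroup.iff_card.1 ht
    rw [Nat.card_zpowers] at hj
    have hj0 : j ≠ 0 := fun h => hx1 (orderOf_eq_one_iff.1 (by rw [hj, h, pow_zero]))
    exact (dvd_pow_self t hj0).trans (hj ▸ (Subgroup.orderOf_dvd_natCard _ hx).trans
      (Subgroup.card_dvd_of_le (Subgroup.commutator_le_self H)))
  have hzr : IsPGroup r ↥(Subgroup.zpowers z) := hR.to_le (Subgroup.zpowers_le.2 hz)
  have hpd : p ∣ Nat.card H := hdH ha hap fun h => hne (by rw [h, one_mul, inv_one, mul_one])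
  have hrd : r ∣ Nat.card H := hdH (hRd hz) hzr fun h => hne (by rw [h, mul_one, mul_inv_cancel])
  obtain ⟨-, -, -, -, hb⟩ := beta_structure hG hH
  obtain ⟨P, N, hNn, hNc⟩ := (hb p hp.out hpd hpb).1
  obtain ⟨S, K, hKn, hKc⟩ := (hb r hr.out hrd hrb).1
  haveI := hKn
  have hmem : ∀ {t : ℕ} [Fact t.Prime] (T : Sylow t ↥(⁅H, H⁆ : Subgroup G)) (L : Subgroup ↥(⁅H, H⁆ : Subgroup G))
      [L.Normal], L.IsComplement' (T : Subgroup _) → ∀ x : ↥(⁅H, H⁆ : Subgroup G), (orderOf x).Coprime t → x ∈ L := by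
    intro t _ T L _ hc x hx
    refine (QuotientGroup.eq_one_iff x).1 (orderOf_eq_one_iff.1 (Nat.eq_one_of_dvd_coprimes ?_
      (orderOf_map_dvd (QuotientGroup.mk' L) x) ((orderOf_dvd_natCard _).trans (Subgroup.index_eq_card L).symm.dvd)))
    obtain ⟨j, hj⟩ := IsPGroup.iff_card.1 T.isPGroup'
    rw [hc.symm.index_eq_card, hj]
    exact hx.pow_right j
  set z' : ↥(⁅H, H⁆ : Subgroup G) := ⟨z, hRd hz⟩ with hz'
  set a' : ↥(⁅H, H⁆ : Subgroup G) := ⟨a, ha⟩ with ha'
  obtain ⟨j, hj⟩ := IsPGroup.iff_card.1 hap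
  rw [Nat.card_zpowers] at hj
  have haK : a' ∈ K := hmem S K hKc a' (by
    rw [Subgroup.orderOf_mk, hj]; exact ((Nat.coprime_primes hp.out hr.out).2 (Ne.symm hrp)).pow_left j)
  have hcK : a' * z' * a'⁻¹ * z'⁻¹ ∈ K := by
    rw [show a' * z' * a'⁻¹ * z'⁻¹ = a' * (z' * a'⁻¹ * z'⁻¹) by group]
    exact mul_mem haK (hKn.conj_mem _ (inv_mem haK) z')
  have hcz : a * z * a⁻¹ * z⁻¹ ∈ R := mul_mem ((Subgroup.mem_normalizer_iff.1 hn z).1 hz) (inv_mem hz)
  have hKr : ¬ r ∣ Nat.card K := fun h => S.not_dvd_index (by rw [hKc.index_eq_card]; exact h)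
  obtain ⟨i, hi⟩ := IsPGroup.iff_card.1 hR
  refine hne (mul_inv_eq_one.1 (orderOf_eq_one_iff.1 (Nat.eq_one_of_dvd_coprimes
    (((Nat.Prime.coprime_iff_not_dvd hr.out).2 hKr).pow_left i) ?_ ?_)))
  · exact hi ▸ Subgroup.orderOf_dvd_natCard _ hcz
  · have := Subgroup.orderOf_dvd_natCard K hcK
    rwa [← Subgroup.orderOf_coe] at this

/-- With an abelian Sylow subgroup of `G`, the Sylow subgroup of a complement is normal. -/
theorem sylow_normal (s : Setup p M A) (hE : IsComplIn E (sigmaCore M) M) (hAE : A ≤ E) {P : Subgroup G}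
    (hPE : SylIn p P E) (hPG : SylIn p P ⊤) :
    A ≤ P ∧ IsMulCommutative ↥P ∧ E ≤ Subgroup.normalizer (P : Set G) ∧
      P ≤ ⁅Subgroup.normalizer (A : Set G), Subgroup.normalizer (A : Set G)⁆ := by
  have hG := s.minSimple
  have hM := s.coatom
  obtain ⟨⟨hEN, -⟩, ⟨hCA, hEeq, -⟩, -⟩ := complement_tau2 s hE hAE
  have hAP : A ≤ P := by
    obtain ⟨x, hx, hle⟩ := hPE.conj_le (Fusion.elab_isPGroup s.elem) hAE
    rwa [cj_eq_self (hEN hx)] at hle
  have hPM := compl_sylIn hG hM hE s.not_sigma hPE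
  have hPab : IsMulCommutative ↥P := pgroup_abelian hG hM s.not_sigma hPE.isPGroup (hPE.le.trans hE.1)
  have hPN : Subgroup.normalizer (P : Set G) ≤ Subgroup.normalizer (A : Set G) := by
    rw [← omz_eq s hPM hAP]; exact normalizer_le_omz P
  have hPd : P ≤ ⁅Subgroup.normalizer (A : Set G), Subgroup.normalizer (A : Set G)⁆ :=
    (sylow_le_commutator hG hPG hPab).trans (Subgroup.commutator_mono hPN hPN)
  refine ⟨hAP, hPab, ?_, hPd⟩
  set C := Subgroup.centralizer (A : Set G) with hC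
  have hCE : C ≤ E := hCA.trans hEeq.le
  have hPC : P ≤ C := sylow_le_centralizer s hPM hAP
  set K : Subgroup G := ⁅C, C⁆ with hK
  have hKab : IsMulCommutative ↥K := by
    have h := compl_derived_abelian hG hM hE
    exact ⟨⟨fun u v => Subtype.ext (congrArg Subtype.val (h.is_comm.comm
      (⟨u, Subgroup.commutator_mono hCE hCE u.2⟩ : (⁅E, E⁆ : Subgroup G))
      ⟨v, Subgroup.commutator_mono hCE hCE v.2⟩) :)⟩⟩
  have hKC : K ≤ C := Subgroup.commutator_le_self C
  have hNK : Subgroup.normalizer (A : Set G) ≤ Subgroup.normalizer (K : Set G) := fun g hg => by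
    refine mem_normalizer_of_cj_le (le_of_eq ?_)
    rw [hK, Fusion.cj_commutator, hC, Fusion.cj_centralizer, cj_eq_self hg]
  obtain ⟨H, hH, hNH⟩ := exists_coatom _
    (normalizer_pgroup_ne_top hG (Fusion.elab_isPGroup s.elem) s.ne_bot)
  have hPK : K ≤ Subgroup.centralizer (P : Set G) := by
    rw [← Subgroup.relIndex_eq_one]
    by_contra hne
    obtain ⟨r, hr, hd⟩ := Nat.exists_prime_and_dvd hne
    haveI := Fact.mk hr
    obtain ⟨R, hR⟩ := Fusion.exists_sylIn (p := r) K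
    refine hR.not_dvd (hd.trans (Subgroup.relIndex_dvd_of_le_left K ?_))
    have hRE : R ≤ E := (hR.le.trans hKC).trans hCE
    have hKnil : Group.IsNilpotent ↥K := letI : CommGroup ↥K :=
      { (inferInstance : Group ↥K) with mul_comm := hKab.is_comm.comm }; inferInstance
    have hNR : Subgroup.normalizer (A : Set G) ≤ Subgroup.normalizer (R : Set G) :=
      SigmaSubgroups.sylow_of_nilpotent_normal hKnil hNK hR
    by_cases hrp : r = p
    · subst hrp
      have hRP : R ≤ P := by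
        have hsup : IsPGroup r ↥(R ⊔ P : Subgroup G) :=
          hR.isPGroup.to_sup_of_normal_left' hPE.isPGroup ?_
        · exact le_sup_left.trans (hPE.eq_of_le hsup le_sup_right (sup_le hRE hPE.le)).le
        · exact (hPC.trans (Subgroup.centralizer_le_normalizer _)).trans hNR
      exact fun x hx => Subgroup.mem_centralizer_iff.2 fun y hy =>
        congrArg Subtype.val (hPab.is_comm.comm (⟨y, hy⟩ : P) ⟨x, hRP hx⟩)
    rw [Subgroup.le_centralizer_iff]
    by_cases hRc : IsCyclic ↥R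
    · exact hPd.trans (commutator_le_centralizer hRc hNR)
    have hr2 : r ≠ 2 := Uniq.ne_two hG hR.isPGroup fun h => hRc (by rw [h]; infer_instance)
    obtain ⟨B, hBR, hBe, hBc⟩ := exists_elab_sq hr2 hR.isPGroup hRc
    have hRE' : R ≤ M := hRE.trans hE.1
    have hrσ : r ∉ sigma M := compl_pi hG hM hE hr ((dvd_pow_self r two_ne_zero).trans
      (hBc ▸ Subgroup.card_dvd_of_le (hBR.trans hRE)))
    have hrb : r ∉ beta H := fun h => (not_ideal hG hM
      (prankLE_of_not_alpha hr (not_alpha_of_not_sigma hG hM hrσ))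
      (not_prankLE_of_elab (hBR.trans hRE') hBe hBc.ge)).1 h.2
    have hpb : p ∉ beta H := fun h => (not_ideal hG hM s.rank s.rank_one).1 h.2
    have hCH : C ≤ H := (Subgroup.centralizer_le_normalizer _).trans hNH
    intro a ha
    exact commute_derived hG hH hrp hpb hrb hR.isPGroup (hR.le.trans (Subgroup.commutator_mono hCH hCH))
      (Subgroup.commutator_mono hNH hNH (hPd ha)) (hPE.isPGroup.to_le (Subgroup.zpowers_le.2 ha))
      (hNR (Subgroup.centralizer_le_normalizer _ (hPC ha)))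
  -- P is normal in the centralizer of A
  have hCP : ∀ c ∈ C, cj P c = P := by
    intro c hc
    have hle : cj P c ≤ P ⊔ K := by
      rintro _ ⟨x, hx, rfl⟩
      show c * x * c⁻¹ ∈ P ⊔ K
      rw [show c * x * c⁻¹ = ⁅c, x⁆ * x by rw [commutatorElement_def]; group]
      exact Subgroup.mul_mem _ (Subgroup.mem_sup_right (Subgroup.commutator_mem_commutator hc (hPC hx)))
        (Subgroup.mem_sup_left hx)
    have hcen : P ⊔ K ≤ Subgroup.centralizer (P : Set G) :=
      sup_le (fun x hx => Subgroup.mem_centralizer_iff.2 fun y hy =>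
        congrArg Subtype.val (hPab.is_comm.comm (⟨y, hy⟩ : P) ⟨x, hx⟩)) hPK
    have hsup : IsPGroup p ↥(cj P c ⊔ P : Subgroup G) :=
      (isPGroup_cj hPE.isPGroup c).to_sup_of_normal_right' hPE.isPGroup
        ((hle.trans hcen).trans (Subgroup.centralizer_le_normalizer _))
    have h := hPE.eq_of_le hsup le_sup_right (sup_le ((cj_mono hPE.le c).trans
      (Fusion.cj_eq_self_of_mem (hCE hc)).le) hPE.le)
    exact Subgroup.eq_of_le_of_card_ge (le_sup_left.trans h.le) (by rw [card_cj])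
  intro g hg
  refine mem_normalizer_of_cj_le (le_of_eq ?_)
  have hgC : cj C g = C := by rw [hC, Fusion.cj_centralizer, cj_eq_self (hEN hg)]
  have hPC' : SylIn p P C := hPE.mono hPC hCE
  have hPg : SylIn p (cj P g) C := hgC ▸ hPC'.cj g
  obtain ⟨c, hc, he⟩ := hPC'.conj_eq hPg
  rw [← he, hCP c hc]

end Cfsg.Agent.OddLocal.TauTwo
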