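import Cfsg.Agent.Lib.OddLocal.RankTwoLemma
import Cfsg.Agent.Lib.Solv.ThompsonFPF
import Cfsg.Agent.S1453

/-!
Elementary abelian subgroups of order `p²` for primes outside `σ(M)`.
-/

set_option autoImplicit false
set_option linter.style.haveILetI false

namespace Cfsg.Agent.OddLocal.TauTwo

open Cfsg
open Cfsg.Agent.Fusion (SylIn cj cj_cj cj_eq_self cj_mono card_cj isPGroup_cj sylIn_map sylIn_top exists_sylIn_ge
  mem_normalizer_of_cj_le)
open Cfsg.Agent.OddLocal.Uniq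
open Cfsg.Agent.OddLocal.Sig
open Cfsg.Agent.OddLocal.RankTwo
open Cfsg.Agent.OddLocal.Transit (Hyp)

universe u

variable {G : Type u} [Group G] [Finite G] {p : ℕ} [hp : Fact p.Prime] {M A : Subgroup G}

/-- A `p`-group centralizes the subgroups of order `p` that it normalises. -/
theorem line_centralized {R e : Subgroup G} (hR : IsPGroup p R) (heR : e ≤ R) (hec : Nat.card e = p)
    (hn : R ≤ Subgroup.normalizer (e : Set G)) : R ≤ Subgroup.centralizer (e : Set G) := by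
  haveI : (e.subgroupOf R).Normal := Subgroup.normal_subgroupOf_of_le_normalizer hn
  have hcen := Fusion.le_center_of_card_prime hR (e.subgroupOf R) (by rw [Solv.card_subgroupOf heR, hec])
  intro r hr
  refine Subgroup.mem_centralizer_iff.2 fun x hx => ?_
  exact (congrArg Subtype.val (Subgroup.mem_center_iff.1 (hcen (x := ⟨x, heR hx⟩) hx) ⟨r, hr⟩)).symm

/-- The standing hypotheses: `A` is elementary of order `p²` in `M` and `p` is outside `σ(M)`. -/
structure Setup (p : ℕ) (M A : Subgroup G) : Prop where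
  minSimple : IsMinSimpleOddOrder G
  coatom : IsCoatom M
  not_sigma : p ∉ sigma M
  le : A ≤ M
  elem : IsElementaryAbelian p A
  card : Nat.card A = p ^ 2

theorem Setup.centralizer_le (s : Setup p M A) : Subgroup.centralizer (A : Set G) ≤ M :=
  (rank_two_lemma s.minSimple s.coatom s.le s.elem s.card).1

theorem Setup.le_centralizer (s : Setup p M A) : A ≤ Subgroup.centralizer (A : Set G) :=
  fun x hx => Subgroup.mem_centralizer_iff.2 fun b hb =>
    congrArg Subtype.val (s.elem.1.is_comm.comm (⟨b, hb⟩ : A) ⟨x, hx⟩)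

theorem Setup.ne_bot (s : Setup p M A) : A ≠ ⊥ := fun h => by
  have h1 := s.card
  rw [h, Subgroup.card_bot] at h1
  exact absurd h1 (Nat.one_lt_pow two_ne_zero hp.out.one_lt).ne

theorem Setup.dvd (s : Setup p M A) : p ∣ Nat.card M :=
  (dvd_pow_self p two_ne_zero).trans (s.card ▸ Subgroup.card_dvd_of_le s.le)

theorem Setup.ne_two (s : Setup p M A) : p ≠ 2 :=
  Uniq.ne_two s.minSimple (Fusion.elab_isPGroup s.elem) s.ne_bot

theorem Setup.rank (s : Setup p M A) : PRankLE p 2 ↥M :=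
  prankLE_of_not_alpha hp.out (not_alpha_of_not_sigma s.minSimple s.coatom s.not_sigma)

theorem Setup.rank_one (s : Setup p M A) : ¬ PRankLE p 1 ↥M := not_prankLE_of_elab s.le s.elem s.card.ge

theorem Setup.full (s : Setup p M A) :
    ∀ x ∈ Subgroup.centralizer (A : Set G), x ^ p = 1 → x ∈ A := fun _ hx hxp =>
  mem_of_rank (C := M) s.rank s.elem s.card.ge s.le (s.centralizer_le hx) hx hxp

theorem Setup.hyp (s : Setup p M A) : Hyp (p ^ 2) A :=
  s.card ▸ Transit.hyp_of_transitivityHypothesis (Transit.hypothesis_of_order_p s.minSimple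
    ((dvd_pow_self p two_ne_zero).trans (s.card ▸ Subgroup.card_subgroup_dvd_card A))
    (Fusion.elab_isPGroup s.elem) s.elem.1 s.full)

theorem Setup.exists_good (s : Setup p M A) : ∃ e : Subgroup G, Good p M A e := by
  by_contra h
  push Not at h
  exact s.not_sigma ((rank_two_lemma s.minSimple s.coatom s.le s.elem s.card).2
    (fun e he hec hh => h e ⟨he, hec, hh.2⟩)).1

omit hp in
/-- Conjugation by elements of `M` preserves good lines. -/
theorem good_cj {m : G} (hm : m ∈ M) {e B : Subgroup G} (h : Good p M A e) (hB : cj e m ≤ B) :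
    Good p M B (cj e m) := by
  refine ⟨hB, by rw [card_cj, h.2.1], fun L hL hNL => ?_⟩
  have hL' : IsCoatom (cj L m⁻¹) :=
    (OrderIso.isCoatom_iff (MulEquiv.mapSubgroup (MulAut.conj m⁻¹)) L).2 hL
  have h1 := h.2.2 _ hL' (by
    have h2 := cj_mono hNL m⁻¹
    rwa [Fusion.cj_normalizer, Fusion.cj_cj_inv] at h2)
  rw [← Fusion.cj_inv_cj L m, h1, Fusion.cj_eq_self_of_mem hm]

/-- A subgroup good for `M` and for a conjugate of `M` pins the conjugating element. -/
theorem mem_of_good_conj (s : Setup p M A) {g : G} {B C e : Subgroup G} (h₁ : Good p M B (cj e g))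
    (h₂ : Good p M C e) : g ∈ M := by
  have hM' : IsCoatom (cj M g) := (OrderIso.isCoatom_iff (MulEquiv.mapSubgroup (MulAut.conj g)) M).2 s.coatom
  have h3 := h₁.2.2 _ hM' (by
    rw [← Fusion.cj_normalizer]
    exact cj_mono (h₂.normalizer_le s.minSimple) g)
  rw [← normalizer_coatom s.minSimple s.coatom]
  exact Fusion.mem_normalizer_iff_cj.2 h3

/-- The normaliser of a Sylow subgroup of `M` outside `σ(M)` is not in `M`. -/
theorem Setup.sylow_normalizer (s : Setup p M A) {P : Subgroup G} (hP : SylIn p P M) :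
    ¬ Subgroup.normalizer (P : Set G) ≤ M := fun h => by
  obtain ⟨T, hT⟩ := exists_sylow hP
  exact s.not_sigma ⟨hp.out, s.dvd, T, by rw [hT]; exact h⟩

/-- The elements of order `p` of a Sylow subgroup containing `A` are central. -/
theorem omz_eq (s : Setup p M A) {P : Subgroup G} (hP : SylIn p P M) (hAP : A ≤ P) : omz p P = A := by
  have hG := s.minSimple
  obtain ⟨g, hgN, hgM⟩ : ∃ g, g ∈ Subgroup.normalizer (P : Set G) ∧ g ∉ M := by
    by_contra h
    push Not at h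
    exact s.sylow_normalizer hP fun g hg => h g hg
  set Z := omz p P with hZ
  have hsub : ∀ B : Subgroup G, Setup p M B → B ≤ P → Z ≤ B := fun B sB hBP x hx =>
    sB.full x (centralizer_le_of_le hBP hx.2.1) hx.2.2
  by_contra hne
  have hP1 : P ≠ ⊥ := fun h => s.ne_bot (le_bot_iff.1 (h ▸ hAP))
  have hZc : Nat.card Z = p := by
    obtain ⟨j, hj2, hj⟩ := (Nat.dvd_prime_pow hp.out).1 (s.card ▸ Subgroup.card_dvd_of_le (hsub A s hAP))
    interval_cases j
    · exact absurd (Subgroup.card_eq_one.1 (by rw [hj, pow_zero])) (omz_ne_bot hP.isPGroup hP1)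
    · rw [hj, pow_one]
    · exact absurd (Subgroup.eq_of_le_of_card_ge (hsub A s hAP) (by rw [s.card, hj])) hne
  -- every other line of an elementary subgroup of order p² in P is good
  have hall : ∀ B : Subgroup G, Setup p M B → B ≤ P → ∀ d : Subgroup G, d ≤ B → Nat.card d = p → d ≠ Z →
      Good p M B d := by
    intro B sB hBP d hdB hdc hdZ
    have hZB := hsub B sB hBP
    obtain ⟨e, he⟩ := sB.exists_good
    have heZ : e ≠ Z := fun h => hgM (he.normalizer_le hG (h ▸ normalizer_le_omz P hgN))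
    set R := P ⊓ Subgroup.normalizer (B : Set G) with hR
    have hBR : B ≤ R := le_inf hBP Subgroup.le_normalizer
    have hRp : IsPGroup p R := hP.isPGroup.to_inf_left
    obtain ⟨n, hnR, hnC⟩ : ∃ n ∈ R, n ∉ Subgroup.centralizer (B : Set G) := by
      by_contra hno
      push Not at hno
      have hmove : ∀ x ∈ P, x ∈ Subgroup.normalizer (R : Set G) → x ∈ R := fun x hx hxR => by
        refine ⟨hx, mem_normalizer_of_cj_le ?_⟩
        rintro _ ⟨a, ha, rfl⟩
        exact sB.full _ (hno _ ((cj_eq_self hxR).le ⟨a, hBR ha, rfl⟩)) (by rw [← map_pow, sB.elem.2 a ha, map_one])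
      have hPR : R = P := by
        by_contra hne'
        obtain ⟨x, hx, hxR⟩ := SetLike.exists_of_lt (SylIn.normalizer_growth inf_le_left hne' hP.isPGroup)
        exact hxR (hmove x hx.1 hx.2)
      have hBZ : B ≤ Z := fun a ha => ⟨hBP ha, Subgroup.mem_centralizer_iff.2 fun y hy =>
        (Subgroup.mem_centralizer_iff.1 (hno y (hPR.symm ▸ hy)) a ha).symm, sB.elem.2 a ha⟩
      have h1 := Subgroup.card_le_of_le hBZ
      rw [sB.card, hZc, pow_two] at h1
      exact absurd h1 (not_le.2 (lt_mul_of_one_lt_left hp.out.pos hp.out.one_lt))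
    have hnB : n ∈ Subgroup.normalizer (B : Set G) := hnR.2
    obtain ⟨a, hae, ha1⟩ := exists_ne_one (ne_bot_of_card he.2.1)
    have haB : a ∈ B := he.1 hae
    -- the fixed points of n on B are Z
    have hcomm : ∀ x y : G, x ∈ B → y ∈ B → x * y = y * x := fun x y hx hy =>
      congrArg Subtype.val (sB.elem.1.is_comm.comm (⟨x, hx⟩ : B) ⟨y, hy⟩)
    have hfix : ∀ x ∈ B, n * x * n⁻¹ = x → x ∈ Z := by
      intro x hx hnx
      by_contra hxZ
      have hx1 : x ≠ 1 := fun h => hxZ (h ▸ one_mem _)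
      refine hnC (Subgroup.le_centralizer_iff.1 ?_ (Subgroup.mem_zpowers n))
      rw [← line_sup sB.card hZB (Subgroup.zpowers_le.2 hx) hZc (card_zpowers_elab sB.elem hx hx1)
        fun h => hxZ (h ▸ Subgroup.mem_zpowers x), sup_le_iff, centralizer_zpowers]
      refine ⟨fun z hz => ?_, Subgroup.zpowers_le.2 ?_⟩
      · exact Subgroup.mem_centralizer_singleton_iff.2 (Subgroup.mem_centralizer_iff.1 hz.2.1 n hnR.1).symm
      · exact Subgroup.mem_centralizer_singleton_iff.2 (mul_inv_eq_iff_eq_mul.1 hnx).symm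
    have hbB : n * a * n⁻¹ * a⁻¹ ∈ B :=
      mul_mem ((Subgroup.mem_normalizer_iff.1 hnB a).1 haB) (inv_mem haB)
    -- the commutators with n form a line fixed by n
    let f : ↥B →* G :=
      { toFun := fun x => n * x * n⁻¹ * (x : G)⁻¹
        map_one' := by simp
        map_mul' := fun x y => by
          have hy' : n * y * n⁻¹ * (y : G)⁻¹ ∈ B :=
            mul_mem ((Subgroup.mem_normalizer_iff.1 hnB _).1 y.2) (inv_mem y.2)
          calc n * ((x * y : B) : G) * n⁻¹ * ((x * y : B) : G)⁻¹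
              = (n * x * n⁻¹) * ((n * y * n⁻¹ * (y : G)⁻¹) * (x : G)⁻¹) := by
                rw [Subgroup.coe_mul]; group
            _ = (n * x * n⁻¹) * ((x : G)⁻¹ * (n * y * n⁻¹ * (y : G)⁻¹)) := by rw [hcomm _ _ hy' (inv_mem x.2)]
            _ = n * x * n⁻¹ * (x : G)⁻¹ * (n * y * n⁻¹ * (y : G)⁻¹) := by group }
    have hrange : f.range ≤ B := by
      rintro _ ⟨x, rfl⟩
      exact mul_mem ((Subgroup.mem_normalizer_iff.1 hnB _).1 x.2) (inv_mem x.2)
    have hker : f.ker = Z.subgroupOf B := by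
      ext x
      refine ⟨fun h => hfix x x.2 (mul_inv_eq_one.1 h), fun h => ?_⟩
      show n * (x : G) * n⁻¹ * (x : G)⁻¹ = 1
      rw [Subgroup.mem_centralizer_iff.1 (Subgroup.mem_subgroupOf.1 h).2.1 n hnR.1, mul_inv_cancel_right,
        mul_inv_cancel]
    have hrc : Nat.card f.range = p := by
      have h1 := f.ker.card_mul_index
      rw [Subgroup.index_ker, hker, Solv.card_subgroupOf hZB, hZc, sB.card, pow_two] at h1
      exact Nat.eq_of_mul_eq_mul_left hp.out.pos h1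
    have hrn : n ∈ Subgroup.normalizer (f.range : Set G) := mem_normalizer_of_cj_le (by
      rintro _ ⟨_, ⟨x, rfl⟩, rfl⟩
      refine ⟨⟨n * x * n⁻¹, (Subgroup.mem_normalizer_iff.1 hnB _).1 x.2⟩, ?_⟩
      show n * (n * x * n⁻¹) * n⁻¹ * (n * x * n⁻¹)⁻¹ = n * (n * x * n⁻¹ * (x : G)⁻¹) * n⁻¹
      group)
    have hbZ : ∀ x, f x ∈ Z := fun x => by
      have hle : Subgroup.zpowers n ⊔ f.range ≤ R :=
        sup_le (Subgroup.zpowers_le.2 hnR) (hrange.trans hBR)
      have h2 := line_centralized (hRp.to_le hle) le_sup_right hrc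
        (sup_le (Subgroup.zpowers_le.2 hrn) Subgroup.le_normalizer) (Subgroup.mem_sup_left (Subgroup.mem_zpowers n))
      refine hfix _ (hrange ⟨x, rfl⟩) ?_
      rw [← Subgroup.mem_centralizer_iff.1 h2 (f x) ⟨x, rfl⟩, mul_inv_cancel_right]
    set b := n * a * n⁻¹ * a⁻¹ with hb
    have hbZ' : b ∈ Z := hbZ ⟨a, haB⟩
    have haZ : a ∉ Z := fun h => by
      refine heZ ?_
      have h1 : e = Subgroup.zpowers a := (Subgroup.eq_of_le_of_card_ge (Subgroup.zpowers_le.2 hae)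
        (by rw [he.2.1, card_zpowers_elab sB.elem haB ha1])).symm
      rw [h1]
      exact Subgroup.eq_of_le_of_card_ge (Subgroup.zpowers_le.2 h) (by rw [hZc, card_zpowers_elab sB.elem haB ha1])
    have hb1 : b ≠ 1 := fun h => haZ (hfix a haB (mul_inv_eq_one.1 h))
    have hpow : ∀ i : ℕ, n ^ i * a * (n ^ i)⁻¹ = a * b ^ i := by
      intro i
      induction i with
      | zero => simp
      | succ i ih =>
        have hnb : n * b * n⁻¹ = b := by
          rw [Subgroup.mem_centralizer_iff.1 hbZ'.2.1 n hnR.1, mul_inv_cancel_right]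
        calc n ^ (i + 1) * a * (n ^ (i + 1))⁻¹ = n * (n ^ i * a * (n ^ i)⁻¹) * n⁻¹ := by rw [pow_succ']; group
          _ = (n * a * n⁻¹) * (n * b * n⁻¹) ^ i := by rw [ih, conj_pow]; group
          _ = (b * a) * b ^ i := by rw [hnb, hb]; group
          _ = a * b ^ (i + 1) := by rw [hcomm b a hbB haB, mul_assoc, ← pow_succ']
    -- d is spanned by some a * b ^ i
    have hsup : Subgroup.zpowers a ⊔ Subgroup.zpowers b = B :=
      line_sup sB.card (Subgroup.zpowers_le.2 haB) (Subgroup.zpowers_le.2 hbB)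
        (card_zpowers_elab sB.elem haB ha1) (card_zpowers_elab sB.elem hbB hb1) fun h => haZ (by
          have h' : a ∈ Subgroup.zpowers b := h.symm ▸ Subgroup.mem_zpowers a
          exact Subgroup.zpowers_le.2 hbZ' h')
    obtain ⟨x, hxd, hx1⟩ := exists_ne_one (ne_bot_of_card hdc)
    have hx' : x ∈ Subgroup.zpowers a ⊔ Subgroup.zpowers b := hsup.ge (hdB hxd)
    rw [← SetLike.mem_coe, Subgroup.coe_mul_of_right_le_normalizer_left _ _ (Subgroup.zpowers_le.2
      (Subgroup.centralizer_le_normalizer _ (by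
        rw [centralizer_zpowers]
        exact Subgroup.mem_centralizer_singleton_iff.2 (hcomm b a hbB haB))))] at hx'
    obtain ⟨_, ⟨j, rfl⟩, _, ⟨l, rfl⟩, hxe⟩ := hx'
    simp only at hxe
    have hdx : d = Subgroup.zpowers x := (Subgroup.eq_of_le_of_card_ge (Subgroup.zpowers_le.2 hxd)
      (by rw [hdc, card_zpowers_elab sB.elem (hdB hxd) hx1])).symm
    have hj : ¬ (p : ℤ) ∣ j := fun hd => hdZ (by
      have h1 : a ^ j = 1 := orderOf_dvd_iff_zpow_eq_one.1 (orderOf_eq_prime (sB.elem.2 a haB) ha1 ▸ hd)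
      have h2 : x ∈ Z := by rw [← hxe, h1, one_mul]; exact zpow_mem hbZ' l
      rw [hdx]
      exact Subgroup.eq_of_le_of_card_ge (Subgroup.zpowers_le.2 h2)
        (by rw [hZc, card_zpowers_elab sB.elem (hdB hxd) hx1]))
    obtain ⟨u, v, huv⟩ : IsCoprime j (p : ℤ) :=
      ((Nat.prime_iff_prime_int.1 hp.out).coprime_iff_not_dvd.2 hj).symm
    obtain ⟨i, hi⟩ : ∃ i : ℕ, b ^ (l * u) = b ^ i := by
      obtain ⟨i, hi⟩ := mem_powers_iff_mem_zpowers.2 (Subgroup.zpow_mem_zpowers b (l * u))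
      exact ⟨i, hi.symm⟩
    have hxu : x ^ u = a * b ^ i := by
      rw [← hxe, (show Commute (a ^ j) (b ^ l) from (show Commute a b from hcomm a b haB hbB).zpow_zpow j l).mul_zpow,
        ← zpow_mul, ← zpow_mul, ← hi]
      congr 1
      rw [show j * u = 1 - v * p by linarith, zpow_sub, zpow_one, mul_comm v, zpow_mul, zpow_natCast,
        sB.elem.2 a haB, one_zpow, inv_one, mul_one]
    have hde : d = cj e (n ^ i) := by
      refine Subgroup.eq_of_le_of_card_ge ?_ (by rw [card_cj, he.2.1, hdc]) |>.symm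
      rintro _ ⟨y, hy, rfl⟩
      have h1 : e = Subgroup.zpowers a := (Subgroup.eq_of_le_of_card_ge (Subgroup.zpowers_le.2 hae)
        (by rw [he.2.1, card_zpowers_elab sB.elem haB ha1])).symm
      obtain ⟨k, rfl⟩ := Subgroup.mem_zpowers_iff.1 (h1 ▸ hy)
      rw [map_zpow]
      refine zpow_mem ?_ k
      show n ^ i * a * (n ^ i)⁻¹ ∈ d
      rw [hpow i, ← hxu, hdx]
      exact zpow_mem (Subgroup.mem_zpowers x) u
    rw [hde]
    exact good_cj (hP.le (pow_mem hnR.1 i)) he (hde ▸ hdB)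
  obtain ⟨e, he⟩ := s.exists_good
  have heZ : e ≠ Z := fun h => hgM (he.normalizer_le hG (h ▸ normalizer_le_omz P hgN))
  have hgP : cj P g = P := cj_eq_self hgN
  have hBP : cj A g ≤ P := (cj_mono hAP g).trans hgP.le
  have sB : Setup p M (cj A g) := ⟨hG, s.coatom, s.not_sigma, hBP.trans hP.le,
    ⟨haveI := s.elem.1; Subgroup.map_isMulCommutative A _, by
      rintro _ ⟨x, hx, rfl⟩; rw [← map_pow, s.elem.2 x hx, map_one]⟩, by rw [card_cj, s.card]⟩
  refine hgM (mem_of_good_conj s (hall _ sB hBP (cj e g) (cj_mono he.1 g) (by rw [card_cj, he.2.1]) fun h => ?_) he)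
  refine heZ ?_
  have h1 : cj (cj e g) g⁻¹ = cj Z g⁻¹ := by rw [h]
  rwa [Fusion.cj_cj_inv, cj_eq_self (inv_mem (normalizer_le_omz P hgN))] at h1

/-- The normaliser of `A` is not in `M`. -/
theorem Setup.normalizer_not_le (s : Setup p M A) : ¬ Subgroup.normalizer (A : Set G) ≤ M := fun h => by
  obtain ⟨P, hP, hAP⟩ := exists_sylIn_ge (Fusion.elab_isPGroup s.elem) s.le
  refine s.sylow_normalizer hP ((normalizer_le_omz (q := p) P).trans ?_)
  rw [omz_eq s hP hAP]
  exact h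

/-- Elements of order `p` of a Sylow subgroup containing `A`. -/
theorem omega_iff (s : Setup p M A) {P : Subgroup G} (hP : SylIn p P M) (hAP : A ≤ P) :
    ∀ x ∈ P, x ^ p = 1 ↔ x ∈ A := fun x hx => ⟨fun hxp => by
  refine s.full x (Subgroup.mem_centralizer_iff.2 fun a ha => ?_) hxp
  rw [← omz_eq s hP hAP] at ha
  exact (Subgroup.mem_centralizer_iff.1 ha.2.1 x hx).symm, fun hxA => s.elem.2 x hxA⟩

/-- The centralizer of `A` has order prime to `σ(M)`. -/
theorem Setup.not_dvd_centralizer (s : Setup p M A) {q : ℕ} [hq : Fact q.Prime] (hσ : q ∈ sigma M) :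
    ¬ q ∣ Nat.card (Subgroup.centralizer (A : Set G)) := by
  intro hqC
  have hG := s.minSimple
  have hqp : q ≠ p := fun h => s.not_sigma (h ▸ hσ)
  obtain ⟨P, hP, hAP⟩ := exists_sylIn_ge (Fusion.elab_isPGroup s.elem) s.le
  have hσM : sigmaCore M ≤ M := Subgroup.map_subtype_le _
  have hall := (sigmaCore_hall hG s.coatom).1
  have hco : (Nat.card P).Coprime (Nat.card (sigmaCore M)) := Nat.coprime_of_dvd fun r hr h1 h2 => by
    obtain ⟨j, hj⟩ := IsPGroup.iff_card.1 hP.isPGroup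
    rw [hj] at h1
    exact s.not_sigma ((Nat.prime_dvd_prime_iff_eq hr hp.out).1 (hr.dvd_of_dvd_pow h1) ▸ hall.2.1 r hr h2)
  obtain ⟨Q, hQ₀, hPQ⟩ := Solv.exists_invariant_sylow (hP.le.trans le_normalizer_piCoreOf) hco
    (Or.inl (hG.2.2.2 P fun h => s.coatom.1 (eq_top_iff.2 (h ▸ hP.le)))) q
  have hQ : SylIn q Q M := ⟨hQ₀.1.trans hσM, hQ₀.isPGroup, by
    rw [← Subgroup.relIndex_mul_relIndex Q (sigmaCore M) M hQ₀.1 hσM]
    exact hq.out.prime.not_dvd_mul (sylIn_of_isSylIn hQ₀).not_dvd (hall.2.2 q hq.out hσ)⟩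
  obtain ⟨hQtop, -, hQN⟩ := sigma_sylow hσ hQ
  have hAQ : A ≤ Subgroup.normalizer (Q : Set G) := hAP.trans hPQ
  obtain ⟨⟨c, hcA⟩, hc⟩ := exists_prime_orderOf_dvd_card' q hqC
  rw [Subgroup.orderOf_mk] at hc
  have hcq : IsPGroup q ↥(Subgroup.zpowers c) :=
    IsPGroup.of_card (n := 1) (by rw [Nat.card_zpowers, hc, pow_one])
  obtain ⟨Qc, hcQ, mc⟩ := Cfsg.Agent.S1480.exists_max (E := A) (Subgroup.zpowers c) hcq
    ((Subgroup.le_centralizer_iff.1 (Subgroup.zpowers_le.2 hcA)).trans (Subgroup.centralizer_le_normalizer _))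
  obtain ⟨k, hk, hkQ⟩ := Transit.rel_rank_two hG.2 s.hyp (not_dvd_sq hqp) hqC (fun h =>
    not_prankLE_of_elab (le_inf le_rfl s.le_centralizer) s.elem s.card.ge (h p hp.out))
    mc (maxInv_of_sylow hQtop hAQ)
  have hkC := Transit.piCoreOf_le _ hk
  set X := Subgroup.normalizer (A : Set G) with hX
  have hXt : X ≠ ⊤ := normalizer_pgroup_ne_top hG (Fusion.elab_isPGroup s.elem) s.ne_bot
  have hXQ : X ⊓ Q ≠ ⊥ := fun h0 => by
    have h1 : k * c * k⁻¹ ∈ X ⊓ Q := ⟨Subgroup.centralizer_le_normalizer _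
      (Subgroup.mul_mem _ (Subgroup.mul_mem _ hkC hcA) (Subgroup.inv_mem _ hkC)),
      hkQ ▸ ⟨c, hcQ (Subgroup.mem_zpowers c), rfl⟩⟩
    rw [h0, Subgroup.mem_bot, conj_eq_one_iff] at h1
    rw [h1, orderOf_one] at hc
    exact hq.out.ne_one hc.symm
  have hNX : Subgroup.normalizer (P : Set G) ≤ X := by
    rw [hX, ← omz_eq s hP hAP]; exact normalizer_le_omz P
  have hypP : Hyp (p ^ 2) P := s.hyp.mono hAP (fun h => s.coatom.1 (eq_top_iff.2 (h ▸ hP.le))) fun r hr hd => by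
    obtain ⟨j, hj⟩ := IsPGroup.iff_card.1 hP.isPGroup
    rw [hj] at hd
    rw [(Nat.prime_dvd_prime_iff_eq hr hp.out).1 (hr.dvd_of_dvd_pow hd)]
    exact dvd_pow_self p two_ne_zero
  refine s.sylow_normalizer hP fun g hg => ?_
  obtain ⟨l, hl, hn⟩ := rel_factor hG hypP hqp hQtop hPQ hXt (Subgroup.le_normalizer.trans hNX) hXQ hg (hNX hg)
  have := mul_mem (s.centralizer_le (centralizer_le_of_le hAP (Transit.piCoreOf_le _ hl))) (hQN hn)
  simpa using this

/-- `A` has no fixed points on `M_σ`. -/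
theorem sigmaCore_inf_centralizer (s : Setup p M A) :
    sigmaCore M ⊓ Subgroup.centralizer (A : Set G) = ⊥ := by
  refine Solv.coprime_inf (Nat.coprime_of_dvd fun q hq h1 h2 => ?_)
  haveI := Fact.mk hq
  exact s.not_dvd_centralizer ((sigmaCore_hall s.minSimple s.coatom).1.2.1 q hq h1) h2

/-- `M_σ` meets no other maximal subgroup over `A`. -/
theorem sigmaCore_inf_coatom (s : Setup p M A) {H : Subgroup G} (hH : IsCoatom H) (hHM : H ≠ M) (hAH : A ≤ H) :
    sigmaCore M ⊓ H = ⊥ := by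
  by_contra hne
  have hG := s.minSimple
  obtain ⟨q, hq, hqd⟩ := Nat.exists_prime_and_dvd (fun h => hne (Subgroup.card_eq_one.1 h))
  haveI := Fact.mk hq
  have hσM : sigmaCore M ≤ M := Subgroup.map_subtype_le _
  have hall := (sigmaCore_hall hG s.coatom).1
  have hσ := hall.2.1 q hq (hqd.trans (Subgroup.card_dvd_of_le inf_le_left))
  have hqp : q ≠ p := fun h => s.not_sigma (h ▸ hσ)
  have hAW : A ≤ Subgroup.normalizer ((sigmaCore M ⊓ H : Subgroup G) : Set G) := fun a ha => by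
    refine mem_normalizer_of_cj_le ?_
    have ha' : a ∈ Subgroup.normalizer (sigmaCore M : Set G) := le_normalizer_piCoreOf (s.le ha)
    rw [Fusion.cj_inf, cj_eq_self ha', Fusion.cj_eq_self_of_mem (hAH ha)]
  have hco : (Nat.card A).Coprime (Nat.card (sigmaCore M)) := Nat.coprime_of_dvd fun r hr h1 h2 => by
    rw [s.card] at h1
    exact s.not_sigma ((Nat.prime_dvd_prime_iff_eq hr hp.out).1 (hr.dvd_of_dvd_pow h1) ▸ hall.2.1 r hr h2)
  have hsol : Group.IsSolvable A := hG.2.2.2 A s.hyp.2.1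
  obtain ⟨Y, hY, hAY⟩ := Solv.exists_invariant_sylow hAW
    (hco.coprime_dvd_right (Subgroup.card_dvd_of_le inf_le_left)) (Or.inl hsol) q
  obtain ⟨Q, hQ₀, hYQ, hAQ⟩ := Solv.exists_invariant_sylow_ge (p := q)
    (s.le.trans le_normalizer_piCoreOf : A ≤ Subgroup.normalizer (sigmaCore M : Set G)) hco (Or.inl hsol) Y
    (hY.1.trans inf_le_left) hY.isPGroup hAY
  have hQ : SylIn q Q M := ⟨hQ₀.1.trans hσM, hQ₀.isPGroup, by
    rw [← Subgroup.relIndex_mul_relIndex Q (sigmaCore M) M hQ₀.1 hσM]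
    exact hq.prime.not_dvd_mul (sylIn_of_isSylIn hQ₀).not_dvd (hall.2.2 q hq hσ)⟩
  obtain ⟨hQtop, -, hQN⟩ := sigma_sylow hσ hQ
  have hHQ : H ⊓ Q ≠ ⊥ := fun h0 => by
    have hY0 : Y = ⊥ := le_bot_iff.1 ((le_inf (hY.1.trans inf_le_right) hYQ).trans h0.le)
    refine (sylIn_of_isSylIn hY).not_dvd ?_
    rw [hY0, Subgroup.relIndex_bot_left]
    exact hqd
  have hqC := s.not_dvd_centralizer hσ
  have hCH : Subgroup.centralizer (A : Set G) ≤ H := (rank_two_lemma hG hH hAH s.elem s.card).1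
  set O := piCoreOf (primesNotDvd (p ^ 2)) H with hO
  have hOH : O ≤ H := Transit.piCoreOf_le H
  have hAHQ : A ≤ Subgroup.normalizer ((H ⊓ Q : Subgroup G) : Set G) := fun a ha => mem_normalizer_of_cj_le (by
    rw [Fusion.cj_inf, cj_eq_self (hAQ ha), Fusion.cj_eq_self_of_mem (hAH ha)])
  obtain ⟨T, hT₁, hQT, hAT⟩ := Solv.exists_invariant_sylow_ge (p := q)
    (hAH.trans (Transit.le_normalizer_piCoreOf H)) (s.hyp.coprime (Transit.piCoreOf_prime H)) (Or.inl hsol)
    (H ⊓ Q) (s.hyp.2.2.2 H hH.1 hAH _ inf_le_left hAHQ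
      (Transit.prime'_of_pgroup (not_dvd_sq hqp) hQ.isPGroup.to_inf_right)) hQ.isPGroup.to_inf_right hAHQ
  obtain ⟨Q', hTQ', mQ'⟩ := Cfsg.Agent.S1480.exists_max (E := A) T hT₁.isPGroup hAT
  obtain ⟨k, hk, hkQ⟩ := Transit.rel_of_inter hG.2 s.hyp (not_dvd_sq hqp) _ Q Q' rfl
    (maxInv_of_sylow hQtop hAQ) mQ'
    fun h0 => hHQ (le_bot_iff.1 ((le_inf inf_le_right (hQT.trans hTQ')).trans h0.le))
  have hkC := Transit.piCoreOf_le _ hk
  have hQ' : SylIn q Q' M := hkQ ▸ hQ.cj' (Subgroup.le_normalizer (s.centralizer_le hkC))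
  have hTH : T ≤ H := hT₁.1.trans hOH
  have hAQ' : A ≤ Subgroup.normalizer (Q' : Set G) := (Cfsg.Agent.S1480.mem_maxInv.1 mQ').1.2
  have hTeq : H ⊓ Q' = T := by
    have hle : T ≤ H ⊓ Q' := le_inf hTH hTQ'
    have hA' : A ≤ Subgroup.normalizer ((H ⊓ Q' : Subgroup G) : Set G) := fun a ha => mem_normalizer_of_cj_le (by
      rw [Fusion.cj_inf, cj_eq_self (hAQ' ha), Fusion.cj_eq_self_of_mem (hAH ha)])
    exact (sylIn_of_isSylIn hT₁).eq_of_le hQ'.isPGroup.to_inf_right hle (s.hyp.2.2.2 H hH.1 hAH _ inf_le_left hA'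
      (Transit.prime'_of_pgroup (not_dvd_sq hqp) hQ'.isPGroup.to_inf_right))
  have hT1 : T ≠ ⊥ := fun h => hHQ (le_bot_iff.1 (h ▸ hQT))
  obtain ⟨L₂, hL₂, hNT, hHL⟩ : ∃ L : Subgroup G, IsCoatom L ∧ Subgroup.normalizer (T : Set G) ≤ L ∧ H ≠ L := by
    by_cases hTQ : T = Q'
    · exact ⟨M, s.coatom, hTQ ▸ (sigma_sylow hσ hQ').2.2, hHM⟩
    obtain ⟨L, hL, hNL⟩ := exists_coatom _ (normalizer_pgroup_ne_top hG hT₁.isPGroup hT1)
    refine ⟨L, hL, hNL, fun h => ?_⟩
    obtain ⟨x, hx, hxT⟩ := SetLike.exists_of_lt (SylIn.normalizer_growth hTQ' hTQ hQ'.isPGroup)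
    exact hxT (hTeq.le ⟨h ▸ hNL hx.2, hx.1⟩)
  have hTC : T ⊓ Subgroup.centralizer (A : Set G) = ⊥ := by
    refine Solv.coprime_inf ?_
    obtain ⟨i, hi⟩ := IsPGroup.iff_card.1 hT₁.isPGroup
    rw [hi]
    exact ((Nat.Prime.coprime_iff_not_dvd hq).2 hqC).pow_left i
  have hNA := core hG hH hL₂ hHL s.hyp s.elem s.card hAH hCH hqp hT₁.isPGroup hAT hTH
    (le_commutator_of_fixed s.elem.1 hAT (coprime_pgroup hqp hT₁.isPGroup (Fusion.elab_isPGroup s.elem)).symm hTC
      hTH hAH) hTC ((Subgroup.centralizer_le_normalizer _).trans hNT) fun S hS hTS hSH => by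
      have hSO : S ⊓ O = T := (sylIn_of_isSylIn hT₁).eq_of_le hS.to_inf_left (le_inf hTS hT₁.1) inf_le_right
      have hn : ∀ g ∈ H, g ∈ Subgroup.normalizer (S : Set G) → g ∈ L₂ := fun g hgH hgS => hNT (by
        refine mem_normalizer_of_cj_le (le_of_eq ?_)
        rw [← hSO, Fusion.cj_inf, cj_eq_self hgS, cj_eq_self (Transit.le_normalizer_piCoreOf H hgH)])
      exact ⟨fun g hg => hn g (hSH hg) (Subgroup.le_normalizer hg), fun g hg => hn g hg.1 hg.2⟩
  refine s.normalizer_not_le fun g hg => ?_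
  obtain ⟨l, hl, hn⟩ := rel_factor hG s.hyp hqp hQtop hAQ hH.1 hAH hHQ hg (hNA hg)
  have := mul_mem (s.centralizer_le (Transit.piCoreOf_le _ hl)) (hQN hn)
  simpa using this

/-- A line with fixed points on `M_σ` has centralizer in `M` only. -/
theorem centralizer_unique_of_fixed (s : Setup p M A) {X : Subgroup G} (hXA : X ≤ A) (hXc : Nat.card X = p)
    (hfix : sigmaCore M ⊓ Subgroup.centralizer (X : Set G) ≠ ⊥) :
    Subgroup.centralizer (X : Set G) ≤ M ∧
      ∀ L : Subgroup G, IsCoatom L → Subgroup.centralizer (X : Set G) ≤ L → L = M := by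
  have hu : ∀ L : Subgroup G, IsCoatom L → Subgroup.centralizer (X : Set G) ≤ L → L = M := fun L hL hCL => by
    by_contra hne
    refine hfix (le_bot_iff.1 ((inf_le_inf_left _ hCL).trans (sigmaCore_inf_coatom s hL hne ?_).le))
    exact (s.le_centralizer.trans (centralizer_le_of_le hXA)).trans hCL
  obtain ⟨L, hL, hNL⟩ := exists_coatom _ (normalizer_pgroup_ne_top s.minSimple (isPGroup_of_card hXc)
    (ne_bot_of_card hXc))
  exact ⟨hu L hL ((Subgroup.centralizer_le_normalizer _).trans hNL) ▸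
    (Subgroup.centralizer_le_normalizer _).trans hNL, hu⟩

theorem good_of_fixed (s : Setup p M A) {X : Subgroup G} (hXA : X ≤ A) (hXc : Nat.card X = p)
    (hfix : sigmaCore M ⊓ Subgroup.centralizer (X : Set G) ≠ ⊥) : Good p M A X :=
  ⟨hXA, hXc, fun L hL hNL => (centralizer_unique_of_fixed s hXA hXc hfix).2 L hL
    ((Subgroup.centralizer_le_normalizer _).trans hNL)⟩

/-- Some line acts without fixed points on `M_σ`. -/
theorem exists_fpf_line (s : Setup p M A) :
    ∃ A₁ : Subgroup G, A₁ ≤ A ∧ Nat.card A₁ = p ∧ sigmaCore M ⊓ Subgroup.centralizer (A₁ : Set G) = ⊥ := by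
  by_contra h
  push Not at h
  obtain ⟨e, he⟩ := s.exists_good
  refine s.normalizer_not_le fun g hg => ?_
  have heg : cj e g ≤ A := (cj_mono he.1 g).trans (cj_eq_self hg).le
  exact mem_of_good_conj s (good_of_fixed s heg (by rw [card_cj, he.2.1]) (h _ heg (by rw [card_cj, he.2.1]))) he

theorem sigmaCore_nilpotent (s : Setup p M A) : Group.IsNilpotent ↥(sigmaCore M) := by
  obtain ⟨A₁, hA₁, hA₁c, hfix⟩ := exists_fpf_line s
  obtain ⟨x, hx, hx1⟩ := exists_ne_one (ne_bot_of_card hA₁c)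
  have hxA : x ∈ A := hA₁ hx
  refine Solv.fpf_nilpotent (sigmaCore M) x hp.out (s.elem.2 x hxA) (le_normalizer_piCoreOf (s.le hxA)) ?_
  rw [← centralizer_zpowers, show Subgroup.zpowers x = A₁ from Subgroup.eq_of_le_of_card_ge
    (Subgroup.zpowers_le.2 hx) (by rw [hA₁c, card_zpowers_elab s.elem hxA hx1])]
  exact hfix

theorem sigmaCore_ne_bot (s : Setup p M A) : sigmaCore M ≠ ⊥ := by
  intro h
  have hall := (sigmaCore_hall s.minSimple s.coatom).1
  have hσ : ∀ r : ℕ, r.Prime → r ∣ Nat.card M → r ∉ sigma M := fun r hr hd hσ => by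
    have h1 := hall.2.2 r hr hσ
    rw [h, Subgroup.relIndex_bot_left] at h1
    exact h1 hd
  have hr : RankLE 2 ↥M := fun r hr => by
    haveI := Fact.mk hr
    by_cases hd : r ∣ Nat.card M
    · exact prankLE_of_not_alpha hr (not_alpha_of_not_sigma s.minSimple s.coatom (hσ r hr hd))
    · intro B hBc hBe
      obtain ⟨j, hj⟩ := IsPGroup.iff_card.1 (show IsPGroup r ↥B from
        fun b => ⟨1, Subtype.ext (by rw [pow_one]; exact hBe b b.2)⟩)
      rcases Nat.eq_zero_or_pos j with h0 | h0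
      · rw [hj, h0, pow_zero]; exact Nat.one_le_pow _ _ hr.pos
      · exact absurd (((dvd_pow_self r h0.ne').trans hj.symm.dvd).trans (Subgroup.card_subgroup_dvd_card B)) hd
  obtain ⟨q, hq, hqσ⟩ := exists_sigma_of_alpha_trivial s.minSimple s.coatom
    (fun h0 => s.ne_bot (le_bot_iff.1 (h0 ▸ s.le))) hr
  exact hσ q hq hqσ.2.1 hqσ

/-- Sylow subgroups of `M` containing `A` are abelian. -/
theorem sylow_abelian (s : Setup p M A) {P : Subgroup G} (hP : SylIn p P M) (hAP : A ≤ P) :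
    IsMulCommutative ↥P := by
  have hG := s.minSimple
  have hAc : P ≤ Subgroup.centralizer (A : Set G) := by
    rw [← omz_eq s hP hAP]; exact omz_centralizer P
  obtain ⟨S, hS, hPS⟩ := exists_sylIn_ge hP.isPGroup (le_top (a := P))
  set C := S ⊓ Subgroup.centralizer (A : Set G) with hC
  have hAS : A ≤ S := hAP.trans hPS
  suffices hCab : IsMulCommutative ↥C by
    haveI := hCab
    exact ⟨⟨fun u v => Subtype.ext (congrArg Subtype.val (hCab.is_comm.comm
      (⟨u, hPS u.2, hAc u.2⟩ : C) ⟨v, hPS v.2, hAc v.2⟩) :)⟩⟩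
  obtain ⟨S', hS'⟩ := hS.exists_sylow
  have hcomm : ∀ x ∈ C, ∀ a ∈ A, Commute a x := fun x hx a ha => Subgroup.mem_centralizer_iff.1 hx.2 a ha
  by_cases hr : PRankLE p 2 ↥S
  · rcases sylow_rank_two hG S' (by rw [hS']; exact hr) with h | ⟨P₁, P₂, h1, h2, -, -, h5, h6, h7⟩
    · rw [hS'] at h
      exact ⟨⟨fun u v => Subtype.ext (congrArg Subtype.val (h.is_comm.comm (⟨u, u.2.1⟩ : S) ⟨v, v.2.1⟩) :)⟩⟩
    rw [hS'] at h1
    haveI := h6
    have hn : P₂ ≤ Subgroup.normalizer (P₁ : Set G) := fun b hb => Subgroup.centralizer_le_normalizer _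
      (Subgroup.mem_centralizer_iff.2 fun a ha => h2 a ha b hb)
    have hdec : ∀ x ∈ S, ∃ a ∈ P₁, ∃ b ∈ P₂, x = a * b := fun x hx => by
      rw [← h1, ← SetLike.mem_coe, Subgroup.coe_mul_of_right_le_normalizer_left _ _ hn] at hx
      obtain ⟨a, ha, b, hb, e⟩ := hx
      exact ⟨a, ha, b, hb, e.symm⟩
    have hpow : ∀ a ∈ P₁, a ^ p = 1 := fun a ha => by
      have h := Monoid.pow_exponent_eq_one (⟨a, ha⟩ : P₁)
      rw [h5] at h
      exact congrArg Subtype.val h
    have hAP₁ : A ≤ P₁ := fun a ha => by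
      obtain ⟨u, hu, v, hv, rfl⟩ := hdec a (hAS ha)
      have hv' : v ^ p = 1 := by
        have := s.elem.2 _ ha
        rwa [(show Commute u v from h2 u hu v hv).mul_pow, hpow u hu, one_mul] at this
      exact mul_mem hu ((h7.le (Subgroup.subset_closure ⟨hv, hv'⟩)).1)
    have hCdec : ∀ x ∈ C, ∃ a ∈ A, ∃ b ∈ P₂, x = a * b := fun x hx => by
      obtain ⟨u, hu, v, hv, rfl⟩ := hdec x hx.1
      refine ⟨u, s.full u (Subgroup.mem_centralizer_iff.2 fun a ha => ?_) (hpow u hu), v, hv, rfl⟩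
      have h8 : Commute a v := h2 a (hAP₁ ha) v hv
      have h9 : Commute a (u * v) := hcomm _ hx a ha
      have := h9.mul_right h8.inv_right
      rwa [mul_inv_cancel_right] at this
    refine ⟨⟨fun x y => Subtype.ext ?_⟩⟩
    obtain ⟨a, ha, b, hb, ex⟩ := hCdec x x.2
    obtain ⟨a', ha', b', hb', ey⟩ := hCdec y y.2
    have c1 : Commute a a' := congrArg Subtype.val (s.elem.1.is_comm.comm (⟨a, ha⟩ : A) ⟨a', ha'⟩)
    have c2 : Commute b b' := congrArg Subtype.val
      ((IsCyclic.commGroup (α := ↥P₂)).mul_comm (⟨b, hb⟩ : P₂) ⟨b', hb'⟩)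
    show (x : G) * y = y * x
    rw [ex, ey]
    exact ((c1.mul_right (h2 a (hAP₁ ha) b' hb')).mul_left
      ((show Commute b a' from (h2 a' (hAP₁ ha') b hb).symm).mul_right c2)).eq
  -- rank at least three
  set E := A.subgroupOf S with hE
  have hEe : IsElementaryAbelian p E := ⟨⟨⟨fun u v => Subtype.ext (Subtype.ext
    (congrArg Subtype.val (s.elem.1.is_comm.comm (⟨u.1.1, u.2⟩ : A) ⟨v.1.1, v.2⟩) :))⟩⟩,
    fun a ha => Subtype.ext (s.elem.2 _ ha)⟩
  have hEmax : ∀ B : Subgroup ↥S, IsElementaryAbelian p B → E ≤ B → B = E := by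
    intro B hB hEB
    have h := (not_ideal hG s.coatom s.rank s.rank_one).2 A s.le s.elem s.card (B.map S.subtype)
      ⟨haveI := hB.1; Subgroup.map_isMulCommutative B _, by
        rintro _ ⟨b, hb, rfl⟩; rw [← map_pow, hB.2 b hb, map_one]⟩
      (by rw [← Subgroup.map_subgroupOf_eq_of_le hAS]; exact Subgroup.map_mono hEB)
    rw [← Subgroup.map_subgroupOf_eq_of_le hAS] at h
    exact Subgroup.map_injective S.subtype_injective h
  obtain ⟨hET, hZ₀, -, hTc, hTi⟩ := Cfsg.Agent.S1453.result p s.ne_two hS.isPGroup hr E hEe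
    (by rw [Solv.card_subgroupOf hAS, s.card]) hEmax
  set T := Subgroup.centralizer ((Subgroup.closure {x : ↥S | x ∈ Subgroup.upperCentralSeries ↥S 2 ∧ x ^ p = 1} :
    Subgroup ↥S) : Set ↥S) with hT
  haveI := hTc
  set Z₀ := Subgroup.closure {x : ↥S | x ∈ Subgroup.center ↥S ∧ x ^ p = 1} with hZ₀d
  have hZ₀T : Z₀ ≤ T := (Subgroup.closure_le _).2 fun x hx =>
    Subgroup.mem_centralizer_iff.2 fun y _ => Subgroup.mem_center_iff.1 hx.1 y
  have hZ₀E : Z₀ ≤ E := (Subgroup.closure_le _).2 fun x hx => s.full (x : G)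
    (Subgroup.mem_centralizer_iff.2 fun a ha => congrArg Subtype.val (Subgroup.mem_center_iff.1 hx.1 ⟨a, hAS ha⟩))
    (by rw [← SubgroupClass.coe_pow, hx.2, OneMemClass.coe_one])
  have hET' : E ⊓ T = Z₀ := by
    refine (Subgroup.eq_of_le_of_card_ge (le_inf hZ₀E hZ₀T) ?_).symm
    obtain ⟨j, hj2, hj⟩ := (Nat.dvd_prime_pow hp.out).1
      (s.card ▸ Solv.card_subgroupOf hAS ▸ Subgroup.card_dvd_of_le (inf_le_left : E ⊓ T ≤ E))
    rw [hZ₀, hj]
    interval_cases j
    · exact le_of_eq_of_le (pow_zero p) hp.out.one_lt.le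
    · exact (pow_one p).le
    · refine absurd (inf_eq_left.1 (Subgroup.eq_of_le_of_card_ge inf_le_left ?_)) hET
      rw [hj, Solv.card_subgroupOf hAS, s.card]
  obtain ⟨a₀, ha₀, ha₀T⟩ := SetLike.not_le_iff_exists.1 hET
  haveI : T.Normal := inferInstance
  have hgen : ∀ x : ↥S, ∃ i : ℤ, x * (a₀ ^ i)⁻¹ ∈ T := fun x => by
    have hcard : Nat.card (↥S ⧸ T) = p := by rw [← Subgroup.index_eq_card]; exact hTi
    have hne1 : (a₀ : ↥S ⧸ T) ≠ 1 := fun h => ha₀T ((QuotientGroup.eq_one_iff _).1 h)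
    have h := mem_zpowers_of_prime_card hcard (g := (a₀ : ↥S ⧸ T)) (g' := (x : ↥S ⧸ T)) hne1
    obtain ⟨i, hi⟩ := h
    refine ⟨i, (QuotientGroup.eq_one_iff _).1 ?_⟩
    rw [QuotientGroup.mk_mul, QuotientGroup.mk_inv, QuotientGroup.mk_zpow]
    exact mul_inv_eq_one.2 hi.symm
  have hcyc : IsCyclic ↥(T.map S.subtype ⊓ C : Subgroup G) := by
    by_contra hnc
    obtain ⟨B, hB, hBe, hBc⟩ := exists_elab_noncyclic s.ne_two (hS.isPGroup.to_le (inf_le_right.trans inf_le_left)) hnc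
    have hle : B ≤ Z₀.map S.subtype := fun b hb => by
      obtain ⟨⟨t, ht, rfl⟩, htC⟩ := hB hb
      exact ⟨t, hET'.le ⟨s.full _ htC.2 (hBe.2 _ hb), ht⟩, rfl⟩
    have h1 := hBc.trans (Subgroup.card_le_of_le hle)
    rw [Subgroup.card_map_of_injective S.subtype_injective, hZ₀, pow_two] at h1
    exact absurd h1 (not_le.2 (lt_mul_of_one_lt_left hp.out.pos hp.out.one_lt))
  haveI := hcyc
  have ha₀A : (a₀ : G) ∈ A := ha₀
  have hCdec : ∀ x ∈ C, ∃ i : ℤ, x * ((a₀ : G) ^ i)⁻¹ ∈ T.map S.subtype ⊓ C := fun x hx => by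
    obtain ⟨i, hi⟩ := hgen ⟨x, hx.1⟩
    refine ⟨i, ⟨_, hi, by simp⟩, Subgroup.mul_mem _ hx.1 (Subgroup.inv_mem _ (Subgroup.zpow_mem _ a₀.2 i)), ?_⟩
    exact Subgroup.mul_mem _ hx.2 (Subgroup.inv_mem _ (Subgroup.zpow_mem _ (s.le_centralizer ha₀A) i))
  refine ⟨⟨fun x y => Subtype.ext ?_⟩⟩
  obtain ⟨i, hx⟩ := hCdec x x.2
  obtain ⟨j, hy⟩ := hCdec y y.2
  show (x : G) * y = y * x
  have ex : (x : G) = x * ((a₀ : G) ^ i)⁻¹ * (a₀ : G) ^ i := by group
  have ey : (y : G) = y * ((a₀ : G) ^ j)⁻¹ * (a₀ : G) ^ j := by group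
  have c1 : Commute ((x : G) * ((a₀ : G) ^ i)⁻¹) ((y : G) * ((a₀ : G) ^ j)⁻¹) := congrArg Subtype.val
    ((IsCyclic.commGroup (α := ↥(T.map S.subtype ⊓ C : Subgroup G))).mul_comm ⟨_, hx⟩ ⟨_, hy⟩)
  have c2 : ∀ z ∈ T.map S.subtype ⊓ C, ∀ k : ℤ, Commute z ((a₀ : G) ^ k) := fun z hz k =>
    ((hcomm z hz.2 _ ha₀A).symm).zpow_right k
  rw [ex, ey]
  exact ((c1.mul_right (c2 _ hx j)).mul_left ((c2 _ hy i).symm.mul_right
    ((Commute.refl (a₀ : G)).zpow_zpow i j))).eq

end Cfsg.Agent.OddLocal.TauTwo
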