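import Cfsg.Agent.Lib.OddLocal.TauTwoNonabelian
import Cfsg.Agent.Lib.Solv.SmallRank

/-!
Nilpotent subgroups of order prime to `σ(M)` and centralizers of elements for `τ₂(M)`.
-/

set_option autoImplicit false
set_option linter.style.haveILetI false

namespace Cfsg.Agent.OddLocal.TauTwo

open Cfsg
open Cfsg.Agent.Fusion (SylIn cj cj_cj cj_eq_self cj_mono card_cj isPGroup_cj sylIn_map sylIn_top exists_sylIn_ge
  mem_normalizer_of_cj_le)
open Cfsg.Agent.OddLocal.Uniq
open Cfsg.Agent.OddLocal.Sig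
open Cfsg.Agent.OddLocal.RankTwo

universe u

variable {G : Type u} [Group G] [Finite G] {p : ℕ} [hp : Fact p.Prime] {M A E : Subgroup G}

omit hp in
/-- Nilpotent subgroups of `M` of order prime to `σ(M)` are abelian. -/
theorem nilpotent_abelian (hG : IsMinSimpleOddOrder G) (hM : IsCoatom M) {N : Subgroup G} (hNM : N ≤ M)
    (hN : Group.IsNilpotent ↥N) (hπ : ∀ q : ℕ, q.Prime → q ∣ Nat.card N → q ∉ sigma M) :
    IsMulCommutative ↥N := by
  obtain ⟨φ⟩ := ((Group.isNilpotent_of_finite_tfae (G := ↥N)).out 0 4 rfl rfl).1 hN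
  refine ⟨⟨fun a b => φ.symm.injective ?_⟩⟩
  rw [map_mul, map_mul]
  funext q P
  haveI : Fact (q : ℕ).Prime := Fact.mk (Nat.prime_of_mem_primeFactors q.2)
  have h := pgroup_abelian (p := (q : ℕ)) hG hM (hπ q (Nat.prime_of_mem_primeFactors q.2) (Nat.dvd_of_mem_primeFactors q.2))
    (P.isPGroup'.map N.subtype) ((Subgroup.map_subtype_le _).trans hNM)
  refine Subtype.ext (Subtype.ext ?_)
  exact (congrArg Subtype.val (h.is_comm.comm ⟨_, Subgroup.mem_map_of_mem N.subtype (φ.symm a q P).2⟩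
    ⟨_, Subgroup.mem_map_of_mem N.subtype (φ.symm b q P).2⟩) :)

omit hp in
/-- The derived subgroup of a complement is abelian. -/
theorem compl_derived_abelian (hG : IsMinSimpleOddOrder G) (hM : IsCoatom M)
    (hE : IsComplIn E (sigmaCore M) M) : IsMulCommutative ↥⁅E, E⁆ :=
  nilpotent_abelian hG hM ((Subgroup.commutator_le_self E).trans hE.1) (compl_derived hG hM hE) fun _ hq hd =>
    compl_pi hG hM hE hq (hd.trans (Subgroup.card_dvd_of_le (Subgroup.commutator_le_self E)))

/-- Normalisers of noncyclic subgroups of prime power order for primes in `σ(M)`. -/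
theorem normalizer_le_of_noncyclic (hG : IsMinSimpleOddOrder G) (hM : IsCoatom M) (hσ : p ∈ sigma M)
    {P : Subgroup G} (hP : IsPGroup p P) (hPM : P ≤ M) (hPc : ¬ IsCyclic ↥P) :
    Subgroup.normalizer (P : Set G) ≤ M := by
  have hp2 : p ≠ 2 := Uniq.ne_two hG hP fun h => hPc (by rw [h]; infer_instance)
  obtain ⟨B, hBP, hBe, hBc⟩ := exists_elab_sq hp2 hP hPc
  have hB1 : B ≠ ⊥ := fun h => by
    rw [h, Subgroup.card_bot] at hBc
    exact absurd hBc (Nat.one_lt_pow two_ne_zero hp.out.one_lt).ne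
  exact (normalizer_le_of_centralizer hG hσ hM hBP hP hB1 (hBP.trans hPM)
    (rank_two_lemma hG hM (hBP.trans hPM) hBe hBc).1).2

/-- A complement contains a standard subgroup for each prime of `τ₂(M)`. -/
theorem exists_setup_in_compl (hG : IsMinSimpleOddOrder G) (hM : IsCoatom M) (hE : IsComplIn E (sigmaCore M) M)
    (hp2 : p ∈ tau2 M) : ∃ A : Subgroup G, A ≤ E ∧ Setup p M A := by
  obtain ⟨F, hFM, hFe, hFc⟩ := exists_elab_of_prank hp2.2.2.2
  obtain ⟨R, hR⟩ := Fusion.exists_sylIn (p := p) E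
  obtain ⟨x, -, hxR⟩ := (compl_sylIn hG hM hE hp2.2.1 hR).conj_le (Fusion.elab_isPGroup hFe) hFM
  have hFe' : IsElementaryAbelian p (cj F x) := ⟨haveI := hFe.1; Subgroup.map_isMulCommutative F _, by
    rintro _ ⟨y, hy, rfl⟩; rw [← map_pow, hFe.2 y hy, map_one]⟩
  have hRc : ¬ IsCyclic ↥R := fun hc => noncyclic_of_card hFe' (by rw [card_cj]; exact hFc) (by
    haveI := hc
    exact isCyclic_of_injective (Subgroup.inclusion hxR) (Subgroup.inclusion_injective hxR))
  obtain ⟨B, hBR, hBe, hBc⟩ :=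
    exists_elab_sq (Uniq.ne_two hG hR.isPGroup fun h => hRc (by rw [h]; infer_instance)) hR.isPGroup hRc
  exact ⟨B, hBR.trans hR.le, setup_of_tau2 hG hM hp2 ((hBR.trans hR.le).trans hE.1) hBe hBc⟩

omit hp in
/-- An element of a complement supported on `τ₂(M)` with a fixed point on `M_σ`. -/
theorem element_unique_compl (hG : IsMinSimpleOddOrder G) (hM : IsCoatom M) (hE : IsComplIn E (sigmaCore M) M)
    {x : G} (hxE : x ∈ E) (hx1 : x ≠ 1) (hτ : ∀ q : ℕ, q.Prime → q ∣ orderOf x → q ∈ tau2 M) {y : G}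
    (hy : y ∈ sigmaCore M) (hy1 : y ≠ 1) (hxy : x * y = y * x) :
    Subgroup.centralizer ({x} : Set G) ≤ M ∧
      ∀ L : Subgroup G, IsCoatom L → Subgroup.centralizer ({x} : Set G) ≤ L → L = M := by
  have ho : orderOf x ≠ 1 := fun h => hx1 (orderOf_eq_one_iff.1 h)
  set p := (orderOf x).minFac with hpd
  have hpP : p.Prime := Nat.minFac_prime ho
  haveI := Fact.mk hpP
  have hpn : p ∣ orderOf x := Nat.minFac_dvd _
  have hp2 := hτ p hpP hpn
  obtain ⟨A, hAE, s⟩ := exists_setup_in_compl hG hM hE hp2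
  have hEA : E ≤ Subgroup.normalizer (A : Set G) := (complement_tau2 s hE hAE).1.1
  set W := Subgroup.zpowers x with hW
  have hWE : W ≤ E := Subgroup.zpowers_le.2 hxE
  have hWC : W ≤ Subgroup.centralizer (A : Set G) := by
    rw [← Subgroup.relIndex_eq_one]
    by_contra hne
    obtain ⟨r, hr, hd⟩ := Nat.exists_prime_and_dvd hne
    haveI := Fact.mk hr
    have hrx : r ∣ orderOf x := by
      rw [← Nat.card_zpowers]; exact hd.trans (Subgroup.relIndex_dvd_card _ _)
    obtain ⟨T, hT⟩ := Fusion.exists_sylIn (p := r) W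
    refine hT.not_dvd (hd.trans ?_)
    refine Subgroup.relIndex_dvd_of_le_left W ?_
    by_cases hrp : r = p
    · obtain ⟨P, hP, hAP⟩ := exists_sylIn_ge (p := p)
        ((hrp ▸ hT.isPGroup : IsPGroup p T).to_sup_of_normal_right' (Fusion.elab_isPGroup s.elem)
          ((hT.le.trans hWE).trans hEA)) (sup_le ((hT.le.trans hWE).trans hE.1) s.le)
      exact (le_sup_left.trans hAP).trans (sylow_le_centralizer s hP (le_sup_right.trans hAP))
    · have hlt : p < r := lt_of_le_of_ne (Nat.minFac_le_of_dvd hr.two_le hrx) (Ne.symm hrp)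
      intro t ht
      refine Solv.centralizes_of_small_frattini A (Fusion.elab_isPGroup s.elem) ?_ t
        (hEA (hWE (hT.le ht))) fun q hq hqd => ?_
      · rw [← s.card]
        exact Nat.le_of_dvd Nat.card_pos (Subgroup.card_quotient_dvd_card _)
      · obtain ⟨j, hj⟩ := IsPGroup.iff_card.1 hT.isPGroup
        have hqr : q = r := (Nat.prime_dvd_prime_iff_eq hq hr).1
          (hq.dvd_of_dvd_pow (hj ▸ hqd.trans (Subgroup.orderOf_dvd_natCard _ ht)))
        subst hqr
        refine ⟨hrp, fun hdv => ?_⟩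
        rw [show p ^ 2 - 1 = (p + 1) * (p - 1) by simpa using Nat.sq_sub_sq p 1] at hdv
        rcases hq.dvd_mul.1 hdv with h | h
        · have h1 := Nat.le_of_dvd (by omega) h
          have h2 : q = p + 1 := by omega
          have h3 : ¬ Even q := fun he => by
            have := Odd.of_dvd_nat (odd_subgroup hG (W : Subgroup G)) (hd.trans (Subgroup.relIndex_dvd_card _ _))
            exact Nat.not_even_iff_odd.2 this he
          have h4 : ¬ Even p := fun he => s.ne_two ((Nat.Prime.even_iff hpP).1 he)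
          exact h3 (h2 ▸ Nat.even_add_one.2 h4)
        · have h1 := Nat.le_of_dvd (by have := hpP.two_le; omega) h
          omega
  -- the line of order `p` in `W`
  set w := x ^ (orderOf x / p) with hw
  have hwo : orderOf w = p := orderOf_pow_orderOf_div (orderOf_pos x).ne' hpn
  have hwA : w ∈ A := s.full w (hWC (pow_mem (Subgroup.mem_zpowers x) _)) (hwo ▸ pow_orderOf_eq_one w)
  have hXc : Nat.card (Subgroup.zpowers w) = p := by rw [Nat.card_zpowers, hwo]
  have hcw : Subgroup.centralizer ({x} : Set G) ≤ Subgroup.centralizer (Subgroup.zpowers w : Set G) := by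
    rw [← centralizer_zpowers]
    exact centralizer_le_of_le (Subgroup.zpowers_le.2 (pow_mem (Subgroup.mem_zpowers x) _))
  have hyx : y ∈ Subgroup.centralizer ({x} : Set G) := Subgroup.mem_centralizer_singleton_iff.2 hxy.symm
  obtain ⟨hC, -⟩ := centralizer_unique_of_fixed s (Subgroup.zpowers_le.2 hwA) hXc fun h =>
    hy1 (Subgroup.mem_bot.1 (h ▸ Subgroup.mem_inf.2 ⟨hy, hcw hyx⟩))
  refine ⟨hcw.trans hC, fun L hL hCL => ?_⟩
  by_contra hLM
  have hAL : A ≤ L := by
    refine le_trans ?_ hCL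
    rw [← centralizer_zpowers]
    exact Subgroup.le_centralizer_iff.1 hWC
  exact hy1 (Subgroup.mem_bot.1 (sigmaCore_inf_coatom s hL hLM hAL ▸ Subgroup.mem_inf.2 ⟨hy, hCL hyx⟩))

omit hp in
/-- An element of `M` supported on `τ₂(M)` with a fixed point on `M_σ`. -/
theorem element_unique (hG : IsMinSimpleOddOrder G) (hM : IsCoatom M) (hE : IsComplIn E (sigmaCore M) M)
    {x : G} (hxM : x ∈ M) (hx1 : x ≠ 1) (hτ : ∀ q : ℕ, q.Prime → q ∣ orderOf x → q ∈ tau2 M) {y : G}
    (hy : y ∈ sigmaCore M) (hy1 : y ≠ 1) (hxy : x * y = y * x) :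
    Subgroup.centralizer ({x} : Set G) ≤ M ∧
      ∀ L : Subgroup G, IsCoatom L → Subgroup.centralizer ({x} : Set G) ≤ L → L = M := by
  have hσn : M ≤ Subgroup.normalizer (sigmaCore M : Set G) := le_normalizer_piCoreOf
  have hall := (sigmaCore_hall hG hM).1
  have hσM : sigmaCore M ≤ M := Subgroup.map_subtype_le _
  set W := Subgroup.zpowers x with hW
  have hWM : W ≤ M := Subgroup.zpowers_le.2 hxM
  obtain ⟨a, ha, b, hb, hab⟩ := hE.2.2.2 x hxM
  have hco : (Nat.card (sigmaCore M)).Coprime (Nat.card W) := Nat.coprime_of_dvd fun r hr h1 h2 =>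
    (hτ r hr (by rwa [Nat.card_zpowers] at h2)).2.1 (hall.2.1 r hr h1)
  have haK : a ∈ sigmaCore M ⊔ W := by
    rw [show a = x * b⁻¹ by rw [hab, mul_inv_cancel_right]]
    exact Subgroup.mul_mem _ (Subgroup.mem_sup_right (Subgroup.mem_zpowers x))
      (Subgroup.mem_sup_left (Subgroup.inv_mem _ hb))
  -- the projection to the complement has the same order
  have hiff : ∀ k : ℕ, a ^ k = 1 ↔ x ^ k = 1 := by
    intro k
    have hrel : ∀ k : ℕ, (a ^ k)⁻¹ * x ^ k ∈ sigmaCore M := by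
      intro k
      induction k with
      | zero => simp
      | succ k ih =>
        rw [show (a ^ (k + 1))⁻¹ * x ^ (k + 1) = a⁻¹ * ((a ^ k)⁻¹ * x ^ k) * a * b by rw [pow_succ, pow_succ, hab]; group]
        refine Subgroup.mul_mem _ ?_ hb
        have h := (Subgroup.mem_normalizer_iff.1 (Subgroup.inv_mem _ (hσn (hE.1 ha))) _).1 ih
        simpa using h
    refine ⟨fun h => ?_, fun h => ?_⟩
    · have h1 : x ^ k ∈ sigmaCore M ⊓ W := ⟨by simpa [h] using hrel k, pow_mem (Subgroup.mem_zpowers x) k⟩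
      rwa [Solv.coprime_inf hco, Subgroup.mem_bot] at h1
    · have h1 : (a ^ k)⁻¹ ∈ E ⊓ sigmaCore M := ⟨Subgroup.inv_mem _ (pow_mem ha k), by simpa [h] using hrel k⟩
      rwa [hE.2.2.1, Subgroup.mem_bot, inv_eq_one] at h1
  have ho : orderOf a = orderOf x := orderOf_eq_orderOf_iff.2 hiff
  obtain ⟨g, hg, hgW⟩ := Solv.sz_conj_rel (sigmaCore M) W (Subgroup.zpowers a) (hWM.trans hσn)
    (Subgroup.zpowers_le.2 haK) hco (by rw [Nat.card_zpowers, Nat.card_zpowers, ho])
    (Or.inl (hG.2.2.2 _ fun h => hM.1 (eq_top_iff.2 (h ▸ hσM))))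
  rw [Solv.conj_smul_eq_map] at hgW
  have hx'E : g * x * g⁻¹ ∈ E := Subgroup.zpowers_le.2 ha (hgW.le ⟨x, Subgroup.mem_zpowers x, rfl⟩)
  have hx'o : orderOf (g * x * g⁻¹) = orderOf x := orderOf_injective (MulAut.conj g).toMonoidHom
    (MulAut.conj g).injective x
  obtain ⟨hC, hu⟩ := element_unique_compl hG hM hE hx'E (fun h => hx1 (conj_eq_one_iff.1 h))
    (by rw [hx'o]; exact hτ) (y := g * y * g⁻¹)
    (Subgroup.mul_mem _ (Subgroup.mul_mem _ hg hy) (Subgroup.inv_mem _ hg)) (fun h => hy1 (conj_eq_one_iff.1 h))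
    (by rw [conj_mul, conj_mul, hxy])
  have hcj : Subgroup.centralizer ({g * x * g⁻¹} : Set G) = cj (Subgroup.centralizer ({x} : Set G)) g := by
    rw [← centralizer_zpowers, ← centralizer_zpowers, Fusion.cj_centralizer, cj_zpowers]
  rw [hcj] at hC hu
  have hgM : cj M g = M := Fusion.cj_eq_self_of_mem (hσM hg)
  refine ⟨Fusion.cj_le_cj.1 (hC.trans hgM.ge), fun L hL hCL => ?_⟩
  have h := hu _ ((OrderIso.isCoatom_iff (MulEquiv.mapSubgroup (MulAut.conj g)) L).2 hL) (cj_mono hCL g)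
  rw [← Fusion.cj_cj_inv L g, show cj L g = M from h, Fusion.cj_eq_self_of_mem (inv_mem (hσM hg))]

end Cfsg.Agent.OddLocal.TauTwo
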