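import Cfsg.Agent.Lib.OddLocal.TauTwoFrobeniusAbelian
import Cfsg.Agent.Lib.OddLocal.TauTwoCentralizer

/-!
The `τ₂(M)`-elements of a complement with fixed points on `M_σ` lie in one abelian normal subgroup.
-/

set_option autoImplicit false
set_option linter.style.haveILetI false

namespace Cfsg.Agent.OddLocal.TauTwo

open Cfsg
open Cfsg.Agent.Fusion (SylIn cj cj_cj cj_eq_self cj_mono card_cj isPGroup_cj sylIn_map sylIn_top exists_sylIn_ge
  mem_normalizer_of_cj_le)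
open Cfsg.Agent.OddLocal.Uniq
open Cfsg.Agent.OddLocal.Sig
open Cfsg.Agent.OddLocal.RankTwo

universe u

variable {G : Type u} [Group G] [Finite G] {p : ℕ} [hp : Fact p.Prime] {M A E : Subgroup G}

theorem fixed_nonabelian (s : Setup p M A) (hE : IsComplIn E (sigmaCore M) M) (hAE : A ≤ E)
    (hp2 : p ∈ tau2 M) (hS : ∀ S : Sylow p G, ¬ IsMulCommutative (S : Subgroup G)) :
    ∃ A₀ : Subgroup G, A₀ ≤ E ∧ E ≤ Subgroup.normalizer (A₀ : Set G) ∧ IsMulCommutative A₀ ∧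
      ∀ y ∈ E, ∀ x ∈ sigmaCore M, x ≠ 1 → y * x = x * y →
        (∀ q : ℕ, q.Prime → q ∣ orderOf y → q ∈ tau2 M) → y ∈ A₀ := by
  have hG := s.minSimple
  have hM := s.coatom
  obtain ⟨hτ, ⟨hec, -⟩, hlines⟩ := nonabelian_case s hE hAE hp2 hS
  obtain ⟨⟨hEA, -⟩, -, -⟩ := complement_tau2 s hE hAE
  set e := A ⊓ Subgroup.centralizer (sigmaCore M : Set G) with he
  have heA : e ≤ A := inf_le_left
  have hEe : E ≤ Subgroup.normalizer (e : Set G) := fun g hg => mem_normalizer_of_cj_le (le_of_eq (by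
    rw [he, Fusion.cj_inf, cj_eq_self (hEA hg), Fusion.cj_centralizer,
      cj_eq_self (H := sigmaCore M) (le_normalizer_piCoreOf (hE.1 hg))]))
  have hfix : ∀ y ∈ E, ∀ x ∈ sigmaCore M, x ≠ 1 → y * x = x * y →
      (∀ q : ℕ, q.Prime → q ∣ orderOf y → q ∈ tau2 M) → y ∈ e := by
    intro y hy x hx hx1 hxy hy2
    rcases eq_or_ne y 1 with rfl | hy1
    · exact one_mem _
    have hpy : ∀ {q : ℕ}, q.Prime → q ∣ orderOf y → q = p := fun {q} hq hd => by
      have := hy2 q hq hd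
      rwa [hτ] at this
    have hoy : orderOf y = p ^ (orderOf y).primeFactorsList.length :=
      Nat.eq_prime_pow_of_unique_prime_dvd (orderOf_pos y).ne' hpy
    set j := (orderOf y).primeFactorsList.length with hj
    have hj0 : 1 ≤ j := Nat.one_le_iff_ne_zero.2 fun h => hy1 (orderOf_eq_one_iff.1 (by rw [hoy, h, pow_zero]))
    have hpow : p ∣ orderOf y := hoy ▸ dvd_pow_self p (by omega)
    set w := y ^ (orderOf y / p) with hw
    have hwo : orderOf w = p := orderOf_pow_orderOf_div (orderOf_pos y).ne' hpow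
    have hwe : Subgroup.zpowers w = e := by
      by_contra hne
      refine hx1 (Subgroup.mem_bot.1 ((hlines _ (Subgroup.zpowers_le.2 (pow_mem hy _))
        (by rw [Nat.card_zpowers, hwo]) hne).1 ▸ Subgroup.mem_inf.2 ⟨hx, ?_⟩))
      rw [centralizer_zpowers]
      exact Subgroup.mem_centralizer_singleton_iff.2 ((show Commute y x from hxy).pow_left _).symm.eq
    rcases eq_or_lt_of_le hj0 with h1 | h1
    · rw [← hwe, hw, hoy, ← h1, pow_one, Nat.div_self hp.out.pos, pow_one]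
      exact Subgroup.mem_zpowers y
    · have hw' : w = (y ^ p ^ (j - 2)) ^ p := by
        rw [hw, hoy, ← pow_mul, ← pow_succ]
        congr 1
        refine Nat.div_eq_of_eq_mul_left hp.out.pos ?_
        rw [← pow_succ]; congr 1; omega
      have := root_free s hE hAE hS (pow_mem hy (p ^ (j - 2))) (by rw [← hw', ← he, ← hwe]; exact Subgroup.mem_zpowers w)
      rw [← hw'] at this
      exact absurd (by rw [← hwo, this, orderOf_one]) hp.out.ne_one
  exact ⟨e, heA.trans hAE, hEe, ⟨⟨fun a b => Subtype.ext (show (a : G) * b = b * a from congrArg Subtype.val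
    (s.elem.1.is_comm.comm (⟨a, heA a.2⟩ : A) ⟨b, heA b.2⟩))⟩⟩, hfix⟩

omit hp in
theorem fixed_abelian (hG : IsMinSimpleOddOrder G) (hM : IsCoatom M) (hE : IsComplIn E (sigmaCore M) M)
    (hab : AbelianTau2 M E) :
    ∃ A₀ : Subgroup G, A₀ ≤ E ∧ E ≤ Subgroup.normalizer (A₀ : Set G) ∧ IsMulCommutative A₀ ∧
      ∀ y ∈ E, (∀ q : ℕ, q.Prime → q ∣ orderOf y → q ∈ tau2 M) → y ∈ A₀ := by
  set T : Set G := {y | y ∈ E ∧ ∃ q, q ∈ tau2 M ∧ ∃ k, orderOf y = q ^ k} with hT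
  set A₀ := Subgroup.closure T with hA₀
  have hsyl : ∀ (q : ℕ) [Fact q.Prime], q ∈ tau2 M → ∀ P : Subgroup G, SylIn q P E →
      ∀ y ∈ E, ∀ k, orderOf y = q ^ k → y ∈ P := by
    intro q _ hq P hP y hy k hk
    obtain ⟨-, hEP⟩ := hab q hq P hP
    obtain ⟨g, hg, hgP⟩ := hP.conj_le (IsPGroup.of_card (n := k) (by rw [Nat.card_zpowers, hk]) :
      IsPGroup q ↥(Subgroup.zpowers y)) (Subgroup.zpowers_le.2 hy)
    rw [Fusion.cj_le_iff, cj_eq_self (hEP (Subgroup.inv_mem _ hg))] at hgP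
    exact hgP (Subgroup.mem_zpowers y)
  have hTcomm : ∀ a ∈ T, ∀ b ∈ T, a * b = b * a := by
    rintro a ⟨ha, q, hq, i, hai⟩ b ⟨hb, r, hr, j, hbj⟩
    haveI := Fact.mk hq.1
    haveI := Fact.mk hr.1
    obtain ⟨P, hP⟩ := Fusion.exists_sylIn (p := q) E
    obtain ⟨Q, hQ⟩ := Fusion.exists_sylIn (p := r) E
    have haP := hsyl q hq P hP a ha i hai
    have hbQ := hsyl r hr Q hQ b hb j hbj
    rcases eq_or_ne q r with rfl | hne
    · have hPab := pgroup_abelian hG hM hq.2.1 hP.isPGroup (hP.le.trans hE.1)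
      exact congrArg Subtype.val (hPab.is_comm.comm (⟨a, haP⟩ : P) ⟨b, hsyl q hq P hP b hb j hbj⟩)
    · exact (Subgroup.mem_centralizer_iff.1 (centralizes_of_meet (hQ.le.trans (hab q hq P hP).2) le_rfl
        (hP.le.trans (hab r hr Q hQ).2) (Solv.coprime_inf (coprime_pgroup hne hP.isPGroup hQ.isPGroup)) haP)
        b hbQ).symm
  haveI hA₀ab : IsMulCommutative ↥A₀ := Subgroup.isMulCommutative_closure hTcomm
  have hA₀c : ∀ a ∈ A₀, ∀ b ∈ A₀, Commute a b := fun a ha b hb =>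
    congrArg Subtype.val (hA₀ab.is_comm.comm (⟨a, ha⟩ : A₀) ⟨b, hb⟩)
  have hA₀E : A₀ ≤ E := (Subgroup.closure_le _).2 fun y hy => hy.1
  have hEA₀ : E ≤ Subgroup.normalizer (A₀ : Set G) := fun g hg => mem_normalizer_of_cj_le (by
    show Subgroup.map _ A₀ ≤ A₀
    rw [hA₀, MonoidHom.map_closure, Subgroup.closure_le]
    rintro _ ⟨y, ⟨hy, q, hq, k, hk⟩, rfl⟩
    refine Subgroup.subset_closure ⟨Subgroup.mul_mem _ (Subgroup.mul_mem _ hg hy) (Subgroup.inv_mem _ hg), q, hq, k, ?_⟩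
    rw [← hk]
    exact MulEquiv.orderOf_eq (MulAut.conj g) y)
  have hsupp : ∀ y ∈ A₀, ∀ q : ℕ, q.Prime → q ∣ orderOf y → q ∈ tau2 M := by
    intro y hy
    induction hy using Subgroup.closure_induction with
    | mem y hy =>
      obtain ⟨-, q, hq, k, hk⟩ := hy
      intro r hr hd
      exact (Nat.prime_dvd_prime_iff_eq hr hq.1).1 (hr.dvd_of_dvd_pow (hk ▸ hd)) ▸ hq
    | one => intro r hr hd; rw [orderOf_one, Nat.dvd_one] at hd; exact absurd hd hr.ne_one
    | mul a b ha hb iha ihb =>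
      intro r hr hd
      exact ((Nat.Prime.dvd_mul hr).1 (hd.trans (hA₀c a ha b hb).orderOf_mul_dvd_mul_orderOf)).elim
        (iha r hr) (ihb r hr)
    | inv a ha iha => intro r hr hd; exact iha r hr (by rwa [orderOf_inv] at hd)
  have hmem : ∀ y ∈ E, (∀ q : ℕ, q.Prime → q ∣ orderOf y → q ∈ tau2 M) → y ∈ A₀ := by
    intro y hy hτ
    refine Subgroup.zpowers_le.1 (inf_eq_left.1 (Subgroup.eq_of_le_of_card_ge inf_le_left
      (Nat.le_of_dvd Nat.card_pos ?_)))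
    rw [Nat.card_zpowers]
    refine (Nat.dvd_iff_prime_pow_dvd_dvd _ _).2 fun q k hq hd => ?_
    rcases eq_or_ne k 0 with rfl | hk
    · simp
    have ho := orderOf_pow_orderOf_div (orderOf_pos y).ne' hd
    rw [← ho]
    refine Subgroup.orderOf_dvd_natCard _ ⟨Subgroup.npow_mem_zpowers y _, ?_⟩
    exact Subgroup.subset_closure ⟨pow_mem hy _, q, hτ q hq ((dvd_pow_self q hk).trans hd), k, ho⟩
  exact ⟨A₀, hA₀E, hEA₀, hA₀ab, hmem⟩

omit hp in
/-- One abelian normal subgroup of `E` holds the `τ₂(M)`-elements with fixed points on `M_σ`. -/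
theorem fixed_normal_abelian (hG : IsMinSimpleOddOrder G) (hM : IsCoatom M)
    (hE : IsComplIn E (sigmaCore M) M) :
    ∃ A₀ : Subgroup G, A₀ ≤ E ∧ E ≤ Subgroup.normalizer (A₀ : Set G) ∧ IsMulCommutative A₀ ∧
      ∀ y ∈ E, ∀ x ∈ sigmaCore M, x ≠ 1 → y * x = x * y →
        (∀ q : ℕ, q.Prime → q ∣ orderOf y → q ∈ tau2 M) → y ∈ A₀ := by
  by_cases hna : ∃ (q : ℕ) (_ : Fact q.Prime), q ∈ tau2 M ∧
      ∀ S : Sylow q G, ¬ IsMulCommutative (S : Subgroup G)
  · obtain ⟨q, hq, hq2, hS⟩ := hna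
    obtain ⟨A, hAE, s⟩ := exists_setup_in_compl hG hM hE hq2
    exact fixed_nonabelian s hE hAE hq2 hS
  · push Not at hna
    obtain ⟨A₀, h1, h2, h3, h4⟩ := fixed_abelian hG hM hE
      (abelianTau2_of_forall hG hM hE fun q hqf hq => hna q hqf hq)
    exact ⟨A₀, h1, h2, h3, fun y hy _ _ _ _ h => h4 y hy h⟩

end Cfsg.Agent.OddLocal.TauTwo
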