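import Cfsg.Agent.Lib.OddLocal.TauTwoLines
import Cfsg.Agent.Lib.OddLocal.TauTwoNonabelian

/-!
Fixed points of a complement on `M_σ` are confined to an abelian normal subgroup, and a subgroup of the same
exponent acts without fixed points.
-/

set_option autoImplicit false
set_option linter.style.haveILetI false

namespace Cfsg.Agent.OddLocal.TauTwo

open Cfsg
open scoped commutatorElement
open Cfsg.Agent.Fusion (SylIn cj cj_cj cj_eq_self cj_mono card_cj isPGroup_cj exists_sylIn_ge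
  mem_normalizer_of_cj_le)
open Cfsg.Agent.OddLocal.Uniq
open Cfsg.Agent.OddLocal.Sig
open Cfsg.Agent.OddLocal.RankTwo

universe u

variable {G : Type u} [Group G] [Finite G] {p : ℕ} [hp : Fact p.Prime] {M A E : Subgroup G}

omit [Finite G] hp in
theorem mul_pow_mem {N : Subgroup G} {z k : G} (hz : z ∈ N) (hk : k ∈ Subgroup.normalizer (N : Set G)) :
    ∀ m : ℕ, (z * k) ^ m * (k ^ m)⁻¹ ∈ N
  | 0 => by simp
  | m + 1 => by
    rw [show (z * k) ^ (m + 1) * (k ^ (m + 1))⁻¹ = z * (k * ((z * k) ^ m * (k ^ m)⁻¹) * k⁻¹) by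
      rw [pow_succ', pow_succ', mul_inv_rev]; group]
    exact Subgroup.mul_mem _ hz ((Subgroup.mem_normalizer_iff.1 hk _).1 (mul_pow_mem hz hk m))

omit hp in
theorem exponent_eq_of_primePow {E₀ : Subgroup G} (hle : E₀ ≤ E)
    (h : ∀ q : ℕ, q.Prime → ∀ y ∈ E, ∀ k : ℕ, orderOf y = q ^ k → q ^ k ∣ Monoid.exponent E₀) :
    Monoid.exponent E₀ = Monoid.exponent E := by
  refine Nat.dvd_antisymm (Monoid.exponent_dvd_of_monoidHom (Subgroup.inclusion hle)
    (Subgroup.inclusion_injective hle)) (Monoid.exponent_dvd.2 fun y => ?_)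
  refine (Nat.dvd_iff_prime_pow_dvd_dvd _ _).2 fun q k hq hd => ?_
  rw [← Subgroup.orderOf_coe] at hd
  exact h q hq _ (pow_mem y.2 (orderOf (y : G) / q ^ k)) k (orderOf_pow_orderOf_div (orderOf_pos _).ne' hd)

omit [Finite G] in
/-- An elementary retraction onto a line which contains no `p`-th power. -/
theorem exists_retract {X : Type*} [Group X] [Finite X] (S Z : Subgroup X) (hab : IsMulCommutative ↥S)
    (hZS : Z ≤ S) (hZ : Nat.card Z = p) (hpow : ∀ s ∈ S, s ^ p ∈ Z → s ^ p = 1) :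
    ∃ θ : ↥S →* ↥Z, ∀ z : ↥Z, θ ⟨z, hZS z.2⟩ = z := by
  letI : CommGroup ↥S := { (inferInstance : Group ↥S) with mul_comm := hab.is_comm.comm }
  set Z' := Z.subgroupOf S with hZ'
  have hZ'c : Nat.card Z' = p := by
    rw [hZ', Nat.card_congr (Subgroup.subgroupOfEquivOfLe hZS).toEquiv, hZ]
  set K := (powMonoidHom p : ↥S →* ↥S).range with hK
  obtain ⟨Q, ⟨hKQ, hQZ⟩, hQmax⟩ := Set.Finite.exists_maximal (s := {Q : Subgroup ↥S | K ≤ Q ∧ Q ⊓ Z' = ⊥})
    (Set.toFinite _) ⟨K, le_rfl, eq_bot_iff.2 (by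
      rintro w ⟨⟨s, rfl⟩, hwZ⟩
      refine Subgroup.mem_bot.2 (Subtype.ext ?_)
      exact hpow s s.2 hwZ)⟩
  have hsup : Z' ⊔ Q = ⊤ := by
    refine eq_top_iff.2 fun z _ => ?_
    by_contra hz
    have hlt : ¬ Q ⊔ Subgroup.zpowers z ≤ Q := fun h => hz (Subgroup.mem_sup_right
      (h (Subgroup.mem_sup_right (Subgroup.mem_zpowers z))))
    have hne : (Q ⊔ Subgroup.zpowers z) ⊓ Z' ≠ ⊥ := fun h => hlt (hQmax ⟨hKQ.trans le_sup_left, h⟩ le_sup_left)
    obtain ⟨u, hu, hu1⟩ := exists_ne_one hne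
    obtain ⟨q, hq, v, ⟨k, rfl⟩, huq⟩ := Subgroup.mem_sup.1 hu.1
    by_cases hk : (p : ℤ) ∣ k
    · refine hu1 (Subgroup.mem_bot.1 (hQZ ▸ ⟨?_, hu.2⟩))
      obtain ⟨c, rfl⟩ := hk
      rw [← huq]
      refine Subgroup.mul_mem _ hq ?_
      simp only [zpow_mul, zpow_natCast]
      exact Subgroup.zpow_mem _ (hKQ ⟨z, rfl⟩) c
    · obtain ⟨a, b, hab'⟩ : IsCoprime (p : ℤ) k := (Nat.prime_iff_prime_int.1 hp.out).coprime_iff_not_dvd.2 hk
      refine hz ?_
      have hzk : z ^ k ∈ Z' ⊔ Q := by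
        have : z ^ k = q⁻¹ * u := by rw [← huq, inv_mul_cancel_left]
        rw [this]
        exact Subgroup.mul_mem _ (Subgroup.mem_sup_right (Subgroup.inv_mem _ hq)) (Subgroup.mem_sup_left hu.2)
      have hzp : z ^ (p : ℤ) ∈ Z' ⊔ Q := Subgroup.mem_sup_right (hKQ ⟨z, (zpow_natCast z p).symm⟩)
      rw [← zpow_one z, ← hab', zpow_add, mul_comm a, mul_comm b, zpow_mul, zpow_mul]
      exact Subgroup.mul_mem _ (Subgroup.zpow_mem _ hzp a) (Subgroup.zpow_mem _ hzk b)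
  set f : ↥Z' × ↥Q →* ↥S := MonoidHom.coprod Z'.subtype Q.subtype with hf
  have hbij : Function.Bijective f := by
    refine ⟨(injective_iff_map_eq_one f).2 ?_, fun z => ?_⟩
    · rintro ⟨⟨a, ha⟩, ⟨b, hb⟩⟩ hab'
      simp only [hf, MonoidHom.coprod_apply, Subgroup.coe_subtype] at hab'
      have ha' : a ∈ Q ⊓ Z' := ⟨eq_inv_of_mul_eq_one_left hab' ▸ Subgroup.inv_mem _ hb, ha⟩
      rw [hQZ, Subgroup.mem_bot] at ha'
      subst ha'
      rw [one_mul] at hab'
      subst hab'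
      rfl
    · obtain ⟨a, ha, b, hb, rfl⟩ := Subgroup.mem_sup.1 (hsup ▸ Subgroup.mem_top z)
      exact ⟨(⟨a, ha⟩, ⟨b, hb⟩), rfl⟩
  refine ⟨(Subgroup.subgroupOfEquivOfLe hZS).toMonoidHom.comp ((MonoidHom.fst _ _).comp
    (MulEquiv.ofBijective f hbij).symm.toMonoidHom), fun z => ?_⟩
  have : (MulEquiv.ofBijective f hbij).symm ⟨z, hZS z.2⟩ = (⟨⟨z, hZS z.2⟩, z.2⟩, 1) := by
    rw [MulEquiv.symm_apply_eq]
    simp [hf, MulEquiv.ofBijective]
  simp [this]
  rfl

omit hp in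
/-- Conjugation of a line by commuting automorphisms of `A`. -/
theorem normalizes_cj {A L : Subgroup G} (hLA : L ≤ A) {g h : G}
    (hc : ⁅h, g⁆ ∈ Subgroup.centralizer (A : Set G)) (hgA : g ∈ Subgroup.normalizer (A : Set G))
    (hh : h ∈ Subgroup.normalizer (L : Set G)) : h ∈ Subgroup.normalizer (cj L g : Set G) := by
  refine mem_normalizer_of_cj_le (le_of_eq ?_)
  have hLA' : cj L g ≤ A := (cj_mono hLA g).trans (cj_eq_self hgA).le
  have hcN : ⁅h, g⁆ ∈ Subgroup.normalizer (cj L g : Set G) :=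
    Subgroup.centralizer_le_normalizer _ (centralizer_le_of_le hLA' hc)
  rw [cj_cj, show h * g = ⁅h, g⁆ * (g * h) by rw [commutatorElement_def]; group, ← cj_cj, ← cj_cj, cj_eq_self hh,
    cj_eq_self hcN]

/-- In a nonabelian Sylow subgroup the fixed line contains no `p`-th power of an element of `E`. -/
theorem root_free (s : Setup p M A) (hE : IsComplIn E (sigmaCore M) M) (hAE : A ≤ E)
    (hS : ∀ S : Sylow p G, ¬ IsMulCommutative (S : Subgroup G)) {v : G} (hv : v ∈ E)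
    (hvp : v ^ p ∈ A ⊓ Subgroup.centralizer (sigmaCore M : Set G)) : v ^ p = 1 := by
  by_contra hne
  have h2 : (v ^ p) ^ p = 1 := s.elem.2 _ hvp.1
  have hvpg : IsPGroup p ↥(Subgroup.zpowers v) := by
    obtain ⟨i, -, hi⟩ := (Nat.dvd_prime_pow hp.out).1
      (orderOf_dvd_of_pow_eq_one (show v ^ p ^ 2 = 1 by rw [pow_two, pow_mul, h2]))
    exact IsPGroup.of_card (n := i) (by rw [Nat.card_zpowers, hi])
  have hn : Subgroup.zpowers v ≤ Subgroup.normalizer (A : Set G) :=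
    (Subgroup.zpowers_le.2 hv).trans (complement_tau2 s hE hAE).1.1
  obtain ⟨P, hP, hle⟩ := exists_sylIn_ge (hvpg.to_sup_of_normal_right' (Fusion.elab_isPGroup s.elem) hn)
    (sup_le ((Subgroup.zpowers_le.2 hv).trans hE.1) s.le : Subgroup.zpowers v ⊔ A ≤ M)
  obtain ⟨S, hS', hPS⟩ := exists_sylIn_ge hP.isPGroup (le_top (a := P))
  obtain ⟨S₀, rfl⟩ := hS'.exists_sylow
  have hSM : ¬ (S₀ : Subgroup G) ≤ M := fun h => hS S₀ (by
    rw [hP.eq_of_le hS'.isPGroup hPS h]; exact sylow_abelian s hP (le_sup_right.trans hle))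
  obtain ⟨e, -, hec, heo, he, -⟩ := fixed_line s hP (le_sup_right.trans hle) hS' hPS hSM
  have h3 := roots_central s hP (le_sup_right.trans hle) hS' hPS (hS S₀) hSM
    (hle (Subgroup.mem_sup_left (Subgroup.mem_zpowers v))) h2
  obtain ⟨-, homc⟩ := central_line s hS' ((le_sup_right.trans hle).trans hPS) hSM
  rw [he] at hvp
  have hc : Nat.card (Subgroup.zpowers (v ^ p)) = p := by
    rw [Nat.card_zpowers]; exact orderOf_eq_prime h2 hne
  exact heo ((Subgroup.eq_of_le_of_card_ge (Subgroup.zpowers_le.2 hvp) (by rw [hc, hec])).symm.trans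
    (Subgroup.eq_of_le_of_card_ge (Subgroup.zpowers_le.2 h3) (by rw [hc, homc])))

/-- The case of nonabelian Sylow subgroups. -/
theorem frobenius_nonabelian (s : Setup p M A) (hE : IsComplIn E (sigmaCore M) M) (hAE : A ≤ E)
    (h13 : Fpf13 M E) (hp2 : p ∈ tau2 M) (hS : ∀ S : Sylow p G, ¬ IsMulCommutative (S : Subgroup G)) :
    (∃ A₀ : Subgroup G, A₀ ≤ E ∧ E ≤ Subgroup.normalizer (A₀ : Set G) ∧ IsMulCommutative A₀ ∧
        ∀ x ∈ sigmaCore M, x ≠ 1 → E ⊓ Subgroup.centralizer ({x} : Set G) ≤ A₀) ∧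
      ∃ E₀ : Subgroup G, E₀ ≤ E ∧ Monoid.exponent E₀ = Monoid.exponent E ∧
        ∀ e ∈ E₀, e ≠ 1 → sigmaCore M ⊓ Subgroup.centralizer ({e} : Set G) = ⊥ := by
  have hG := s.minSimple
  have hM := s.coatom
  obtain ⟨hτ, ⟨hec, -⟩, hlines⟩ := nonabelian_case s hE hAE hp2 hS
  obtain ⟨⟨hEA, -⟩, -, -⟩ := complement_tau2 s hE hAE
  set e := A ⊓ Subgroup.centralizer (sigmaCore M : Set G) with he
  have heA : e ≤ A := inf_le_left
  have hEe : E ≤ Subgroup.normalizer (e : Set G) := fun g hg => mem_normalizer_of_cj_le (le_of_eq (by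
    rw [he, Fusion.cj_inf, cj_eq_self (hEA hg), Fusion.cj_centralizer,
      cj_eq_self (H := sigmaCore M) (le_normalizer_piCoreOf (hE.1 hg))]))
  have hfix : ∀ y ∈ E, ∀ x ∈ sigmaCore M, x ≠ 1 → y * x = x * y → y ∈ e := by
    intro y hy x hx hx1 hxy
    rcases eq_or_ne y 1 with rfl | hy1
    · exact one_mem _
    have hpy : ∀ {q : ℕ}, q.Prime → q ∣ orderOf y → q = p := fun {q} hq hd => by
      have := fixed_tau2 hG hM hE h13 hy hx hx1 hxy hq hd
      rwa [hτ] at this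
    have hoy : orderOf y = p ^ (orderOf y).primeFactorsList.length :=
      Nat.eq_prime_pow_of_unique_prime_dvd (orderOf_pos y).ne' hpy
    set j := (orderOf y).primeFactorsList.length with hj
    have hj0 : 1 ≤ j := Nat.one_le_iff_ne_zero.2 fun h => hy1 (orderOf_eq_one_iff.1 (by rw [hoy, h, pow_zero]))
    have hpow : p ∣ orderOf y := hoy ▸ dvd_pow_self p (by omega)
    set w := y ^ (orderOf y / p) with hw
    have hwo : orderOf w = p := orderOf_pow_orderOf_div (orderOf_pos y).ne' hpow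
    have hwe : Subgroup.zpowers w = e := by
      by_contra hne
      refine hx1 (Subgroup.mem_bot.1 ((hlines _ (Subgroup.zpowers_le.2 (pow_mem hy _))
        (by rw [Nat.card_zpowers, hwo]) hne).1 ▸ Subgroup.mem_inf.2 ⟨hx, ?_⟩))
      rw [centralizer_zpowers]
      exact Subgroup.mem_centralizer_singleton_iff.2 ((show Commute y x from hxy).pow_left _).symm.eq
    rcases eq_or_lt_of_le hj0 with h1 | h1
    · rw [← hwe, hw, hoy, ← h1, pow_one, Nat.div_self hp.out.pos, pow_one]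
      exact Subgroup.mem_zpowers y
    · have hw' : w = (y ^ p ^ (j - 2)) ^ p := by
        rw [hw, hoy, ← pow_mul, ← pow_succ]
        congr 1
        refine Nat.div_eq_of_eq_mul_left hp.out.pos ?_
        rw [← pow_succ]; congr 1; omega
      have := root_free s hE hAE hS (pow_mem hy (p ^ (j - 2))) (by rw [← hw', ← he, ← hwe]; exact Subgroup.mem_zpowers w)
      rw [← hw'] at this
      exact absurd (by rw [← hwo, this, orderOf_one]) hp.out.ne_one
  refine ⟨⟨e, heA.trans hAE, hEe, ⟨⟨fun a b => Subtype.ext (show (a : G) * b = b * a from congrArg Subtype.val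
    (s.elem.1.is_comm.comm (⟨a, heA a.2⟩ : A) ⟨b, heA b.2⟩))⟩⟩,
    fun x hx hx1 y hy => hfix y hy.1 x hx hx1 (Subgroup.mem_centralizer_singleton_iff.1 hy.2)⟩, ?_⟩
  -- a complement of `e` in `E`
  have heE : e ≤ E := heA.trans hAE
  obtain ⟨P, hP, hAP⟩ := exists_sylIn_ge (Fusion.elab_isPGroup s.elem) hAE
  have hPab : IsMulCommutative ↥P := pgroup_abelian hG hM s.not_sigma hP.isPGroup (hP.le.trans hE.1)
  obtain ⟨S, hSe⟩ := hP.exists_sylow_subgroupOf
  set Z := e.subgroupOf E with hZ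
  haveI : Z.Normal := Subgroup.normal_subgroupOf_iff_le_normalizer heE |>.2 hEe
  have hmemS : ∀ {w : ↥E}, w ∈ (S : Subgroup ↥E) ↔ (w : G) ∈ P := fun {w} => by rw [hSe, Subgroup.mem_subgroupOf]
  have hSab : IsMulCommutative ↥(S : Subgroup ↥E) := ⟨⟨fun a b => Subtype.ext (Subtype.ext
    (show ((a : ↥E) : G) * ((b : ↥E) : G) = ((b : ↥E) : G) * ((a : ↥E) : G) from congrArg Subtype.val (hPab.is_comm.comm (⟨_, hmemS.1 a.2⟩ : P) ⟨_, hmemS.1 b.2⟩)))⟩⟩
  have hZS : Z ≤ (S : Subgroup ↥E) := fun w hw => hmemS.2 (hAP (heA (Subgroup.mem_subgroupOf.1 hw)))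
  have hZc : Nat.card Z = p := by rw [hZ, Nat.card_congr (Subgroup.subgroupOfEquivOfLe heE).toEquiv, hec]
  obtain ⟨θ, hθ⟩ := exists_retract (S : Subgroup ↥E) Z hSab hZS hZc fun w _ hwp => Subtype.ext (by
    rw [SubgroupClass.coe_pow]
    exact root_free s hE hAE hS w.2 (he ▸ (by simpa [hZ, Subgroup.mem_subgroupOf] using hwp : (w : G) ^ p ∈ e)))
  obtain ⟨K, hKZ, hKsup⟩ := Avg.complement_line Z hZc S hZS (fun a ha => Subgroup.mem_centralizer_iff.2 fun b hb =>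
    congrArg Subtype.val (hSab.is_comm.comm (⟨b, hZS hb⟩ : (S : Subgroup ↥E)) ⟨a, ha⟩)) θ hθ
  set E₀ := K.map E.subtype with hE₀
  have hE₀E : E₀ ≤ E := Subgroup.map_subtype_le _
  have he0 : e ⊓ E₀ = ⊥ := by
    refine eq_bot_iff.2 ?_
    rintro w ⟨hwe, ⟨v, hv, rfl⟩⟩
    have : v ∈ Z ⊓ K := ⟨Subgroup.mem_subgroupOf.2 hwe, hv⟩
    rw [hKZ, Subgroup.mem_bot] at this
    rw [this]
    exact one_mem _
  have hfac : ∀ y ∈ E, ∃ z ∈ e, ∃ k ∈ E₀, y = z * k := by
    intro y hy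
    have h : (⟨y, hy⟩ : ↥E) ∈ Z ⊔ K := hKsup ▸ Subgroup.mem_top _
    rw [← SetLike.mem_coe, Subgroup.normal_mul] at h
    obtain ⟨z, hz, k, hk, hzk⟩ := h
    exact ⟨z, Subgroup.mem_subgroupOf.1 hz, k, Subgroup.mem_map_of_mem _ hk, (congrArg Subtype.val hzk).symm⟩
  refine ⟨E₀, hE₀E, exponent_eq_of_primePow hE₀E fun q hq y hy k hk => ?_, fun y hy hy1 => eq_bot_iff.2 ?_⟩
  swap
  · rintro x ⟨hx, hxC⟩
    by_contra hx1
    exact hy1 (Subgroup.mem_bot.1 (he0 ▸ ⟨hfix y (hE₀E hy) x hx hx1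
      (Subgroup.mem_centralizer_singleton_iff.1 hxC).symm, hy⟩))
  set m := Monoid.exponent E₀ with hm
  obtain ⟨z, hz, v, hv, hzv⟩ := hfac y hy
  have hvm : v ^ m = 1 := congrArg Subtype.val (Monoid.pow_exponent_eq_one (⟨v, hv⟩ : E₀))
  have hym : y ^ m ∈ e := by
    have h := mul_pow_mem hz (hEe (hE₀E hv)) m
    rwa [← hzv, hvm, inv_one, mul_one] at h
  suffices y ^ m = 1 from hk ▸ orderOf_dvd_of_pow_eq_one this
  by_contra hne
  have hymo : orderOf (y ^ m) = p := orderOf_eq_prime (s.elem.2 _ (heA hym)) hne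
  have hqp : q = p := ((Nat.prime_dvd_prime_iff_eq hp.out hq).1 (hp.out.dvd_of_dvd_pow
    (hk ▸ hymo ▸ orderOf_pow_dvd m))).symm
  subst hqp
  have hpm : q ∣ m := by
    have hqE : q ^ 2 ∣ Nat.card E := s.card ▸ Subgroup.card_dvd_of_le hAE
    have hEc : Nat.card E = q * Nat.card E₀ := by
      rw [← hec, ← Nat.card_prod]
      refine (Nat.card_eq_of_bijective (fun w : ↥e × ↥E₀ => (⟨w.1 * w.2, Subgroup.mul_mem _ (heE w.1.2)
        (hE₀E w.2.2)⟩ : ↥E)) ⟨fun a b hab => ?_, fun w => ?_⟩).symm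
      · have hab' : (a.1 : G) * a.2 = b.1 * b.2 := congrArg Subtype.val hab
        have : (b.1 : G)⁻¹ * a.1 ∈ e ⊓ E₀ := ⟨Subgroup.mul_mem _ (Subgroup.inv_mem _ b.1.2) a.1.2, by
          rw [show (b.1 : G)⁻¹ * a.1 = b.2 * (a.2 : G)⁻¹ by
            rw [eq_mul_inv_iff_mul_eq, mul_assoc, hab', inv_mul_cancel_left]]
          exact Subgroup.mul_mem _ b.2.2 (Subgroup.inv_mem _ a.2.2)⟩
        rw [he0, Subgroup.mem_bot, inv_mul_eq_one] at this
        refine Prod.ext (Subtype.ext this.symm) (Subtype.ext ?_)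
        rwa [this, mul_left_cancel_iff] at hab'
      · obtain ⟨z, hz, v, hv, h⟩ := hfac w w.2
        exact ⟨(⟨z, hz⟩, ⟨v, hv⟩), Subtype.ext h.symm⟩
    rw [hEc, pow_two] at hqE
    obtain ⟨v, hv⟩ := exists_prime_orderOf_dvd_card' q ((Nat.mul_dvd_mul_iff_left hq.pos).1 hqE)
    exact hv ▸ Monoid.order_dvd_exponent v
  obtain ⟨n, hn, hmn⟩ : ∃ n b : ℕ, ¬ q ∣ b ∧ m = q ^ (n + 1) * b := by
    obtain ⟨n, b, hb, hmb⟩ := Nat.exists_eq_pow_mul_and_not_dvd (Monoid.exponent_ne_zero_of_finite (G := ↥E₀)) q hq.ne_one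
    cases n with
    | zero => exact absurd (by rw [hm, hmb, pow_zero, one_mul] at hpm; exact hpm) hb
    | succ n => exact ⟨n, b, hb, hm.trans hmb⟩
  obtain ⟨hb, hmb⟩ := hmn
  have hvp : (y ^ q ^ n) ^ q ∈ e := by
    rw [← pow_mul, ← pow_succ]
    have hc : (orderOf (y ^ q ^ (n + 1))).Coprime hn :=
      Nat.Coprime.coprime_dvd_left (hk ▸ orderOf_pow_dvd _)
        (Nat.Coprime.pow_left k ((Nat.Prime.coprime_iff_not_dvd hq).2 hb))
    obtain ⟨a, ha⟩ := exists_pow_eq_self_of_coprime hc.symm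
    rw [← ha, ← pow_mul y, ← hmb]
    exact pow_mem hym a
  have := root_free s hE hAE hS (pow_mem hy (q ^ n)) hvp
  rw [← pow_mul, ← pow_succ] at this
  exact hne (by rw [hmb, pow_mul, this, one_pow])

/-- An invariant subgroup of a Sylow subgroup of full exponent without fixed points. -/
theorem exists_part (s : Setup p M A) (hE : IsComplIn E (sigmaCore M) M) (hAE : A ≤ E) (h13 : Fpf13 M E)
    (hab : AbelianTau2 M E) (hp2 : p ∈ tau2 M) {P : Subgroup G} (hP : SylIn p P E) :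
    ∃ Z : Subgroup G, Z ≤ P ∧ E ≤ Subgroup.normalizer (Z : Set G) ∧
      (∃ z ∈ Z, ∀ y ∈ P, y ^ orderOf z = 1) ∧
      ∀ z ∈ Z, z ≠ 1 → z ^ p = 1 → sigmaCore M ⊓ Subgroup.centralizer ({z} : Set G) = ⊥ := by
  have hG := s.minSimple
  have hM := s.coatom
  obtain ⟨hPG, hEP⟩ := hab p hp2 P hP
  obtain ⟨hAP, hPab, -, -⟩ := sylow_normal s hE hAE hP hPG
  have hPM := compl_sylIn hG hM hE s.not_sigma hP
  have hom := omega_iff s hPM hAP
  obtain ⟨⟨hEA, -⟩, -, -⟩ := complement_tau2 s hE hAE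
  have hord : ∀ y ∈ P, ∃ k, orderOf y = p ^ k := fun y hy => by
    obtain ⟨k, hk⟩ := IsPGroup.iff_card.1 (hP.isPGroup.to_le (Subgroup.zpowers_le.2 hy))
    exact ⟨k, by rwa [Nat.card_zpowers] at hk⟩
  obtain ⟨x₀, hx₀⟩ := Finite.exists_max fun y : ↥P => orderOf (y : G)
  obtain ⟨k, hk⟩ := hord _ x₀.2
  have hexp : ∀ y ∈ P, y ^ p ^ k = 1 := fun y hy => by
    obtain ⟨j, hj⟩ := hord y hy
    have hjk := hx₀ ⟨y, hy⟩
    simp only [hj, hk] at hjk
    exact orderOf_dvd_iff_pow_eq_one.1 (hj ▸ pow_dvd_pow p ((Nat.pow_le_pow_iff_right hp.out.one_lt).1 hjk))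
  by_cases hall : ∀ z ∈ P, z ≠ 1 → z ^ p = 1 → sigmaCore M ⊓ Subgroup.centralizer ({z} : Set G) = ⊥
  · exact ⟨P, le_rfl, hEP, ⟨x₀, x₀.2, hk ▸ hexp⟩, hall⟩
  push Not at hall
  obtain ⟨z₀, hz₀, hz₀1, hz₀p, hz₀C⟩ := hall
  obtain ⟨n, rfl⟩ : ∃ n, k = n + 1 := by
    refine Nat.exists_eq_succ_of_ne_zero fun h => hz₀1 ?_
    simpa [h] using hexp z₀ hz₀
  have hPc : ∀ a ∈ P, ∀ b ∈ P, Commute a b := fun a ha b hb =>
    congrArg Subtype.val (hPab.is_comm.comm (⟨a, ha⟩ : P) ⟨b, hb⟩)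
  let R : Subgroup G :=
    { carrier := {u | ∃ y ∈ P, y ^ p ^ n = u}
      one_mem' := ⟨1, one_mem _, one_pow _⟩
      mul_mem' := by
        rintro _ _ ⟨a, ha, rfl⟩ ⟨b, hb, rfl⟩
        exact ⟨a * b, Subgroup.mul_mem _ ha hb, (hPc a ha b hb).mul_pow _⟩
      inv_mem' := by
        rintro _ ⟨a, ha, rfl⟩
        exact ⟨a⁻¹, Subgroup.inv_mem _ ha, inv_pow _ _⟩ }
  have hRA : R ≤ A := by
    rintro _ ⟨y, hy, rfl⟩
    exact (hom _ (pow_mem hy _)).1 (by rw [← pow_mul, ← pow_succ]; exact hexp y hy)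
  have hRN : Subgroup.normalizer (P : Set G) ≤ Subgroup.normalizer (R : Set G) := fun g hg =>
    mem_normalizer_of_cj_le (by
      rintro _ ⟨_, ⟨y, hy, rfl⟩, rfl⟩
      exact ⟨g * y * g⁻¹, (Subgroup.mem_normalizer_iff.1 hg y).1 hy, by rw [conj_pow]; rfl⟩)
  have hx₀R : (x₀ : G) ^ p ^ n ∈ R := ⟨_, x₀.2, rfl⟩
  have hx₀n : (x₀ : G) ^ p ^ n ≠ 1 := fun h => by
    have := Nat.le_of_dvd (pow_pos hp.out.pos n) (hk ▸ orderOf_dvd_of_pow_eq_one h)
    exact absurd this (not_le.2 (Nat.pow_lt_pow_right hp.out.one_lt n.lt_succ_self))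
  have hCN := commutator_le_centralizer_A s hPG
    ((fun a ha => Subgroup.mem_centralizer_iff.2 fun b hb => (hPc b (hAP hb) a ha).eq))
  have hcomm : ∀ {a b : G}, a ∈ Subgroup.normalizer (A : Set G) → b ∈ Subgroup.normalizer (A : Set G) →
      ⁅a, b⁆ ∈ Subgroup.centralizer (A : Set G) := fun ha hb => hCN (Subgroup.commutator_mem_commutator ha hb)
  -- a line of `R` invariant under `E`, without fixed points
  obtain ⟨L, hLR, hLc, hLinv, hLfix⟩ : ∃ L : Subgroup G, L ≤ R ∧ Nat.card L = p ∧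
      E ≤ Subgroup.normalizer (L : Set G) ∧ sigmaCore M ⊓ Subgroup.centralizer (L : Set G) = ⊥ := by
    by_cases hRA' : R = A
    swap
    · have hRc : Nat.card R = p := by
        obtain ⟨j, hj2, hj⟩ := (Nat.dvd_prime_pow hp.out).1 (s.card ▸ Subgroup.card_dvd_of_le hRA)
        interval_cases j
        · exact absurd (Subgroup.mem_bot.1 ((Subgroup.card_eq_one.1 (hj.trans (pow_zero p))) ▸ hx₀R)) hx₀n
        · rw [hj, pow_one]
        · exact absurd (Subgroup.eq_of_le_of_card_ge hRA (by rw [s.card, hj])) hRA'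
      refine ⟨R, le_rfl, hRc, hEP.trans hRN, ?_⟩
      by_contra hne
      have hgood := good_of_fixed s hRA hRc hne
      obtain ⟨g, hg, hgM⟩ := SetLike.not_le_iff_exists.1 (s.sylow_normalizer hPM)
      exact hgM (mem_of_good_conj s (g := g) (by rw [cj_eq_self (hRN hg)]; exact hgood) hgood)
    rw [hRA']
    set e := Subgroup.zpowers z₀ with he
    have heA : e ≤ A := Subgroup.zpowers_le.2 ((hom z₀ hz₀).1 hz₀p)
    have hec : Nat.card e = p := by rw [he, Nat.card_zpowers]; exact orderOf_eq_prime hz₀p hz₀1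
    have hinv : ∃ L : Subgroup G, L ≤ A ∧ Nat.card L = p ∧ E ≤ Subgroup.normalizer (L : Set G) := by
      by_contra hno
      push Not at hno
      have hex : ∃ g ∈ E, g ∉ Subgroup.normalizer (e : Set G) := SetLike.not_le_iff_exists.1 (hno e heA hec)
      -- some element of prime power order moves `e`
      obtain ⟨y, hyE, hye, r, hr, i, hyo⟩ : ∃ y ∈ E, y ∉ Subgroup.normalizer (e : Set G) ∧
          ∃ r : ℕ, r.Prime ∧ ∃ i, orderOf y = r ^ i := by
        by_contra h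
        push Not at h
        obtain ⟨g, hg, hge⟩ := hex
        refine hge (Subgroup.zpowers_le.1 ?_)
        refine inf_eq_left.1 (Subgroup.eq_of_le_of_card_ge inf_le_left (Nat.le_of_dvd Nat.card_pos ?_))
        rw [Nat.card_zpowers]
        refine (Nat.dvd_iff_prime_pow_dvd_dvd _ _).2 fun r i hr hd => ?_
        have ho := orderOf_pow_orderOf_div (orderOf_pos g).ne' hd
        rw [← ho]
        refine Subgroup.orderOf_dvd_natCard _ ⟨Subgroup.npow_mem_zpowers g _, ?_⟩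
        by_contra hn
        exact h _ (pow_mem hg _) hn r hr i ho
      haveI := Fact.mk hr
      have hrp : r ≠ p := by
        rintro rfl
        refine hye (Subgroup.centralizer_le_normalizer _ (Subgroup.mem_centralizer_iff.2 fun b hb =>
          (hPc b (hAP (heA hb)) y ?_).eq))
        obtain ⟨x, hx, hxP⟩ := hP.conj_le (IsPGroup.of_card (n := i) (by rw [Nat.card_zpowers, hyo] :
          Nat.card (Subgroup.zpowers y) = r ^ i)) (Subgroup.zpowers_le.2 hyE)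
        rw [Fusion.cj_le_iff, cj_eq_self (hEP (inv_mem hx))] at hxP
        exact hxP (Subgroup.mem_zpowers y)
      obtain ⟨L₀, hL₀A, hL₀c, hyL₀⟩ := exists_eigen s hE hAE h13 hab hp2 hrp hyE
        (IsPGroup.of_card (n := i) (by rw [Nat.card_zpowers, hyo]))
      obtain ⟨g, hg, hgL₀⟩ := SetLike.not_le_iff_exists.1 (hno L₀ hL₀A hL₀c)
      have himg : ∀ {L : Subgroup G}, L ≤ A → y ∈ Subgroup.normalizer (L : Set G) →
          cj L g ≤ A ∧ y ∈ Subgroup.normalizer (cj L g : Set G) := fun {L} hLA hyL =>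
        ⟨(cj_mono hLA g).trans (cj_eq_self (hEA hg)).le,
          normalizes_cj hLA (hcomm (hEA hyE) (hEA hg)) (hEA hg) hyL⟩
      obtain ⟨h1A, h1y⟩ := himg hL₀A hyL₀
      obtain ⟨h2A, h2y⟩ := himg h1A h1y
      have d01 : cj L₀ g ≠ L₀ := fun h => hgL₀ (mem_normalizer_of_cj_le h.le)
      have d02 : cj (cj L₀ g) g = L₀ := by
        by_contra hne
        refine hye (normalizes_all s hL₀A h1A h2A hL₀c (by rw [card_cj, hL₀c]) (by rw [card_cj, card_cj, hL₀c])
          d01 hne (fun h => d01 ?_) hyL₀ h1y h2y heA)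
        have := congrArg (fun H => cj H g⁻¹) h
        simpa [Fusion.cj_cj_inv] using this
      -- `g` has odd order
      rw [cj_cj, ← pow_two] at d02
      obtain ⟨c, hc⟩ := Odd.of_dvd_nat hG.1 (orderOf_dvd_natCard g)
      have hg2 : g ^ 2 ∈ Subgroup.normalizer (L₀ : Set G) := mem_normalizer_of_cj_le d02.le
      refine hgL₀ ?_
      have : g = (g ^ 2) ^ (c + 1) := by
        rw [← pow_mul, show 2 * (c + 1) = orderOf g + 1 by omega, pow_succ, pow_orderOf_eq_one, one_mul]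
      rw [this]
      exact pow_mem hg2 _
    obtain ⟨L, hLA, hLc, hLinv⟩ := hinv
    by_cases hfixL : sigmaCore M ⊓ Subgroup.centralizer (L : Set G) = ⊥
    · exact ⟨L, hLA, hLc, hLinv, hfixL⟩
    obtain ⟨g, hg, hgM⟩ := SetLike.not_le_iff_exists.1 s.normalizer_not_le
    refine ⟨cj L g, (cj_mono hLA g).trans (cj_eq_self hg).le, by rw [card_cj, hLc], fun h hh =>
      normalizes_cj hLA (hcomm (hEA hh) hg) hg (hLinv hh), ?_⟩
    by_contra hne
    exact hgM (mem_of_good_conj s (good_of_fixed s ((cj_mono hLA g).trans (cj_eq_self hg).le)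
      (by rw [card_cj, hLc]) hne) (good_of_fixed s hLA hLc hfixL))
  -- lift the line
  obtain ⟨u, hu, hu1⟩ := exists_ne_one (ne_bot_of_card hLc)
  obtain ⟨x, hxP, hxu⟩ := hLR hu
  have hLu : Subgroup.zpowers u = L := Subgroup.eq_of_le_of_card_ge (Subgroup.zpowers_le.2 hu)
    (by rw [hLc, card_zpowers_elab s.elem (hRA (hLR hu)) hu1])
  have hPC : P ≤ Subgroup.centralizer (P : Set G) := fun a ha =>
    Subgroup.mem_centralizer_iff.2 fun b hb => (hPc b hb a ha).eq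
  have hidx : ¬ p ∣ (Subgroup.centralizer (P : Set G)).relIndex E := fun hd =>
    hP.not_dvd (hd.trans (Subgroup.relIndex_dvd_of_le_left E hPC))
  obtain ⟨x', hx'P, hx'inv, hx'o, hx'L⟩ := Avg.exists_lift hEP hPab hidx hxP hexp
    (by rw [hxu]; exact orderOf_eq_prime (s.elem.2 _ (hRA (hLR hu))) hu1) (by rw [hxu, hLu]; exact hLinv)
  refine ⟨Subgroup.zpowers x', Subgroup.zpowers_le.2 hx'P, hx'inv,
    ⟨x', Subgroup.mem_zpowers x', hx'o ▸ hexp⟩, fun z hz hz1 hzp => ?_⟩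
  have hzL : Subgroup.zpowers z = L := by
    rw [← hLu, ← hxu, ← hx'L]
    refine cyclic_eq (P := Subgroup.zpowers x') inferInstance (Subgroup.zpowers_le.2 hz)
      (Subgroup.zpowers_le.2 (Subgroup.npow_mem_zpowers x' _)) (p := p) ?_ ?_
    · rw [Nat.card_zpowers]; exact orderOf_eq_prime hzp hz1
    · rw [hx'L, hxu, hLu]; exact hLc
  rw [← centralizer_zpowers, hzL]
  exact hLfix

end Cfsg.Agent.OddLocal.TauTwo
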