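import Cfsg.Agent.Lib.OddLocal.UniquenessCriterion
import Cfsg.Agent.Lib.Fusion.RankTwoExponent

/-!
Propagation of uniqueness along commuting noncyclic subgroups.
-/

set_option autoImplicit false

namespace Cfsg.Agent.OddLocal.Uniq

open Cfsg
open Cfsg.Agent.Fusion (SylIn cj cj_eq_self mem_normalizer_of_cj_le)

universe u

variable {G : Type u} [Group G] [Finite G] {p : ℕ} [hp : Fact p.Prime]

omit hp in
/-- A proper overgroup of a uniqueness subgroup is one. -/
theorem iu_mono {X Y : Subgroup G} (h : InUniqueMaximal X) (hXY : X ≤ Y) (hY : Y ≠ ⊤) :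
    InUniqueMaximal Y := by
  obtain ⟨M, hM, hu⟩ := h
  obtain ⟨H, hH, hYH⟩ := exists_coatom Y hY
  refine ⟨H, ⟨hH, hYH⟩, fun L hL => ?_⟩
  exact (hu L ⟨hL.1, hXY.trans hL.2⟩).trans (hu H ⟨hH, hXY.trans hYH⟩).symm

omit hp in
theorem iu_le {X Y M : Subgroup G} (hu : ∀ L : Subgroup G, IsCoatom L → X ≤ L → L = M) (hXY : X ≤ Y)
    (hY : Y ≠ ⊤) : Y ≤ M := by
  obtain ⟨H, hH, hYH⟩ := exists_coatom Y hY
  exact hu H hH (hXY.trans hYH) ▸ hYH

omit hp in
theorem iu_conj {X : Subgroup G} (h : InUniqueMaximal X) (g : G) : InUniqueMaximal (cj X g) := by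
  obtain ⟨M, ⟨hM, hXM⟩, hu⟩ := h
  have hco : ∀ {L : Subgroup G} (g : G), IsCoatom L → IsCoatom (cj L g) := fun {L} g hL =>
    (OrderIso.isCoatom_iff (MulEquiv.mapSubgroup (MulAut.conj g)) L).2 hL
  refine ⟨cj M g, ⟨hco g hM, Fusion.cj_mono hXM g⟩, fun L hL => ?_⟩
  have h1 := hu (cj L g⁻¹) ⟨hco _ hL.1, by
    rw [← Fusion.cj_cj_inv X g]; exact Fusion.cj_mono hL.2 _⟩
  rw [← h1, Fusion.cj_inv_cj]

theorem noncyclic_of_card {B : Subgroup G} (hBe : IsElementaryAbelian p B) (hB : p ^ 2 ≤ Nat.card B) :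
    ¬ IsCyclic B := by
  intro hc
  haveI := hc
  obtain ⟨g, hg⟩ := IsCyclic.exists_generator (α := ↥B)
  have h1 : Nat.card B ≤ p := by
    rw [← orderOf_eq_card_of_forall_mem_zpowers hg]
    exact Nat.le_of_dvd hp.out.pos (orderOf_dvd_of_pow_eq_one (Subtype.ext (hBe.2 g g.2)))
  have h2 := Nat.pow_lt_pow_right hp.out.one_lt (show 1 < 2 by omega)
  rw [pow_one] at h2
  omega

omit hp in
theorem elab_mono {E B : Subgroup G} (hE : IsElementaryAbelian p E) (h : B ≤ E) :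
    IsElementaryAbelian p B :=
  ⟨⟨⟨fun a b => by
    have h' := congrArg Subtype.val (hE.1.is_comm.comm (⟨a, h a.2⟩ : E) ⟨b, h b.2⟩)
    exact Subtype.ext h'⟩⟩,
    fun a ha => hE.2 a (h ha)⟩

theorem exists_elab_of_prank {k : ℕ} {Z : Subgroup G} (hr : ¬ PRankLE p k ↥Z) :
    ∃ E : Subgroup G, E ≤ Z ∧ IsElementaryAbelian p E ∧ p ^ (k + 1) ≤ Nat.card E := by
  rw [PRankLE] at hr
  push Not at hr
  obtain ⟨E, hEc, hEe, hcard⟩ := hr
  refine ⟨E.map Z.subtype, Subgroup.map_subtype_le E, ⟨?_, ?_⟩, ?_⟩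
  · haveI := hEc
    exact Subgroup.map_isMulCommutative E Z.subtype
  · rintro _ ⟨e, he, rfl⟩
    rw [← map_pow, hEe e he, map_one]
  · have hEp : IsPGroup p E := fun e => ⟨1, Subtype.ext (by rw [pow_one]; exact hEe _ e.2)⟩
    obtain ⟨j, hj⟩ := IsPGroup.iff_card.1 hEp
    rw [Subgroup.card_map_of_injective Z.subtype_injective, hj]
    rw [hj] at hcard
    exact Nat.pow_le_pow_right hp.out.pos ((Nat.pow_lt_pow_iff_right hp.out.one_lt).1 hcard)

theorem not_prankLE_of_elab {k : ℕ} {E Z : Subgroup G} (hEZ : E ≤ Z) (hEe : IsElementaryAbelian p E)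
    (hcard : p ^ (k + 1) ≤ Nat.card E) : ¬ PRankLE p k ↥Z := by
  intro h
  have h1 := h (E.subgroupOf Z) ⟨⟨fun u v => by
    have h := congrArg Subtype.val (hEe.1.is_comm.comm (⟨u.1.1, u.2⟩ : E) ⟨v.1.1, v.2⟩)
    exact Subtype.ext (Subtype.ext h)⟩⟩ (fun a ha => Subtype.ext (hEe.2 _ ha))
  rw [Solv.card_subgroupOf hEZ] at h1
  have := Nat.pow_lt_pow_right hp.out.one_lt (show k < k + 1 by omega)
  omega

theorem exists_elab_noncyclic (hp2 : p ≠ 2) {K : Subgroup G} (hK : IsPGroup p K) (hnc : ¬ IsCyclic K) :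
    ∃ E : Subgroup G, E ≤ K ∧ IsElementaryAbelian p E ∧ p ^ 2 ≤ Nat.card E := by
  obtain ⟨E, -, hEe, hcard⟩ := Solv.exists_normal_elementary_sq hp2 hK hnc
  refine ⟨E.map K.subtype, Subgroup.map_subtype_le E, ⟨?_, ?_⟩, ?_⟩
  · haveI := hEe.1
    exact Subgroup.map_isMulCommutative E K.subtype
  · rintro _ ⟨e, he, rfl⟩
    rw [← map_pow, hEe.2 e he, map_one]
  · rw [Subgroup.card_map_of_injective K.subtype_injective, hcard]

theorem not_rankLE_one_of_noncyclic (hp2 : p ≠ 2) {K : Subgroup G} (hK : IsPGroup p K)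
    (hnc : ¬ IsCyclic K) : ¬ RankLE 1 ↥K := by
  obtain ⟨E, hEK, hEe, hcard⟩ := exists_elab_noncyclic hp2 hK hnc
  exact fun h => not_prankLE_of_elab hEK hEe hcard (h p hp.out)

omit hp in
/-- Uniqueness passes to subgroups of rank two of the centralizer. -/
theorem iu_of_commute (hG : IsMinSimpleOddOrder G) {L K : Subgroup G} (hL : InUniqueMaximal L)
    (hK : K ≤ Subgroup.centralizer (L : Set G)) (hKr : ¬ RankLE 1 ↥K) : InUniqueMaximal K := by
  obtain ⟨M, ⟨hM, -⟩, hu⟩ := hL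
  have hu' : ∀ H : Subgroup G, IsCoatom H → L ≤ H → H = M := fun H h1 h2 => hu H ⟨h1, h2⟩
  have hC : ∀ k ∈ K, k ≠ 1 → Subgroup.centralizer ({k} : Set G) ≤ M := fun k hk hk1 =>
    iu_le hu' (Transit.le_centralizer_singleton hK hk) (Transit.centralizer_ne_top hG.2 hk1)
  have hKM : K ≤ M := fun k hk => by
    by_cases hk1 : k = 1
    · exact hk1 ▸ one_mem M
    · exact hC k hk hk1 (Subgroup.mem_centralizer_singleton_iff.2 rfl)
  obtain ⟨p, hp', hr⟩ : ∃ p : ℕ, p.Prime ∧ ¬ PRankLE p 1 ↥K := by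
    rw [RankLE] at hKr
    push Not at hKr
    exact hKr
  haveI := Fact.mk hp'
  obtain ⟨B, hBK, hBe, hcard⟩ := exists_elab_of_prank hr
  exact iu_mono (elementary_criterion hG hM (hBK.trans hKM) hBe (noncyclic_of_card hBe hcard)
    (Or.inl fun b hb hb1 => hC b (hBK hb) hb1)) hBK fun h => hM.1 (eq_top_iff.2 (h ▸ hKM))

theorem iu_of_commute' (hG : IsMinSimpleOddOrder G) {L K : Subgroup G} (hL : InUniqueMaximal L)
    (hK : K ≤ Subgroup.centralizer (L : Set G)) (hKe : IsElementaryAbelian p K)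
    (hcard : p ^ 2 ≤ Nat.card K) : InUniqueMaximal K :=
  iu_of_commute hG hL hK fun h => not_prankLE_of_elab le_rfl hKe hcard (h p hp.out)

theorem pow_three_sub_le {R : Type*} [Group R] [Finite R] (hR : IsPGroup p R) (W : Subgroup R) [W.Normal]
    (hWe : IsElementaryAbelian p W) (hW : Nat.card W ≤ p ^ 2) (E : Subgroup R) (hE : p ^ 3 ≤ Nat.card E) :
    p ^ 2 ≤ Nat.card (E ⊓ Subgroup.centralizer (W : Set R) : Subgroup R) := by
  have h1 : Nat.card E ≤ Nat.card (E ⊓ Subgroup.centralizer (W : Set R) : Subgroup R) * p := by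
    have h2 := Subgroup.relIndex_mul_relIndex ⊥ (E ⊓ Subgroup.centralizer (W : Set R)) E bot_le inf_le_left
    rw [Subgroup.relIndex_bot_left, Subgroup.relIndex_bot_left, Subgroup.inf_relIndex_left] at h2
    rw [← h2]
    refine Nat.mul_le_mul_left _ (le_trans ?_ (Fusion.index_centralizer_le_of_small hR W hWe.1 hW))
    exact Nat.le_of_dvd (Nat.pos_of_ne_zero Subgroup.index_ne_zero_of_finite)
      (Subgroup.relIndex_dvd_index_of_normal _ _)
  refine Nat.le_of_mul_le_mul_right ?_ hp.out.pos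
  calc p ^ 2 * p = p ^ 3 := (pow_succ p 2).symm
    _ ≤ Nat.card E := hE
    _ ≤ _ := h1

/-- In a `p`-group `T`, a normal elementary `W` of order `p²` meets every `E` of order `p³` in a large centralizer. -/
theorem link_card {T W E : Subgroup G} (hT : IsPGroup p T) (hWT : W ≤ T)
    (hTW : T ≤ Subgroup.normalizer (W : Set G)) (hWe : IsElementaryAbelian p W) (hW : Nat.card W ≤ p ^ 2)
    (hET : E ≤ T) (hE : p ^ 3 ≤ Nat.card E) :
    p ^ 2 ≤ Nat.card (E ⊓ Subgroup.centralizer (W : Set G) : Subgroup G) := by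
  haveI : (W.subgroupOf T).Normal := (Subgroup.normal_subgroupOf_iff_le_normalizer hWT).2 hTW
  have hWe' : IsElementaryAbelian p (W.subgroupOf T) := ⟨⟨⟨fun u v => by
    have h := congrArg Subtype.val (hWe.1.is_comm.comm (⟨u.1.1, u.2⟩ : W) ⟨v.1.1, v.2⟩)
    exact Subtype.ext (Subtype.ext h)⟩⟩, fun a ha => Subtype.ext (hWe.2 _ ha)⟩
  have h := pow_three_sub_le hT (W.subgroupOf T) hWe' (by rwa [Solv.card_subgroupOf hWT])
    (E.subgroupOf T) (by rwa [Solv.card_subgroupOf hET])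
  refine h.trans ?_
  rw [← Subgroup.card_map_of_injective T.subtype_injective]
  refine Subgroup.card_le_of_le ?_
  rintro _ ⟨x, ⟨hxE, hxC⟩, rfl⟩
  exact ⟨hxE, Subgroup.mem_centralizer_iff.2 fun w hw =>
    congrArg Subtype.val (Subgroup.mem_centralizer_iff.1 hxC ⟨w, hWT hw⟩ hw)⟩

/-- A normal elementary subgroup of order `p²` of a `p`-group containing a rank three uniqueness subgroup. -/
theorem iu_link (hG : IsMinSimpleOddOrder G) {T W E : Subgroup G} (hT : IsPGroup p T) (hWT : W ≤ T)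
    (hTW : T ≤ Subgroup.normalizer (W : Set G)) (hWe : IsElementaryAbelian p W) (hW : Nat.card W = p ^ 2)
    (hET : E ≤ T) (hEe : IsElementaryAbelian p E) (hE : p ^ 3 ≤ Nat.card E) (hEU : InUniqueMaximal E) :
    InUniqueMaximal W := by
  have hcard := link_card hT hWT hTW hWe hW.le hET hE
  have hEc : E ≤ Subgroup.centralizer (E : Set G) := by
    haveI := hEe.1
    exact Subgroup.le_centralizer E
  have h1 : InUniqueMaximal (E ⊓ Subgroup.centralizer (W : Set G)) :=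
    iu_of_commute' hG hEU (inf_le_left.trans hEc) (elab_mono hEe inf_le_left) hcard
  exact iu_of_commute' hG h1 (Subgroup.le_centralizer_iff.1 inf_le_right) hWe hW.ge

theorem ne_two_of_elab (hG : IsMinSimpleOddOrder G) {E : Subgroup G} (hEe : IsElementaryAbelian p E)
    (hE : p ^ 2 ≤ Nat.card E) : p ≠ 2 :=
  ne_two hG (Fusion.elab_isPGroup hEe) fun h => by
    rw [h, Subgroup.card_bot] at hE
    exact absurd hE (not_le.2 (Nat.one_lt_pow two_ne_zero hp.out.one_lt))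

theorem exists_normal_sq (hp2 : p ≠ 2) {T E : Subgroup G} (hT : IsPGroup p T) (hET : E ≤ T)
    (hEe : IsElementaryAbelian p E) (hE : p ^ 2 ≤ Nat.card E) :
    ∃ W : Subgroup G, W ≤ T ∧ T ≤ Subgroup.normalizer (W : Set G) ∧ IsElementaryAbelian p W ∧
      Nat.card W = p ^ 2 := by
  have hnc : ¬ IsCyclic T := fun hc => by
    haveI := hc
    exact noncyclic_of_card hEe hE (isCyclic_of_injective (Subgroup.inclusion hET)
      (Subgroup.inclusion_injective hET))
  obtain ⟨W, hWn, hWe, hcard⟩ := Solv.exists_normal_elementary_sq hp2 hT hnc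
  refine ⟨W.map T.subtype, Subgroup.map_subtype_le W, Bender.le_normalizer_map W, ⟨?_, ?_⟩, ?_⟩
  · haveI := hWe.1
    exact Subgroup.map_isMulCommutative W T.subtype
  · rintro _ ⟨e, he, rfl⟩
    rw [← map_pow, hWe.2 e he, map_one]
  · rw [Subgroup.card_map_of_injective T.subtype_injective, hcard]

/-- If one elementary subgroup of order at least `p³` is a uniqueness subgroup, all are. -/
theorem rank_three_all (hG : IsMinSimpleOddOrder G) {E F : Subgroup G} (hEe : IsElementaryAbelian p E)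
    (hE : p ^ 3 ≤ Nat.card E) (hEU : InUniqueMaximal E) (hFe : IsElementaryAbelian p F)
    (hF : p ^ 3 ≤ Nat.card F) : InUniqueMaximal F := by
  have h2 : p ^ 2 ≤ p ^ 3 := Nat.pow_le_pow_right hp.out.pos (by omega)
  have hp2 := ne_two_of_elab hG hEe (h2.trans hE)
  obtain ⟨P, hEP⟩ := (Fusion.elab_isPGroup hEe).exists_le_sylow
  obtain ⟨P', hFP'⟩ := (Fusion.elab_isPGroup hFe).exists_le_sylow
  obtain ⟨g, hg⟩ := MulAction.exists_smul_eq G P' P
  have hgP : cj (P' : Subgroup G) g = (P : Subgroup G) := by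
    rw [← hg, Sylow.coe_subgroup_smul, Solv.conj_smul_eq_map]
  obtain ⟨F', hF'⟩ : ∃ F', F' = cj F g := ⟨_, rfl⟩
  suffices h : InUniqueMaximal F' by
    have := iu_conj h g⁻¹
    rwa [hF', Fusion.cj_cj_inv] at this
  have hF'e : IsElementaryAbelian p F' := by
    subst hF'
    haveI := hFe.1
    refine ⟨Subgroup.map_isMulCommutative F _, ?_⟩
    rintro _ ⟨e, he, rfl⟩
    rw [← map_pow, hFe.2 e he, map_one]
  have hF'c : p ^ 3 ≤ Nat.card F' := by rw [hF', Fusion.card_cj]; exact hF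
  have hF'P : F' ≤ (P : Subgroup G) := hF' ▸ hgP ▸ Fusion.cj_mono hFP' g
  obtain ⟨W, hWP, hPW, hWe, hWc⟩ := exists_normal_sq hp2 P.isPGroup' hEP hEe (h2.trans hE)
  have hWU := iu_link hG P.isPGroup' hWP hPW hWe hWc hEP hEe hE hEU
  have hcard := link_card P.isPGroup' hWP hPW hWe hWc.le hF'P hF'c
  refine iu_mono (iu_of_commute' hG hWU inf_le_right (elab_mono hF'e inf_le_left) hcard) inf_le_left ?_
  exact pgroup_ne_top hG (Fusion.elab_isPGroup hF'e)

theorem iu_noncyclic_of_rank_three (hG : IsMinSimpleOddOrder G) {A B : Subgroup G}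
    (hAc : IsMulCommutative A) (hA3 : ¬ PRankLE p 2 ↥A) (hAU : InUniqueMaximal A)
    (hBp : IsPGroup p B) (hBnc : ¬ IsCyclic B)
    (hB3 : ¬ PRankLE p 2 ↥(Subgroup.centralizer (B : Set G))) : InUniqueMaximal B := by
  obtain ⟨E, hEA, hEe, hE⟩ := exists_elab_of_prank hA3
  have h2 : p ^ 2 ≤ p ^ (2 + 1) := Nat.pow_le_pow_right hp.out.pos (by omega)
  have hp2 := ne_two_of_elab hG hEe (h2.trans hE)
  have hEU : InUniqueMaximal E :=
    iu_of_commute' hG hAU (by haveI := hAc; exact hEA.trans (Subgroup.le_centralizer A)) hEe (h2.trans hE)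
  obtain ⟨F, hFC, hFe, hF⟩ := exists_elab_of_prank hB3
  exact iu_of_commute hG (rank_three_all hG hEe hE hEU hFe hF) (Subgroup.le_centralizer_iff.1 hFC)
    (not_rankLE_one_of_noncyclic hp2 hBp hBnc)

end Cfsg.Agent.OddLocal.Uniq
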