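import Cfsg.Prelude.Def_OddOrder
import Cfsg.Agent.Lib.OddLocal.OddFactor

/-!
The uniqueness criterion for noncyclic elementary abelian subgroups.
-/

set_option autoImplicit false

namespace Cfsg.Agent.OddLocal.Uniq

open Cfsg
open Cfsg.Agent.Fusion (SylIn cj cj_cj cj_inf cj_eq_self cj_mono mem_normalizer_of_cj_le exists_sylIn_ge)
open Cfsg.Agent.OddLocal.Bender (coreP le_normalizer_coreP)
open Cfsg.Agent.OddLocal.Fact2 (zjOf zjOf_map zjOf_facts)

universe u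

variable {G : Type u} [Group G] [Finite G] {p : ℕ} [hp : Fact p.Prime]

omit hp in
theorem odd_subgroup (hG : IsMinSimpleOddOrder G) (L : Subgroup G) : Odd (Nat.card L) :=
  Odd.of_dvd_nat hG.1 (Subgroup.card_subgroup_dvd_card L)

theorem ne_two (hG : IsMinSimpleOddOrder G) {B : Subgroup G} (hB : IsPGroup p B) (hne : B ≠ ⊥) : p ≠ 2 := by
  rintro rfl
  obtain ⟨k, hk⟩ := IsPGroup.iff_card.1 hB
  have hk0 : k ≠ 0 := fun h0 => hne (Subgroup.card_eq_one.1 (by rw [hk, h0, pow_zero]))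
  exact Nat.not_even_iff_odd.2 hG.1 (even_iff_two_dvd.2
    ((dvd_pow_self 2 hk0).trans (hk ▸ Subgroup.card_subgroup_dvd_card B)))

omit hp in
theorem pgroup_ne_top (hG : IsMinSimpleOddOrder G) [Fact p.Prime] {T : Subgroup G} (hT : IsPGroup p T) :
    T ≠ ⊤ := by
  rintro rfl
  obtain ⟨-, hS, hnc, -⟩ := hG
  haveI := hT.isNilpotent
  haveI : Group.IsNilpotent G := Group.nilpotent_of_mulEquiv Subgroup.topEquiv
  exact hnc ⟨⟨fun a b => IsSimpleGroup.comm_iff_isSolvable.2 inferInstance a b⟩⟩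

omit hp in
theorem exists_coatom (H : Subgroup G) (hH : H ≠ ⊤) : ∃ M, IsCoatom M ∧ H ≤ M :=
  (eq_top_or_exists_le_coatom H).resolve_left hH

/-- A Sylow subgroup of a subgroup, as a Sylow subgroup of the abstract group. -/
theorem exists_sylow {R L : Subgroup G} (hR : SylIn p R L) :
    ∃ T : Sylow p L, (T : Subgroup L).map L.subtype = R := by
  obtain ⟨T, hT⟩ := hR.exists_sylow_subgroupOf
  exact ⟨T, by rw [hT, Subgroup.map_subgroupOf_eq_of_le hR.1]⟩

omit hp in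
theorem le_of_map_sup {L M : Subgroup G} {W N : Subgroup L} (h : W ⊔ N = ⊤) (h1 : W.map L.subtype ≤ M)
    (h2 : N.map L.subtype ≤ M) : L ≤ M := by
  have := sup_le h1 h2
  rwa [← Subgroup.map_sup, h, ← MonoidHom.range_eq_map, Subgroup.range_subtype] at this

omit hp in
theorem map_normalizer_le {L : Subgroup G} (Z : Subgroup L) :
    (Subgroup.normalizer (Z : Set L)).map L.subtype ≤
      L ⊓ Subgroup.normalizer (Z.map L.subtype : Set G) :=
  le_inf (Subgroup.map_subtype_le _) (Subgroup.le_normalizer_map L.subtype)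

theorem le_of_factor_zj (hG : IsMinSimpleOddOrder G) (hp2 : p ≠ 2) {L M R : Subgroup G} (hL : L ≠ ⊤)
    (hR : SylIn p R L) (h1 : coreP p L ≤ M)
    (h2 : L ⊓ Subgroup.normalizer (zjOf p R : Set G) ≤ M) : L ≤ M := by
  obtain ⟨T, hT⟩ := exists_sylow hR
  refine le_of_map_sup (Fact2.zj_factor (hG.2.2.2 L hL) (odd_subgroup hG L) hp2 T) h1 ?_
  refine (map_normalizer_le _).trans ?_
  rwa [zjOf_map L.subtype T.isPGroup' (L.subtype_injective.comp (Subgroup.subtype_injective _)), hT]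

theorem le_of_factor_rank_two (hG : IsMinSimpleOddOrder G) {L M R : Subgroup G} (hL : L ≠ ⊤)
    (hR : SylIn p R L) (hr : PRankLE p 2 ↥R) (h1 : coreP p L ≤ M)
    (h2 : L ⊓ Subgroup.normalizer (R : Set G) ≤ M) : L ≤ M := by
  obtain ⟨T, hT⟩ := exists_sylow hR
  refine le_of_map_sup (Fact2.rank_two_factor (hG.2.2.2 L hL) (odd_subgroup hG L) T ?_) h1 ?_
  · exact Solv.RankTwo.prankLE_mulEquiv (((T : Subgroup L).equivMapOfInjective L.subtype
      L.subtype_injective).trans (MulEquiv.subgroupCongr hT)).symm hr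
  · refine (map_normalizer_le _).trans ?_
    rwa [hT]

theorem le_of_factor_abelian (hG : IsMinSimpleOddOrder G) (hp2 : p ≠ 2) {L M R A : Subgroup G} (hL : L ≠ ⊤)
    (hR : SylIn p R L) (hAc : IsMulCommutative A) (hAR : A ≤ R)
    (hRA : R ≤ Subgroup.normalizer (A : Set G)) (h1 : coreP p L ≤ M)
    (h2 : ∀ R₀ : Subgroup G, A ≤ R₀ → R₀ ≤ R → L ⊓ Subgroup.normalizer (R₀ : Set G) ≤ M) : L ≤ M := by
  obtain ⟨T, hT⟩ := exists_sylow hR
  have hAL : A ≤ L := hAR.trans hR.1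
  have hTR : ∀ t : L, t ∈ (T : Subgroup L) ↔ (t : G) ∈ R := fun t => by
    rw [← hT, Subgroup.mem_map]
    exact ⟨fun h => ⟨t, h, rfl⟩, fun ⟨s, hs, he⟩ => Subtype.ext he ▸ hs⟩
  haveI hAc' : IsMulCommutative ↥(A.subgroupOf L) := ⟨⟨fun u v => by
    have h := congrArg Subtype.val (hAc.is_comm.comm (⟨u.1.1, u.2⟩ : A) ⟨v.1.1, v.2⟩)
    exact Subtype.ext (Subtype.ext h)⟩⟩
  obtain ⟨R₀, hAR₀, hR₀T, hfac⟩ := Fact2.abelian_factor (hG.2.2.2 L hL) (odd_subgroup hG L) hp2 T hAc'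
    (fun a ha => (hTR a).2 (hAR ha)) (fun t ht => mem_normalizer_of_cj_le (by
      rintro _ ⟨a, ha, rfl⟩
      exact ((Subgroup.mem_normalizer_iff.1 (hRA ((hTR t).1 ht)) _).1 ha : (t : G) * a * (t : G)⁻¹ ∈ A)))
  refine le_of_map_sup hfac h1 ((map_normalizer_le _).trans (h2 _ ?_ ?_))
  · exact fun a ha => ⟨⟨a, hAL ha⟩, hAR₀ ha, rfl⟩
  · rw [← hT]; exact Subgroup.map_mono hR₀T

theorem invariant_le_coreP (hG : IsMinSimpleOddOrder G) (hp2 : p ≠ 2) {L R Y : Subgroup G} (hL : L ≠ ⊤)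
    (hR : SylIn p R L) (hYL : Y ≤ L) (hY : ¬ p ∣ Nat.card Y)
    (hRY : R ≤ Subgroup.normalizer (Y : Set G)) : Y ≤ coreP p L := by
  obtain ⟨T, hT⟩ := exists_sylow hR
  have h := Fact2.le_pPrimeCore_of_sylow (hG.2.2.2 L hL) hp2 T (Y := Y.subgroupOf L)
    (by rw [Solv.card_subgroupOf hYL]; exact hY) (fun t ht => mem_normalizer_of_cj_le (by
      rintro _ ⟨y, hy, rfl⟩
      exact ((Subgroup.mem_normalizer_iff.1 (hRY (hT ▸ Subgroup.mem_map_of_mem L.subtype ht)) _).1 hy :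
        (t : G) * y * (t : G)⁻¹ ∈ Y)))
  exact fun y hy => ⟨⟨y, hYL hy⟩, h hy, rfl⟩

theorem coreP_coprime (L : Subgroup G) : ¬ p ∣ Nat.card (coreP p L) := by
  rw [coreP, Subgroup.card_map_of_injective L.subtype_injective]
  exact (Nat.Prime.coprime_iff_not_dvd hp.out).1 (Fusion.card_pPrimeCore_coprime p _).symm

omit hp in
theorem le_of_invariant_sylows {Y M : Subgroup G}
    (h : ∀ q : ℕ, ∀ [Fact q.Prime], ∃ U, Solv.IsSylIn q U Y ∧ U ≤ M) : Y ≤ M := by
  have hcard : Nat.card Y ∣ Nat.card (Y ⊓ M : Subgroup G) := by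
    refine (Nat.factorization_le_iff_dvd Nat.card_pos.ne' Nat.card_pos.ne').1 fun q => ?_
    by_cases hq : q.Prime
    swap
    · simp [Nat.factorization_eq_zero_of_not_prime _ hq]
    haveI := Fact.mk hq
    obtain ⟨U, hU, hUM⟩ := h q
    refine (hq.pow_dvd_iff_le_factorization Nat.card_pos.ne').1 ?_
    exact hU.2 ▸ Subgroup.card_dvd_of_le (le_inf hU.1 hUM)
  exact (Subgroup.eq_of_le_of_card_ge inf_le_left (Nat.le_of_dvd Nat.card_pos hcard)).ge.trans inf_le_right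

/-- Every `p'`-subgroup normalised by an abelian `SCN₃` lies in `M`. -/
theorem scn_invariant_le (hG : IsMinSimpleOddOrder G) {M : Subgroup G} (P : Sylow p G) {A : Subgroup G}
    (hscn : IsSCN (P : Subgroup G) A) (hAc : IsMulCommutative A) (hA3 : ¬ PRankLE p 2 ↥A)
    (hd : p ∣ Nat.card G)
    (hyp : ∀ Y : Subgroup G, (P : Subgroup G) ≤ Subgroup.normalizer (Y : Set G) → ¬ p ∣ Nat.card Y → Y ≤ M)
    {Y : Subgroup G} (hY : ¬ p ∣ Nat.card Y) (hAY : A ≤ Subgroup.normalizer (Y : Set G)) : Y ≤ M := by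
  have hmin := hG.2
  have hAp : IsPGroup p A := P.isPGroup'.to_le hscn.1
  have hTH := Transit.criteria hG hd hAp hAc (Or.inr ⟨P, hscn⟩)
  have hyp' := Transit.hyp_of_transitivityHypothesis hTH
  have hco : (Nat.card A).Coprime (Nat.card Y) := by
    obtain ⟨k, hk⟩ := IsPGroup.iff_card.1 hAp
    rw [hk]
    exact ((Nat.Prime.coprime_iff_not_dvd hp.out).2 hY).pow_left k
  refine le_of_invariant_sylows fun q hq => ?_
  obtain ⟨U, hU, hAU⟩ := Solv.exists_invariant_sylow hAY hco (Or.inl (hmin.2.2 A hTH.2.1)) q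
  refine ⟨U, hU, ?_⟩
  by_cases hqp : q = p
  · subst hqp
    have h1 : Nat.card U = 1 := by
      rw [hU.2, Nat.factorization_eq_zero_of_not_dvd hY, pow_zero]
    rw [Subgroup.card_eq_one.1 h1]
    exact bot_le
  have hqA : ¬ q ∣ Nat.card A := fun h => by
    obtain ⟨k, hk⟩ := IsPGroup.iff_card.1 hAp
    rw [hk] at h
    exact hqp ((Nat.prime_dvd_prime_iff_eq hq.out hp.out).1 (hq.out.dvd_of_dvd_pow h))
  have hZ : ¬ RankLE 2 ↥(A ⊓ Subgroup.centralizer (A : Set G)) := by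
    intro h
    haveI := hAc
    rw [inf_eq_left.2 (Subgroup.le_centralizer A)] at h
    exact hA3 (h p hp.out)
  have htr : ∀ Q₁ ∈ maxInvSubgroups ⊤ A {q}, ∀ Q₂ ∈ maxInvSubgroups ⊤ A {q},
      Transit.Rel (Nat.card A) A Q₁ Q₂ := fun Q₁ h₁ Q₂ h₂ => Transit.rel_rank_three hmin hyp' hqA hZ h₁ h₂
  haveI : Group.IsNilpotent ↥(P : Subgroup G) := P.isPGroup'.isNilpotent
  have hsn : (A.subgroupOf (P : Subgroup G)).IsSubnormal := by
    haveI : (A.subgroupOf (P : Subgroup G)).Normal :=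
      (Subgroup.normal_subgroupOf_iff_le_normalizer hscn.1).2 hscn.2.1
    exact Subgroup.Normal.isSubnormal inferInstance
  have hPn : ∀ r : ℕ, r.Prime → r ∣ Nat.card (P : Subgroup G) → r ∣ Nat.card A := by
    intro r hr hrd
    obtain ⟨k, hk⟩ := IsPGroup.iff_card.1 P.isPGroup'
    rw [hk] at hrd
    rw [(Nat.prime_dvd_prime_iff_eq hr hp.out).1 (hr.dvd_of_dvd_pow hrd)]
    obtain ⟨j, hj⟩ := IsPGroup.iff_card.1 hAp
    rw [hj]
    exact dvd_pow_self p fun h0 => hTH.1 (Subgroup.card_eq_one.1 (by rw [hj, h0, pow_zero]))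
  obtain ⟨-, hsub⟩ := Transit.overgroup hmin hyp' hqA hscn.1 (pgroup_ne_top hG P.isPGroup') hPn hsn htr
  obtain ⟨Q, -, mQ⟩ := S1480.exists_max (q := q) (E := (P : Subgroup G)) ⊥ IsPGroup.of_bot
    (fun _ _ => by rw [Subgroup.normalizer_eq_top]; exact Subgroup.mem_top _)
  have hnotp : ∀ Z : Subgroup G, IsPGroup q Z → ¬ p ∣ Nat.card Z := fun Z hZ hd => by
    obtain ⟨k, hk⟩ := IsPGroup.iff_card.1 hZ
    rw [hk] at hd
    exact hqp ((Nat.prime_dvd_prime_iff_eq hp.out hq.out).1 (hp.out.dvd_of_dvd_pow hd)).symm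
  have hQM : Q ≤ M := hyp Q (S1480.mem_maxInv.1 mQ).1.2 (hnotp Q (S1480.mem_maxInv.1 mQ).1.1)
  have hKM : piCoreOf (primesNotDvd (Nat.card A)) (Subgroup.centralizer (A : Set G)) ≤ M := by
    refine hyp _ (hscn.2.1.trans (Transit.normalizer_le_core hmin.1 hyp')) fun h => ?_
    exact (Transit.piCoreOf_prime _ p hp.out h).2 (hPn p hp.out (by
      obtain ⟨k, hk⟩ := IsPGroup.iff_card.1 P.isPGroup'
      rw [hk]
      refine dvd_pow_self p fun h0 => hTH.1 (le_bot_iff.1 (hscn.1.trans ?_))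
      exact (Subgroup.card_eq_one.1 (by rw [hk, h0, pow_zero])).le))
  obtain ⟨Q₁, hUQ, m₁⟩ := S1480.exists_max U hU.isPGroup hAU
  obtain ⟨k, hk, rfl⟩ := htr Q (hsub mQ) Q₁ m₁
  refine hUQ.trans ?_
  rintro _ ⟨x, hx, rfl⟩
  exact mul_mem (mul_mem (hKM hk) (hQM hx)) (inv_mem (hKM hk))

/-- The core of the uniqueness criterion. -/
theorem criterion (hG : IsMinSimpleOddOrder G) {M : Subgroup G} (hM : IsCoatom M) {B : Subgroup G}
    (hBM : B ≤ M) (hBp : IsPGroup p B) (hBne : B ≠ ⊥)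
    (hyp : ∀ Y : Subgroup G, B ≤ Subgroup.normalizer (Y : Set G) → ¬ p ∣ Nat.card Y → Y ≤ M)
    {L : Subgroup G} (hL : IsCoatom L) (hBL : B ≤ L) : L = M := by
  have hp2 := ne_two hG hBp hBne
  have hS := hG.2.1
  have hsame : ∀ {H : Subgroup G}, IsCoatom H → H ≤ M → H = M := fun {H} hH hle =>
    ((hH.le_iff.1 hle).resolve_left hM.1).symm
  by_contra hLM
  obtain ⟨⟨L, R⟩, ⟨hL, hLM, hRp, hBR, hRL, hRM⟩, hmax⟩ := Set.exists_max_image
    {x : Subgroup G × Subgroup G | IsCoatom x.1 ∧ x.1 ≠ M ∧ IsPGroup p x.2 ∧ B ≤ x.2 ∧ x.2 ≤ x.1 ∧ x.2 ≤ M}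
    (fun x : Subgroup G × Subgroup G => Nat.card x.2) (Set.toFinite _) ⟨(L, B), hL, hLM, hBp, le_rfl, hBL, hBM⟩
  simp only [Prod.forall, Set.mem_setOf_eq] at hmax
  have hbig : ∀ {H R' : Subgroup G}, IsCoatom H → IsPGroup p R' → R < R' → R' ≤ H → R' ≤ M → H = M := by
    intro H R' hH hR' hlt h1 h2
    by_contra hne
    exact (Solv.card_lt_of_lt hlt).not_ge (hmax H R' ⟨hH, hne, hR', hBR.trans hlt.le, h1, h2⟩)
  have hRne : R ≠ ⊥ := fun h => hBne (le_bot_iff.1 (h ▸ hBR))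
  obtain ⟨hZR, hZne, hNZ⟩ := zjOf_facts hRp
  have hRN : R ≤ Subgroup.normalizer (R : Set G) := Subgroup.le_normalizer
  have hZproper : Subgroup.normalizer (zjOf p R : Set G) ≠ ⊤ :=
    Transit.normalizer_ne_top hS (hZne hRne) (pgroup_ne_top hG (hRp.to_le hZR))
  have hWM : coreP p L ≤ M :=
    hyp _ ((hBR.trans hRL).trans (le_normalizer_coreP L)) (coreP_coprime L)
  have hnotZ : ¬ Subgroup.normalizer (zjOf p R : Set G) ≤ M := by
    intro hN
    refine hLM (hsame hL (le_of_factor_zj hG hp2 hL.1 ?_ hWM (inf_le_right.trans hN)))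
    obtain ⟨T, hT, hRT⟩ := exists_sylIn_ge hRp hRL
    by_cases hne : R = T
    · exact hne ▸ hT
    exfalso
    refine hLM (hbig hL (hT.isPGroup.to_le inf_le_left) (SylIn.normalizer_growth hRT hne hT.isPGroup)
      (inf_le_left.trans hT.1) (inf_le_right.trans (hNZ.trans hN)))
  have hRMsyl : SylIn p R M := by
    obtain ⟨T, hT, hRT⟩ := exists_sylIn_ge hRp hRM
    by_cases hne : R = T
    · exact hne ▸ hT
    exfalso
    obtain ⟨H, hH, hNH⟩ := exists_coatom _ hZproper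
    have h := hbig hH (hT.isPGroup.to_le inf_le_left) (SylIn.normalizer_growth hRT hne hT.isPGroup)
      (inf_le_right.trans (hNZ.trans hNH)) (inf_le_left.trans hT.1)
    exact hnotZ (h ▸ hNH)
  obtain ⟨Y, hYdef⟩ : ∃ Y, Y = coreP p M := ⟨_, rfl⟩
  have hMY : M ≤ Subgroup.normalizer (Y : Set G) := hYdef ▸ le_normalizer_coreP M
  have hYne : Y ≠ ⊥ := by
    intro h0
    refine hnotZ ?_
    have hMle : M ≤ Subgroup.normalizer (zjOf p R : Set G) := by
      refine le_of_factor_zj hG hp2 hM.1 hRMsyl ?_ inf_le_right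
      rw [← hYdef, h0]
      exact bot_le
    exact ((hM.le_iff.1 hMle).resolve_left hZproper).le
  have hYt : Y ≠ ⊤ := fun h => hM.1 (eq_top_iff.2 (h ▸ hYdef ▸ Subgroup.map_subtype_le _))
  have hNY : Subgroup.normalizer (Y : Set G) = M :=
    (hM.le_iff.1 hMY).resolve_left (Transit.normalizer_ne_top hS hYne hYt)
  have hYp : ¬ p ∣ Nat.card Y := hYdef ▸ coreP_coprime M
  have hNR : Subgroup.normalizer (R : Set G) ≤ M := by
    intro x hx
    rw [← hNY]
    refine mem_normalizer_of_cj_le ?_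
    have hRinv : R ≤ Subgroup.normalizer (cj Y x : Set G) := fun r hr => by
      refine mem_normalizer_of_cj_le (le_of_eq ?_)
      have h1 : x⁻¹ * r * x ∈ R := by
        simpa using (Subgroup.mem_normalizer_iff.1 (inv_mem hx) r).1 hr
      rw [cj_cj, show r * x = x * (x⁻¹ * r * x) by group, ← cj_cj, cj_eq_self (hMY (hRM h1))]
    have hcp : ¬ p ∣ Nat.card (cj Y x) := by rwa [Fusion.card_cj]
    rw [hYdef]
    rw [hYdef] at hRinv hcp
    exact invariant_le_coreP hG hp2 hM.1 hRMsyl (hyp _ (hBR.trans hRinv) hcp) hcp hRinv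
  have hRG : ∀ {T : Subgroup G}, IsPGroup p T → R ≤ T → R = T := by
    intro T hT hRT
    by_contra hne
    have h := SylIn.normalizer_growth hRT hne hT
    exact h.ne (hRMsyl.eq_of_le (hT.to_le inf_le_left) h.le (inf_le_right.trans hNR)).symm
  obtain ⟨P, hP⟩ := hRp.exists_le_sylow
  obtain rfl := hRG P.isPGroup' hP
  have hPL : SylIn p (P : Subgroup G) L := (Fusion.sylIn_top P).mono hRL le_top
  by_cases hr : PRankLE p 2 ↥(P : Subgroup G)
  · exact hLM (hsame hL (le_of_factor_rank_two hG hL.1 hPL hr hWM (inf_le_right.trans hNR)))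
  obtain ⟨A₀, hA₀n, hA₀C, hA₀r⟩ := Fact2.exists_scn_three hp2 P.isPGroup' hr
  haveI : IsMulCommutative ↥A₀ := ⟨⟨fun a b => Subtype.ext
    ((Subgroup.mem_centralizer_iff.1 (hA₀C.ge b.2)) a a.2)⟩⟩
  obtain ⟨A, hAdef⟩ : ∃ A, A = A₀.map (P : Subgroup G).subtype := ⟨_, rfl⟩
  have hAc : IsMulCommutative ↥A := hAdef ▸ Subgroup.map_isMulCommutative A₀ _
  have hA3 : ¬ PRankLE p 2 ↥A := fun h => hA₀r (Solv.RankTwo.prankLE_mulEquiv
    ((A₀.equivMapOfInjective _ (Subgroup.subtype_injective _)).trans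
      (MulEquiv.subgroupCongr hAdef.symm)).symm h)
  have hscn : IsSCN (P : Subgroup G) A := by
    subst hAdef
    refine ⟨Subgroup.map_subtype_le A₀, Bender.le_normalizer_map A₀, le_antisymm ?_ ?_⟩
    · rintro x ⟨hxT, hxC⟩
      refine ⟨⟨x, hxT⟩, ?_, rfl⟩
      show (⟨x, hxT⟩ : ↥(P : Subgroup G)) ∈ A₀
      rw [← hA₀C]
      exact Subgroup.mem_centralizer_iff.2 fun a ha =>
        Subtype.ext (Subgroup.mem_centralizer_iff.1 hxC _ ⟨a, ha, rfl⟩)
    · haveI := hAc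
      exact le_inf (Subgroup.map_subtype_le A₀) (Subgroup.le_centralizer _)
  have hd : p ∣ Nat.card G := by
    obtain ⟨k, hk⟩ := IsPGroup.iff_card.1 hBp
    refine dvd_trans ?_ (Subgroup.card_subgroup_dvd_card B)
    rw [hk]
    exact dvd_pow_self p fun h0 => hBne (Subgroup.card_eq_one.1 (by rw [hk, h0, pow_zero]))
  refine hLM (hsame hL (le_of_factor_abelian hG hp2 hL.1 hPL hAc hscn.1 hscn.2.1 hWM
    fun R₀ hAR₀ hR₀P => inf_le_right.trans fun g hg => ?_))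
  rw [← hNY]
  refine mem_normalizer_of_cj_le ?_
  have hAinv : A ≤ Subgroup.normalizer (cj Y g : Set G) := fun r hr => by
    refine mem_normalizer_of_cj_le (le_of_eq ?_)
    have h1 : g⁻¹ * r * g ∈ R₀ := by
      simpa using (Subgroup.mem_normalizer_iff.1 (inv_mem hg) r).1 (hAR₀ hr)
    rw [cj_cj, show r * g = g * (g⁻¹ * r * g) by group, ← cj_cj, cj_eq_self (hMY (hRM (hR₀P h1)))]
  have hcp : ¬ p ∣ Nat.card (cj Y g) := by rwa [Fusion.card_cj]
  have hYgM : cj Y g ≤ M := scn_invariant_le hG P hscn hAc hA3 hd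
    (fun Z hPZ hZ => hyp Z (hBR.trans hPZ) hZ) hcp hAinv
  have hAM : A ≤ M := hscn.1.trans hRM
  haveI hAc' : IsMulCommutative ↥(A.subgroupOf M) := ⟨⟨fun u v => by
    have h := congrArg Subtype.val (hAc.is_comm.comm (⟨u.1.1, u.2⟩ : A) ⟨v.1.1, v.2⟩)
    exact Subtype.ext (Subtype.ext h)⟩⟩
  have h := Fusion.invariant_le_pPrimeCore_prime (Transit.pConstrained_of_solvable p (hG.2.2.2 M hM.1))
    (E := A.subgroupOf M) (Q := (cj Y g).subgroupOf M) (P.isPGroup'.to_le hscn.1).comap_subtype hAc'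
    (fun x hx hxp => by
      refine Transit.mem_of_scn hscn (Subgroup.mem_centralizer_iff.2 fun a ha =>
        congrArg Subtype.val (hx ⟨a, hAM ha⟩ ha)) ?_
      intro y
      obtain ⟨y, i, rfl⟩ := y
      refine ⟨1, Subtype.ext ?_⟩
      have hxp' : (x : G) ^ p = 1 := congrArg Subtype.val hxp
      show ((x : G) ^ i) ^ p ^ 1 = 1
      rw [pow_one, ← zpow_natCast, ← zpow_mul, mul_comm, zpow_mul, zpow_natCast, hxp', one_zpow])
    (by rw [Solv.card_subgroupOf hYgM]; exact hcp)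
    (fun a ha => mem_normalizer_of_cj_le (by
      rintro _ ⟨y, hy, rfl⟩
      exact ((Subgroup.mem_normalizer_iff.1 (hAinv ha) _).1 hy : (a : G) * y * (a : G)⁻¹ ∈ cj Y g)))
    hp2
  intro y hy
  rw [hYdef]
  exact ⟨⟨y, hYgM hy⟩, h hy, rfl⟩

theorem centralizers_imp_invariant {M B : Subgroup G} (hBe : IsElementaryAbelian p B) (hB : p ^ 2 ≤ Nat.card B)
    (h : ∀ b ∈ B, b ≠ 1 → Subgroup.centralizer ({b} : Set G) ≤ M) {Y : Subgroup G}
    (hBY : B ≤ Subgroup.normalizer (Y : Set G)) (hY : ¬ p ∣ Nat.card Y) : Y ≤ M := by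
  refine (Solv.gen_eq B Y hBe.1 hBY (Fusion.elab_coprime hBe hY)).ge.trans (iSup₂_le fun B' hB' => ?_)
  obtain ⟨b, hb, hb1⟩ : ∃ b ∈ B', b ≠ 1 := by
    by_contra hno
    push Not at hno
    have hle := Fusion.card_le_mul_of_cycQuot hBe hB'
    rw [(Subgroup.eq_bot_iff_forall B').2 hno, Subgroup.card_bot, mul_one] at hle
    have := (Nat.pow_lt_pow_right hp.out.one_lt (show 1 < 2 by omega))
    rw [pow_one] at this
    omega
  exact inf_le_right.trans ((Subgroup.centralizer_le (Set.singleton_subset_iff.2 hb)).trans (h b (hB'.1 hb) hb1))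

theorem sq_le_card_of_noncyclic {B : Subgroup G} (hBp : IsPGroup p B) (hnc : ¬ IsCyclic B) :
    p ^ 2 ≤ Nat.card B := by
  obtain ⟨k, hk⟩ := IsPGroup.iff_card.1 hBp
  rcases Nat.lt_or_ge k 2 with h | h
  · interval_cases k
    · rw [pow_zero] at hk
      haveI : Subsingleton ↥B := (Nat.card_eq_one_iff_unique.1 hk).1
      exact absurd isCyclic_of_subsingleton hnc
    · exact absurd (isCyclic_of_prime_card (by rw [hk, pow_one] : Nat.card B = p)) hnc
  · rw [hk]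
    exact Nat.pow_le_pow_right hp.out.pos h

theorem elementary_criterion (hG : IsMinSimpleOddOrder G) {M : Subgroup G} (hM : IsCoatom M) {B : Subgroup G}
    (hBM : B ≤ M) (hBe : IsElementaryAbelian p B) (hnc : ¬ IsCyclic B)
    (h : (∀ b ∈ B, b ≠ 1 → Subgroup.centralizer ({b} : Set G) ≤ M) ∨
      ∀ Y ∈ invSubgroups ⊤ B (primesNotDvd p), Y ≤ M) : InUniqueMaximal B := by
  have hBp := Fusion.elab_isPGroup hBe
  have hsq := sq_le_card_of_noncyclic hBp hnc
  have hBne : B ≠ ⊥ := fun h0 => by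
    rw [h0, Subgroup.card_bot] at hsq
    exact absurd hsq (not_le.2 (Nat.one_lt_pow two_ne_zero hp.out.one_lt))
  refine ⟨M, ⟨hM, hBM⟩, fun L hL => criterion hG hM hBM hBp hBne ?_ hL.1 hL.2⟩
  intro Y hBY hY
  rcases h with h | h
  · exact centralizers_imp_invariant hBe hsq h hBY hY
  · refine h Y ⟨le_top, fun r hr hd => ⟨hr, fun hrp => hY ?_⟩, hBY⟩
    rwa [(Nat.prime_dvd_prime_iff_eq hr hp.out).1 hrp] at hd

end Cfsg.Agent.OddLocal.Uniq
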