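import Cfsg.Agent.Lib.OddLocal.UniquenessBasics

/-!
Points and lines of an elementary abelian group of order `p³`.
-/

set_option autoImplicit false

namespace Cfsg.Agent.OddLocal.Uniq.Geo

open Cfsg

universe u

variable {G : Type u} [Group G] [Finite G] {p : ℕ} [hp : Fact p.Prime] {E : Subgroup G}

/-- The setting. -/
structure IsCube (p : ℕ) (E : Subgroup G) : Prop where
  el : IsElementaryAbelian p E
  card : Nat.card E = p ^ 3
  odd : p ≠ 2

/-- A line of `E`. -/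
structure IsLine (p : ℕ) (E B : Subgroup G) : Prop where
  le : B ≤ E
  card : Nat.card B = p ^ 2

omit [Finite G] hp in
theorem IsCube.comm (h : IsCube p E) {a b : G} (ha : a ∈ E) (hb : b ∈ E) : a * b = b * a :=
  congrArg Subtype.val (h.el.1.is_comm.comm (⟨a, ha⟩ : E) ⟨b, hb⟩)

omit [Finite G] hp in
theorem IsCube.le_normalizer (h : IsCube p E) {X : Subgroup G} (hX : X ≤ E) :
    E ≤ Subgroup.normalizer (X : Set G) := fun a ha =>
  Subgroup.centralizer_le_normalizer _ (Subgroup.mem_centralizer_iff.2 fun x hx => h.comm (hX hx) ha)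

omit [Finite G] in
theorem IsCube.order (h : IsCube p E) {x : G} (hx : x ∈ E) (hx1 : x ≠ 1) : orderOf x = p :=
  orderOf_eq_prime (h.el.2 x hx) hx1

omit hp in
theorem zpowers_eq_of_prime {r : ℕ} (hr : r.Prime) {x y : G} (hx : orderOf x = r)
    (hy : y ∈ Subgroup.zpowers x) (hy1 : y ≠ 1) : Subgroup.zpowers y = Subgroup.zpowers x := by
  refine Subgroup.eq_of_le_of_card_ge (Subgroup.zpowers_le.2 hy) ?_
  rw [Nat.card_zpowers, Nat.card_zpowers, hx]
  haveI := Fact.mk hr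
  rw [orderOf_eq_prime (show y ^ r = 1 from by
    obtain ⟨i, rfl⟩ := Subgroup.mem_zpowers_iff.1 hy
    rw [← zpow_natCast, ← zpow_mul, mul_comm, zpow_mul, zpow_natCast, ← hx, pow_orderOf_eq_one, one_zpow]) hy1]

theorem IsCube.mem_zpowers_symm (h : IsCube p E) {x y : G} (hx : x ∈ E) (hy : y ∈ Subgroup.zpowers x)
    (hy1 : y ≠ 1) : x ∈ Subgroup.zpowers y := by
  have hx1 : x ≠ 1 := fun h1 => hy1 (by
    rw [h1, Subgroup.zpowers_one_eq_bot, Subgroup.mem_bot] at hy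
    exact hy)
  rw [zpowers_eq_of_prime hp.out (h.order hx hx1) hy hy1]
  exact Subgroup.mem_zpowers x

theorem IsCube.inf_zpowers (h : IsCube p E) {X : Subgroup G} {x : G} (hx : x ∈ E) (hxX : x ∉ X) :
    X ⊓ Subgroup.zpowers x = ⊥ := by
  refine (Subgroup.eq_bot_iff_forall _).2 fun y hy => ?_
  by_contra hy1
  exact hxX ((Subgroup.zpowers_le.2 hy.1) (h.mem_zpowers_symm hx hy.2 hy1))

theorem IsCube.card_adjoin (h : IsCube p E) {X : Subgroup G} (hX : X ≤ E) {x : G} (hx : x ∈ E)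
    (hxX : x ∉ X) : Nat.card (X ⊔ Subgroup.zpowers x : Subgroup G) = Nat.card X * p := by
  have h1 := Solv.card_sup_mul_card_inf' X (Subgroup.zpowers x)
    ((Subgroup.zpowers_le.2 hx).trans (h.le_normalizer hX))
  rw [h.inf_zpowers hx hxX, Subgroup.card_bot, mul_one, Nat.card_zpowers,
    h.order hx fun h1 => hxX (h1 ▸ one_mem X)] at h1
  exact h1

theorem IsCube.adjoin_eq (h : IsCube p E) {B : Subgroup G} (hB : IsLine p E B) {x : G} (hx : x ∈ E)
    (hxB : x ∉ B) : B ⊔ Subgroup.zpowers x = E := by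
  refine Subgroup.eq_of_le_of_card_ge (sup_le hB.le (Subgroup.zpowers_le.2 hx)) ?_
  rw [h.card_adjoin hB.le hx hxB, hB.card, h.card, ← pow_succ]

/-- The line through two points. -/
theorem IsCube.isLine_join (h : IsCube p E) {c x : G} (hc : c ∈ E) (hc1 : c ≠ 1) (hx : x ∈ E)
    (hxc : x ∉ Subgroup.zpowers c) : IsLine p E (Subgroup.zpowers c ⊔ Subgroup.zpowers x) :=
  ⟨sup_le (Subgroup.zpowers_le.2 hc) (Subgroup.zpowers_le.2 hx), by
    rw [h.card_adjoin (Subgroup.zpowers_le.2 hc) hx hxc, Nat.card_zpowers, h.order hc hc1, ← sq]⟩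

theorem IsCube.line_eq_join (h : IsCube p E) {B : Subgroup G} (hB : IsLine p E B) {c x : G} (hc : c ∈ B)
    (hc1 : c ≠ 1) (hx : x ∈ B) (hxc : x ∉ Subgroup.zpowers c) :
    B = Subgroup.zpowers c ⊔ Subgroup.zpowers x :=
  (Subgroup.eq_of_le_of_card_ge (sup_le (Subgroup.zpowers_le.2 hc) (Subgroup.zpowers_le.2 hx))
    (by rw [(h.isLine_join (hB.le hc) hc1 (hB.le hx) hxc).card, hB.card])).symm

theorem IsCube.eq_of_two (h : IsCube p E) {B B' : Subgroup G} (hB : IsLine p E B) (hB' : IsLine p E B')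
    {c x : G} (hc1 : c ≠ 1) (hxc : x ∉ Subgroup.zpowers c) (hcB : c ∈ B) (hxB : x ∈ B) (hcB' : c ∈ B')
    (hxB' : x ∈ B') : B = B' := by
  rw [h.line_eq_join hB hcB hc1 hxB hxc, h.line_eq_join hB' hcB' hc1 hxB' hxc]

theorem IsCube.mem_zpowers_of_two_lines (h : IsCube p E) {B B' : Subgroup G} (hB : IsLine p E B)
    (hB' : IsLine p E B') (hne : B ≠ B') {c x : G} (hc1 : c ≠ 1) (hcB : c ∈ B) (hxB : x ∈ B)
    (hcB' : c ∈ B') (hxB' : x ∈ B') : x ∈ Subgroup.zpowers c := by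
  by_contra hxc
  exact hne (h.eq_of_two hB hB' hc1 hxc hcB hxB hcB' hxB')

omit hp in
theorem exists_not_mem_line {B B' : Subgroup G} (hB : IsLine p E B) (hB' : IsLine p E B') (hne : B ≠ B') :
    ∃ x ∈ B', x ∉ B := by
  by_contra hno
  push Not at hno
  exact hne (Subgroup.eq_of_le_of_card_ge hno (by rw [hB.card, hB'.card])).symm

theorem IsCube.sup_eq (h : IsCube p E) {B B' : Subgroup G} (hB : IsLine p E B) (hB' : IsLine p E B')
    (hne : B ≠ B') : B ⊔ B' = E := by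
  obtain ⟨x, hx', hx⟩ := exists_not_mem_line hB hB' hne
  refine le_antisymm (sup_le hB.le hB'.le) ?_
  rw [← h.adjoin_eq hB (hB'.le hx') hx]
  exact sup_le_sup_left (Subgroup.zpowers_le.2 hx') _

theorem IsCube.exists_common (h : IsCube p E) {B B' : Subgroup G} (hB : IsLine p E B) (hB' : IsLine p E B') :
    ∃ b ∈ B, b ∈ B' ∧ b ≠ 1 := by
  by_contra hno
  push Not at hno
  have h1 := Solv.card_sup_mul_card_inf' B B' (hB'.le.trans (h.le_normalizer hB.le))
  rw [(Subgroup.eq_bot_iff_forall (B ⊓ B')).2 (fun b hb => hno b hb.1 hb.2), Subgroup.card_bot, mul_one,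
    hB.card, hB'.card, ← pow_add] at h1
  have h2 := Subgroup.card_le_of_le (sup_le hB.le hB'.le : B ⊔ B' ≤ E)
  rw [h1, h.card] at h2
  have := Nat.pow_lt_pow_right hp.out.one_lt (show 3 < 2 + 2 by omega)
  omega

/-- Three lines do not cover. -/
theorem IsCube.exists_avoid (h : IsCube p E) {B₁ B₂ B₃ : Subgroup G} (h₁ : IsLine p E B₁)
    (h₂ : IsLine p E B₂) (h₃ : IsLine p E B₃) : ∃ x ∈ E, x ∉ B₁ ∧ x ∉ B₂ ∧ x ∉ B₃ := by
  by_contra hno
  push Not at hno
  have hp3 : 3 ≤ p := by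
    have := hp.out.two_le
    have := h.odd
    omega
  have hsub : (E : Set G) ⊆ (B₁ : Set G) ∪ ((B₂ : Set G) \ {1}) ∪ ((B₃ : Set G) \ {1}) := by
    intro x hx
    by_cases hx1 : x ∈ B₁
    · exact Or.inl (Or.inl hx1)
    · have hne : x ≠ 1 := fun h1 => hx1 (h1 ▸ one_mem B₁)
      by_cases hx2 : x ∈ B₂
      · exact Or.inl (Or.inr ⟨hx2, hne⟩)
      · exact Or.inr ⟨hno x hx hx1 hx2, hne⟩
  have hcard := (Set.ncard_le_ncard hsub (Set.toFinite _)).trans
    ((Set.ncard_union_le _ _).trans (Nat.add_le_add_right (Set.ncard_union_le _ _) _))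
  rw [Set.ncard_sdiff_singleton_of_mem (one_mem B₂), Set.ncard_sdiff_singleton_of_mem (one_mem B₃)] at hcard
  have e : ∀ (X : Subgroup G), (X : Set G).ncard = Nat.card X := fun X => (Nat.card_coe_set_eq _).symm
  rw [e, e, e, e, h.card, h₁.card, h₂.card, h₃.card] at hcard
  have h4 : 3 * p ^ 2 ≤ p ^ 3 := by rw [pow_succ' p 2]; exact Nat.mul_le_mul_right _ hp3
  have h5 : 1 ≤ p ^ 2 := Nat.one_le_pow _ _ hp.out.pos
  omega

theorem IsCube.exists_line_through (h : IsCube p E) {B₁ B₂ B₃ : Subgroup G} (h₁ : IsLine p E B₁)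
    (h₂ : IsLine p E B₂) (h₃ : IsLine p E B₃) {c : G} (hc : c ∈ B₁) (hc1 : c ≠ 1) :
    ∃ a : Subgroup G, IsLine p E a ∧ c ∈ a ∧ a ≠ B₁ ∧ a ≠ B₂ ∧ a ≠ B₃ := by
  obtain ⟨x, hx, hx₁, hx₂, hx₃⟩ := h.exists_avoid h₁ h₂ h₃
  have hxc : x ∉ Subgroup.zpowers c := fun hh => hx₁ ((Subgroup.zpowers_le.2 hc) hh)
  refine ⟨_, h.isLine_join (h₁.le hc) hc1 hx hxc, Subgroup.mem_sup_left (Subgroup.mem_zpowers c), ?_, ?_, ?_⟩
  all_goals
    intro he
    have hxa : x ∈ Subgroup.zpowers c ⊔ Subgroup.zpowers x := Subgroup.mem_sup_right (Subgroup.mem_zpowers x)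
    rw [he] at hxa
    first | exact hx₁ hxa | exact hx₂ hxa | exact hx₃ hxa

theorem IsCube.exists_second_point (h : IsCube p E) {B : Subgroup G} (hB : IsLine p E B) {c : G}
    (hc : c ∈ B) : ∃ y ∈ B, y ∉ Subgroup.zpowers c := by
  by_contra hno
  push Not at hno
  have h1 := Subgroup.card_le_of_le (hno : B ≤ Subgroup.zpowers c)
  rw [hB.card, Nat.card_zpowers] at h1
  have h2 : orderOf c ≤ p :=
    Nat.le_of_dvd hp.out.pos (orderOf_dvd_of_pow_eq_one (h.el.2 c (hB.le hc)))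
  have h3 := Nat.pow_lt_pow_right hp.out.one_lt (show 1 < 2 by omega)
  rw [pow_one] at h3
  omega

theorem commute_of_sup {B B' : Subgroup G} {u : G} (hB : ∀ b ∈ B, b * u = u * b)
    (hB' : ∀ b ∈ B', b * u = u * b) : ∀ e ∈ B ⊔ B', e * u = u * e := by
  have h : B ⊔ B' ≤ Subgroup.centralizer {u} :=
    sup_le (fun b hb => Subgroup.mem_centralizer_singleton_iff.2 (hB b hb))
      (fun b hb => Subgroup.mem_centralizer_singleton_iff.2 (hB' b hb))
  exact fun _ he => Subgroup.mem_centralizer_singleton_iff.1 (h he)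

end Cfsg.Agent.OddLocal.Uniq.Geo
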