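import Cfsg.Agent.Lib.OddLocal.FittingUniqueness
import Cfsg.Agent.Lib.Fusion.AlperinOmega
import Cfsg.Agent.Lib.Solv.RankTwoFitting

/-!
Characteristic subgroups of exponent `q` all whose noncyclic subgroups are uniqueness subgroups.
-/

set_option autoImplicit false

namespace Cfsg.Agent.OddLocal.Uniq

open Cfsg
open scoped commutatorElement
open Cfsg.Agent.Fusion (cj cj_eq_self mem_normalizer_of_cj_le)

universe u

variable {G : Type u} [Group G] [Finite G] {q : ℕ} [hq : Fact q.Prime]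

theorem mem_pCoreOf_of_fitting {L : Subgroup G} {x : G} (hx : x ∈ fittingOf L) (hxq : x ^ q = 1) :
    x ∈ pCoreOf q L := by
  obtain ⟨y, hy, rfl⟩ := hx
  refine ⟨y, ?_, rfl⟩
  have hyq : y ^ q = 1 := L.subtype_injective (by rw [map_pow, hxq, map_one])
  rw [Bender.fitting_eq_sup (p := q)] at hy
  haveI : (pCore q ↥L).Normal := Solv.pCore_normal q
  obtain ⟨a, ha, b, hb, rfl⟩ := Subgroup.mem_sup_of_normal_left.1 hy
  have hb' := Bender.iSup_pCore_le_pPrimeCore hb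
  have hab : Commute a b := Subgroup.mem_centralizer_iff.1 (Fusion.pPrimeCore_commutes_pCore hb') a ha
  have h1 : b ^ q ∈ pPrimeCore q ↥L ⊓ pCore q ↥L := by
    refine Subgroup.mem_inf.2 ⟨pow_mem hb' q, ?_⟩
    rw [hab.mul_pow] at hyq
    rw [show b ^ q = (a ^ q)⁻¹ from (eq_inv_of_mul_eq_one_right hyq)]
    exact inv_mem (pow_mem ha q)
  rw [Fusion.coprime_inf_pGroup (Fusion.card_pPrimeCore_coprime q _) (Fusion.isPGroup_pCore q _),
    Subgroup.mem_bot] at h1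
  have hb1 : b = 1 := orderOf_eq_one_iff.1
    (Nat.eq_one_of_dvd_coprimes (Fusion.mem_pPrimeCore_orderOf hb') dvd_rfl (orderOf_dvd_of_pow_eq_one h1))
  rw [hb1, mul_one]
  exact ha

theorem mem_pCoreOf_pow {L : Subgroup G} {x : G} {k : ℕ} (hx : x ∈ fittingOf L) (hxq : x ^ q ^ k = 1) :
    x ∈ pCoreOf q L := by
  obtain ⟨y, hy, rfl⟩ := hx
  refine ⟨y, ?_, rfl⟩
  have hyq : y ^ q ^ k = 1 := L.subtype_injective (by rw [map_pow, hxq, map_one])
  rw [Bender.fitting_eq_sup (p := q)] at hy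
  haveI : (pCore q ↥L).Normal := Solv.pCore_normal q
  obtain ⟨a, ha, b, hb, rfl⟩ := Subgroup.mem_sup_of_normal_left.1 hy
  have hb' := Bender.iSup_pCore_le_pPrimeCore hb
  have hab : Commute a b := Subgroup.mem_centralizer_iff.1 (Fusion.pPrimeCore_commutes_pCore hb') a ha
  have h1 : b ^ q ^ k ∈ pPrimeCore q ↥L ⊓ pCore q ↥L := by
    refine Subgroup.mem_inf.2 ⟨pow_mem hb' _, ?_⟩
    rw [hab.mul_pow] at hyq
    rw [show b ^ q ^ k = (a ^ q ^ k)⁻¹ from (eq_inv_of_mul_eq_one_right hyq)]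
    exact inv_mem (pow_mem ha _)
  rw [Fusion.coprime_inf_pGroup (Fusion.card_pPrimeCore_coprime q _) (Fusion.isPGroup_pCore q _),
    Subgroup.mem_bot] at h1
  have hb1 : b = 1 := orderOf_eq_one_iff.1 (Nat.eq_one_of_dvd_coprimes
    ((Fusion.mem_pPrimeCore_orderOf hb').pow_right k) dvd_rfl (orderOf_dvd_of_pow_eq_one h1))
  rw [hb1, mul_one]
  exact ha

/-- The data attached to a maximal subgroup with large `q`-rank in the Fitting subgroup. -/
structure IsNode (M : Subgroup G) (q : ℕ) (D : Subgroup G) : Prop where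
  coatom : IsCoatom M
  prime : q.Prime
  le : D ≤ M
  inv : M ≤ Subgroup.normalizer (D : Set G)
  expo : ∀ x ∈ D, x ^ q = 1
  uniq : ∀ X : Subgroup G, X ≤ D → ¬ IsCyclic X → InUniqueMaximal X
  noncyclic : ¬ IsCyclic D
  shape : IsMulCommutative D ∨ ∃ z ∈ D, z ≠ 1 ∧ M ≤ Subgroup.normalizer (Subgroup.zpowers z : Set G)

theorem exists_node (hG : IsMinSimpleOddOrder G) {M : Subgroup G} (hM : IsCoatom M)
    (hF : ¬ PRankLE q 2 ↥(fittingOf M)) : ∃ D, IsNode M q D := by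
  obtain ⟨E₀, hE₀F, hE₀e, hE₀⟩ := exists_elab_of_prank hF
  have h2 : q ^ 2 ≤ q ^ (2 + 1) := Nat.pow_le_pow_right hq.out.pos (by omega)
  have hq2 := ne_two_of_elab hG hE₀e (h2.trans hE₀)
  have hE₀U : InUniqueMaximal E₀ := iu_of_fitting_rank hG hM hF (Fusion.elab_isPGroup hE₀e) hE₀e.1
    (not_prankLE_of_elab le_rfl hE₀e hE₀)
  obtain ⟨T, hT⟩ : ∃ T, T = pCoreOf q M := ⟨_, rfl⟩
  have hTp : IsPGroup q T := hT ▸ Bender.isPGroup_pCoreOf M
  have hMT : M ≤ Subgroup.normalizer (T : Set G) := hT ▸ Bender.le_normalizer_pCoreOf M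
  have hTM : T ≤ M := hT ▸ Subgroup.map_subtype_le _
  have hE₀T : E₀ ≤ T := fun x hx => hT ▸ mem_pCoreOf_of_fitting (hE₀F hx) (hE₀e.2 x hx)
  obtain ⟨W, hWT, hTW, hWe, hWc⟩ := exists_normal_sq hq2 hTp hE₀T hE₀e (h2.trans hE₀)
  have hconjT : ∀ m ∈ M, ∀ t ∈ T, m⁻¹ * t * m ∈ T := fun m hm t ht => by
    simpa using (Subgroup.mem_normalizer_iff.1 (inv_mem (hMT hm)) t).1 ht
  let Z₁ : Subgroup G :=
    { carrier := {x | x ∈ T ∧ x ^ q = 1 ∧ ∀ t ∈ T, t * x = x * t}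
      one_mem' := ⟨one_mem T, one_pow q, fun t _ => by rw [mul_one, one_mul]⟩
      mul_mem' := fun {a b} ha hb => ⟨mul_mem ha.1 hb.1, by
        rw [(show Commute a b from (hb.2.2 a ha.1)).mul_pow, ha.2.1, hb.2.1, one_mul], fun t ht =>
        ((show Commute t a from ha.2.2 t ht).mul_right (hb.2.2 t ht)).eq⟩
      inv_mem' := fun {a} ha => ⟨inv_mem ha.1, by rw [inv_pow, ha.2.1, inv_one], fun t ht =>
        (show Commute t a from ha.2.2 t ht).inv_right.eq⟩ }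
  have hZ₁mem : ∀ {x}, x ∈ Z₁ ↔ x ∈ T ∧ x ^ q = 1 ∧ ∀ t ∈ T, t * x = x * t := Iff.rfl
  have hMZ₁ : M ≤ Subgroup.normalizer (Z₁ : Set G) := fun m hm => mem_normalizer_of_cj_le (by
    rintro _ ⟨x, hx, rfl⟩
    refine ⟨(Subgroup.mem_normalizer_iff.1 (hMT hm) x).1 hx.1, ?_, fun t ht => ?_⟩
    · show (m * x * m⁻¹) ^ q = 1
      rw [conj_pow, hx.2.1, mul_one, mul_inv_cancel]
    · show t * (m * x * m⁻¹) = m * x * m⁻¹ * t
      calc t * (m * x * m⁻¹) = m * ((m⁻¹ * t * m) * x) * m⁻¹ := by group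
        _ = m * (x * (m⁻¹ * t * m)) * m⁻¹ := by rw [hx.2.2 _ (hconjT m hm t ht)]
        _ = m * x * m⁻¹ * t := by group)
  have hrk : ∀ X : Subgroup G, IsPGroup q X → ¬ IsCyclic X → ¬ RankLE 1 ↥X := fun X h1 h2 =>
    not_rankLE_one_of_noncyclic hq2 h1 h2
  by_cases hZc : IsCyclic Z₁
  swap
  · refine ⟨Z₁, hM, hq.out, fun x hx => hTM hx.1, hMZ₁, fun x hx => hx.2.1, fun X hX hXnc => ?_, hZc,
      Or.inl ⟨⟨fun a b => Subtype.ext (b.2.2.2 a a.2.1)⟩⟩⟩
    refine iu_of_commute hG hE₀U (fun x hx => Subgroup.mem_centralizer_iff.2 fun e he =>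
      (hX hx).2.2 e (hE₀T he)) (hrk X (hTp.to_le fun x hx => (hX hx).1) hXnc)
  -- the centre has cyclic socle
  have hTne : T ≠ ⊥ := fun h => by
    have h3 := hE₀.trans (Subgroup.card_le_of_le (hE₀T.trans h.le))
    rw [Subgroup.card_bot] at h3
    exact absurd h3 (not_le.2 (Nat.one_lt_pow (by omega) hq.out.one_lt))
  obtain ⟨z, hzW, hzo, hzc⟩ := LocalEven.exists_central_order (p := q) hTp hWT hTW (fun h => by
    rw [h, Subgroup.card_bot] at hWc
    exact absurd hWc.symm.le (not_le.2 (Nat.one_lt_pow two_ne_zero hq.out.one_lt)))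
  have hzZ : z ∈ Z₁ := ⟨hWT hzW, hzo ▸ pow_orderOf_eq_one z, hzc⟩
  have hz1 : z ≠ 1 := fun h => hq.out.ne_one (by rw [← hzo, h, orderOf_one])
  have hZ₁z : Z₁ = Subgroup.zpowers z := by
    refine (Subgroup.eq_of_le_of_card_ge (Subgroup.zpowers_le.2 hzZ) ?_).symm
    haveI := hZc
    obtain ⟨g, hg⟩ := IsCyclic.exists_generator (α := ↥Z₁)
    rw [Nat.card_zpowers, hzo, ← orderOf_eq_card_of_forall_mem_zpowers hg]
    exact Nat.le_of_dvd hq.out.pos (orderOf_dvd_of_pow_eq_one (Subtype.ext g.2.2.1))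
  have hcen : ∀ {c}, c ∈ Z₁ → ∀ t ∈ T, Commute c t := fun hc t ht => (hc.2.2 t ht).symm
  have hcpow : ∀ {x t}, x ∈ T → x ^ q = 1 → t ∈ T → (∀ s ∈ T, s * ⁅x, t⁆ = ⁅x, t⁆ * s) → ⁅x, t⁆ ∈ Z₁ := by
    intro x t hx hxq ht hc
    refine ⟨?_, Fusion.commutatorElement_pow_eq_one (hc x hx).symm (by rw [hxq]; exact Commute.one_left t), hc⟩
    rw [commutatorElement_def]
    exact mul_mem (mul_mem (mul_mem hx ht) (inv_mem hx)) (inv_mem ht)
  let D : Subgroup G :=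
    { carrier := {x | x ∈ T ∧ x ^ q = 1 ∧ ∀ t ∈ T, ∀ s ∈ T, s * ⁅x, t⁆ = ⁅x, t⁆ * s}
      one_mem' := ⟨one_mem T, one_pow q, fun t _ s _ => by rw [commutatorElement_one_left, mul_one, one_mul]⟩
      mul_mem' := fun {a b} ha hb => by
        have hbT := hb.1
        have hc := hcpow hb.1 hb.2.1 ha.1 (hb.2.2 a ha.1)
        refine ⟨mul_mem ha.1 hb.1, ?_, fun t ht s hs => ?_⟩
        · rw [Fusion.mul_pow_of_central (hcen hc a ha.1) (hcen hc b hb.1), ha.2.1, hb.2.1, one_mul, one_mul]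
          obtain ⟨m, hm⟩ : q ∣ q.choose 2 := hq.out.dvd_choose_self two_ne_zero
            (lt_of_le_of_ne hq.out.two_le (Ne.symm hq2))
          rw [hm, pow_mul, hc.2.1, one_pow]
        · have e : ⁅a * b, t⁆ = ⁅b, t⁆ * ⁅a, t⁆ := by
            have h1 : a * ⁅b, t⁆ = ⁅b, t⁆ * a := hb.2.2 t ht a ha.1
            rw [show ⁅a * b, t⁆ = a * ⁅b, t⁆ * a⁻¹ * ⁅a, t⁆ by simp only [commutatorElement_def]; group,
              h1, mul_inv_cancel_right]
          rw [e]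
          exact ((show Commute s ⁅b, t⁆ from hb.2.2 t ht s hs).mul_right (ha.2.2 t ht s hs)).eq
      inv_mem' := fun {a} ha => by
        refine ⟨inv_mem ha.1, by rw [inv_pow, ha.2.1, inv_one], fun t ht s hs => ?_⟩
        have h1 : a * ⁅a, t⁆ = ⁅a, t⁆ * a := ha.2.2 t ht a ha.1
        have e : ⁅a⁻¹, t⁆ = ⁅a, t⁆⁻¹ := by
          rw [show ⁅a⁻¹, t⁆ = a⁻¹ * ⁅a, t⁆⁻¹ * a by simp only [commutatorElement_def]; group,
            mul_assoc, ← ((show Commute a ⁅a, t⁆ from h1).inv_right).eq, inv_mul_cancel_left]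
        rw [e]
        exact ((show Commute s ⁅a, t⁆ from ha.2.2 t ht s hs).inv_right).eq }
  have hWD : W ≤ D := by
    intro w hw
    have hwq : w ^ q = 1 := hWe.2 w hw
    refine ⟨hWT hw, hwq, fun t ht s hs => ?_⟩
    have hN : (Subgroup.zpowers (⟨z, hWT hzW⟩ : ↥T)).Normal := by
      refine ⟨fun n hn g => ?_⟩
      obtain ⟨i, rfl⟩ := Subgroup.mem_zpowers_iff.1 hn
      refine Subgroup.mem_zpowers_iff.2 ⟨i, ?_⟩
      rw [(show Commute g (⟨z, hWT hzW⟩ : ↥T) from Subtype.ext (hzc g g.2)).zpow_right i |>.eq,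
        mul_inv_cancel_right]
    obtain ⟨N, hNdef⟩ : ∃ N, N = Subgroup.zpowers (⟨z, hWT hzW⟩ : ↥T) := ⟨_, rfl⟩
    haveI : N.Normal := hNdef ▸ hN
    haveI : (W.subgroupOf T).Normal := (Subgroup.normal_subgroupOf_iff_le_normalizer hWT).2 hTW
    haveI : ((W.subgroupOf T).map (QuotientGroup.mk' N)).Normal :=
      Subgroup.Normal.map inferInstance _ (QuotientGroup.mk'_surjective N)
    have hcard : Nat.card ((W.subgroupOf T).map (QuotientGroup.mk' N)) ≤ q := by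
      have hle : N ≤ W.subgroupOf T := by rw [hNdef]; exact Subgroup.zpowers_le.2 hzW
      have hNq : Nat.card N = q := by rw [hNdef, Nat.card_zpowers, Subgroup.orderOf_mk, hzo]
      have h1 : N.relIndex (W.subgroupOf T) = Nat.card ((W.subgroupOf T).map (QuotientGroup.mk' N)) := by
        rw [← Subgroup.relIndex_ker, QuotientGroup.ker_mk']
      have h2 := Subgroup.relIndex_mul_relIndex ⊥ N (W.subgroupOf T) bot_le hle
      rw [Subgroup.relIndex_bot_left, Subgroup.relIndex_bot_left, Solv.card_subgroupOf hWT, hWc, h1,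
        hNq, sq] at h2
      exact (Nat.eq_of_mul_eq_mul_left hq.out.pos h2).le
    have hc := Fusion.le_center_of_card_prime (hTp.to_quotient N) _ hcard
      (Subgroup.mem_map_of_mem (QuotientGroup.mk' N) (show (⟨w, hWT hw⟩ : ↥T) ∈ W.subgroupOf T from hw))
    have h1 : (⁅(⟨w, hWT hw⟩ : ↥T), ⟨t, ht⟩⁆) ∈ N := by
      rw [← QuotientGroup.eq_one_iff]
      show QuotientGroup.mk' N ⁅(⟨w, hWT hw⟩ : ↥T), ⟨t, ht⟩⁆ = 1
      rw [map_commutatorElement, commutatorElement_eq_one_iff_mul_comm]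
      exact (Subgroup.mem_center_iff.1 hc _).symm
    rw [hNdef] at h1
    have h2 : ⁅w, t⁆ ∈ Subgroup.zpowers z := by
      obtain ⟨i, hi⟩ := Subgroup.mem_zpowers_iff.1 h1
      exact Subgroup.mem_zpowers_iff.2 ⟨i, congrArg Subtype.val hi⟩
    rw [← hZ₁z] at h2
    exact h2.2.2 s hs
  have hMD : M ≤ Subgroup.normalizer (D : Set G) := fun m hm => mem_normalizer_of_cj_le (by
    rintro _ ⟨x, hx, rfl⟩
    refine ⟨(Subgroup.mem_normalizer_iff.1 (hMT hm) x).1 hx.1, ?_, fun t ht s hs => ?_⟩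
    · show (m * x * m⁻¹) ^ q = 1
      rw [conj_pow, hx.2.1, mul_one, mul_inv_cancel]
    · show s * ⁅m * x * m⁻¹, t⁆ = ⁅m * x * m⁻¹, t⁆ * s
      have e : ⁅m * x * m⁻¹, t⁆ = m * ⁅x, m⁻¹ * t * m⁆ * m⁻¹ := by
        simp only [commutatorElement_def]; group
      have h := hx.2.2 _ (hconjT m hm t ht) _ (hconjT m hm s hs)
      rw [e]
      calc s * (m * ⁅x, m⁻¹ * t * m⁆ * m⁻¹) = m * ((m⁻¹ * s * m) * ⁅x, m⁻¹ * t * m⁆) * m⁻¹ := by group
        _ = m * (⁅x, m⁻¹ * t * m⁆ * (m⁻¹ * s * m)) * m⁻¹ := by rw [h]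
        _ = _ := by group)
  have hzD : z ∈ D := hWD hzW
  refine ⟨D, hM, hq.out, fun x hx => hTM hx.1, hMD, fun x hx => hx.2.1, fun X hX hXnc => ?_, ?_,
    Or.inr ⟨z, hzD, hz1, hZ₁z ▸ hMZ₁⟩⟩
  swap
  · intro hc
    haveI := hc
    exact noncyclic_of_card hWe hWc.ge (isCyclic_of_injective (Subgroup.inclusion hWD)
      (Subgroup.inclusion_injective hWD))
  have hXp : IsPGroup q X := hTp.to_le fun x hx => (hX hx).1
  obtain ⟨X₀, hX₀X, hX₀e, hX₀c⟩ := exists_elab_noncyclic hq2 hXp hXnc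
  obtain ⟨x, hxX, hxz⟩ : ∃ x ∈ X₀, x ∉ Subgroup.zpowers z := by
    by_contra hno
    push Not at hno
    have h3 := hX₀c.trans (Subgroup.card_le_of_le (hno : X₀ ≤ Subgroup.zpowers z))
    rw [Nat.card_zpowers, hzo] at h3
    have h4 := Nat.pow_lt_pow_right hq.out.one_lt (show 1 < 2 by omega)
    rw [pow_one] at h4
    omega
  have hxD : x ∈ D := hX (hX₀X hxX)
  have hxT : x ∈ T := hxD.1
  obtain ⟨V, hV⟩ : ∃ V, V = Subgroup.zpowers x ⊔ Subgroup.zpowers z := ⟨_, rfl⟩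
  have hxzc : Commute x z := hzc x hxT
  have hVmem : ∀ v ∈ V, ∃ i j : ℤ, v = x ^ i * z ^ j := by
    intro v hv
    rw [hV, ← SetLike.mem_coe, Subgroup.coe_mul_of_right_le_normalizer_left] at hv
    · obtain ⟨_, ⟨i, rfl⟩, _, ⟨j, rfl⟩, rfl⟩ := hv
      exact ⟨i, j, rfl⟩
    · rw [Subgroup.zpowers_le]
      exact Subgroup.centralizer_le_normalizer _ (Subgroup.mem_centralizer_iff.2 fun y hy => by
        obtain ⟨i, rfl⟩ := Subgroup.mem_zpowers_iff.1 hy
        exact (hxzc.zpow_left i).eq)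
  have hxV : x ∈ V := hV ▸ Subgroup.mem_sup_left (Subgroup.mem_zpowers x)
  have hzV : z ∈ V := hV ▸ Subgroup.mem_sup_right (Subgroup.mem_zpowers z)
  have hVT : V ≤ T := hV ▸ sup_le (Subgroup.zpowers_le.2 hxT) (Subgroup.zpowers_le.2 (hWT hzW))
  have hVe : IsElementaryAbelian q V := by
    refine ⟨⟨⟨fun a b => ?_⟩⟩, fun a ha => ?_⟩
    · obtain ⟨i, j, ha⟩ := hVmem a a.2
      obtain ⟨k, l, hb⟩ := hVmem b b.2
      refine Subtype.ext ?_
      show (a : G) * b = b * a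
      rw [ha, hb]
      exact ((((Commute.refl x).zpow_zpow i k).mul_right (hxzc.zpow_zpow i l)).mul_left
        ((hxzc.symm.zpow_zpow j k).mul_right ((Commute.refl z).zpow_zpow j l))).eq
    · obtain ⟨i, j, rfl⟩ := hVmem a ha
      rw [(hxzc.zpow_zpow i j).mul_pow, ← zpow_natCast, ← zpow_natCast, ← zpow_mul, ← zpow_mul,
        mul_comm i, mul_comm j, zpow_mul, zpow_mul, zpow_natCast, zpow_natCast, hxD.2.1, hzZ.2.1,
        one_zpow, one_zpow, one_mul]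
  have hVc : Nat.card V = q ^ 2 := by
    have hxo : orderOf x = q := orderOf_eq_prime hxD.2.1 fun h => hxz (h ▸ one_mem _)
    have h := Solv.card_sup_mul_card_inf' (Subgroup.zpowers x) (Subgroup.zpowers z) (by
      rw [Subgroup.zpowers_le]
      exact Subgroup.centralizer_le_normalizer _ (Subgroup.mem_centralizer_iff.2 fun y hy => by
        obtain ⟨i, rfl⟩ := Subgroup.mem_zpowers_iff.1 hy
        exact (hxzc.zpow_left i).eq))
    have hinf : Subgroup.zpowers x ⊓ Subgroup.zpowers z = ⊥ := by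
      by_contra hne
      obtain ⟨y, hy, hy1⟩ : ∃ y ∈ Subgroup.zpowers x ⊓ Subgroup.zpowers z, y ≠ 1 := by
        by_contra hno
        push Not at hno
        exact hne ((Subgroup.eq_bot_iff_forall _).2 hno)
      refine hxz ?_
      have heq : Subgroup.zpowers y = Subgroup.zpowers x := by
        refine Subgroup.eq_of_le_of_card_ge (Subgroup.zpowers_le.2 hy.1) ?_
        rw [Nat.card_zpowers, Nat.card_zpowers, hxo, orderOf_eq_prime (by
          obtain ⟨i, rfl⟩ := Subgroup.mem_zpowers_iff.1 hy.1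
          rw [← zpow_natCast, ← zpow_mul, mul_comm, zpow_mul, zpow_natCast, hxD.2.1, one_zpow]) hy1]
      exact (Subgroup.zpowers_le.2 hy.2) (heq ▸ Subgroup.mem_zpowers x)
    rw [hinf, Subgroup.card_bot, mul_one, Nat.card_zpowers, Nat.card_zpowers, hxo, hzo, ← hV, ← sq] at h
    exact h
  have hTV : T ≤ Subgroup.normalizer (V : Set G) := fun t ht => mem_normalizer_of_cj_le (by
    rintro _ ⟨v, hv, rfl⟩
    obtain ⟨i, j, rfl⟩ := hVmem v hv
    show t * (x ^ i * z ^ j) * t⁻¹ ∈ V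
    rw [← conj_mul, ← conj_zpow, ← conj_zpow]
    refine mul_mem (zpow_mem ?_ i) (zpow_mem ?_ j)
    · have hc : ⁅x, t⁆ ∈ Z₁ := hcpow hxT hxD.2.1 ht (hxD.2.2 t ht)
      rw [hZ₁z] at hc
      rw [show t * x * t⁻¹ = ⁅x, t⁆⁻¹ * x by rw [commutatorElement_def]; group]
      exact mul_mem (inv_mem ((Subgroup.zpowers_le.2 hzV) hc)) hxV
    · rw [hzc t ht, mul_inv_cancel_right]
      exact hzV)
  have hVU := iu_link hG hTp hVT hTV hVe hVc hE₀T hE₀e hE₀ hE₀U
  refine iu_mono (iu_of_commute' hG hVU ?_ hX₀e hX₀c) hX₀X (pgroup_ne_top hG hXp)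
  intro a ha
  refine Subgroup.mem_centralizer_iff.2 fun v hv => ?_
  obtain ⟨i, j, rfl⟩ := hVmem v hv
  have h1 : Commute x a := congrArg Subtype.val (hX₀e.1.is_comm.comm (⟨x, hxX⟩ : X₀) ⟨a, ha⟩)
  have h2 : Commute z a := (hzc a (hX (hX₀X ha)).1).symm
  exact ((h1.zpow_left i).mul_left (h2.zpow_left j)).eq

end Cfsg.Agent.OddLocal.Uniq
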