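import Cfsg.Agent.Lib.OddLocal.UniquenessNodes
import Cfsg.Agent.Lib.OddLocal.UniquenessGeometry
import Cfsg.Agent.Lib.Solv.FrobeniusFormula

/-!
Weights of an elementary abelian group of order `p³` on the nodes of maximal subgroups.
-/

set_option autoImplicit false

namespace Cfsg.Agent.OddLocal.Uniq

open Cfsg
open scoped commutatorElement
open Cfsg.Agent.Fusion (SylIn cj cj_inf cj_eq_self cj_normalizer mem_normalizer_of_cj_le)
open Geo (IsCube IsLine)

universe u

variable {G : Type u} [Group G] [Finite G] {p : ℕ} [hp : Fact p.Prime]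

/-- The setting of the proof by contradiction. -/
structure Ctx (P : Sylow p G) (A E : Subgroup G) : Prop where
  hG : IsMinSimpleOddOrder G
  scn : IsSCN (P : Subgroup G) A
  le : E ≤ A
  cube : IsCube p E
  not_iu : ¬ InUniqueMaximal E

/-- A node usable in the proof. -/
structure Nd (p : ℕ) (A M : Subgroup G) (q : ℕ) (D : Subgroup G) : Prop where
  node : IsNode M q D
  ne : q ≠ p
  hA : A ≤ M

/-- A weight: an element of prime order centralised by exactly one line. -/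
structure Wt (p : ℕ) (E B : Subgroup G) (v : G) (r : ℕ) : Prop where
  line : IsLine p E B
  prime : r.Prime
  ne : r ≠ p
  ord : orderOf v = r
  comm : ∀ b ∈ B, b * v = v * b
  norm : E ≤ Subgroup.normalizer (Subgroup.zpowers v : Set G)
  moved : ∀ e ∈ E, e ∉ B → e * v ≠ v * e

variable {P : Sylow p G} {A E : Subgroup G}

theorem Ctx.acomm (c : Ctx P A E) : IsMulCommutative A :=
  ⟨⟨fun a b => Subtype.ext (Subgroup.mem_centralizer_iff.1 (Subgroup.mem_inf.1 (c.scn.2.2.ge b.2)).2 a a.2)⟩⟩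

theorem Ctx.dvd (c : Ctx P A E) : p ∣ Nat.card G :=
  (c.cube.card ▸ dvd_pow_self p (show 3 ≠ 0 by omega) : p ∣ Nat.card E).trans
    (Subgroup.card_subgroup_dvd_card E)

theorem Ctx.fitting_rank (c : Ctx P A E) {M : Subgroup G} (hM : IsCoatom M) :
    PRankLE p 2 ↥(fittingOf M) := by
  by_contra h
  exact c.not_iu (iu_of_fitting_rank c.hG hM h (Fusion.elab_isPGroup c.cube.el) c.cube.el.1
    (not_prankLE_of_elab le_rfl c.cube.el c.cube.card.ge))

theorem Ctx.hyp (c : Ctx P A E) : Transit.Hyp (Nat.card A) A :=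
  Transit.hyp_of_transitivityHypothesis
    (Transit.criteria c.hG c.dvd (P.isPGroup'.to_le c.scn.1) c.acomm (Or.inr ⟨P, c.scn⟩))

theorem Ctx.rank (c : Ctx P A E) : ¬ RankLE 2 ↥(A ⊓ Subgroup.centralizer (A : Set G)) := fun h => by
  haveI := c.acomm
  rw [inf_eq_left.2 (Subgroup.le_centralizer A)] at h
  exact not_prankLE_of_elab c.le c.cube.el c.cube.card.ge (h p hp.out)

theorem Ctx.line_not_iu (c : Ctx P A E) {B : Subgroup G} (hB : IsLine p E B) : ¬ InUniqueMaximal B :=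
  fun h => c.not_iu (iu_mono h hB.le (pgroup_ne_top c.hG (Fusion.elab_isPGroup c.cube.el)))

section Node

variable {M : Subgroup G} {q : ℕ} {D : Subgroup G}

theorem Nd.pgroup (n : Nd p A M q D) : IsPGroup q D := fun x => ⟨1, Subtype.ext (by
  rw [pow_one]; exact n.node.expo x x.2)⟩

theorem Nd.eq_of_le (n : Nd p A M q D) {X L : Subgroup G} (hX : X ≤ D) (hnc : ¬ IsCyclic X)
    (hL : IsCoatom L) (hXL : X ≤ L) : L = M := by
  obtain ⟨M', -, hu⟩ := n.node.uniq X hX hnc
  exact (hu L ⟨hL, hXL⟩).trans (hu M ⟨n.node.coatom, hX.trans n.node.le⟩).symm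

theorem Nd.cent_le (c : Ctx P A E) (n : Nd p A M q D) {b : G} (hb : b ≠ 1)
    (hnc : ¬ IsCyclic ↥(D ⊓ Subgroup.centralizer ({b} : Set G))) :
    Subgroup.centralizer ({b} : Set G) ≤ M :=
  iu_le (fun _ hL hle => n.eq_of_le inf_le_left hnc hL hle) inf_le_right
    (Transit.centralizer_ne_top c.hG.2 hb)

theorem Nd.order (n : Nd p A M q D) {u : G} (hu : u ∈ D) (hu1 : u ≠ 1) : orderOf u = q :=
  haveI := Fact.mk n.node.prime
  orderOf_eq_prime (n.node.expo u hu) hu1

theorem Nd.not_dvd (n : Nd p A M q D) : ¬ p ∣ Nat.card D := fun h => by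
  haveI := Fact.mk n.node.prime
  obtain ⟨k, hk⟩ := IsPGroup.iff_card.1 n.pgroup
  rw [hk] at h
  exact n.ne ((Nat.prime_dvd_prime_iff_eq hp.out n.node.prime).1 (hp.out.dvd_of_dvd_pow h)).symm

theorem Nd.E_le (c : Ctx P A E) (n : Nd p A M q D) : E ≤ Subgroup.normalizer (D : Set G) :=
  (c.le.trans n.hA).trans n.node.inv

omit hp in
theorem Nd.cyclic_mem (n : Nd p A M q D) {X : Subgroup G} (hX : X ≤ D) (hc : IsCyclic X) {u u' : G}
    (hu : u ∈ X) (hu1 : u ≠ 1) (hu' : u' ∈ X) : u' ∈ Subgroup.zpowers u := by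
  haveI := hc
  haveI := Fact.mk n.node.prime
  obtain ⟨g, hg⟩ := IsCyclic.exists_generator (α := ↥X)
  obtain ⟨i, hi⟩ := Subgroup.mem_zpowers_iff.1 (hg ⟨u, hu⟩)
  obtain ⟨j, hj⟩ := Subgroup.mem_zpowers_iff.1 (hg ⟨u', hu'⟩)
  have hui : u = (g : G) ^ i := by
    have := congrArg Subtype.val hi
    simpa using this.symm
  have huj : u' = (g : G) ^ j := by
    have := congrArg Subtype.val hj
    simpa using this.symm
  have hg1 : (g : G) ≠ 1 := fun h => hu1 (by rw [hui, h, one_zpow])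
  have hgo : orderOf (g : G) = q := orderOf_eq_prime (n.node.expo _ (hX g.2)) hg1
  rw [Geo.zpowers_eq_of_prime n.node.prime hgo (Subgroup.mem_zpowers_iff.2 ⟨i, hui.symm⟩) hu1]
  exact Subgroup.mem_zpowers_iff.2 ⟨j, huj.symm⟩

omit hp in
theorem Nd.noncyclic_of (n : Nd p A M q D) {X : Subgroup G} (hX : X ≤ D) {u u' : G} (hu : u ∈ X)
    (hu1 : u ≠ 1) (hu' : u' ∈ X) (hne : u' ∉ Subgroup.zpowers u) : ¬ IsCyclic X :=
  fun hc => hne (n.cyclic_mem hX hc hu hu1 hu')

theorem Nd.rank_one (c : Ctx P A E) (n : Nd p A M q D) {X : Subgroup G} (hX : X ≤ D) (hnc : ¬ IsCyclic X) :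
    InUniqueMaximal X :=
  n.node.uniq X hX hnc

theorem Nd.line_cyclic (c : Ctx P A E) (n : Nd p A M q D) {B : Subgroup G} (hB : IsLine p E B) :
    IsCyclic ↥(D ⊓ Subgroup.centralizer (B : Set G)) := by
  by_contra hnc
  exact c.line_not_iu hB (iu_of_commute' c.hG (n.node.uniq _ inf_le_left hnc)
    (Subgroup.le_centralizer_iff.1 inf_le_right) (elab_mono c.cube.el hB.le) hB.card.ge)

theorem Nd.exists_off (c : Ctx P A E) (n : Nd p A M q D) (u : G) :
    ∃ B : Subgroup G, IsLine p E B ∧ ∃ u' ∈ D ⊓ Subgroup.centralizer (B : Set G), u' ∉ Subgroup.zpowers u := by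
  by_contra hno
  push Not at hno
  refine n.node.noncyclic ?_
  have hle : D ≤ Subgroup.zpowers u := by
    refine (Solv.gen_eq E D c.cube.el.1 (n.E_le c) (Fusion.elab_coprime c.cube.el n.not_dvd)).ge.trans
      (iSup₂_le fun B' hB' => ?_)
    have hcard := Fusion.card_le_mul_of_cycQuot c.cube.el hB'
    rw [c.cube.card] at hcard
    have hB'p : IsPGroup p B' := (Fusion.elab_isPGroup c.cube.el).to_le hB'.1
    obtain ⟨j, hj⟩ := IsPGroup.iff_card.1 hB'p
    have hj2 : 2 ≤ j := by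
      by_contra hlt
      have h1 : p ^ 3 ≤ p * p ^ 1 := hcard.trans (Nat.mul_le_mul_left _ (hj ▸ Nat.pow_le_pow_right hp.out.pos (by omega)))
      rw [← pow_succ'] at h1
      have := Nat.pow_lt_pow_right hp.out.one_lt (show 1 + 1 < 3 by omega)
      omega
    obtain ⟨S, hS⟩ := Sylow.exists_subgroup_card_pow_prime p (G := ↥B') (n := 2) (hj ▸ pow_dvd_pow p hj2)
    have hline : IsLine p E (S.map B'.subtype) := ⟨(Subgroup.map_subtype_le S).trans hB'.1, by
      rw [Subgroup.card_map_of_injective B'.subtype_injective, hS]⟩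
    exact (inf_le_inf_left D (Subgroup.centralizer_le (Subgroup.map_subtype_le S))).trans
      fun x hx => hno _ hline x hx
  exact isCyclic_of_injective (Subgroup.inclusion hle) (Subgroup.inclusion_injective hle)

theorem Nd.not_fixed (c : Ctx P A E) (n : Nd p A M q D) {u : G} (hu : u ∈ D)
    (hfix : ∀ e ∈ E, e * u = u * e) : u = 1 := by
  by_contra hu1
  obtain ⟨B, hB, u', hu', hne⟩ := n.exists_off c u
  exact n.noncyclic_of inf_le_left (Subgroup.mem_inf.2 ⟨hu, Subgroup.mem_centralizer_iff.2 fun b hb =>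
    hfix b (hB.le hb)⟩) hu1 hu' hne (n.line_cyclic c hB)

theorem Nd.exists_weight (c : Ctx P A E) (n : Nd p A M q D) :
    ∃ B : Subgroup G, IsLine p E B ∧ ∃ v ∈ D ⊓ Subgroup.centralizer (B : Set G), v ≠ 1 := by
  obtain ⟨B, hB, u', hu', hne⟩ := n.exists_off c 1
  exact ⟨B, hB, u', hu', fun h => hne (by rw [h]; exact one_mem _)⟩

theorem Nd.centA_le (c : Ctx P A E) (n : Nd p A M q D) : Subgroup.centralizer (A : Set G) ≤ M := by
  obtain ⟨B, hB, u, hu, hu1⟩ := n.exists_weight c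
  obtain ⟨B', hB', u', hu', hne⟩ := n.exists_off c u
  obtain ⟨b, hb, hb', hb1⟩ := c.cube.exists_common hB hB'
  refine le_trans (Subgroup.centralizer_le (Set.singleton_subset_iff.2 (c.le (hB.le hb))))
    (n.cent_le c hb1 (n.noncyclic_of inf_le_left (u := u) (u' := u') ?_ hu1 ?_ hne))
  · exact ⟨hu.1, Subgroup.mem_centralizer_singleton_iff.2 (Subgroup.mem_centralizer_iff.1 hu.2 b hb).symm⟩
  · exact ⟨hu'.1, Subgroup.mem_centralizer_singleton_iff.2 (Subgroup.mem_centralizer_iff.1 hu'.2 b hb').symm⟩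

theorem Nd.inv_q_le (c : Ctx P A E) (n : Nd p A M q D) {U : Subgroup G} (hU : IsPGroup q U)
    (hAU : A ≤ Subgroup.normalizer (U : Set G)) : U ≤ M := by
  haveI := Fact.mk n.node.prime
  have hqA : ¬ q ∣ Nat.card A := fun h => by
    obtain ⟨k, hk⟩ := IsPGroup.iff_card.1 (P.isPGroup'.to_le c.scn.1)
    rw [hk] at h
    exact n.ne ((Nat.prime_dvd_prime_iff_eq n.node.prime hp.out).1 (n.node.prime.dvd_of_dvd_pow h))
  obtain ⟨Qd, hDQ, mD⟩ := S1480.exists_max D n.pgroup (n.hA.trans n.node.inv)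
  obtain ⟨Qu, hUQ, mU⟩ := S1480.exists_max U hU hAU
  have hQdM : Qd ≤ M := by
    obtain ⟨L, hL, hQL⟩ := exists_coatom Qd (pgroup_ne_top c.hG (S1480.mem_maxInv.1 mD).1.1)
    exact n.eq_of_le le_rfl n.node.noncyclic hL (hDQ.trans hQL) ▸ hQL
  obtain ⟨k, hk, rfl⟩ := Transit.rel_rank_three c.hG.2 c.hyp hqA c.rank mD mU
  refine hUQ.trans ?_
  have hkM : k ∈ M := n.centA_le c (Transit.piCoreOf_le _ hk)
  rintro _ ⟨x, hx, rfl⟩
  exact mul_mem (mul_mem hkM (hQdM hx)) (inv_mem hkM)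

theorem Nd.same_prime (c : Ctx P A E) (n : Nd p A M q D) {M' D' : Subgroup G} (n' : Nd p A M' q D') :
    M' = M :=
  (n'.eq_of_le le_rfl n'.node.noncyclic n.node.coatom
    (n.inv_q_le c n'.pgroup (n'.hA.trans n'.node.inv))).symm

theorem Nd.elem_cent_le (c : Ctx P A E) (n : Nd p A M q D) {v : G} (hv : v ∈ D) (hv1 : v ≠ 1) :
    Subgroup.centralizer ({v} : Set G) ≤ M := by
  haveI := Fact.mk n.node.prime
  have hDne : D ≠ ⊥ := fun h => hv1 (Subgroup.mem_bot.1 (h ▸ hv))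
  haveI : Nontrivial ↥D := (Subgroup.nontrivial_iff_ne_bot _).2 hDne
  haveI : Nontrivial ↥(Subgroup.center ↥D) := n.pgroup.center_nontrivial
  obtain ⟨⟨⟨z, hzD⟩, hz⟩, hz1⟩ := exists_ne (1 : ↥(Subgroup.center ↥D))
  have hz1' : z ≠ 1 := fun h => hz1 (Subtype.ext (Subtype.ext h))
  have hzc : ∀ x ∈ D, x * z = z * x := fun x hx =>
    congrArg Subtype.val (Subgroup.mem_center_iff.1 hz ⟨x, hx⟩)
  refine n.cent_le c hv1 ?_
  by_cases hzv : z ∈ Subgroup.zpowers v
  · have hvz : v ∈ Subgroup.zpowers z := by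
      rw [Geo.zpowers_eq_of_prime n.node.prime (n.order hv hv1) hzv hz1']
      exact Subgroup.mem_zpowers v
    obtain ⟨i, hi⟩ := Subgroup.mem_zpowers_iff.1 hvz
    have hD : D ⊓ Subgroup.centralizer ({v} : Set G) = D := inf_eq_left.2 fun x hx =>
      Subgroup.mem_centralizer_singleton_iff.2 (hi ▸ ((show Commute x z from hzc x hx).zpow_right i).eq)
    rw [hD]
    exact n.node.noncyclic
  · exact n.noncyclic_of inf_le_left (u := v) (u' := z)
      ⟨hv, Subgroup.mem_centralizer_singleton_iff.2 rfl⟩ hv1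
      ⟨hzD, Subgroup.mem_centralizer_singleton_iff.2 (hzc v hv).symm⟩ hzv

theorem Nd.conj_mem (c : Ctx P A E) (n : Nd p A M q D) {B : Subgroup G} (hB : B ≤ E) {e u : G} (he : e ∈ E)
    (hu : u ∈ D ⊓ Subgroup.centralizer (B : Set G)) : e * u * e⁻¹ ∈ D ⊓ Subgroup.centralizer (B : Set G) := by
  refine ⟨(Subgroup.mem_normalizer_iff.1 (n.E_le c he) u).1 hu.1, Subgroup.mem_centralizer_iff.2 fun b hb => ?_⟩
  have h1 : Commute b e := c.cube.comm (hB hb) he
  exact ((h1.mul_right (Subgroup.mem_centralizer_iff.1 hu.2 b hb)).mul_right h1.inv_right).eq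

theorem Nd.wt (c : Ctx P A E) (n : Nd p A M q D) {B : Subgroup G} (hB : IsLine p E B) {v : G}
    (hv : v ∈ D ⊓ Subgroup.centralizer (B : Set G)) (hv1 : v ≠ 1) : Wt p E B v q := by
  refine ⟨hB, n.node.prime, n.ne, n.order hv.1 hv1, fun b hb => Subgroup.mem_centralizer_iff.1 hv.2 b hb,
    fun e he => mem_normalizer_of_cj_le ?_, fun e he heB hev => hv1 (n.not_fixed c hv.1 fun x hx => ?_)⟩
  · rintro _ ⟨w, hw, rfl⟩
    obtain ⟨i, rfl⟩ := Subgroup.mem_zpowers_iff.1 hw
    show e * v ^ i * e⁻¹ ∈ Subgroup.zpowers v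
    rw [← conj_zpow]
    exact zpow_mem (n.cyclic_mem inf_le_left (n.line_cyclic c hB) hv hv1 (n.conj_mem c hB.le he hv)) i
  · have hx' : x ∈ B ⊔ Subgroup.zpowers e := (c.cube.adjoin_eq hB he heB).symm ▸ hx
    refine Geo.commute_of_sup (fun b hb => Subgroup.mem_centralizer_iff.1 hv.2 b hb) ?_ x hx'
    intro y hy
    obtain ⟨i, rfl⟩ := Subgroup.mem_zpowers_iff.1 hy
    exact ((show Commute e v from hev).zpow_left i).eq

/-- Frobenius action: the fixed points of a complement see the whole action. -/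
theorem Wt.frob (hE : IsCube p E) {B : Subgroup G} {v : G} {r : ℕ} (w : Wt p E B v r) {X : Subgroup G}
    (hXs : Group.IsSolvable X) (hXp : ¬ p ∣ Nat.card X) (hXr : ¬ r ∣ Nat.card X)
    (hvX : v ∈ Subgroup.normalizer (X : Set G)) {e : G} (he : e ∈ E) (heB : e ∉ B)
    (heX : e ∈ Subgroup.normalizer (X : Set G))
    (hfix : ∀ x ∈ X, e * x = x * e → x * v = v * x) : ∀ x ∈ X, x * v = v * x := by
  have he1 : e ≠ 1 := fun h => heB (h ▸ one_mem B)
  have hne := w.moved e he heB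
  have hinf : Subgroup.zpowers v ⊓ Subgroup.zpowers e = ⊥ := Solv.coprime_inf (by
    rw [Nat.card_zpowers, Nat.card_zpowers, w.ord, hE.order he he1]
    exact (Nat.coprime_primes w.prime hp.out).2 w.ne)
  have hEU : Subgroup.zpowers e ≤ Subgroup.normalizer (Subgroup.zpowers v : Set G) :=
    Subgroup.zpowers_le.2 (w.norm he)
  have hsup : Nat.card (Subgroup.zpowers v ⊔ Subgroup.zpowers e : Subgroup G) = r * p := by
    have h := Solv.card_sup_mul_card_inf' (Subgroup.zpowers v) (Subgroup.zpowers e) hEU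
    rwa [hinf, Subgroup.card_bot, mul_one, Nat.card_zpowers, Nat.card_zpowers, w.ord, hE.order he he1] at h
  have hco : (Nat.card X).Coprime (Nat.card (Subgroup.zpowers v ⊔ Subgroup.zpowers e : Subgroup G)) := by
    rw [hsup]
    exact Nat.Coprime.mul_right ((Nat.Prime.coprime_iff_not_dvd w.prime).2 hXr).symm
      ((Nat.Prime.coprime_iff_not_dvd hp.out).2 hXp).symm
  have hfpf : ∀ f ∈ Subgroup.zpowers e, f ≠ 1 → ∀ u ∈ Subgroup.zpowers v, f * u = u * f → u = 1 := by
    intro f hf hf1 u hu hfu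
    by_contra hu1
    obtain ⟨i, hi⟩ := Subgroup.mem_zpowers_iff.1 (hE.mem_zpowers_symm he hf hf1)
    have hvu : v ∈ Subgroup.zpowers u := by
      rw [Geo.zpowers_eq_of_prime w.prime w.ord hu hu1]
      exact Subgroup.mem_zpowers v
    obtain ⟨j, hj⟩ := Subgroup.mem_zpowers_iff.1 hvu
    exact hne (hi ▸ hj ▸ ((show Commute f u from hfu).zpow_zpow i j).eq)
  have hform := Solv.FrobFix.formula X (Subgroup.zpowers v) (Subgroup.zpowers e) hXs
    (sup_le (Subgroup.zpowers_le.2 hvX) (Subgroup.zpowers_le.2 heX)) hEU hfpf hco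
  have heq : X ⊓ Subgroup.centralizer ((Subgroup.zpowers v ⊔ Subgroup.zpowers e : Subgroup G) : Set G) =
      X ⊓ Subgroup.centralizer (Subgroup.zpowers e : Set G) := by
    refine le_antisymm (inf_le_inf_left _ (Subgroup.centralizer_le (show Subgroup.zpowers e ≤ Subgroup.zpowers v ⊔ Subgroup.zpowers e from le_sup_right))) (le_inf inf_le_left ?_)
    rintro x ⟨hx, hxe⟩
    have h1 : e * x = x * e := Subgroup.mem_centralizer_iff.1 hxe e (Subgroup.mem_zpowers e)
    have h2 := hfix x hx h1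
    refine Subgroup.mem_centralizer_iff.2 fun y hy => ?_
    refine Geo.commute_of_sup (fun b hb => ?_) (fun b hb => ?_) y hy
    · obtain ⟨i, rfl⟩ := Subgroup.mem_zpowers_iff.1 hb
      exact ((show Commute v x from h2.symm).zpow_left i).eq
    · obtain ⟨i, rfl⟩ := Subgroup.mem_zpowers_iff.1 hb
      exact ((show Commute e x from h1).zpow_left i).eq
  rw [heq] at hform
  have h3 := Nat.eq_of_mul_eq_mul_left (pow_pos Nat.card_pos _) hform
  have h4 := Subgroup.eq_of_le_of_card_ge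
    (inf_le_left : X ⊓ Subgroup.centralizer (Subgroup.zpowers v : Set G) ≤ X) h3.le
  intro x hx
  rw [← h4] at hx
  exact (Subgroup.mem_centralizer_iff.1 hx.2 v (Subgroup.mem_zpowers v)).symm

/-- Entering another maximal subgroup along a weight. -/
theorem Nd.enter (c : Ctx P A E) (n : Nd p A M q D) {B : Subgroup G} (hB : IsLine p E B) {v : G}
    (hv : v ∈ D ⊓ Subgroup.centralizer (B : Set G)) (hv1 : v ≠ 1) {b : G} (hb : b ∈ B) {L : Subgroup G}
    (hL : IsCoatom L) (hLM : L ≠ M) (hbL : Subgroup.centralizer ({b} : Set G) ≤ L) :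
    v ∈ L ∧ ∃ (s : ℕ) (D' : Subgroup G), Nd p A L s D' ∧ s ≠ q := by
  have hvL : v ∈ L := hbL (Subgroup.mem_centralizer_singleton_iff.2
    (Subgroup.mem_centralizer_iff.1 hv.2 b hb).symm)
  have hAL : A ≤ L := fun a ha => hbL (Subgroup.mem_centralizer_singleton_iff.2
    (congrArg Subtype.val (c.acomm.is_comm.comm (⟨a, ha⟩ : A) ⟨b, c.le (hB.le hb)⟩)))
  refine ⟨hvL, ?_⟩
  by_cases hrk : ∃ s : ℕ, s.Prime ∧ ¬ PRankLE s 2 ↥(fittingOf L)
  · obtain ⟨s, hs, hsr⟩ := hrk
    haveI := Fact.mk hs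
    obtain ⟨D', hD'⟩ := exists_node c.hG hL hsr
    have hsp : s ≠ p := fun h => by subst h; exact hsr (c.fitting_rank hL)
    refine ⟨s, D', ⟨hD', hsp, hAL⟩, fun hsq => hLM ?_⟩
    subst hsq
    exact n.same_prime c ⟨hD', hsp, hAL⟩
  exfalso
  push Not at hrk
  haveI hqf := Fact.mk n.node.prime
  haveI hsL := c.hG.2.2.2 L hL.1
  have hder : ⁅L, L⁆ ≤ fittingOf L := by
    have h1 := Solv.RankTwo.commutator_le_fitting (G := ↥L) (odd_subgroup c.hG L)
      (Solv.RankTwo.narrow_of_fitting_rank fun r hr => by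
        haveI := Fact.mk hr
        exact Solv.RankTwo.prankLE_mulEquiv
          (((fittingSubgroup ↥L).equivMapOfInjective L.subtype L.subtype_injective)).symm (hrk r hr))
    have h2 := Subgroup.map_mono (f := L.subtype) h1
    rwa [commutator_def, Subgroup.map_commutator, ← MonoidHom.range_eq_map, Subgroup.range_subtype] at h2
  obtain ⟨T, hT⟩ : ∃ T, T = pCoreOf q L := ⟨_, rfl⟩
  have hTq : IsPGroup q T := hT ▸ Bender.isPGroup_pCoreOf L
  have hTL : T ≤ L := hT ▸ Subgroup.map_subtype_le _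
  have hLT : L ≤ Subgroup.normalizer (T : Set G) := hT ▸ Bender.le_normalizer_pCoreOf L
  have hEL : E ≤ L := c.le.trans hAL
  have hw := n.wt c hB hv hv1
  obtain ⟨e, he, heB, -⟩ := c.cube.exists_avoid hB hB hB
  have hcomm : ⁅e, v⁆ ∈ T := by
    have hmem : ⁅e, v⁆ ∈ Subgroup.zpowers v := by
      rw [commutatorElement_def]
      exact mul_mem ((Subgroup.mem_normalizer_iff.1 (hw.norm he) v).1 (Subgroup.mem_zpowers v))
        (inv_mem (Subgroup.mem_zpowers v))
    rw [hT]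
    refine mem_pCoreOf_of_fitting (hder (Subgroup.commutator_mem_commutator (hEL he) hvL)) ?_
    obtain ⟨i, hi⟩ := Subgroup.mem_zpowers_iff.1 hmem
    rw [← hi, ← zpow_natCast, ← zpow_mul, mul_comm, zpow_mul, zpow_natCast, n.node.expo v hv.1, one_zpow]
  have hTne : T ≠ ⊥ := fun h => hw.moved e he heB (commutatorElement_eq_one_iff_mul_comm.1
    (Subgroup.mem_bot.1 (h ▸ hcomm)))
  have hNT : Subgroup.normalizer (T : Set G) = L :=
    (hL.le_iff.1 hLT).resolve_left (Transit.normalizer_ne_top c.hG.2.1 hTne (pgroup_ne_top c.hG hTq))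
  have hTM : T ≤ M := n.inv_q_le c hTq (hAL.trans hLT)
  have hDT : ¬ D ≤ T := fun h => hLM (n.eq_of_le le_rfl n.node.noncyclic hL (h.trans hTL))
  have hTND : T ≤ Subgroup.normalizer (D : Set G) := hTM.trans n.node.inv
  have hsupq : IsPGroup q ↥(D ⊔ T) := n.pgroup.to_sup_of_normal_left' hTq hTND
  have hgrow := SylIn.normalizer_growth (le_sup_right : T ≤ D ⊔ T)
    (fun h => hDT (h.symm ▸ le_sup_left)) hsupq
  obtain ⟨x, hxI, hxT⟩ := SetLike.exists_of_lt hgrow
  obtain ⟨hxS, hxN⟩ := Subgroup.mem_inf.1 hxI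
  rw [← SetLike.mem_coe, Subgroup.coe_mul_of_right_le_normalizer_left D T hTND] at hxS
  obtain ⟨d, hd, t, ht, rfl⟩ := hxS
  have hdN : d ∈ Subgroup.normalizer (T : Set G) := by
    have := mul_mem hxN (inv_mem (Subgroup.le_normalizer (H := T) ht))
    rwa [mul_inv_cancel_right] at this
  obtain ⟨S, hS⟩ : ∃ S, S = D ⊓ Subgroup.normalizer (T : Set G) := ⟨_, rfl⟩
  have hES : E ≤ Subgroup.normalizer (S : Set G) := fun a ha => mem_normalizer_of_cj_le (by
    rw [hS, cj_inf, cj_normalizer, cj_eq_self (n.E_le c ha), cj_eq_self (hLT (hEL ha))])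
  have hSd : ¬ p ∣ Nat.card S := fun h => n.not_dvd (h.trans (Subgroup.card_dvd_of_le (hS ▸ inf_le_left)))
  have h1 := Solv.commutator_sup_fixed (A := E) (K := S) hES (Fusion.elab_coprime c.cube.el hSd)
    (Or.inl (c.hG.2.2.2 E (pgroup_ne_top c.hG (Fusion.elab_isPGroup c.cube.el))))
  have h2 : S ⊓ Subgroup.centralizer (E : Set G) = ⊥ := (Subgroup.eq_bot_iff_forall _).2 fun u hu =>
    n.not_fixed c (show u ∈ D from (hS ▸ inf_le_left : S ≤ D) hu.1)
      fun a ha => Subgroup.mem_centralizer_iff.1 hu.2 a ha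
  rw [h2, sup_bot_eq] at h1
  have hSL : S ≤ L := hS ▸ inf_le_right.trans hNT.le
  have hdF : d ∈ fittingOf L :=
    ((Subgroup.commutator_mono hSL hEL).trans hder) (h1.symm ▸ (hS ▸ Subgroup.mem_inf.2 ⟨hd, hdN⟩ : d ∈ S))
  exact hxT (mul_mem (hT ▸ mem_pCoreOf_of_fitting hdF (n.node.expo d hd)) ht)

end Node

/-- Centre data of a weight in a node. -/
structure Centre (p : ℕ) (E M : Subgroup G) (D : Subgroup G) (B : Subgroup G) (v c : G) : Prop where
  line : IsLine p E B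
  cyc : IsCyclic ↥(D ⊓ Subgroup.centralizer ({v} : Set G))
  inv : v ∈ M
  mem : c ∈ B
  ne : c ≠ 1
  big : ¬ IsCyclic ↥(D ⊓ Subgroup.centralizer ({c} : Set G))
  pencil : ∀ a : Subgroup G, IsLine p E a → c ∈ a → a ≠ B →
    ∃ u ∈ D ⊓ Subgroup.centralizer (a : Set G), u * v ≠ v * u
  rest : ∀ y ∈ B, y ∉ Subgroup.zpowers c → ∀ u ∈ D ⊓ Subgroup.centralizer ({y} : Set G), u * v = v * u

theorem exists_centre (c : Ctx P A E) {M D : Subgroup G} {q : ℕ} (n : Nd p A M q D) {B : Subgroup G}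
    {v : G} {r : ℕ} (w : Wt p E B v r) (hrq : r ≠ q) (hvM : v ∈ M)
    (hcyc : IsCyclic ↥(D ⊓ Subgroup.centralizer ({v} : Set G))) :
    ∃ c₀, Centre p E M D B v c₀ := by
  haveI := Fact.mk n.node.prime
  have hB := w.line
  have hsolD : ∀ X : Subgroup G, X ≤ D → Group.IsSolvable X := fun X hX =>
    c.hG.2.2.2 X (pgroup_ne_top c.hG (n.pgroup.to_le hX))
  have hDr : ∀ X : Subgroup G, X ≤ D → ¬ r ∣ Nat.card X := fun X hX h => by
    obtain ⟨k, hk⟩ := IsPGroup.iff_card.1 (n.pgroup.to_le hX)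
    rw [hk] at h
    exact hrq ((Nat.prime_dvd_prime_iff_eq w.prime n.node.prime).1 (w.prime.dvd_of_dvd_pow h))
  -- moved elements of the fixed points of a point of `B`
  have pencil : ∀ y ∈ B, y ≠ 1 → (∃ u ∈ D ⊓ Subgroup.centralizer ({y} : Set G), u * v ≠ v * u) →
      ∀ a : Subgroup G, IsLine p E a → y ∈ a → a ≠ B →
        ∃ u ∈ D ⊓ Subgroup.centralizer (a : Set G), u * v ≠ v * u := by
    intro y hy hy1 hmov a ha hya hne
    obtain ⟨e, hea, heB⟩ := Geo.exists_not_mem_line hB ha (Ne.symm hne)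
    obtain ⟨X, hX⟩ : ∃ X, X = D ⊓ Subgroup.centralizer ({y} : Set G) := ⟨_, rfl⟩
    have hnorm : ∀ g : G, g ∈ Subgroup.normalizer (D : Set G) → g * y = y * g →
        g ∈ Subgroup.normalizer (X : Set G) := fun g hg hgy => mem_normalizer_of_cj_le (by
      rw [hX]
      rintro _ ⟨x, hx, rfl⟩
      refine ⟨(Subgroup.mem_normalizer_iff.1 hg x).1 hx.1, Subgroup.mem_centralizer_singleton_iff.2 ?_⟩
      have h1 : Commute y g := hgy.symm
      have h2 : Commute y x := (Subgroup.mem_centralizer_singleton_iff.1 hx.2).symm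
      exact ((h1.mul_right h2).mul_right h1.inv_right).symm.eq)
    by_contra hno
    push Not at hno
    obtain ⟨u, hu, huv⟩ := hmov
    refine huv (Wt.frob (X := X) c.cube w (hsolD X (hX ▸ inf_le_left))
      (fun h => n.not_dvd (h.trans (Subgroup.card_dvd_of_le (hX ▸ inf_le_left)))) (hDr X (hX ▸ inf_le_left))
      (hnorm v (n.node.inv hvM) (w.comm y hy).symm) (ha.le hea) heB
      (hnorm e (n.E_le c (ha.le hea)) (c.cube.comm (ha.le hea) (hB.le hy))) ?_ u (hX ▸ hu))
    intro x hx hex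
    rw [hX] at hx
    refine hno x ⟨hx.1, Subgroup.mem_centralizer_iff.2 fun t ht => ?_⟩
    rw [c.cube.line_eq_join ha hya hy1 hea (fun hh => heB ((Subgroup.zpowers_le.2 hy) hh))] at ht
    refine Geo.commute_of_sup (fun b hb => ?_) (fun b hb => ?_) t ht
    · obtain ⟨i, rfl⟩ := Subgroup.mem_zpowers_iff.1 hb
      exact ((show Commute y x from (Subgroup.mem_centralizer_singleton_iff.1 hx.2).symm).zpow_left i).eq
    · obtain ⟨i, rfl⟩ := Subgroup.mem_zpowers_iff.1 hb
      exact ((show Commute e x from hex).zpow_left i).eq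
  obtain ⟨c₀, hc₀, hc₀1, hmov⟩ : ∃ c₀ ∈ B, c₀ ≠ 1 ∧
      ∃ u ∈ D ⊓ Subgroup.centralizer ({c₀} : Set G), u * v ≠ v * u := by
    by_contra hno
    push Not at hno
    refine n.node.noncyclic ?_
    have hle : D ≤ Subgroup.centralizer ({v} : Set G) := by
      have hBe := elab_mono c.cube.el hB.le
      refine (Solv.gen_eq B D hBe.1 (hB.le.trans (n.E_le c))
        (Fusion.elab_coprime hBe n.not_dvd)).ge.trans (iSup₂_le fun B' hB' => ?_)
      obtain ⟨b', hb', hb'1⟩ : ∃ b' ∈ B', b' ≠ 1 := by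
        by_contra hno'
        push Not at hno'
        have h1 := Fusion.card_le_mul_of_cycQuot hBe hB'
        rw [(Subgroup.eq_bot_iff_forall B').2 hno', Subgroup.card_bot, mul_one, hB.card] at h1
        have := Nat.pow_lt_pow_right hp.out.one_lt (show 1 < 2 by omega)
        rw [pow_one] at this
        omega
      intro u hu
      refine Subgroup.mem_centralizer_singleton_iff.2 (hno b' (hB'.1 hb') hb'1 u
        ⟨hu.1, Subgroup.mem_centralizer_singleton_iff.2 (Subgroup.mem_centralizer_iff.1 hu.2 b' hb').symm⟩)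
    rw [← inf_eq_left.2 hle]
    exact hcyc
  have big : ∀ y ∈ B, y ≠ 1 → (∃ u ∈ D ⊓ Subgroup.centralizer ({y} : Set G), u * v ≠ v * u) →
      ¬ IsCyclic ↥(D ⊓ Subgroup.centralizer ({y} : Set G)) := by
    intro y hy hy1 hm
    obtain ⟨a, ha, hya, haB, -, -⟩ := c.cube.exists_line_through hB hB hB hy hy1
    obtain ⟨a', ha', hya', ha'B, ha'a, -⟩ := c.cube.exists_line_through hB ha ha hy hy1
    obtain ⟨u, hu, huv⟩ := pencil y hy hy1 hm a ha hya haB
    obtain ⟨u', hu', hu'v⟩ := pencil y hy hy1 hm a' ha' hya' ha'B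
    have hu1 : u ≠ 1 := fun h => huv (by rw [h, one_mul, mul_one])
    refine n.noncyclic_of inf_le_left (u := u) (u' := u')
      ⟨hu.1, Subgroup.mem_centralizer_singleton_iff.2 (Subgroup.mem_centralizer_iff.1 hu.2 y hya).symm⟩ hu1
      ⟨hu'.1, Subgroup.mem_centralizer_singleton_iff.2 (Subgroup.mem_centralizer_iff.1 hu'.2 y hya').symm⟩ ?_
    intro hmem
    obtain ⟨i, hi⟩ := Subgroup.mem_zpowers_iff.1 hmem
    have hu'1 : u' = 1 := n.not_fixed c hu'.1 fun x hx => by
      rw [← c.cube.sup_eq ha ha' (Ne.symm ha'a)] at hx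
      refine Geo.commute_of_sup (fun b hb => ?_) (fun b hb => Subgroup.mem_centralizer_iff.1 hu'.2 b hb) x hx
      rw [← hi]
      exact ((show Commute b u from Subgroup.mem_centralizer_iff.1 hu.2 b hb).zpow_right i).eq
    exact hu'v (by rw [hu'1, one_mul, mul_one])
  refine ⟨c₀, hB, hcyc, hvM, hc₀, hc₀1, big c₀ hc₀ hc₀1 hmov, pencil c₀ hc₀ hc₀1 hmov, ?_⟩
  intro y hy hyc u hu
  by_contra huv
  have hy1 : y ≠ 1 := fun h => hyc (h ▸ one_mem _)
  obtain ⟨a, ha, hca, haB, -, -⟩ := c.cube.exists_line_through hB hB hB hc₀ hc₀1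
  refine c.line_not_iu ha (elementary_criterion c.hG n.node.coatom ((ha.le.trans c.le).trans n.hA)
    (elab_mono c.cube.el ha.le) (noncyclic_of_card (elab_mono c.cube.el ha.le) ha.card.ge)
    (Or.inl fun t ht ht1 => n.cent_le c ht1 ?_))
  by_cases htB : t ∈ B
  · obtain ⟨i, hi⟩ := Subgroup.mem_zpowers_iff.1
      (c.cube.mem_zpowers_of_two_lines ha hB haB hc₀1 hca ht hc₀ htB)
    intro hc
    refine big c₀ hc₀ hc₀1 hmov ?_
    have hle : D ⊓ Subgroup.centralizer ({c₀} : Set G) ≤ D ⊓ Subgroup.centralizer ({t} : Set G) :=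
      inf_le_inf_left _ fun x hx => Subgroup.mem_centralizer_singleton_iff.2
        (hi ▸ ((show Commute x c₀ from Subgroup.mem_centralizer_singleton_iff.1 hx).zpow_right i).eq)
    exact isCyclic_of_injective (Subgroup.inclusion hle) (Subgroup.inclusion_injective hle)
  · have htE := ha.le ht
    have htc : t ∉ Subgroup.zpowers c₀ := fun hh => htB ((Subgroup.zpowers_le.2 hc₀) hh)
    have hty : t ∉ Subgroup.zpowers y := fun hh => htB ((Subgroup.zpowers_le.2 hy) hh)
    obtain ⟨u₁, hu₁, hu₁v⟩ := pencil c₀ hc₀ hc₀1 hmov a ha hca haB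
    have ha' := c.cube.isLine_join (hB.le hy) hy1 htE hty
    obtain ⟨u₂, hu₂, hu₂v⟩ := pencil y hy hy1 ⟨u, hu, huv⟩ _ ha' (Subgroup.mem_sup_left (Subgroup.mem_zpowers y))
      (fun h => htB (h ▸ Subgroup.mem_sup_right (Subgroup.mem_zpowers t)))
    refine n.noncyclic_of inf_le_left (u := u₁) (u' := u₂)
      ⟨hu₁.1, Subgroup.mem_centralizer_singleton_iff.2 (Subgroup.mem_centralizer_iff.1 hu₁.2 t ht).symm⟩
      (fun h => hu₁v (by rw [h, one_mul, mul_one]))
      ⟨hu₂.1, Subgroup.mem_centralizer_singleton_iff.2 (Subgroup.mem_centralizer_iff.1 hu₂.2 t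
        (Subgroup.mem_sup_right (Subgroup.mem_zpowers t))).symm⟩ ?_
    intro hmem
    obtain ⟨i, hi⟩ := Subgroup.mem_zpowers_iff.1 hmem
    have hne' : a ≠ Subgroup.zpowers y ⊔ Subgroup.zpowers t := fun he => haB
      (c.cube.eq_of_two ha hB hc₀1 hyc hca (he ▸ Subgroup.mem_sup_left (Subgroup.mem_zpowers y)) hc₀ hy)
    have hu₂1 : u₂ = 1 := n.not_fixed c hu₂.1 fun x hx => by
      rw [← c.cube.sup_eq ha ha' hne'] at hx
      refine Geo.commute_of_sup (fun b hb => ?_) (fun b hb => Subgroup.mem_centralizer_iff.1 hu₂.2 b hb) x hx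
      rw [← hi]
      exact ((show Commute b u₁ from Subgroup.mem_centralizer_iff.1 hu₁.2 b hb).zpow_right i).eq
    exact hu₂v (by rw [hu₂1, one_mul, mul_one])

end Cfsg.Agent.OddLocal.Uniq
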